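import Mathlib

/-!
# Finite fields: the involution `x ↦ x ^ q`, norms, traces, binary quadratic equations
-/

set_option autoImplicit false
set_option linter.unusedSectionVars false

namespace H15

section Invol

variable {F : Type*} [Field F] (σ : F →+* F) (hσ : σ ≠ RingHom.id F) (hσ2 : ∀ a, σ (σ a) = a)
include hσ

theorem exists_sigma_ne : ∃ a : F, σ a ≠ a := by
  by_contra hcon
  push Not at hcon
  exact hσ (RingHom.ext hcon)

include hσ2

/-- Hilbert's theorem 90 for an involution. -/
theorem hilbert90 {u : F} (hu : u * σ u = 1) : ∃ x : F, x ≠ 0 ∧ u = x / σ x := by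
  have : ∃ θ : F, θ + u * σ θ ≠ 0 := by
    by_contra hcon
    push Not at hcon
    obtain ⟨a, ha⟩ := exists_sigma_ne σ hσ
    have h1 := hcon 1
    have h2 := hcon a
    rw [map_one] at h1
    apply ha
    linear_combination σ a * h1 - h2
  obtain ⟨θ, hθ⟩ := this
  refine ⟨_, hθ, ?_⟩
  rw [eq_div_iff ((map_ne_zero σ).2 hθ), map_add, map_mul, hσ2]
  linear_combination θ * hu

/-- There is a non-zero element of trace zero. -/
theorem exists_trace_zero : ∃ θ : F, θ ≠ 0 ∧ θ + σ θ = 0 := by
  obtain ⟨a, ha⟩ := exists_sigma_ne σ hσ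
  refine ⟨a - σ a, sub_ne_zero.2 ha.symm, ?_⟩
  rw [map_sub, hσ2]; ring

/-- The norm `x ↦ x σ(x)` of a finite field maps onto the fixed field of `σ`. -/
theorem norm_surj [Finite F] {a : F} (ha : σ a = a) : ∃ x : F, x * σ x = a := by
  by_cases ha0 : a = 0
  · exact ⟨0, by simp [ha0]⟩
  let s : Fˣ →* Fˣ := Units.map σ.toMonoidHom
  have hs : ∀ x : Fˣ, (s x : F) = σ x := fun _ => rfl
  let N : Fˣ →* Fˣ := MonoidHom.id _ * s
  let D : Fˣ →* Fˣ := MonoidHom.id _ / s
  have hN : ∀ x : Fˣ, (N x : F) = x * σ x := fun _ => rfl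
  have hD : ∀ x : Fˣ, (D x : F) = x / σ x := fun x => by
    simp [D, hs]
  have h1 : D.range = N.ker := by
    ext u
    rw [MonoidHom.mem_range, MonoidHom.mem_ker, Units.ext_iff, hN, Units.val_one]
    constructor
    · rintro ⟨x, rfl⟩
      have hx : (x : F) ≠ 0 := x.ne_zero
      have hx' : σ x ≠ 0 := (map_ne_zero σ).2 hx
      rw [hD, map_div₀, hσ2]
      field_simp
    · intro hu
      obtain ⟨x, hx, hux⟩ := hilbert90 σ hσ hσ2 hu
      exact ⟨Units.mk0 x hx, Units.ext (by rw [hD, hux]; rfl)⟩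
  have h2 : N.range ≤ D.ker := by
    rintro _ ⟨x, rfl⟩
    have hx : (x : F) ≠ 0 := x.ne_zero
    have hx' : σ x ≠ 0 := (map_ne_zero σ).2 hx
    rw [MonoidHom.mem_ker, Units.ext_iff, hD, hN, map_mul, hσ2, Units.val_one]
    field_simp
  have c1 := Subgroup.card_mul_index N.ker
  have c2 := Subgroup.card_mul_index D.ker
  rw [Subgroup.index_ker] at c1 c2
  rw [h1] at c2
  have hpos : 0 < Nat.card N.ker := Nat.card_pos
  have c3 : Nat.card D.ker = Nat.card N.range := by
    apply Nat.eq_of_mul_eq_mul_left hpos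
    rw [c1, mul_comm, c2]
  have h3 : N.range = D.ker := Subgroup.eq_of_le_of_card_ge h2 c3.le
  have : Units.mk0 a ha0 ∈ D.ker := by
    rw [MonoidHom.mem_ker, Units.ext_iff, hD]
    simp [ha, ha0]
  rw [← h3] at this
  obtain ⟨x, hx⟩ := this
  exact ⟨x, by rw [← hN, hx]; rfl⟩

end Invol

section Frob

variable {F : Type*} [Field F] [Fintype F] {q : ℕ}

theorem exists_char_pow (hF : Fintype.card F = q ^ 2) :
    ∃ p k : ℕ, p.Prime ∧ CharP F p ∧ 0 < k ∧ q = p ^ k := by
  obtain ⟨p, hp, n, hp', hn⟩ := FiniteField.card' F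
  have hdvd : q ∣ p ^ (n : ℕ) := by rw [← hn, hF]; exact dvd_pow_self q two_ne_zero
  obtain ⟨k, -, rfl⟩ := (Nat.dvd_prime_pow hp').1 hdvd
  refine ⟨p, k, hp', hp, ?_, rfl⟩
  rcases Nat.eq_zero_or_pos k with rfl | h
  · have := Fintype.one_lt_card (α := F)
    simp [hF] at this
  · exact h

theorem two_le_of_card_sq (hF : Fintype.card F = q ^ 2) : 2 ≤ q := by
  have := Fintype.one_lt_card (α := F)
  rw [hF] at this
  by_contra h
  have : q = 0 ∨ q = 1 := by omega
  rcases this with rfl | rfl <;> simp at this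

/-- The involution `x ↦ x ^ q` of a field with `q ^ 2` elements. -/
def frob (hF : Fintype.card F = q ^ 2) : F →+* F where
  toFun x := x ^ q
  map_one' := one_pow _
  map_mul' x y := mul_pow _ _ _
  map_zero' := zero_pow (by have := two_le_of_card_sq hF; omega)
  map_add' x y := by
    obtain ⟨p, k, hp, hc, -, rfl⟩ := exists_char_pow hF
    have := Fact.mk hp
    exact add_pow_char_pow x y p k

theorem frob_apply (hF : Fintype.card F = q ^ 2) (x : F) : frob hF x = x ^ q := rfl

theorem frob_frob (hF : Fintype.card F = q ^ 2) (x : F) : frob hF (frob hF x) = x := by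
  rw [frob_apply, frob_apply, ← pow_mul, ← sq, ← hF, FiniteField.pow_card]

theorem frob_ne_id (hF : Fintype.card F = q ^ 2) : frob hF ≠ RingHom.id F := by
  intro h
  have h2 := two_le_of_card_sq hF
  have : ∀ x : Fˣ, x ^ (q - 1) = 1 := fun x => by
    have h1 : (x : F) ^ q = x := by
      rw [← frob_apply hF, h]; rfl
    apply Units.ext
    rw [Units.val_pow_eq_pow_val, Units.val_one]
    apply mul_right_cancel₀ x.ne_zero
    rw [← pow_succ, one_mul, Nat.sub_add_cancel (by omega), h1]
  rw [FiniteField.forall_pow_eq_one_iff, hF] at this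
  have h3 := Nat.le_of_dvd (by omega) this
  have : q * q ≥ 2 * q := Nat.mul_le_mul_right q h2
  rw [sq] at h3
  omega

theorem mul_frob (hF : Fintype.card F = q ^ 2) (x : F) : x * frob hF x = x ^ (q + 1) := by
  rw [frob_apply, pow_succ']

theorem card_units_sq (hF : Fintype.card F = q ^ 2) : Nat.card Fˣ = (q + 1) * (q - 1) := by
  rw [Nat.card_units, Nat.card_eq_fintype_card, hF]
  have := Nat.sq_sub_sq q 1
  simpa using this

theorem card_norm_one_units (hF : Fintype.card F = q ^ 2) :
    Nat.card (powMonoidHom (q + 1) : Fˣ →* Fˣ).ker = q + 1 := by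
  rw [IsCyclic.card_powMonoidHom_ker, card_units_sq hF]
  exact Nat.gcd_mul_right_left _ _

/-- The number of solutions of `x ^ (q + 1) = μ`. -/
theorem card_norm_eq (hF : Fintype.card F = q ^ 2) (μ : F) (hμ : μ ≠ 0) (hμq : μ ^ q = μ) :
    Nat.card {x : F // x ^ (q + 1) = μ} = q + 1 := by
  obtain ⟨x0, hx0⟩ := norm_surj (frob hF) (frob_ne_id hF) (frob_frob hF) (a := μ) hμq
  rw [mul_frob] at hx0
  have hx0' : x0 ≠ 0 := by
    rintro rfl
    exact hμ (by rw [← hx0]; simp)
  refine Eq.trans ?_ (card_norm_one_units hF)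
  symm
  refine Nat.card_congr (Equiv.ofBijective (fun u => ⟨(u.1 : F) * x0, ?_⟩) ⟨?_, ?_⟩)
  · have := congrArg Units.val (MonoidHom.mem_ker.1 u.2)
    rw [powMonoidHom_apply, Units.val_pow_eq_pow_val, Units.val_one] at this
    rw [mul_pow, this, one_mul, hx0]
  · intro u v huv
    have := congrArg Subtype.val huv
    exact Subtype.ext (Units.ext (mul_right_cancel₀ hx0' this))
  · rintro ⟨y, hy⟩
    have hy' : y ≠ 0 := by
      rintro rfl
      exact hμ (by rw [← hy]; simp)
    refine ⟨⟨Units.mk0 (y / x0) (div_ne_zero hy' hx0'), ?_⟩, Subtype.ext ?_⟩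
    · rw [MonoidHom.mem_ker, Units.ext_iff, powMonoidHom_apply, Units.val_pow_eq_pow_val,
        Units.val_mk0, div_pow, hy, hx0, div_self hμ, Units.val_one]
    · simp [hx0']

/-- The fixed field of `x ↦ x ^ q` has `q` elements. -/
theorem card_fixed (hF : Fintype.card F = q ^ 2) : Nat.card {x : F // x ^ q = x} = q := by
  have h2 := two_le_of_card_sq hF
  have h1 : Nat.card (powMonoidHom (q - 1) : Fˣ →* Fˣ).ker = q - 1 := by
    rw [IsCyclic.card_powMonoidHom_ker, card_units_sq hF]
    exact Nat.gcd_mul_left_left _ _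
  have h3 : Nat.card {x : F // x ^ q = x} =
      Nat.card (Option (powMonoidHom (q - 1) : Fˣ →* Fˣ).ker) := by
    symm
    refine Nat.card_congr (Equiv.ofBijective (fun u => match u with
      | none => ⟨0, zero_pow (by omega)⟩
      | some u => ⟨(u.1 : F), ?_⟩) ⟨?_, ?_⟩)
    · have := congrArg Units.val (MonoidHom.mem_ker.1 u.2)
      rw [powMonoidHom_apply, Units.val_pow_eq_pow_val, Units.val_one] at this
      have e : (u.1 : F) ^ q = (u.1 : F) ^ (q - 1) * u.1 := by
        rw [← pow_succ, Nat.sub_add_cancel (show 1 ≤ q by omega)]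
      rw [e, this, one_mul]
    · rintro (_ | u) (_ | v) huv
      · rfl
      · exact absurd (congrArg Subtype.val huv).symm v.1.ne_zero
      · exact absurd (congrArg Subtype.val huv) u.1.ne_zero
      · exact congrArg some (Subtype.ext (Units.ext (congrArg Subtype.val huv)))
    · rintro ⟨y, hy⟩
      by_cases hy0 : y = 0
      · exact ⟨none, Subtype.ext hy0.symm⟩
      · refine ⟨some ⟨Units.mk0 y hy0, ?_⟩, rfl⟩
        rw [MonoidHom.mem_ker, Units.ext_iff, powMonoidHom_apply, Units.val_pow_eq_pow_val,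
          Units.val_mk0, Units.val_one]
        apply mul_right_cancel₀ hy0
        rw [← pow_succ, one_mul, Nat.sub_add_cancel (by omega), hy]
  rw [h3, Finite.card_option, h1]
  omega

/-- For `μ` in the fixed field, `x + x ^ q = μ` has `q` solutions. -/
theorem card_trace_eq (hF : Fintype.card F = q ^ 2) (μ : F) (hμ : μ ^ q = μ) :
    Nat.card {x : F // x + x ^ q = μ} = q := by
  obtain ⟨θ, hθ0, hθ⟩ := exists_trace_zero (frob hF) (frob_ne_id hF) (frob_frob hF)
  have : ∃ x0 : F, x0 + frob hF x0 = μ := by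
    have : ∃ t : F, t + frob hF t ≠ 0 := by
      by_contra hcon
      push Not at hcon
      obtain ⟨a, ha⟩ := exists_sigma_ne (frob hF) (frob_ne_id hF)
      have h1 := hcon 1
      have h2 := hcon a
      rw [map_one] at h1
      apply ha
      linear_combination h2 - a * h1
    obtain ⟨t, ht⟩ := this
    refine ⟨μ * t / (t + frob hF t), ?_⟩
    rw [map_div₀, map_mul, map_add, frob_frob, add_comm (frob hF t) t, frob_apply hF μ, hμ]
    field_simp
  obtain ⟨x0, hx0⟩ := this
  have hθ' : frob hF θ = -θ := by linear_combination hθ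
  conv_rhs => rw [← card_fixed hF]
  symm
  refine Nat.card_congr (Equiv.ofBijective (fun u => ⟨x0 + u.1 * θ, ?_⟩) ⟨?_, ?_⟩)
  · have := u.2
    rw [← frob_apply hF] at this ⊢
    rw [map_add, map_mul, this, hθ']
    linear_combination hx0
  · intro u v huv
    have := congrArg Subtype.val huv
    exact Subtype.ext (mul_right_cancel₀ hθ0 (add_left_cancel this))
  · rintro ⟨y, hy⟩
    refine ⟨⟨(y - x0) / θ, ?_⟩, Subtype.ext ?_⟩
    · rw [← frob_apply hF] at hy ⊢
      rw [map_div₀, map_sub, hθ']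
      field_simp
      linear_combination hx0 - hy
    · simp [hθ0]

end Frob

section Quad

variable {F : Type*} [Field F] [Finite F]

theorem ringChar_ne_two_iff : ringChar F ≠ 2 ↔ (2 : F) ≠ 0 := by
  constructor
  · exact Ring.two_ne_zero
  · intro h h2
    apply h
    have := ringChar.Nat.cast_ringChar (R := F)
    rw [h2] at this
    exact_mod_cast this

theorem isSquare_of_two_eq_zero (h2 : (2 : F) = 0) (a : F) : IsSquare a := by
  apply FiniteField.isSquare_of_char_two
  by_contra h
  exact ringChar_ne_two_iff.1 h h2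

theorem card_odd_iff [Fintype F] : Odd (Fintype.card F) ↔ (2 : F) ≠ 0 := by
  rw [← ringChar_ne_two_iff, Nat.odd_iff, Ne, FiniteField.even_card_iff_char_two]
  omega

/-- Over a finite field, `a x² + b y² = c` is solvable when `a, b ≠ 0`. -/
theorem exists_sq_add_sq {a b : F} (ha : a ≠ 0) (hb : b ≠ 0) (c : F) :
    ∃ x y : F, a * x ^ 2 + b * y ^ 2 = c := by
  have := Fintype.ofFinite F
  by_cases h2 : (2 : F) = 0
  · obtain ⟨x, hx⟩ := isSquare_of_two_eq_zero h2 (c / a)
    refine ⟨x, 0, ?_⟩
    rw [sq, ← hx]; field_simp; ring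
  · have hodd : Fintype.card F % 2 = 1 := Nat.odd_iff.1 (card_odd_iff.2 h2)
    obtain ⟨x, y, h⟩ := FiniteField.exists_root_sum_quadratic
      (f := Polynomial.C a * Polynomial.X ^ 2)
      (g := Polynomial.C b * Polynomial.X ^ 2 - Polynomial.C c)
      (by rw [Polynomial.degree_C_mul_X_pow _ ha]; rfl)
      (by
        rw [Polynomial.degree_sub_C (by rw [Polynomial.degree_C_mul_X_pow _ hb]; decide),
          Polynomial.degree_C_mul_X_pow _ hb]; rfl) hodd
    refine ⟨x, y, ?_⟩
    simp only [Polynomial.eval_mul, Polynomial.eval_C, Polynomial.eval_pow, Polynomial.eval_X,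
      Polynomial.eval_sub] at h
    linear_combination h

/-- The product of two non-squares of a finite field is a square. -/
theorem isSquare_mul_of_not {a b : F} (ha : ¬ IsSquare a) (hb : ¬ IsSquare b) :
    IsSquare (a * b) := by
  classical
  have := Fintype.ofFinite F
  have ha0 : a ≠ 0 := by rintro rfl; exact ha IsSquare.zero
  have hb0 : b ≠ 0 := by rintro rfl; exact hb IsSquare.zero
  rw [← quadraticChar_one_iff_isSquare (mul_ne_zero ha0 hb0), map_mul,
    quadraticChar_neg_one_iff_not_isSquare.2 ha, quadraticChar_neg_one_iff_not_isSquare.2 hb]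
  norm_num

omit [Finite F] in
theorem not_isSquare_mul {a b : F} (ha : ¬ IsSquare a) (hb : IsSquare b) (hb0 : b ≠ 0) :
    ¬ IsSquare (a * b) := by
  rintro ⟨c, hc⟩
  obtain ⟨d, rfl⟩ := hb
  have hd : d ≠ 0 := by rintro rfl; simp at hb0
  exact ha ⟨c / d, by field_simp; linear_combination hc⟩

theorem isSquare_neg_one_iff' [Fintype F] (h2 : (2 : F) ≠ 0) :
    IsSquare (-1 : F) ↔ Fintype.card F % 4 = 1 := by
  rw [FiniteField.isSquare_neg_one_iff]
  have := Nat.odd_iff.1 (card_odd_iff.2 h2)
  omega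

end Quad

end H15
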