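import Mathlib

/-!
# Witt's lemma, uniformly for alternating, quadratic and Hermitian forms

A `Form σ V` is an `ε`-Hermitian `σ`-sesquilinear form `B` together with a "quadratic refinement"
`Q` (which is `0` in the alternating and Hermitian cases).
-/

set_option autoImplicit false
set_option linter.unusedSectionVars false
set_option linter.style.haveILetI false

namespace H15

open Module

/-- A reflexive sesquilinear form with an optional quadratic refinement. -/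
structure Form {F : Type*} [Field F] (σ : F →+* F) (V : Type*) [AddCommGroup V] [Module F V] where
  B : V →ₛₗ[σ] V →ₗ[F] F
  Q : V → F
  ε : F
  τ : F
  invol : ∀ a, σ (σ a) = a
  eps : ε * σ ε = 1
  symm : ∀ x y, B y x = ε * σ (B x y)
  Q_add : ∀ x y, Q (x + y) = Q x + Q y + τ * B x y
  Q_smul : ∀ (c : F) x, Q (c • x) = c ^ 2 * Q x
  adj : ∀ p x y, Q p = 0 → B p p = 0 → B p x ≠ 0 →
    ∃ t : F, B (x + t • p) (x + t • p) = B y y ∧ Q (x + t • p) = Q y

namespace Form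

variable {F : Type*} [Field F] {σ : F →+* F} {V : Type*} [AddCommGroup V] [Module F V]
variable (Φ : Form σ V)

/-- Non-degeneracy. -/
def Nondeg : Prop := ∀ x, (∀ y, Φ.B x y = 0) → x = 0

theorem eps_ne_zero : Φ.ε ≠ 0 := by
  intro h
  have := Φ.eps
  rw [h, zero_mul] at this
  exact zero_ne_one this

include Φ in
theorem sigma_bijective : Function.Bijective σ :=
  Function.Involutive.bijective Φ.invol

theorem B_eq_zero_comm {x y : V} : Φ.B x y = 0 ↔ Φ.B y x = 0 := by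
  rw [Φ.symm x y]
  simp [Φ.eps_ne_zero]

theorem B_congr_symm {x y x' y' : V} (h : Φ.B x y = Φ.B x' y') : Φ.B y x = Φ.B y' x' := by
  rw [Φ.symm x y, Φ.symm x' y', h]

theorem Q_zero : Φ.Q 0 = 0 := by
  have := Φ.Q_smul 0 0
  simpa using this

theorem Q_neg (x : V) : Φ.Q (-x) = Φ.Q x := by
  have := Φ.Q_smul (-1) x
  simpa using this

theorem tau_symm (x y : V) : Φ.τ * Φ.B x y = Φ.τ * Φ.B y x := by
  have h1 := Φ.Q_add x y
  have h2 := Φ.Q_add y x
  rw [add_comm y x] at h2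
  linear_combination h2 - h1

theorem Q_sub (x y : V) : Φ.Q (x - y) = Φ.Q x + Φ.Q y - Φ.τ * Φ.B x y := by
  rw [sub_eq_add_neg, Φ.Q_add, Φ.Q_neg, map_neg]
  ring

theorem tau_self (x : V) : Φ.τ * Φ.B x x = 2 * Φ.Q x := by
  have := Φ.Q_sub x x
  rw [sub_self, Φ.Q_zero] at this
  linear_combination this

theorem Q_add_smul (x y : V) (c : F) :
    Φ.Q (x + c • y) = Φ.Q x + c ^ 2 * Φ.Q y + Φ.τ * c * Φ.B x y := by
  rw [Φ.Q_add, Φ.Q_smul, map_smul, smul_eq_mul]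
  ring

theorem Nondeg.right {Φ : Form σ V} (h : Φ.Nondeg) (y : V) (hy : ∀ x, Φ.B x y = 0) : y = 0 :=
  h y fun x => Φ.B_eq_zero_comm.1 (hy x)

theorem Nondeg.ext_left {Φ : Form σ V} (h : Φ.Nondeg) {x y : V} (hxy : ∀ z, Φ.B x z = Φ.B y z) :
    x = y := by
  rw [← sub_eq_zero]
  exact h _ fun z => by simp [hxy z]

theorem Nondeg.ext_right {Φ : Form σ V} (h : Φ.Nondeg) {x y : V} (hxy : ∀ z, Φ.B z x = Φ.B z y) :
    x = y := by
  rw [← sub_eq_zero]
  exact h.right _ fun z => by simp [hxy z]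

/-- Pull-back of a form along a linear map. -/
def comap {W : Type*} [AddCommGroup W] [Module F W] (f : W →ₗ[F] V) : Form σ W where
  B := LinearMap.mk₂'ₛₗ σ (RingHom.id F) (fun x y => Φ.B (f x) (f y))
    (by intros; simp) (by intros; simp) (by intros; simp) (by intros; simp)
  Q := fun x => Φ.Q (f x)
  ε := Φ.ε
  τ := Φ.τ
  invol := Φ.invol
  eps := Φ.eps
  symm x y := Φ.symm _ _
  Q_add x y := by simp [Φ.Q_add]
  Q_smul c x := by simp [Φ.Q_smul]
  adj p x y h1 h2 h3 := by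
    obtain ⟨t, ht⟩ := Φ.adj (f p) (f x) (f y) h1 h2 h3
    refine ⟨t, ?_, ?_⟩
    · have := ht.1
      rw [← map_smul, ← map_add] at this
      exact this
    · have := ht.2
      rw [← map_smul, ← map_add] at this
      exact this

@[simp] theorem comap_B {W : Type*} [AddCommGroup W] [Module F W] (f : W →ₗ[F] V) (x y : W) :
    (Φ.comap f).B x y = Φ.B (f x) (f y) := rfl

@[simp] theorem comap_Q {W : Type*} [AddCommGroup W] [Module F W] (f : W →ₗ[F] V) (x : W) :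
    (Φ.comap f).Q x = Φ.Q (f x) := rfl

/-- Restriction to a subspace. -/
abbrev restrict (W : Submodule F V) : Form σ W := Φ.comap W.subtype

/-- Orthogonal complement. -/
def perp (W : Submodule F V) : Submodule F V := W.orthogonalBilin Φ.B

theorem mem_perp {W : Submodule F V} {y : V} : y ∈ Φ.perp W ↔ ∀ x ∈ W, Φ.B x y = 0 := Iff.rfl

theorem mem_perp' {W : Submodule F V} {y : V} : y ∈ Φ.perp W ↔ ∀ x ∈ W, Φ.B y x = 0 := by
  simp only [mem_perp, Φ.B_eq_zero_comm (x := y)]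

theorem perp_anti {W W' : Submodule F V} (h : W ≤ W') : Φ.perp W' ≤ Φ.perp W :=
  fun _ hy x hx => hy x (h hx)

theorem le_perp_perp (W : Submodule F V) : W ≤ Φ.perp (Φ.perp W) :=
  fun _ hx _ hy => Φ.mem_perp'.1 hy _ hx

theorem le_perp_comm {W W' : Submodule F V} : W ≤ Φ.perp W' ↔ W' ≤ Φ.perp W :=
  ⟨fun h _ hx _ hy => Φ.mem_perp'.1 (h hy) _ hx, fun h _ hx _ hy => Φ.mem_perp'.1 (h hy) _ hx⟩

theorem mem_perp_span {s : Set V} {y : V} :
    y ∈ Φ.perp (Submodule.span F s) ↔ ∀ x ∈ s, Φ.B x y = 0 := by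
  constructor
  · intro h x hx
    exact h x (Submodule.subset_span hx)
  · intro h x hx
    induction hx using Submodule.span_induction with
    | mem x hx => exact h x hx
    | zero => simp
    | add x y _ _ h1 h2 => simp [h1, h2]
    | smul a x _ h1 => simp [h1]

theorem perp_sup (W W' : Submodule F V) : Φ.perp (W ⊔ W') = Φ.perp W ⊓ Φ.perp W' := by
  apply le_antisymm
  · exact le_inf (Φ.perp_anti le_sup_left) (Φ.perp_anti le_sup_right)
  · rintro y ⟨h1, h2⟩ x hx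
    obtain ⟨a, ha, b, hb, rfl⟩ := Submodule.mem_sup.1 hx
    simp [h1 a ha, h2 b hb]

@[simp] theorem perp_bot : Φ.perp ⊥ = ⊤ := by
  ext y
  simp [mem_perp]

theorem Nondeg.perp_top {Φ : Form σ V} (h : Φ.Nondeg) : Φ.perp ⊤ = ⊥ := by
  rw [eq_bot_iff]
  intro y hy
  exact h.right y fun x => hy x trivial

section FD

variable [FiniteDimensional F V]

theorem finrank_map_B (h : Φ.Nondeg) (W : Submodule F V) :
    haveI : RingHomSurjective σ := ⟨Φ.sigma_bijective.2⟩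
    finrank F (W.map Φ.B) = finrank F W := by
  haveI : RingHomSurjective σ := ⟨Φ.sigma_bijective.2⟩
  have hinj : Function.Injective Φ.B := fun x y hxy =>
    h.ext_left fun z => by rw [hxy]
  let j0 : W →+ W.map Φ.B :=
    { toFun := fun x => ⟨Φ.B x, Submodule.mem_map_of_mem x.2⟩
      map_zero' := by ext; simp
      map_add' := fun x y => by ext; simp }
  have hj0 : Function.Bijective j0 := by
    constructor
    · intro x y hxy
      exact Subtype.ext (hinj (congrArg Subtype.val hxy))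
    · rintro ⟨_, x, hx, rfl⟩
      exact ⟨⟨x, hx⟩, rfl⟩
  have := lift_rank_eq_of_equiv_equiv σ (AddEquiv.ofBijective j0 hj0) Φ.sigma_bijective
    (fun r m => by ext; simp [j0])
  have h2 := congrArg Cardinal.toNat this
  simp only [Cardinal.toNat_lift] at h2
  exact h2.symm

/-- Every linear functional is `B w` for some `w`. -/
theorem Nondeg.exists_dual {Φ : Form σ V} (h : Φ.Nondeg) (φ : Dual F V) :
    ∃ w, ∀ v, Φ.B w v = φ v := by
  haveI : RingHomSurjective σ := ⟨Φ.sigma_bijective.2⟩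
  have h1 := Φ.finrank_map_B h ⊤
  have h2 : (⊤ : Submodule F V).map Φ.B = ⊤ := by
    apply Submodule.eq_top_of_finrank_eq
    rw [h1, finrank_top, Subspace.dual_finrank_eq]
  have : φ ∈ (⊤ : Submodule F V).map Φ.B := by rw [h2]; trivial
  obtain ⟨w, -, rfl⟩ := this
  exact ⟨w, fun _ => rfl⟩

theorem Nondeg.finrank_perp {Φ : Form σ V} (h : Φ.Nondeg) (W : Submodule F V) :
    finrank F W + finrank F (Φ.perp W) = finrank F V := by
  haveI : RingHomSurjective σ := ⟨Φ.sigma_bijective.2⟩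
  have h1 := Φ.finrank_map_B h W
  have h2 := Subspace.finrank_add_finrank_dualCoannihilator_eq (W.map Φ.B)
  have h3 : (W.map Φ.B).dualCoannihilator = Φ.perp W := by
    ext y
    rw [Submodule.mem_dualCoannihilator, mem_perp]
    constructor
    · intro H x hx
      exact H _ (Submodule.mem_map_of_mem hx)
    · rintro H _ ⟨x, hx, rfl⟩
      exact H x hx
  rw [← h1, ← h3, h2]

theorem Nondeg.perp_perp {Φ : Form σ V} (h : Φ.Nondeg) (W : Submodule F V) :
    Φ.perp (Φ.perp W) = W := by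
  symm
  apply Submodule.eq_of_le_of_finrank_eq (Φ.le_perp_perp W)
  have h1 := h.finrank_perp W
  have h2 := h.finrank_perp (Φ.perp W)
  omega

/-- If `u ∉ H` there is `w ⟂ H` with `B w u = 1`. -/
theorem Nondeg.exists_perp_eq_one {Φ : Form σ V} (h : Φ.Nondeg) {H : Submodule F V} {u : V}
    (hu : u ∉ H) : ∃ w, (∀ x ∈ H, Φ.B w x = 0) ∧ Φ.B w u = 1 := by
  have : u ∉ Φ.perp (Φ.perp H) := by rwa [h.perp_perp]
  rw [mem_perp] at this
  push Not at this
  obtain ⟨w, hw, hwu⟩ := this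
  refine ⟨σ (Φ.B w u)⁻¹ • w, fun x hx => ?_, ?_⟩
  · simp [Φ.mem_perp'.1 hw x hx]
  · simp [Φ.invol, hwu]

/-- If `u ∉ H` there is `w ⟂ H` with `B u w = 1`. -/
theorem Nondeg.exists_perp_eq_one' {Φ : Form σ V} (h : Φ.Nondeg) {H : Submodule F V} {u : V}
    (hu : u ∉ H) : ∃ w, (∀ x ∈ H, Φ.B x w = 0) ∧ Φ.B u w = 1 := by
  obtain ⟨w, hw, hwu⟩ := h.exists_perp_eq_one hu
  have h1 : Φ.B u w ≠ 0 := by
    rw [Ne, Φ.B_eq_zero_comm, hwu]; exact one_ne_zero
  refine ⟨(Φ.B u w)⁻¹ • w, fun x hx => ?_, ?_⟩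
  · simp [Φ.B_eq_zero_comm.1 (hw x hx)]
  · simp [h1]

theorem Nondeg.exists_perp_two {Φ : Form σ V} (h : Φ.Nondeg) {H : Submodule F V} {u u' : V}
    (hu : u ∉ H) (hu' : u' ∉ H) :
    ∃ w, (∀ x ∈ H, Φ.B w x = 0) ∧ Φ.B w u = 1 ∧ Φ.B w u' ≠ 0 := by
  obtain ⟨w, hw, hwu⟩ := h.exists_perp_eq_one hu
  obtain ⟨w', hw', hwu'⟩ := h.exists_perp_eq_one hu'
  by_cases h1 : Φ.B w u' = 0
  · by_cases h2 : Φ.B w' u = 0
    · refine ⟨w + w', fun x hx => ?_, ?_, ?_⟩
      · simp [hw x hx, hw' x hx]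
      · simp [hwu, h2]
      · simp [hwu', h1]
    · refine ⟨σ (Φ.B w' u)⁻¹ • w', fun x hx => ?_, ?_, ?_⟩
      · simp [hw' x hx]
      · simp [Φ.invol, h2]
      · simp [Φ.invol, h2, hwu']
  · exact ⟨w, hw, hwu, h1⟩

theorem Nondeg.exists_B_eq_one {Φ : Form σ V} (h : Φ.Nondeg) {p : V} (hp : p ≠ 0) :
    ∃ r, Φ.B p r = 1 := by
  obtain ⟨r, -, hr⟩ := h.exists_perp_eq_one' (H := ⊥) (u := p) (by simpa using hp)
  exact ⟨r, hr⟩

end FD

/-! ### The isometry group -/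

/-- The isometry group of the form. -/
def Isom : Subgroup (V ≃ₗ[F] V) where
  carrier := {g | (∀ x y, Φ.B (g x) (g y) = Φ.B x y) ∧ ∀ x, Φ.Q (g x) = Φ.Q x}
  mul_mem' {a b} ha hb := ⟨fun x y => by
      rw [LinearEquiv.mul_apply, LinearEquiv.mul_apply, ha.1, hb.1],
    fun x => by rw [LinearEquiv.mul_apply, ha.2, hb.2]⟩
  one_mem' := ⟨fun _ _ => rfl, fun _ => rfl⟩
  inv_mem' {a} ha := ⟨fun x y => by
      rw [← ha.1]; simp [LinearEquiv.coe_inv],
    fun x => by rw [← ha.2]; simp [LinearEquiv.coe_inv]⟩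

theorem mem_Isom {g : V ≃ₗ[F] V} :
    g ∈ Φ.Isom ↔ (∀ x y, Φ.B (g x) (g y) = Φ.B x y) ∧ ∀ x, Φ.Q (g x) = Φ.Q x := Iff.rfl

variable {Φ} in
theorem Isom.map_B (g : Φ.Isom) (x y : V) : Φ.B (g.1 x) (g.1 y) = Φ.B x y := g.2.1 x y

variable {Φ} in
theorem Isom.map_Q (g : Φ.Isom) (x : V) : Φ.Q (g.1 x) = Φ.Q x := g.2.2 x

variable {Φ} in
@[simp] theorem Isom.mul_apply (g h : Φ.Isom) (x : V) : (g * h).1 x = g.1 (h.1 x) := rfl

variable {Φ} in
@[simp] theorem Isom.one_apply (x : V) : (1 : Φ.Isom).1 x = x := rfl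

variable {Φ} in
@[simp] theorem Isom.apply_inv_apply (g : Φ.Isom) (x : V) : g.1 ((g⁻¹).1 x) = x := by
  rw [← Isom.mul_apply, mul_inv_cancel, Isom.one_apply]

variable {Φ} in
@[simp] theorem Isom.inv_apply_apply (g : Φ.Isom) (x : V) : (g⁻¹).1 (g.1 x) = x := by
  rw [← Isom.mul_apply, inv_mul_cancel, Isom.one_apply]

variable {Φ} in
theorem Isom.inv_apply_eq (g : Φ.Isom) {x y : V} : (g⁻¹).1 x = y ↔ g.1 y = x := by
  constructor
  · rintro rfl; simp
  · rintro rfl; simp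

variable {Φ} in
theorem Isom.ext {g h : Φ.Isom} (H : ∀ x, g.1 x = h.1 x) : g = h :=
  Subtype.ext (LinearEquiv.ext H)

variable {Φ} in
theorem Isom.B_left (g : Φ.Isom) (x y : V) : Φ.B (g.1 x) y = Φ.B x ((g⁻¹).1 y) := by
  rw [← Isom.map_B g x, Isom.apply_inv_apply]

variable {Φ} in
theorem Isom.B_right (g : Φ.Isom) (x y : V) : Φ.B x (g.1 y) = Φ.B ((g⁻¹).1 x) y := by
  rw [← Isom.map_B g _ y, Isom.apply_inv_apply]

/-- An isometric endomorphism of a non-degenerate space, as an element of the isometry group. -/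
noncomputable def mkIsom [FiniteDimensional F V] (h : Φ.Nondeg) (f : V →ₗ[F] V)
    (hB : ∀ x y, Φ.B (f x) (f y) = Φ.B x y) (hQ : ∀ x, Φ.Q (f x) = Φ.Q x) : Φ.Isom :=
  ⟨LinearEquiv.ofInjectiveEndo f (by
      rw [← LinearMap.ker_eq_bot, eq_bot_iff]
      intro x hx
      rw [LinearMap.mem_ker] at hx
      exact h x fun y => by rw [← hB, hx]; simp),
    hB, hQ⟩

@[simp] theorem mkIsom_apply [FiniteDimensional F V] (h : Φ.Nondeg) (f : V →ₗ[F] V)
    (hB : ∀ x y, Φ.B (f x) (f y) = Φ.B x y) (hQ : ∀ x, Φ.Q (f x) = Φ.Q x) (x : V) :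
    (Φ.mkIsom h f hB hQ).1 x = f x := rfl

theorem mkIsom_coe [FiniteDimensional F V] (h : Φ.Nondeg) (f : V →ₗ[F] V)
    (hB : ∀ x y, Φ.B (f x) (f y) = Φ.B x y) (hQ : ∀ x, Φ.Q (f x) = Φ.Q x) :
    ((Φ.mkIsom h f hB hQ).1 : V →ₗ[F] V) = f := rfl

/-- The map `v ↦ v + c B(p, v) p` (transvections, reflections and quasi-reflections). -/
def dil (p : V) (c : F) : V →ₗ[F] V := LinearMap.transvection (c • Φ.B p) p

theorem dil_apply (p : V) (c : F) (v : V) : Φ.dil p c v = v + (c * Φ.B p v) • p := by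
  simp [dil, LinearMap.transvection.apply]

theorem dil_B (p : V) (c : F) (v w : V) :
    Φ.B (Φ.dil p c v) (Φ.dil p c w) =
      Φ.B v w + σ (Φ.B p v) * Φ.B p w * (c * Φ.ε + σ c + c * σ c * Φ.B p p) := by
  simp only [dil_apply, map_add, LinearMap.map_smulₛₗ, LinearMap.add_apply, LinearMap.smul_apply,
    smul_eq_mul, map_mul, RingHom.id_apply, Φ.symm p v]
  ring

theorem dil_Q (p : V) (c : F) (v : V) :
    Φ.Q (Φ.dil p c v) = Φ.Q v + Φ.B p v ^ 2 * (c ^ 2 * Φ.Q p + Φ.τ * c) := by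
  rw [dil_apply, Φ.Q_add_smul]
  have := Φ.tau_symm v p
  linear_combination (c * Φ.B p v) * this

theorem dil_det [FiniteDimensional F V] (p : V) (c : F) :
    LinearMap.det (Φ.dil p c) = 1 + c * Φ.B p p := by
  simp [dil]

/-- The conditions making `dil p c` an isometry. -/
def DilOK (p : V) (c : F) : Prop :=
  c * Φ.ε + σ c + c * σ c * Φ.B p p = 0 ∧ c ^ 2 * Φ.Q p + Φ.τ * c = 0

/-- `dil p c` as an element of the isometry group. -/
noncomputable def dilIsom [FiniteDimensional F V] (h : Φ.Nondeg) (p : V) (c : F)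
    (hc : Φ.DilOK p c) : Φ.Isom :=
  Φ.mkIsom h (Φ.dil p c) (fun x y => by rw [dil_B, hc.1]; ring)
    (fun x => by rw [dil_Q, hc.2]; ring)

theorem dilIsom_apply [FiniteDimensional F V] (h : Φ.Nondeg) (p : V) (c : F)
    (hc : Φ.DilOK p c) (v : V) : (Φ.dilIsom h p c hc).1 v = v + (c * Φ.B p v) • p :=
  Φ.dil_apply p c v

theorem dilOK_of_ne {u u' : V} (hBB : Φ.B u' u' = Φ.B u u) (hQ : Φ.Q u' = Φ.Q u)
    (hp : Φ.B (u' - u) u ≠ 0) : Φ.DilOK (u' - u) (Φ.B (u' - u) u)⁻¹ := by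
  have h0 : Φ.dil (u' - u) (Φ.B (u' - u) u)⁻¹ u = u' := by
    rw [dil_apply, inv_mul_cancel₀ hp]; simp
  constructor
  · have := Φ.dil_B (u' - u) (Φ.B (u' - u) u)⁻¹ u u
    rw [h0, hBB, left_eq_add] at this
    exact (mul_eq_zero.1 this).resolve_left (mul_ne_zero ((map_ne_zero σ).2 hp) hp)
  · have := Φ.dil_Q (u' - u) (Φ.B (u' - u) u)⁻¹ u
    rw [h0, hQ, left_eq_add] at this
    exact (mul_eq_zero.1 this).resolve_left (pow_ne_zero _ hp)

theorem sing_of_eq_zero {u u' : V} (hBB : Φ.B u' u' = Φ.B u u) (hQ : Φ.Q u' = Φ.Q u)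
    (hp : Φ.B (u' - u) u = 0) :
    Φ.B (u' - u) u' = 0 ∧ Φ.B (u' - u) (u' - u) = 0 ∧ Φ.Q (u' - u) = 0 := by
  have h1 : Φ.B u' u = Φ.B u u := by simpa [sub_eq_zero] using hp
  have h2 : Φ.B u u' = Φ.B u u := Φ.B_congr_symm h1
  refine ⟨by simp [hBB, h2], by simp [hBB, h1, h2], ?_⟩
  rw [Φ.Q_sub, hQ, h1, Φ.tau_self]
  ring

/-- **Key step of Witt's lemma.** -/
theorem Nondeg.key [FiniteDimensional F V] {Φ : Form σ V} (h : Φ.Nondeg) (H : Submodule F V)
    {u u' : V} (hu : u ∉ H) (hu' : u' ∉ H) (hB : ∀ x ∈ H, Φ.B x u' = Φ.B x u)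
    (hBB : Φ.B u' u' = Φ.B u u) (hQ : Φ.Q u' = Φ.Q u) :
    ∃ g : Φ.Isom, (∀ x ∈ H, g.1 x = x) ∧ g.1 u = u' := by
  have hpH : ∀ x ∈ H, Φ.B (u' - u) x = 0 := fun x hx => by
    rw [Φ.B_eq_zero_comm]; simp [hB x hx]
  by_cases hp : Φ.B (u' - u) u = 0
  swap
  · refine ⟨Φ.dilIsom h _ _ (Φ.dilOK_of_ne hBB hQ hp), fun x hx => ?_, ?_⟩
    · rw [dilIsom_apply, hpH x hx]; simp
    · rw [dilIsom_apply, inv_mul_cancel₀ hp]; simp
  by_cases hp0 : u' - u = 0
  · exact ⟨1, fun _ _ => rfl, (sub_eq_zero.1 hp0).symm⟩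
  obtain ⟨hpu', hpp, hQp⟩ := Φ.sing_of_eq_zero hBB hQ hp
  obtain ⟨w, hwH, hwu, hwu'⟩ := h.exists_perp_two hu hu'
  obtain ⟨p, hpdef⟩ : ∃ p, p = u' - u := ⟨_, rfl⟩
  rw [← hpdef] at hp hp0 hpu' hpp hQp hpH
  have hu'eq : u' = u + p := by rw [hpdef]; abel
  obtain ⟨r, hr⟩ := h.exists_B_eq_one hp0
  have hs : 1 + Φ.B w p ≠ 0 := by
    rw [hu'eq, map_add, hwu] at hwu'; exact hwu'
  have hrp : Φ.B r p ≠ 0 := by
    rw [Ne, Φ.B_eq_zero_comm, hr]; exact one_ne_zero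
  obtain ⟨r0, hr0⟩ : ∃ r0, ∀ v, Φ.B r0 v = Φ.B r v - Φ.B r p / (1 + Φ.B w p) * Φ.B w v :=
    ⟨r - σ (Φ.B r p / (1 + Φ.B w p)) • w, fun v => by
      simp only [map_sub, LinearMap.map_smulₛₗ, Φ.invol, LinearMap.sub_apply,
        LinearMap.smul_apply, smul_eq_mul]⟩
  have hr0p : Φ.B p r0 ≠ 0 := by
    rw [Ne, Φ.B_eq_zero_comm, hr0]
    have : Φ.B r p - Φ.B r p / (1 + Φ.B w p) * Φ.B w p = Φ.B r p / (1 + Φ.B w p) := by
      field_simp
      ring
    rw [this]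
    exact div_ne_zero hrp hs
  obtain ⟨t, ht1, ht2⟩ := Φ.adj p r0 r hQp hpp hr0p
  obtain ⟨r', hr'def⟩ : ∃ r', r' = r0 + t • p := ⟨_, rfl⟩
  rw [← hr'def] at ht1 ht2
  let T : V →ₗ[F] V := LinearMap.transvection (Φ.B w) p
  have hT : ∀ v, T v = v + Φ.B w v • p := fun v => rfl
  have hr'T : ∀ v, Φ.B p v = 0 → Φ.B r' (T v) = Φ.B r v := fun v hv => by
    rw [hr'def, hT]
    simp only [map_add, LinearMap.map_smulₛₗ, LinearMap.add_apply, LinearMap.smul_apply,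
      smul_eq_mul, RingHom.id_apply, hr0, hv, hpp]
    field_simp
    ring
  have hTr' : ∀ v, Φ.B p v = 0 → Φ.B (T v) r' = Φ.B v r := fun v hv =>
    Φ.B_congr_symm (hr'T v hv)
  have hTT : ∀ v v', Φ.B p v = 0 → Φ.B p v' = 0 → Φ.B (T v) (T v') = Φ.B v v' :=
    fun v v' hv hv' => by
      have := Φ.B_eq_zero_comm.1 hv
      simp [hT, hv', this, hpp]
  have hTQ : ∀ v, Φ.B p v = 0 → Φ.Q (T v) = Φ.Q v := fun v hv => by
    have := Φ.B_eq_zero_comm.1 hv
    rw [hT, Φ.Q_add_smul, hQp, this]; ring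
  let π : V →ₗ[F] V := LinearMap.transvection (-Φ.B p) r
  have hπ : ∀ v, π v = v - Φ.B p v • r := fun v => by
    simp [π, LinearMap.transvection.apply, sub_eq_add_neg]
  have hπp : ∀ v, Φ.B p (π v) = 0 := fun v => by simp [hπ, hr]
  have hπv : ∀ v, v = π v + Φ.B p v • r := fun v => by simp [hπ]
  let g : V →ₗ[F] V := T ∘ₗ π + (Φ.B p).smulRight r'
  have hg : ∀ v, g v = T (π v) + Φ.B p v • r' := fun v => rfl
  refine ⟨Φ.mkIsom h g (fun x y => ?_) (fun x => ?_), fun x hx => ?_, ?_⟩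
  · conv_rhs => rw [hπv x, hπv y]
    simp only [hg, map_add, LinearMap.map_smulₛₗ, LinearMap.add_apply, LinearMap.smul_apply,
      smul_eq_mul, RingHom.id_apply, hTT _ _ (hπp x) (hπp y), hTr' _ (hπp x), hr'T _ (hπp y), ht1]
  · conv_rhs => rw [hπv x]
    rw [hg, Φ.Q_add_smul, Φ.Q_add_smul, hTQ _ (hπp x), hTr' _ (hπp x), ht2]
  · rw [mkIsom_apply, hg, hπ, hpH x hx]
    simp [hT, hwH x hx]
  · rw [mkIsom_apply, hg, hπ, hp]
    simp [hT, hwu, hu'eq]

/-- **Witt's lemma**: a linear map which is injective and isometric on a subspace `U` agrees on `U`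
with an isometry of the whole space. -/
theorem Nondeg.witt [FiniteDimensional F V] {Φ : Form σ V} (h : Φ.Nondeg) (U : Submodule F V)
    (f : V →ₗ[F] V) (hinj : ∀ x ∈ U, f x = 0 → x = 0)
    (hB : ∀ x ∈ U, ∀ y ∈ U, Φ.B (f x) (f y) = Φ.B x y) (hQ : ∀ x ∈ U, Φ.Q (f x) = Φ.Q x) :
    ∃ g : Φ.Isom, ∀ x ∈ U, g.1 x = f x := by
  let S : Set (Submodule F V) := {H | H ≤ U ∧ ∃ g : Φ.Isom, ∀ x ∈ H, g.1 x = f x}
  have hS : S.Nonempty := ⟨⊥, bot_le, 1, fun x hx => by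
    rw [Submodule.mem_bot] at hx; subst hx; simp⟩
  obtain ⟨H, ⟨hHU, g, hg⟩, hmax⟩ := set_has_maximal_iff_noetherian.2 inferInstance S hS
  by_cases hHU' : U ≤ H
  · exact ⟨g, fun x hx => hg x (hHU' hx)⟩
  exfalso
  obtain ⟨u, huU, huH⟩ := SetLike.not_le_iff_exists.1 hHU'
  have hu' : (g⁻¹).1 (f u) ∉ H := by
    intro hmem
    have h1 := hg _ hmem
    rw [Isom.apply_inv_apply] at h1
    have h2 := hinj (u - (g⁻¹).1 (f u)) (U.sub_mem huU (hHU hmem)) (by rw [map_sub, ← h1, sub_self])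
    rw [sub_eq_zero] at h2
    exact huH (h2 ▸ hmem)
  obtain ⟨k, hk1, hk2⟩ := h.key H huH hu'
    (fun x hx => by rw [← Isom.B_left, hg x hx, hB x (hHU hx) u huU])
    (by rw [Isom.map_B, hB u huU u huU]) (by rw [Isom.map_Q, hQ u huU])
  refine hmax (H ⊔ Submodule.span F {u}) ⟨sup_le hHU (by simpa using huU), g * k, ?_⟩ ?_
  · intro x hx
    obtain ⟨a, ha, b, hb, rfl⟩ := Submodule.mem_sup.1 hx
    obtain ⟨c, rfl⟩ := Submodule.mem_span_singleton.1 hb
    rw [map_add, map_add, map_smul, map_smul, Isom.mul_apply, Isom.mul_apply, hk1 a ha, hk2,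
      Isom.apply_inv_apply, hg a ha]
  · refine lt_of_le_of_ne le_sup_left fun heq => huH ?_
    rw [heq]
    exact Submodule.mem_sup_right (Submodule.mem_span_singleton_self u)

/-- **Witt's lemma** for a linear map defined on a subspace. -/
theorem Nondeg.witt' [FiniteDimensional F V] {Φ : Form σ V} (h : Φ.Nondeg) (U : Submodule F V)
    (f : U →ₗ[F] V) (hinj : Function.Injective f)
    (hB : ∀ x y : U, Φ.B (f x) (f y) = Φ.B x y) (hQ : ∀ x : U, Φ.Q (f x) = Φ.Q x) :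
    ∃ g : Φ.Isom, ∀ x : U, g.1 x = f x := by
  obtain ⟨f', hf'⟩ := f.exists_extend
  have hf : ∀ x (hx : x ∈ U), f' x = f ⟨x, hx⟩ := fun x hx => by
    rw [← hf']; rfl
  obtain ⟨g, hg⟩ := h.witt U f' (fun x hx h0 => by
      rw [hf x hx, ← map_zero f] at h0
      exact congrArg Subtype.val (hinj h0))
    (fun x hx y hy => by rw [hf x hx, hf y hy, hB]) (fun x hx => by rw [hf x hx, hQ])
  exact ⟨g, fun x => by rw [hg x x.2, hf x x.2]⟩

/-- **Witt's lemma** for linearly independent families with the same Gram matrix and the same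
values of `Q`. -/
theorem Nondeg.witt_family [FiniteDimensional F V] {Φ : Form σ V} (h : Φ.Nondeg) {ι : Type*}
    (a b : ι → V) (ha : LinearIndependent F a) (hb : LinearIndependent F b)
    (hB : ∀ i j, Φ.B (b i) (b j) = Φ.B (a i) (a j)) (hQ : ∀ i, Φ.Q (b i) = Φ.Q (a i)) :
    ∃ g : Φ.Isom, ∀ i, g.1 (a i) = b i := by
  classical
  let f0 : Submodule.span F (Set.range a) →ₗ[F] V := (Finsupp.linearCombination F b) ∘ₗ ha.repr
  obtain ⟨f, hf⟩ := f0.exists_extend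
  have hf1 : ∀ x (hx : x ∈ Submodule.span F (Set.range a)), f x = f0 ⟨x, hx⟩ := fun x hx => by
    rw [← hf]; rfl
  have hfa : ∀ i, f (a i) = b i := fun i => by
    rw [hf1 _ (Submodule.subset_span ⟨i, rfl⟩)]
    simp only [f0, LinearMap.comp_apply]
    rw [ha.repr_eq_single i _ rfl]
    simp
  have hBa : ∀ i, ∀ y ∈ Submodule.span F (Set.range a), Φ.B (f (a i)) (f y) = Φ.B (a i) y := by
    intro i y hy
    induction hy using Submodule.span_induction with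
    | mem x hx => obtain ⟨j, rfl⟩ := hx; rw [hfa, hfa, hB]
    | zero => simp
    | add x y _ _ h1 h2 => simp [h1, h2]
    | smul c x _ h1 => simp [h1]
  have hBB : ∀ x ∈ Submodule.span F (Set.range a), ∀ y ∈ Submodule.span F (Set.range a),
      Φ.B (f x) (f y) = Φ.B x y := by
    intro x hx y hy
    induction hx using Submodule.span_induction with
    | mem x hx => obtain ⟨j, rfl⟩ := hx; exact hBa j y hy
    | zero => simp
    | add x y _ _ h1 h2 => simp [h1, h2]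
    | smul c x _ h1 => simp [h1]
  obtain ⟨g, hg⟩ := h.witt (Submodule.span F (Set.range a)) f (fun x hx h0 => by
      rw [hf1 x hx] at h0
      simp only [f0, LinearMap.comp_apply] at h0
      have h1 := (linearIndependent_iff.1 hb) _ h0
      have h2 := ha.linearCombination_repr ⟨x, hx⟩
      rw [h1] at h2
      simpa using h2.symm) hBB
    (fun x hx => by
      induction hx using Submodule.span_induction with
      | mem x hx => obtain ⟨j, rfl⟩ := hx; rw [hfa, hQ]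
      | zero => simp
      | add x y hx hy h1 h2 => rw [map_add, Φ.Q_add, Φ.Q_add, h1, h2, hBB x hx y hy]
      | smul c x _ h1 => rw [map_smul, Φ.Q_smul, Φ.Q_smul, h1])
  exact ⟨g, fun i => by rw [hg _ (Submodule.subset_span ⟨i, rfl⟩), hfa]⟩

/-- Transitivity on non-zero vectors with given `B v v` and `Q v`. -/
theorem Nondeg.witt_one [FiniteDimensional F V] {Φ : Form σ V} (h : Φ.Nondeg) {u u' : V}
    (hu : u ≠ 0) (hu' : u' ≠ 0) (hBB : Φ.B u' u' = Φ.B u u) (hQ : Φ.Q u' = Φ.Q u) :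
    ∃ g : Φ.Isom, g.1 u = u' := by
  obtain ⟨g, -, hg⟩ := h.key ⊥ (u := u) (u' := u') (by simpa using hu) (by simpa using hu')
    (fun x hx => by rw [Submodule.mem_bot] at hx; subst hx; simp) hBB hQ
  exact ⟨g, hg⟩

/-- A generation principle: enlarge the fixed space step by step. -/
theorem eq_top_of_fix [FiniteDimensional F V] (S : Subgroup Φ.Isom)
    (hS : ∀ g : Φ.Isom, g ≠ 1 →
      ∃ s ∈ S, ∃ u, (∀ v, g.1 v = v → s.1 v = v) ∧ g.1 u ≠ u ∧ s.1 u = g.1 u) : S = ⊤ := by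
  rw [eq_top_iff]
  rintro g0 -
  let fx : Φ.Isom → Submodule F V := fun g => LinearMap.eqLocus (g.1 : V →ₗ[F] V) LinearMap.id
  have hfx : ∀ g v, v ∈ fx g ↔ g.1 v = v := fun g v => Iff.rfl
  let A : Set (Submodule F V) := {H | ∃ s ∈ S, H = fx (s * g0)}
  have hA : A.Nonempty := ⟨_, 1, S.one_mem, rfl⟩
  obtain ⟨H, ⟨s, hs, rfl⟩, hmax⟩ := set_has_maximal_iff_noetherian.2 inferInstance A hA
  by_cases h1 : s * g0 = 1
  · rw [eq_inv_of_mul_eq_one_right h1]
    exact S.inv_mem hs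
  exfalso
  obtain ⟨s', hs', u, h2, h3, h4⟩ := hS _ h1
  refine hmax (fx (s'⁻¹ * s * g0)) ⟨s'⁻¹ * s, S.mul_mem (S.inv_mem hs') hs, rfl⟩ ?_
  refine lt_of_le_of_ne (fun v hv => ?_) fun heq => h3 ?_
  · rw [hfx] at hv ⊢
    rw [mul_assoc, Isom.mul_apply, hv, Isom.inv_apply_eq, h2 v hv]
  · rw [← hfx, heq, hfx, mul_assoc, Isom.mul_apply, Isom.inv_apply_eq, h4]

/-- The pointwise stabiliser of a subspace in the isometry group. -/
def fixer (H : Submodule F V) : Subgroup Φ.Isom where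
  carrier := {g | ∀ x ∈ H, g.1 x = x}
  mul_mem' {a b} ha hb := fun x hx => by rw [Isom.mul_apply, hb x hx, ha x hx]
  one_mem' := fun _ _ => rfl
  inv_mem' {a} ha := fun x hx => by rw [Isom.inv_apply_eq, ha x hx]

theorem mem_fixer {H : Submodule F V} {g : Φ.Isom} : g ∈ Φ.fixer H ↔ ∀ x ∈ H, g.1 x = x := Iff.rfl

theorem fixer_bot : Φ.fixer ⊥ = ⊤ := by
  rw [eq_top_iff]
  intro g _ x hx
  rw [Submodule.mem_bot] at hx; subst hx; simp

theorem fixer_top : Φ.fixer ⊤ = ⊥ := by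
  rw [eq_bot_iff]
  intro g hg
  exact Isom.ext fun x => hg x trivial

theorem mem_fixer_span {s : Set V} {g : Φ.Isom} :
    g ∈ Φ.fixer (Submodule.span F s) ↔ ∀ x ∈ s, g.1 x = x := by
  constructor
  · intro h x hx
    exact h x (Submodule.subset_span hx)
  · intro h x hx
    induction hx using Submodule.span_induction with
    | mem x hx => exact h x hx
    | zero => simp
    | add x y _ _ h1 h2 => rw [map_add, h1, h2]
    | smul a x _ h1 => rw [map_smul, h1]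

theorem fixer_sup (H H' : Submodule F V) : Φ.fixer (H ⊔ H') = Φ.fixer H ⊓ Φ.fixer H' := by
  ext g
  constructor
  · intro h
    exact ⟨fun x hx => h x (Submodule.mem_sup_left hx), fun x hx => h x (Submodule.mem_sup_right hx)⟩
  · rintro ⟨h1, h2⟩ x hx
    obtain ⟨a, ha, b, hb, rfl⟩ := Submodule.mem_sup.1 hx
    rw [map_add, h1 a ha, h2 b hb]

/-- **Counting lemma**: orbit-stabiliser along a chain of subspaces. -/
theorem Nondeg.card_fixer [FiniteDimensional F V] {Φ : Form σ V} (h : Φ.Nondeg)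
    (H : Submodule F V) {u : V} (hu : u ∉ H) :
    Nat.card (Φ.fixer H) = Nat.card (Φ.fixer (H ⊔ Submodule.span F {u})) *
      Nat.card {u' : V // u' ∉ H ∧ (∀ x ∈ H, Φ.B x u' = Φ.B x u) ∧ Φ.B u' u' = Φ.B u u ∧
        Φ.Q u' = Φ.Q u} := by
  have hsmul : ∀ (g : Φ.fixer H) (v : V), g • v = g.1.1 v := fun _ _ => rfl
  have h1 := Subgroup.card_mul_index (MulAction.stabilizer (Φ.fixer H) u)
  rw [MulAction.index_stabilizer] at h1
  have h2 : MulAction.orbit (Φ.fixer H) u = {u' : V | u' ∉ H ∧ (∀ x ∈ H, Φ.B x u' = Φ.B x u) ∧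
      Φ.B u' u' = Φ.B u u ∧ Φ.Q u' = Φ.Q u} := by
    ext u'
    constructor
    · rintro ⟨g, rfl⟩
      simp only [hsmul]
      refine ⟨fun hmem => hu ?_, fun x hx => ?_, Isom.map_B _ _ _, Isom.map_Q _ _⟩
      · have := g.2 _ hmem
        rw [g.1.1.injective this] at hmem
        exact hmem
      · conv_lhs => rw [← g.2 x hx]
        exact Isom.map_B _ _ _
    · rintro ⟨h1, h2, h3, h4⟩
      obtain ⟨g, hg1, hg2⟩ := h.key H hu h1 h2 h3 h4
      exact ⟨⟨g, hg1⟩, hg2⟩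
  have h3 : Nat.card (MulAction.stabilizer (Φ.fixer H) u) =
      Nat.card (Φ.fixer (H ⊔ Submodule.span F {u})) := by
    have hle : Φ.fixer (H ⊔ Submodule.span F {u}) ≤ Φ.fixer H := by
      rw [fixer_sup]; exact inf_le_left
    rw [← Nat.card_congr (Subgroup.subgroupOfEquivOfLe hle).toEquiv]
    congr 2
    ext g
    rw [MulAction.mem_stabilizer_iff, Subgroup.mem_subgroupOf, fixer_sup, Subgroup.mem_inf,
      mem_fixer_span, hsmul]
    simp
  rw [← h1, h2, h3, ← Nat.card_coe_set_eq]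
  rfl

end Form

/-! ### The three kinds of form -/

section Kinds

variable {F : Type*} [Field F] {V : Type*} [AddCommGroup V] [Module F V]

/-- An alternating form. -/
def ofAlt (B : LinearMap.BilinForm F V) (hA : B.IsAlt) : Form (RingHom.id F) V where
  B := B
  Q := fun _ => 0
  ε := -1
  τ := 0
  invol _ := rfl
  eps := by simp
  symm x y := by simp [hA.neg_eq]
  Q_add _ _ := by simp
  Q_smul _ _ := by simp
  adj p x y _ _ _ := ⟨0, by rw [hA.self_eq_zero, hA.self_eq_zero], rfl⟩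

@[simp] theorem ofAlt_B (B : LinearMap.BilinForm F V) (hA : B.IsAlt) : (ofAlt B hA).B = B := rfl
@[simp] theorem ofAlt_Q (B : LinearMap.BilinForm F V) (hA : B.IsAlt) (x : V) :
    (ofAlt B hA).Q x = 0 := rfl
@[simp] theorem ofAlt_eps (B : LinearMap.BilinForm F V) (hA : B.IsAlt) :
    (ofAlt B hA).ε = -1 := rfl
@[simp] theorem ofAlt_tau (B : LinearMap.BilinForm F V) (hA : B.IsAlt) :
    (ofAlt B hA).τ = 0 := rfl

/-- A quadratic form with its polar form. -/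
def ofQuad (Q : QuadraticForm F V) : Form (RingHom.id F) V where
  B := QuadraticMap.polarBilin Q
  Q := Q
  ε := 1
  τ := 1
  invol _ := rfl
  eps := by simp
  symm x y := by simp [QuadraticMap.polar_comm]
  Q_add x y := by simp [QuadraticMap.polar]
  Q_smul c x := by rw [QuadraticMap.map_smul, smul_eq_mul]; ring
  adj p x y h1 _ h3 := by
    simp only [QuadraticMap.polarBilin_apply_apply] at h3 ⊢
    have key : Q (x + ((Q y - Q x) / QuadraticMap.polar Q p x) • p) = Q y := by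
      rw [QuadraticMap.map_add Q, QuadraticMap.map_smul, h1, QuadraticMap.polar_smul_right,
        QuadraticMap.polar_comm Q x p]
      simp only [smul_eq_mul]
      field_simp
      ring
    exact ⟨_, by rw [QuadraticMap.polar_self, QuadraticMap.polar_self, key], key⟩

@[simp] theorem ofQuad_B (Q : QuadraticForm F V) (x y : V) :
    (ofQuad Q).B x y = QuadraticMap.polar Q x y := rfl
@[simp] theorem ofQuad_Q (Q : QuadraticForm F V) (x : V) : (ofQuad Q).Q x = Q x := rfl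
@[simp] theorem ofQuad_eps (Q : QuadraticForm F V) : (ofQuad Q).ε = 1 := rfl
@[simp] theorem ofQuad_tau (Q : QuadraticForm F V) : (ofQuad Q).τ = 1 := rfl

theorem mem_Isom_ofQuad (Q : QuadraticForm F V) (g : V ≃ₗ[F] V) :
    g ∈ (ofQuad Q).Isom ↔ ∀ x, Q (g x) = Q x := by
  refine ⟨fun h => h.2, fun h => ⟨fun x y => ?_, h⟩⟩
  simp only [ofQuad_B, QuadraticMap.polar, ← map_add, h]

theorem ofQuad_nondeg {Q : QuadraticForm F V} (h : (QuadraticMap.polarBilin Q).Nondegenerate) :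
    (ofQuad Q).Nondeg := h.1

theorem exists_trace_eq_one (σ : F →+* F) (hσ : σ ≠ RingHom.id F) (hσ2 : ∀ a, σ (σ a) = a) :
    ∃ θ : F, θ + σ θ = 1 := by
  have : ∃ θ : F, θ + σ θ ≠ 0 := by
    by_contra hcon
    push Not at hcon
    apply hσ
    ext a
    have h1 := hcon 1
    have h2 := hcon a
    rw [map_one] at h1
    rw [RingHom.id_apply]
    linear_combination h2 - a * h1
  obtain ⟨θ, hθ⟩ := this
  refine ⟨θ / (θ + σ θ), ?_⟩
  rw [map_div₀, map_add, hσ2, add_comm (σ θ) θ]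
  field_simp

/-- A Hermitian form. -/
def ofHerm (σ : F →+* F) (hσ : σ ≠ RingHom.id F) (hσ2 : ∀ a, σ (σ a) = a)
    (B : V →ₛₗ[σ] V →ₗ[F] F) (hS : B.IsSymm) : Form σ V where
  B := B
  Q := fun _ => 0
  ε := 1
  τ := 0
  invol := hσ2
  eps := by simp
  symm x y := by rw [one_mul, hS.eq]
  Q_add _ _ := by simp
  Q_smul _ _ := by simp
  adj p x y _ h2 h3 := by
    obtain ⟨θ, hθ⟩ := exists_trace_eq_one σ hσ hσ2
    have hxp : B x p ≠ 0 := fun h0 => h3 (by rw [← hS.eq, h0, map_zero])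
    refine ⟨θ * (B y y - B x x) / B x p, ?_, rfl⟩
    have e1 : σ (B y y) = B y y := hS.eq _ _
    have e2 : σ (B x x) = B x x := hS.eq _ _
    have e3 : σ (B x p) = B p x := hS.eq _ _
    simp only [map_add, LinearMap.map_smulₛₗ, LinearMap.add_apply, LinearMap.smul_apply,
      smul_eq_mul, RingHom.id_apply, h2, map_div₀, map_mul, map_sub, e1, e2, e3]
    rw [mul_zero, add_zero, div_mul_cancel₀ _ hxp, div_mul_cancel₀ _ h3]
    linear_combination (B y y - B x x) * hθ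

@[simp] theorem ofHerm_B (σ : F →+* F) (hσ : σ ≠ RingHom.id F) (hσ2 : ∀ a, σ (σ a) = a)
    (B : V →ₛₗ[σ] V →ₗ[F] F) (hS : B.IsSymm) : (ofHerm σ hσ hσ2 B hS).B = B := rfl
@[simp] theorem ofHerm_Q (σ : F →+* F) (hσ : σ ≠ RingHom.id F) (hσ2 : ∀ a, σ (σ a) = a)
    (B : V →ₛₗ[σ] V →ₗ[F] F) (hS : B.IsSymm) (x : V) : (ofHerm σ hσ hσ2 B hS).Q x = 0 := rfl
@[simp] theorem ofHerm_eps (σ : F →+* F) (hσ : σ ≠ RingHom.id F) (hσ2 : ∀ a, σ (σ a) = a)
    (B : V →ₛₗ[σ] V →ₗ[F] F) (hS : B.IsSymm) : (ofHerm σ hσ hσ2 B hS).ε = 1 := rfl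
@[simp] theorem ofHerm_tau (σ : F →+* F) (hσ : σ ≠ RingHom.id F) (hσ2 : ∀ a, σ (σ a) = a)
    (B : V →ₛₗ[σ] V →ₗ[F] F) (hS : B.IsSymm) : (ofHerm σ hσ hσ2 B hS).τ = 0 := rfl

variable [FiniteDimensional F V]

theorem witt_alt (B : LinearMap.BilinForm F V) (hB : B.Nondegenerate) (hA : B.IsAlt)
    (X Y : Submodule F V) (φ : X ≃ₗ[F] Y)
    (hφ : ∀ x x' : X, B (φ x : V) (φ x' : V) = B (x : V) (x' : V)) :
    ∃ g : V ≃ₗ[F] V, (∀ u v : V, B (g u) (g v) = B u v) ∧ ∀ x : X, g (x : V) = (φ x : V) := by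
  obtain ⟨g, hg⟩ := Form.Nondeg.witt' (Φ := ofAlt B hA) hB.1 X (Y.subtype ∘ₗ φ.toLinearMap)
    (Subtype.val_injective.comp φ.injective) hφ (fun _ => rfl)
  exact ⟨g.1, g.2.1, hg⟩

theorem witt_quad (Q : QuadraticForm F V) (hQ : (QuadraticMap.polarBilin Q).Nondegenerate)
    (X Y : Submodule F V) (φ : X ≃ₗ[F] Y) (hφ : ∀ x : X, Q (φ x : V) = Q (x : V)) :
    ∃ g : V ≃ₗ[F] V, (∀ v : V, Q (g v) = Q v) ∧ ∀ x : X, g (x : V) = (φ x : V) := by
  obtain ⟨g, hg⟩ := Form.Nondeg.witt' (Φ := ofQuad Q) hQ.1 X (Y.subtype ∘ₗ φ.toLinearMap)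
    (Subtype.val_injective.comp φ.injective) (fun x y => by
      have h := hφ (x + y)
      rw [map_add] at h
      simp only [ofQuad_B, QuadraticMap.polar]
      change Q ((φ x : V) + (φ y : V)) - Q (φ x : V) - Q (φ y : V) = _
      rw [hφ, hφ]
      exact congrArg (fun t => t - Q x - Q y) h) hφ
  exact ⟨g.1, g.2.2, hg⟩

theorem witt_herm (σ : F →+* F) (hσ : σ ≠ RingHom.id F) (hσ2 : ∀ a : F, σ (σ a) = a)
    (B : V →ₛₗ[σ] V →ₗ[F] F) (hS : B.IsSymm) (hB : B.Nondegenerate) (X Y : Submodule F V)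
    (φ : X ≃ₗ[F] Y) (hφ : ∀ x x' : X, B (φ x : V) (φ x' : V) = B (x : V) (x' : V)) :
    ∃ g : V ≃ₗ[F] V, (∀ u v : V, B (g u) (g v) = B u v) ∧ ∀ x : X, g (x : V) = (φ x : V) := by
  obtain ⟨g, hg⟩ := Form.Nondeg.witt' (Φ := ofHerm σ hσ hσ2 B hS) hB.1 X
    (Y.subtype ∘ₗ φ.toLinearMap) (Subtype.val_injective.comp φ.injective) hφ (fun _ => rfl)
  exact ⟨g.1, g.2.1, hg⟩

end Kinds

end H15
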