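import Mathlib
import Cfsg.Prelude.Def_ClassicalGeometry
import Cfsg.Prelude.Def_LieClassical
import Cfsg.Agent.H15.Witt
import Cfsg.Agent.H15.Finite

/-!
# The matrix groups of the Prelude as isometry groups of `H15.Form`s
-/

set_option autoImplicit false
set_option linter.unusedSectionVars false

namespace H15

open Module Matrix

/-! ### Transport of isometry groups, special isometries, stabilisers -/

namespace Form

variable {F : Type*} [Field F] {σ : F →+* F} {V : Type*} [AddCommGroup V] [Module F V]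
variable {W : Type*} [AddCommGroup W] [Module F W]

/-- An isometry between two spaces induces an isomorphism of the isometry groups. -/
def isomCongr (Φ : Form σ V) (Ψ : Form σ W) (e : V ≃ₗ[F] W)
    (hB : ∀ x y, Ψ.B (e x) (e y) = Φ.B x y) (hQ : ∀ x, Ψ.Q (e x) = Φ.Q x) : Φ.Isom ≃* Ψ.Isom where
  toFun g := ⟨e.symm ≪≫ₗ g.1 ≪≫ₗ e, fun x y => by
      simp only [LinearEquiv.trans_apply]
      rw [hB, Isom.map_B, ← hB, e.apply_symm_apply, e.apply_symm_apply],
    fun x => by
      simp only [LinearEquiv.trans_apply]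
      rw [hQ, Isom.map_Q, ← hQ, e.apply_symm_apply]⟩
  invFun g := ⟨e ≪≫ₗ g.1 ≪≫ₗ e.symm, fun x y => by
      simp only [LinearEquiv.trans_apply]
      rw [← hB, e.apply_symm_apply, e.apply_symm_apply, Isom.map_B, hB],
    fun x => by
      simp only [LinearEquiv.trans_apply]
      rw [← hQ, e.apply_symm_apply, Isom.map_Q, hQ]⟩
  left_inv g := Isom.ext fun x => by simp
  right_inv g := Isom.ext fun x => by simp
  map_mul' g h := Isom.ext fun x => by simp

theorem isomCongr_apply (Φ : Form σ V) (Ψ : Form σ W) (e : V ≃ₗ[F] W)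
    (hB : ∀ x y, Ψ.B (e x) (e y) = Φ.B x y) (hQ : ∀ x, Ψ.Q (e x) = Φ.Q x) (g : Φ.Isom) (x : W) :
    (isomCongr Φ Ψ e hB hQ g).1 x = e (g.1 (e.symm x)) := rfl

theorem Nondeg.congr {Φ : Form σ V} {Ψ : Form σ W} (h : Φ.Nondeg) (e : V ≃ₗ[F] W)
    (hB : ∀ x y, Ψ.B (e x) (e y) = Φ.B x y) : Ψ.Nondeg := by
  intro x hx
  obtain ⟨x, rfl⟩ := e.surjective x
  rw [h x fun y => by rw [← hB, hx], map_zero]

variable (Φ : Form σ V)

/-- The determinant on the isometry group. -/
noncomputable def det : Φ.Isom →* Fˣ := LinearEquiv.det.comp Φ.Isom.subtype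

theorem coe_det (g : Φ.Isom) : (Φ.det g : F) = LinearMap.det (g.1 : V →ₗ[F] V) :=
  LinearEquiv.coe_det _

theorem det_isomCongr (Ψ : Form σ W) (e : V ≃ₗ[F] W)
    (hB : ∀ x y, Ψ.B (e x) (e y) = Φ.B x y) (hQ : ∀ x, Ψ.Q (e x) = Φ.Q x) (g : Φ.Isom) :
    Ψ.det (isomCongr Φ Ψ e hB hQ g) = Φ.det g := by
  apply Units.ext
  rw [coe_det, coe_det, ← LinearMap.det_conj (g.1 : V →ₗ[F] V) e]
  rfl

theorem det_dilIsom [FiniteDimensional F V] (h : Φ.Nondeg) (p : V) (c : F) (hc : Φ.DilOK p c) :
    (Φ.det (Φ.dilIsom h p c hc) : F) = 1 + c * Φ.B p p := by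
  rw [coe_det, ← Φ.dil_det]
  rfl

/-- The determinant of an isometry has norm one. -/
theorem det_mul_sigma_det [FiniteDimensional F V] (h : Φ.Nondeg) (g : Φ.Isom) :
    (Φ.det g : F) * σ (Φ.det g) = 1 := by
  classical
  let b := Module.finBasis F V
  let G : Matrix _ _ F := Matrix.of fun i j => Φ.B (b i) (b j)
  let M := LinearMap.toMatrix b b (g.1 : V →ₗ[F] V)
  have hM : ∀ j, g.1 (b j) = ∑ i, M i j • b i := fun j => by
    simp only [M, LinearMap.toMatrix_apply]
    exact (b.sum_repr _).symm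
  have h1 : (M.map σ)ᵀ * G * M = G := by
    ext i j
    have := Isom.map_B g (b i) (b j)
    rw [hM, hM] at this
    simp only [map_sum, LinearMap.map_smulₛₗ, LinearMap.coe_sum, Finset.sum_apply,
      LinearMap.smul_apply, smul_eq_mul, RingHom.id_apply] at this
    simp only [Matrix.mul_apply, Matrix.transpose_apply, Matrix.map_apply, G, Matrix.of_apply]
    rw [← this]
    exact Finset.sum_congr rfl fun k _ => mul_comm _ _
  have hG : G.det ≠ 0 := by
    intro h0
    obtain ⟨v, hv, hGv⟩ := Matrix.exists_mulVec_eq_zero_iff.2 h0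
    apply hv
    have : ∑ j, v j • b j = 0 := by
      apply h.right
      intro x
      rw [← b.sum_repr x]
      simp only [map_sum, LinearMap.map_smulₛₗ, LinearMap.coe_sum, Finset.sum_apply,
        LinearMap.smul_apply, smul_eq_mul, RingHom.id_apply]
      simp only [Finset.mul_sum]
      rw [Finset.sum_comm]
      refine Finset.sum_eq_zero fun i _ => ?_
      have := congrFun hGv i
      simp only [Matrix.mulVec, dotProduct, G, Matrix.of_apply, Pi.zero_apply] at this
      calc ∑ j, v j * (σ (b.repr x i) * Φ.B (b i) (b j))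
          = σ (b.repr x i) * ∑ j, Φ.B (b i) (b j) * v j := by
            rw [Finset.mul_sum]; exact Finset.sum_congr rfl fun j _ => by ring
        _ = 0 := by rw [this, mul_zero]
    funext j
    exact Fintype.linearIndependent_iff.1 b.linearIndependent v this j
  have h2 := congrArg Matrix.det h1
  rw [Matrix.det_mul, Matrix.det_mul, Matrix.det_transpose] at h2
  have h3 : (M.map σ).det = σ M.det := (RingHom.map_det σ M).symm
  have h4 : (Φ.det g : F) = M.det := by rw [coe_det, LinearMap.det_toMatrix]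
  rw [h4]
  apply mul_right_cancel₀ hG
  rw [h3] at h2
  linear_combination h2

/-- The setwise stabiliser of a subspace in the isometry group. -/
def stab (U : Submodule F V) : Subgroup Φ.Isom where
  carrier := {g | ∀ x, x ∈ U ↔ g.1 x ∈ U}
  mul_mem' {a b} ha hb := fun x => (hb x).trans (ha _)
  one_mem' := fun _ => Iff.rfl
  inv_mem' {a} ha := fun x => by rw [ha ((a⁻¹).1 x), Isom.apply_inv_apply]

theorem mem_stab {U : Submodule F V} {g : Φ.Isom} : g ∈ Φ.stab U ↔ ∀ x, x ∈ U ↔ g.1 x ∈ U :=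
  Iff.rfl

theorem mem_stab_of_mapsTo [FiniteDimensional F V] {U : Submodule F V} {g : Φ.Isom}
    (hg : ∀ x ∈ U, g.1 x ∈ U) : g ∈ Φ.stab U := by
  have h1 : U.map (g.1 : V →ₗ[F] V) = U := by
    apply Submodule.eq_of_le_of_finrank_eq
    · rintro _ ⟨x, hx, rfl⟩; exact hg x hx
    · exact LinearEquiv.finrank_map_eq _ _
  intro x
  refine ⟨hg x, fun hx => ?_⟩
  rw [← h1] at hx
  obtain ⟨y, hy, hxy⟩ := hx
  rwa [← g.1.injective hxy]

theorem stab_le_stab_perp (U : Submodule F V) : Φ.stab U ≤ Φ.stab (Φ.perp U) := by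
  intro g hg x
  constructor
  · intro hx y hy
    rw [Isom.B_right]
    exact hx _ (((Φ.stab U).inv_mem hg y).1 hy)
  · intro hx y hy
    rw [← Isom.map_B g]
    exact hx _ ((hg y).1 hy)

theorem fixer_le_stab (U : Submodule F V) : Φ.fixer U ≤ Φ.stab U := by
  intro g hg x
  constructor
  · intro hx; rwa [hg x hx]
  · intro hx
    have := hg _ hx
    rwa [g.1.injective this] at hx

/-- Restriction of an element of the stabiliser of `U` to `U`, as a linear automorphism. -/
def stabRes (U : Submodule F V) : Φ.stab U →* (U ≃ₗ[F] U) where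
  toFun g :=
    { toFun := fun x => ⟨g.1.1 x, (g.2 x).1 x.2⟩
      invFun := fun x => ⟨(g⁻¹).1.1 x, ((g⁻¹).2 x).1 x.2⟩
      map_add' := fun x y => by ext; simp
      map_smul' := fun c x => by ext; simp
      left_inv := fun x => by ext; simp
      right_inv := fun x => by ext; simp }
  map_one' := by ext; rfl
  map_mul' g h := by ext; rfl

theorem stabRes_apply (U : Submodule F V) (g : Φ.stab U) (x : U) :
    (Φ.stabRes U g x : V) = g.1.1 x := rfl

theorem ker_stabRes (U : Submodule F V) :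
    (Φ.stabRes U).ker = (Φ.fixer U).subgroupOf (Φ.stab U) := by
  ext g
  rw [MonoidHom.mem_ker, Subgroup.mem_subgroupOf, mem_fixer]
  constructor
  · intro h x hx
    have := Φ.stabRes_apply U g ⟨x, hx⟩
    rw [h] at this
    exact this.symm
  · intro h
    ext x
    exact h x x.2

/-- Restriction of an element of the stabiliser of `U` to `U`, as an isometry. -/
def stabResIsom (U : Submodule F V) : Φ.stab U →* (Φ.restrict U).Isom :=
  (Φ.stabRes U).codRestrict _ fun g => ⟨fun x y => Isom.map_B g.1 x y, fun x => Isom.map_Q g.1 x⟩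

theorem stabResIsom_apply (U : Submodule F V) (g : Φ.stab U) (x : U) :
    ((Φ.stabResIsom U g).1 x : V) = g.1.1 x := rfl

theorem stabResIsom_surjective [FiniteDimensional F V] (h : Φ.Nondeg) (U : Submodule F V) :
    Function.Surjective (Φ.stabResIsom U) := by
  intro k
  obtain ⟨g, hg⟩ := h.witt' U (U.subtype ∘ₗ (k.1 : U →ₗ[F] U))
    (Subtype.val_injective.comp k.1.injective) (fun x y => Isom.map_B k x y)
    (fun x => Isom.map_Q k x)
  refine ⟨⟨g, Φ.mem_stab_of_mapsTo fun x hx => ?_⟩, Isom.ext fun x => Subtype.ext (hg x)⟩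
  rw [hg ⟨x, hx⟩]
  exact (k.1 ⟨x, hx⟩).2

/-- `|Stab(U)| = |Fix(U)| · |Isom(U)|`. -/
theorem card_stab [FiniteDimensional F V] (h : Φ.Nondeg) (U : Submodule F V) :
    Nat.card (Φ.stab U) = Nat.card (Φ.fixer U) * Nat.card (Φ.restrict U).Isom := by
  have h1 := Subgroup.card_mul_index (Φ.stabResIsom U).ker
  have h2 : (Φ.stabResIsom U).ker = (Φ.stabRes U).ker := MonoidHom.ker_codRestrict _ _ _
  rw [Subgroup.index_ker, MonoidHom.range_eq_top.2 (Φ.stabResIsom_surjective h U),
    Subgroup.card_top, h2, ker_stabRes,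
    Nat.card_congr (Subgroup.subgroupOfEquivOfLe (Φ.fixer_le_stab U)).toEquiv] at h1
  exact h1.symm

/-- On a totally singular subspace every linear automorphism is an isometry. -/
theorem restrict_Isom_eq_top (U : Submodule F V) (hB : ∀ x ∈ U, ∀ y ∈ U, Φ.B x y = 0)
    (hQ : ∀ x ∈ U, Φ.Q x = 0) : (Φ.restrict U).Isom = ⊤ := by
  rw [eq_top_iff]
  intro g _
  exact ⟨fun x y => (hB _ (g x).2 _ (g y).2).trans (hB _ x.2 _ y.2).symm,
    fun x => (hQ _ (g x).2).trans (hQ _ x.2).symm⟩

/-! ### Non-degenerate subspaces -/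

theorem restrict_nondeg_iff (U : Submodule F V) :
    (Φ.restrict U).Nondeg ↔ Disjoint U (Φ.perp U) := by
  rw [Submodule.disjoint_def]
  constructor
  · intro h x hx hx'
    have := h ⟨x, hx⟩ fun y => Φ.mem_perp'.1 hx' y y.2
    exact congrArg Subtype.val this
  · intro h x hx
    exact Subtype.ext (h x x.2 (Φ.mem_perp'.2 fun y hy => hx ⟨y, hy⟩))

variable {Φ} in
theorem Nondeg.isCompl_perp [FiniteDimensional F V] (h : Φ.Nondeg) {U : Submodule F V}
    (hU : Disjoint U (Φ.perp U)) : IsCompl U (Φ.perp U) := by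
  refine ⟨hU, codisjoint_iff.2 ?_⟩
  apply Submodule.eq_top_of_finrank_eq
  have h1 := Submodule.finrank_sup_add_finrank_inf_eq U (Φ.perp U)
  rw [hU.eq_bot, finrank_bot, h.finrank_perp] at h1
  exact h1

variable {Φ} in
theorem Nondeg.disjoint_perp_perp [FiniteDimensional F V] (h : Φ.Nondeg) {U : Submodule F V}
    (hU : Disjoint U (Φ.perp U)) : Disjoint (Φ.perp U) (Φ.perp (Φ.perp U)) := by
  rw [h.perp_perp]; exact hU.symm

variable {Φ} in
theorem Nondeg.restrict_perp [FiniteDimensional F V] (h : Φ.Nondeg) {U : Submodule F V}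
    (hU : Disjoint U (Φ.perp U)) : (Φ.restrict (Φ.perp U)).Nondeg :=
  (Φ.restrict_nondeg_iff _).2 (h.disjoint_perp_perp hU)

variable {Φ} in
/-- An isometry of `U` extends by the identity on `U^⊥`, for a non-degenerate subspace `U`. -/
theorem Nondeg.exists_extend [FiniteDimensional F V] (h : Φ.Nondeg) {U : Submodule F V}
    (hU : Disjoint U (Φ.perp U)) (k : (Φ.restrict U).Isom)
    (l : (Φ.restrict (Φ.perp U)).Isom) :
    ∃ g : Φ.Isom, (∀ x : U, g.1 x = k.1 x) ∧ ∀ y : Φ.perp U, g.1 y = l.1 y := by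
  have hc := h.isCompl_perp hU
  let f : V →ₗ[F] V := LinearMap.ofIsCompl hc (U.subtype ∘ₗ (k.1 : U →ₗ[F] U))
    ((Φ.perp U).subtype ∘ₗ (l.1 : Φ.perp U →ₗ[F] Φ.perp U))
  have hf1 : ∀ x : U, f x = k.1 x := fun x => LinearMap.ofIsCompl_apply_left hc x
  have hf2 : ∀ y : Φ.perp U, f y = l.1 y := fun y => LinearMap.ofIsCompl_apply_right hc y
  have hdec : ∀ v : V, ∃ (x : U) (y : Φ.perp U), v = x + y := fun v => by
    obtain ⟨a, ha, b, hb, rfl⟩ := Submodule.mem_sup.1
      (show v ∈ U ⊔ Φ.perp U by rw [hc.sup_eq_top]; trivial)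
    exact ⟨⟨a, ha⟩, ⟨b, hb⟩, rfl⟩
  have ho : ∀ (x : U) (y : Φ.perp U), Φ.B x y = 0 := fun x y => y.2 x x.2
  have ho' : ∀ (x : U) (y : Φ.perp U), Φ.B y x = 0 := fun x y => Φ.B_eq_zero_comm.1 (ho x y)
  refine ⟨Φ.mkIsom h f (fun v w => ?_) (fun v => ?_), hf1, hf2⟩
  · obtain ⟨x, y, rfl⟩ := hdec v
    obtain ⟨x', y', rfl⟩ := hdec w
    have e1 : Φ.B (k.1 x) (k.1 x') = Φ.B x x' := Isom.map_B k x x'
    have e2 : Φ.B (l.1 y) (l.1 y') = Φ.B y y' := Isom.map_B l y y'
    simp only [map_add, hf1, hf2, LinearMap.add_apply, ho, ho', e1, e2]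
  · obtain ⟨x, y, rfl⟩ := hdec v
    have e1 : Φ.Q (k.1 x) = Φ.Q x := Isom.map_Q k x
    have e2 : Φ.Q (l.1 y) = Φ.Q y := Isom.map_Q l y
    rw [map_add, hf1, hf2, Φ.Q_add, Φ.Q_add, ho, ho, e1, e2]

variable {Φ} in
/-- The stabiliser of a non-degenerate subspace `U` is `Isom(U) × Isom(U^⊥)`. -/
noncomputable def Nondeg.stabEquivProd [FiniteDimensional F V] (h : Φ.Nondeg) {U : Submodule F V}
    (hU : Disjoint U (Φ.perp U)) :
    Φ.stab U ≃* (Φ.restrict U).Isom × (Φ.restrict (Φ.perp U)).Isom :=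
  MulEquiv.ofBijective ((Φ.stabResIsom U).prod
    ((Φ.stabResIsom (Φ.perp U)).comp (Subgroup.inclusion (Φ.stab_le_stab_perp U)))) (by
      constructor
      · rw [injective_iff_map_eq_one]
        intro g hg
        have h1 := congrArg Prod.fst hg
        have h2 := congrArg Prod.snd hg
        refine Subtype.ext (Isom.ext fun v => ?_)
        obtain ⟨a, ha, b, hb, rfl⟩ := Submodule.mem_sup.1
          (show v ∈ U ⊔ Φ.perp U by rw [(h.isCompl_perp hU).sup_eq_top]; trivial)
        have e1 : g.1.1 a = a := congrArg (fun k : (Φ.restrict U).Isom => (k.1 ⟨a, ha⟩ : V)) h1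
        have e2 : g.1.1 b = b :=
          congrArg (fun k : (Φ.restrict (Φ.perp U)).Isom => (k.1 ⟨b, hb⟩ : V)) h2
        rw [map_add, e1, e2]; rfl
      · rintro ⟨k, l⟩
        obtain ⟨g, hg1, hg2⟩ := h.exists_extend hU k l
        refine ⟨⟨g, Φ.mem_stab_of_mapsTo fun x hx => ?_⟩, Prod.ext ?_ ?_⟩
        · rw [hg1 ⟨x, hx⟩]; exact (k.1 ⟨x, hx⟩).2
        · exact Isom.ext fun x => Subtype.ext (hg1 x)
        · exact Isom.ext fun x => Subtype.ext (hg2 x))

variable {Φ} in
/-- The pointwise stabiliser of a non-degenerate subspace `U` is `Isom(U^⊥)`. -/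
noncomputable def Nondeg.fixerEquiv [FiniteDimensional F V] (h : Φ.Nondeg) {U : Submodule F V}
    (hU : Disjoint U (Φ.perp U)) : Φ.fixer U ≃* (Φ.restrict (Φ.perp U)).Isom :=
  MulEquiv.ofBijective ((Φ.stabResIsom (Φ.perp U)).comp
    (Subgroup.inclusion ((Φ.fixer_le_stab U).trans (Φ.stab_le_stab_perp U)))) (by
      constructor
      · rw [injective_iff_map_eq_one]
        intro g hg
        refine Subtype.ext (Isom.ext fun v => ?_)
        obtain ⟨a, ha, b, hb, rfl⟩ := Submodule.mem_sup.1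
          (show v ∈ U ⊔ Φ.perp U by rw [(h.isCompl_perp hU).sup_eq_top]; trivial)
        have e2 : g.1.1 b = b :=
          congrArg (fun k : (Φ.restrict (Φ.perp U)).Isom => (k.1 ⟨b, hb⟩ : V)) hg
        rw [map_add, g.2 a ha, e2]; rfl
      · intro l
        obtain ⟨g, hg1, hg2⟩ := h.exists_extend hU 1 l
        exact ⟨⟨g, fun x hx => hg1 ⟨x, hx⟩⟩, Isom.ext fun x => Subtype.ext (hg2 x)⟩)

theorem fixerEquiv_apply [FiniteDimensional F V] (h : Φ.Nondeg) {U : Submodule F V}
    (hU : Disjoint U (Φ.perp U)) (g : Φ.fixer U) (x : Φ.perp U) :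
    ((h.fixerEquiv hU g).1 x : V) = g.1.1 x := rfl

end Form

/-! ### `GL` as linear automorphisms -/

section GenLin

variable (ι : Type*) [Fintype ι] [DecidableEq ι] (F : Type*) [Field F]

/-- `GL ι F` acting on column vectors. -/
def glEquiv : GL ι F ≃* ((ι → F) ≃ₗ[F] (ι → F)) :=
  Matrix.GeneralLinearGroup.toLin.trans (LinearMap.GeneralLinearGroup.generalLinearEquiv F _)

variable {ι F}

@[simp] theorem glEquiv_apply (g : GL ι F) (v : ι → F) :
    glEquiv ι F g v = (g : Matrix ι ι F) *ᵥ v := rfl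

theorem glEquiv_symm_mulVec (f : (ι → F) ≃ₗ[F] (ι → F)) (v : ι → F) :
    (((glEquiv ι F).symm f : GL ι F) : Matrix ι ι F) *ᵥ v = f v := by
  rw [← glEquiv_apply, MulEquiv.apply_symm_apply]

theorem det_glEquiv (g : GL ι F) :
    LinearEquiv.det (glEquiv ι F g) = Matrix.GeneralLinearGroup.det g := by
  apply Units.ext
  rw [LinearEquiv.coe_det, Matrix.GeneralLinearGroup.val_det_apply, ← LinearMap.det_toLin']
  rfl

theorem matrix_ext_mulVec {A B : Matrix ι ι F} (h : ∀ v, A *ᵥ v = B *ᵥ v) : A = B :=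
  Matrix.toLin'.injective (LinearMap.ext h)

theorem card_linearEquiv [Fintype F] {V : Type*} [AddCommGroup V] [Module F V]
    [FiniteDimensional F V] {k : ℕ} (hk : finrank F V = k) :
    Nat.card (V ≃ₗ[F] V) = ∏ i : Fin k, (Fintype.card F ^ k - Fintype.card F ^ (i : ℕ)) := by
  subst hk
  rw [← Matrix.card_GL_field]
  exact Nat.card_congr ((LinearMap.GeneralLinearGroup.generalLinearEquiv F V).symm.trans
    (Matrix.GeneralLinearGroup.toLin' (Module.finBasis F V)).symm).toEquiv

end GenLin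

section Generic

variable {ι : Type} [Fintype ι] [DecidableEq ι] {F : Type*} [Field F] {σ : F →+* F}

/-- A subgroup of `GL` described by a form is isomorphic to the isometry group of the form. -/
def subEquiv (Φ : Form σ (ι → F)) (S : Subgroup (GL ι F))
    (hS : ∀ g, g ∈ S ↔ glEquiv ι F g ∈ Φ.Isom) : S ≃* Φ.Isom where
  toFun g := ⟨glEquiv ι F g, (hS g).1 g.2⟩
  invFun g := ⟨(glEquiv ι F).symm g.1, (hS _).2 (by rw [MulEquiv.apply_symm_apply]; exact g.2)⟩
  left_inv g := Subtype.ext (by simp)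
  right_inv g := Subtype.ext (by simp)
  map_mul' g h := Subtype.ext (by simp)

theorem subEquiv_apply (Φ : Form σ (ι → F)) (S : Subgroup (GL ι F))
    (hS : ∀ g, g ∈ S ↔ glEquiv ι F g ∈ Φ.Isom) (g : S) (v : ι → F) :
    (subEquiv Φ S hS g).1 v = ((g : GL ι F) : Matrix ι ι F) *ᵥ v := rfl

theorem det_subEquiv (Φ : Form σ (ι → F)) (S : Subgroup (GL ι F))
    (hS : ∀ g, g ∈ S ↔ glEquiv ι F g ∈ Φ.Isom) (g : S) :
    Φ.det (subEquiv Φ S hS g) = Matrix.GeneralLinearGroup.det (g : GL ι F) := det_glEquiv _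

end Generic

/-! ### Orthogonal groups -/

section Orth

variable {ι : Type} [Fintype ι] [DecidableEq ι] {F : Type*} [Field F]

theorem mem_isometryGroup (Q : (ι → F) → F) (g : GL ι F) :
    g ∈ Cfsg.isometryGroup F Q ↔ ∀ v, Q ((g : Matrix ι ι F) *ᵥ v) = Q v :=
  ⟨fun h v => h v v, fun h u _ => h u⟩

/-- The isometry group of the Prelude is the isometry group of `ofQuad Q`. -/
def orthEquiv (Q : QuadraticForm F (ι → F)) : Cfsg.isometryGroup F ⇑Q ≃* (ofQuad Q).Isom :=
  subEquiv _ _ fun g => by rw [mem_isometryGroup, mem_Isom_ofQuad]; rfl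

theorem orthEquiv_apply (Q : QuadraticForm F (ι → F)) (g : Cfsg.isometryGroup F ⇑Q) (v : ι → F) :
    (orthEquiv Q g).1 v = ((g : GL ι F) : Matrix ι ι F) *ᵥ v := rfl

theorem det_orthEquiv (Q : QuadraticForm F (ι → F)) (g : Cfsg.isometryGroup F ⇑Q) :
    (ofQuad Q).det (orthEquiv Q g) = Matrix.GeneralLinearGroup.det (g : GL ι F) := det_glEquiv _

theorem polarVec_dotProduct (Q : QuadraticForm F (ι → F)) (v x : ι → F) :
    Cfsg.polarVec ⇑Q v ⬝ᵥ x = QuadraticMap.polar Q v x := by
  have : QuadraticMap.polar Q v x = QuadraticMap.polarBilin Q v x := rfl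
  rw [this]
  conv_rhs => rw [pi_eq_sum_univ x]
  rw [map_sum, dotProduct]
  refine Finset.sum_congr rfl fun i _ => ?_
  rw [map_smul, smul_eq_mul, mul_comm, Cfsg.polarVec, QuadraticMap.polarBilin_apply_apply]
  congr 2
  ext j
  simp [Pi.single_apply, eq_comm]

theorem reflectionMatrix_mulVec (Q : QuadraticForm F (ι → F)) (v x : ι → F) :
    Cfsg.reflectionMatrix ⇑Q v *ᵥ x = x + (-(Q v)⁻¹ * QuadraticMap.polar Q v x) • v := by
  rw [Cfsg.reflectionMatrix, Matrix.sub_mulVec, Matrix.one_mulVec, Matrix.smul_mulVec,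
    Matrix.vecMulVec_mulVec, polarVec_dotProduct]
  ext i
  simp
  ring

theorem siegelMatrix_mulVec (Q : QuadraticForm F (ι → F)) (u v : ι → F) (c : F) (x : ι → F) :
    Cfsg.siegelMatrix ⇑Q u v c *ᵥ x =
      x + (c * QuadraticMap.polar Q u x) • v - (c * QuadraticMap.polar Q v x) • u := by
  rw [Cfsg.siegelMatrix, Matrix.add_mulVec, Matrix.one_mulVec, Matrix.smul_mulVec,
    Matrix.sub_mulVec, Matrix.vecMulVec_mulVec, Matrix.vecMulVec_mulVec, polarVec_dotProduct,
    polarVec_dotProduct]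
  ext i
  simp
  ring

end Orth

/-! ### Symplectic groups -/

section Symp

variable (m : ℕ) (F : Type*) [Field F]

/-- `sympForm` as a bilinear form. -/
def sympB : LinearMap.BilinForm F (Fin m ⊕ Fin m → F) := Matrix.toBilin' (Matrix.J (Fin m) F)

variable {m F}

theorem sympB_apply (u v : Fin m ⊕ Fin m → F) : sympB m F u v = Cfsg.sympForm m F u v := by
  rw [sympB, Matrix.toBilin'_apply', Cfsg.sympForm]

theorem sympForm_eq (u v : Fin m ⊕ Fin m → F) : Cfsg.sympForm m F u v =
    ∑ i : Fin m, (u (Sum.inr i) * v (Sum.inl i) - u (Sum.inl i) * v (Sum.inr i)) := by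
  rw [Cfsg.sympForm, Matrix.J, dotProduct, Fintype.sum_sum_type, Finset.sum_sub_distrib]
  simp [Matrix.fromBlocks_mulVec, Matrix.neg_mulVec]
  ring

variable (m F)

theorem sympB_isAlt : (sympB m F).IsAlt := fun v => by
  rw [sympB_apply, sympForm_eq]
  exact Finset.sum_eq_zero fun i _ => by ring

/-- The standard symplectic space. -/
def spForm : Form (RingHom.id F) (Fin m ⊕ Fin m → F) := ofAlt (sympB m F) (sympB_isAlt m F)

variable {m F} in
theorem spForm_B (u v : Fin m ⊕ Fin m → F) : (spForm m F).B u v = Cfsg.sympForm m F u v :=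
  sympB_apply u v

variable {m F} in
@[simp] theorem spForm_Q (u : Fin m ⊕ Fin m → F) : (spForm m F).Q u = 0 := rfl

theorem spForm_nondeg : (spForm m F).Nondeg := by
  intro x hx
  ext i
  rcases i with i | i
  · have := hx (Pi.single (Sum.inr i) 1)
    rw [spForm_B, sympForm_eq] at this
    simpa [Pi.single_apply] using this
  · have := hx (Pi.single (Sum.inl i) 1)
    rw [spForm_B, sympForm_eq] at this
    simpa [Pi.single_apply] using this

variable {m F} in
theorem mem_symplecticGroup_iff (A : Matrix (Fin m ⊕ Fin m) (Fin m ⊕ Fin m) F) :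
    A ∈ Matrix.symplecticGroup (Fin m) F ↔
      ∀ u v, Cfsg.sympForm m F (A *ᵥ u) (A *ᵥ v) = Cfsg.sympForm m F u v := by
  rw [SymplecticGroup.mem_iff']
  have key : ∀ u v, Cfsg.sympForm m F (A *ᵥ u) (A *ᵥ v) =
      Matrix.toBilin' (Aᵀ * Matrix.J (Fin m) F * A) u v := fun u v => by
    rw [Matrix.toBilin'_apply', Cfsg.sympForm, ← Matrix.mulVec_mulVec, ← Matrix.mulVec_mulVec,
      Matrix.dotProduct_mulVec u Aᵀ, Matrix.vecMul_transpose]
  constructor
  · intro h u v
    rw [key, h, Matrix.toBilin'_apply', Cfsg.sympForm]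
  · intro h
    apply Matrix.toBilin'.injective
    ext u v
    simp only [LinearMap.coe_comp, Function.comp_apply]
    rw [← key, h, Matrix.toBilin'_apply', Cfsg.sympForm]

/-- `spGL` is the isometry group of the standard symplectic space. -/
def spGLEquiv : Cfsg.spGL m F ≃* (spForm m F).Isom :=
  subEquiv _ _ fun g => by
    rw [Form.mem_Isom]
    simp only [spForm_B, spForm_Q, implies_true, and_true]
    rfl

/-- Mathlib's symplectic group is `spGL`. -/
def spToGL : Matrix.symplecticGroup (Fin m) F ≃* Cfsg.spGL m F where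
  toFun A := ⟨⟨A.1, (A⁻¹).1, congrArg Subtype.val (mul_inv_cancel A),
    congrArg Subtype.val (inv_mul_cancel A)⟩, (mem_symplecticGroup_iff A.1).1 A.2⟩
  invFun g := ⟨g.1.1, (mem_symplecticGroup_iff _).2 g.2⟩
  left_inv _ := rfl
  right_inv _ := Subtype.ext (Units.ext rfl)
  map_mul' _ _ := Subtype.ext (Units.ext rfl)

/-- Mathlib's symplectic group is the isometry group of the standard symplectic space. -/
def spEquiv : Matrix.symplecticGroup (Fin m) F ≃* (spForm m F).Isom :=
  (spToGL m F).trans (spGLEquiv m F)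

variable {m F} in
theorem spEquiv_apply (A : Matrix.symplecticGroup (Fin m) F) (v : Fin m ⊕ Fin m → F) :
    (spEquiv m F A).1 v = A.1 *ᵥ v := rfl

variable {m F} in
theorem sympTransvection_mulVec (v : Fin m ⊕ Fin m → F) (c : F) (x : Fin m ⊕ Fin m → F) :
    Cfsg.sympTransvection m v c *ᵥ x = x + (c * Cfsg.sympForm m F x v) • v := by
  rw [Cfsg.sympTransvection, Matrix.add_mulVec, Matrix.one_mulVec, Matrix.smul_mulVec,
    Matrix.vecMulVec_mulVec, Cfsg.sympForm, dotProduct_comm]
  ext i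
  simp
  ring

end Symp

/-! ### Unitary groups -/

section Unit

variable {F : Type*} [Field F] [Fintype F] {q : ℕ} (hF : Fintype.card F = q ^ 2) (n : ℕ)

/-- `hermForm` with the arguments swapped, as a sesquilinear form. -/
def hermB : (Fin n → F) →ₛₗ[frob hF] (Fin n → F) →ₗ[F] F :=
  LinearMap.mk₂'ₛₗ (frob hF) (RingHom.id F) (fun u v => ∑ i, v i * frob hF (u i))
    (by intros; simp [mul_add, Finset.sum_add_distrib])
    (by intros; simp [Finset.mul_sum, mul_left_comm])
    (by intros; simp [add_mul, Finset.sum_add_distrib])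
    (by intros; simp [Finset.mul_sum, mul_assoc])

theorem hermB_apply (u v : Fin n → F) : hermB hF n u v = Cfsg.hermForm n F q v u := rfl

theorem hermB_isSymm : (hermB hF n).IsSymm := ⟨fun x y => by
  change frob hF (∑ i, y i * frob hF (x i)) = ∑ i, x i * frob hF (y i)
  simp only [map_sum, map_mul, frob_frob, mul_comm]⟩

/-- The standard unitary space. -/
def unForm : Form (frob hF) (Fin n → F) :=
  ofHerm (frob hF) (frob_ne_id hF) (frob_frob hF) (hermB hF n) (hermB_isSymm hF n)

theorem unForm_B (u v : Fin n → F) : (unForm hF n).B u v = Cfsg.hermForm n F q v u := rfl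

theorem unForm_B' (u v : Fin n → F) : (unForm hF n).B u v = ∑ i, v i * frob hF (u i) := rfl

@[simp] theorem unForm_Q (u : Fin n → F) : (unForm hF n).Q u = 0 := rfl

theorem unForm_nondeg : (unForm hF n).Nondeg := by
  intro x hx
  ext i
  have := hx (Pi.single i 1)
  rw [unForm_B'] at this
  simpa [Pi.single_apply] using this

/-- `GU` is the isometry group of the standard unitary space. -/
def guEquiv : Cfsg.GU n F q ≃* (unForm hF n).Isom :=
  subEquiv _ _ fun g => by
    rw [Form.mem_Isom]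
    simp only [unForm_B, unForm_Q, implies_true, and_true]
    exact ⟨fun h x y => h y x, fun h x y => h y x⟩

theorem guEquiv_apply (g : Cfsg.GU n F q) (v : Fin n → F) :
    (guEquiv hF n g).1 v = ((g : GL (Fin n) F) : Matrix (Fin n) (Fin n) F) *ᵥ v := rfl

theorem det_guEquiv (g : Cfsg.GU n F q) :
    (unForm hF n).det (guEquiv hF n g) = Matrix.GeneralLinearGroup.det (g : GL (Fin n) F) :=
  det_glEquiv _

/-- `SU` is the group of isometries of determinant one of the standard unitary space. -/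
noncomputable def suEquiv : Cfsg.SU n F q ≃* (unForm hF n).det.ker where
  toFun A := ⟨guEquiv hF n ⟨Matrix.SpecialLinearGroup.toGL A.1, A.2⟩, by
    rw [MonoidHom.mem_ker, det_guEquiv]
    exact Units.ext A.1.2⟩
  invFun g := ⟨⟨(((guEquiv hF n).symm g.1 : Cfsg.GU n F q) : GL (Fin n) F), by
      have := g.2
      rw [MonoidHom.mem_ker, ← (guEquiv hF n).apply_symm_apply g.1, det_guEquiv] at this
      exact congrArg Units.val this⟩, ((guEquiv hF n).symm g.1).2⟩
  left_inv A := by
    refine Subtype.ext (Subtype.ext ?_)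
    simp
  right_inv g := by
    refine Subtype.ext (Eq.trans ?_ ((guEquiv hF n).apply_symm_apply g.1))
    exact congrArg (guEquiv hF n) (Subtype.ext (Units.ext rfl))
  map_mul' A B := by
    refine Subtype.ext ?_
    change guEquiv hF n _ = guEquiv hF n _ * guEquiv hF n _
    rw [← map_mul]
    congr 1
    exact Subtype.ext (map_mul _ _ _)

theorem suEquiv_apply (A : Cfsg.SU n F q) (v : Fin n → F) :
    (suEquiv hF n A).1.1 v =
      ((A : Matrix.SpecialLinearGroup (Fin n) F) : Matrix (Fin n) (Fin n) F) *ᵥ v := rfl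

omit [Fintype F] in
theorem unitaryTransvection_mulVec (v : Fin n → F) (c : F) (x : Fin n → F) :
    Cfsg.unitaryTransvection n q v c *ᵥ x = x + (c * Cfsg.hermForm n F q x v) • v := by
  rw [Cfsg.unitaryTransvection, Matrix.add_mulVec, Matrix.one_mulVec, Matrix.smul_mulVec,
    Matrix.vecMulVec_mulVec, Cfsg.hermForm, dotProduct_comm]
  ext i
  simp [dotProduct]
  ring

end Unit

end H15
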