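import Mathlib
import Cfsg.Agent.H15.Mat

/-!
# Orthogonal and hyperbolic bases, Witt decomposition
-/

set_option autoImplicit false
set_option linter.unusedSectionVars false

namespace H15

open Module

namespace Form

variable {F : Type*} [Field F] {σ : F →+* F} {V : Type*} [AddCommGroup V] [Module F V]
variable {W : Type*} [AddCommGroup W] [Module F W]
variable (Φ : Form σ V)

theorem B_symm_one {x y : V} (h : Φ.B x y = 1) : Φ.B y x = Φ.ε := by
  rw [Φ.symm, h, map_one, mul_one]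

theorem linearIndependent_of_dual {ι : Type*} (a a' : ι → V) (h1 : ∀ i, Φ.B (a' i) (a i) ≠ 0)
    (h2 : ∀ i j, i ≠ j → Φ.B (a' i) (a j) = 0) : LinearIndependent F a := by
  classical
  rw [linearIndependent_iff']
  intro s g hg i hi
  have := congrArg (Φ.B (a' i)) hg
  rw [map_sum, map_zero, Finset.sum_eq_single_of_mem i hi
    (fun j _ hj => by rw [map_smul, h2 i j hj.symm, smul_zero]), map_smul, smul_eq_mul] at this
  exact (mul_eq_zero.1 this).resolve_right (h1 i)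

theorem disjoint_of_dual {ι : Type*} (a a' : ι → V) (h1 : ∀ i, Φ.B (a' i) (a i) ≠ 0)
    (h2 : ∀ i j, i ≠ j → Φ.B (a' i) (a j) = 0)
    (h3 : ∀ i, a' i ∈ Submodule.span F (Set.range a)) :
    Disjoint (Submodule.span F (Set.range a)) (Φ.perp (Submodule.span F (Set.range a))) := by
  classical
  rw [Submodule.disjoint_def]
  intro x hx hx'
  obtain ⟨c, rfl⟩ := Finsupp.mem_span_range_iff_exists_finsupp.1 hx
  have hc : ∀ i, c i = 0 := fun i => by
    have := hx' _ (h3 i)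
    rw [Finsupp.sum, map_sum, Finset.sum_eq_single i
      (fun j _ hj => by rw [map_smul, h2 i j hj.symm, smul_zero])
      (fun hi => by rw [Finsupp.notMem_support_iff.1 hi, zero_smul, map_zero]),
      map_smul, smul_eq_mul] at this
    exact (mul_eq_zero.1 this).resolve_right (h1 i)
  rw [show c = 0 from Finsupp.ext hc]
  simp

/-- A linear map preserving the products of a family preserves the products on its span. -/
theorem B_map_of_span (Ψ : Form σ W) (f : V →ₗ[F] W) {ι : Type*} (a : ι → V)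
    (hB : ∀ i j, Ψ.B (f (a i)) (f (a j)) = Φ.B (a i) (a j)) :
    ∀ x ∈ Submodule.span F (Set.range a), ∀ y ∈ Submodule.span F (Set.range a),
      Ψ.B (f x) (f y) = Φ.B x y := by
  have hBa : ∀ i, ∀ y ∈ Submodule.span F (Set.range a), Ψ.B (f (a i)) (f y) = Φ.B (a i) y := by
    intro i y hy
    induction hy using Submodule.span_induction with
    | mem x hx => obtain ⟨j, rfl⟩ := hx; rw [hB]
    | zero => simp
    | add x y _ _ h1 h2 => simp [h1, h2]
    | smul c x _ h1 => simp [h1]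
  intro x hx y hy
  induction hx using Submodule.span_induction with
  | mem x hx => obtain ⟨j, rfl⟩ := hx; exact hBa j y hy
  | zero => simp
  | add x y _ _ h1 h2 => simp [h1, h2]
  | smul c x _ h1 => simp [h1]

theorem Q_map_of_span (Ψ : Form σ W) (hτ : Ψ.τ = Φ.τ) (f : V →ₗ[F] W) {ι : Type*} (a : ι → V)
    (hB : ∀ i j, Ψ.B (f (a i)) (f (a j)) = Φ.B (a i) (a j))
    (hQ : ∀ i, Ψ.Q (f (a i)) = Φ.Q (a i)) :
    ∀ x ∈ Submodule.span F (Set.range a), Ψ.Q (f x) = Φ.Q x := by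
  have hBB := Φ.B_map_of_span Ψ f a hB
  intro x hx
  induction hx using Submodule.span_induction with
  | mem x hx => obtain ⟨j, rfl⟩ := hx; rw [hQ]
  | zero => rw [map_zero, Φ.Q_zero, Ψ.Q_zero]
  | add x y hx hy h1 h2 => rw [map_add, Φ.Q_add, Ψ.Q_add, h1, h2, hBB x hx y hy, hτ]
  | smul c x _ h1 => rw [map_smul, Φ.Q_smul, Ψ.Q_smul, h1]

theorem B_basis_equiv (Ψ : Form σ W) {ι : Type*} (b : Basis ι F V) (b' : Basis ι F W)
    (hB : ∀ i j, Ψ.B (b' i) (b' j) = Φ.B (b i) (b j)) (x y : V) :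
    Ψ.B (b.equiv b' (Equiv.refl ι) x) (b.equiv b' (Equiv.refl ι) y) = Φ.B x y :=
  Φ.B_map_of_span Ψ (b.equiv b' (Equiv.refl ι) : V →ₗ[F] W) b (by simpa using hB) x
    (by rw [b.span_eq]; trivial) y (by rw [b.span_eq]; trivial)

theorem Q_basis_equiv (Ψ : Form σ W) (hτ : Ψ.τ = Φ.τ) {ι : Type*} (b : Basis ι F V)
    (b' : Basis ι F W) (hB : ∀ i j, Ψ.B (b' i) (b' j) = Φ.B (b i) (b j))
    (hQ : ∀ i, Ψ.Q (b' i) = Φ.Q (b i)) (x : V) :
    Ψ.Q (b.equiv b' (Equiv.refl ι) x) = Φ.Q x :=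
  Φ.Q_map_of_span Ψ hτ (b.equiv b' (Equiv.refl ι) : V →ₗ[F] W) b (by simpa using hB)
    (by simpa using hQ) x (by rw [b.span_eq]; trivial)

/-- Totally singular subspaces. -/
def TotSing (U : Submodule F V) : Prop := (∀ x ∈ U, ∀ y ∈ U, Φ.B x y = 0) ∧ ∀ x ∈ U, Φ.Q x = 0

theorem totSing_span {ι : Type*} (a : ι → V) (hB : ∀ i j, Φ.B (a i) (a j) = 0)
    (hQ : ∀ i, Φ.Q (a i) = 0) : Φ.TotSing (Submodule.span F (Set.range a)) := by
  constructor
  · intro x hx y hy
    have := Φ.B_map_of_span Φ 0 a (fun i j => by simp [hB]) x hx y hy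
    simpa using this.symm
  · intro x hx
    have := Φ.Q_map_of_span Φ rfl 0 a (fun i j => by simp [hB])
      (fun i => by simp [hQ, Φ.Q_zero]) x hx
    simpa [Φ.Q_zero] using this.symm

theorem totSing_bot : Φ.TotSing ⊥ :=
  ⟨fun x hx y _ => by rw [Submodule.mem_bot] at hx; simp [hx],
    fun x hx => by rw [Submodule.mem_bot] at hx; simp [hx, Φ.Q_zero]⟩

variable {Φ} in
theorem TotSing.mono {U U' : Submodule F V} (h : Φ.TotSing U) (hle : U' ≤ U) : Φ.TotSing U' :=
  ⟨fun x hx y hy => h.1 x (hle hx) y (hle hy), fun x hx => h.2 x (hle hx)⟩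

variable {Φ} in
theorem TotSing.le_perp {U : Submodule F V} (h : Φ.TotSing U) : U ≤ Φ.perp U :=
  fun y hy x hx => h.1 x hx y hy

variable {Φ} in
theorem TotSing.sup_span {U : Submodule F V} (h : Φ.TotSing U) {x : V} (hx : x ∈ Φ.perp U)
    (hxx : Φ.B x x = 0) (hQ : Φ.Q x = 0) : Φ.TotSing (U ⊔ Submodule.span F {x}) := by
  constructor
  · intro y hy z hz
    obtain ⟨a, ha, b, hb, rfl⟩ := Submodule.mem_sup.1 hy
    obtain ⟨c, rfl⟩ := Submodule.mem_span_singleton.1 hb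
    obtain ⟨a', ha', b', hb', rfl⟩ := Submodule.mem_sup.1 hz
    obtain ⟨c', rfl⟩ := Submodule.mem_span_singleton.1 hb'
    simp [h.1 a ha a' ha', hx a ha, Φ.mem_perp'.1 hx a' ha', hxx]
  · intro y hy
    obtain ⟨a, ha, b, hb, rfl⟩ := Submodule.mem_sup.1 hy
    obtain ⟨c, rfl⟩ := Submodule.mem_span_singleton.1 hb
    rw [Φ.Q_add_smul, h.2 a ha, hQ, hx a ha]; ring

variable {Φ} in
theorem TotSing.two_mul_finrank_le [FiniteDimensional F V] (hΦ : Φ.Nondeg) {U : Submodule F V}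
    (h : Φ.TotSing U) : 2 * finrank F U ≤ finrank F V := by
  have h1 := hΦ.finrank_perp U
  have h2 := Submodule.finrank_mono h.le_perp
  omega

variable {Φ} in
theorem TotSing.map {U : Submodule F V} (h : Φ.TotSing U) (g : Φ.Isom) :
    Φ.TotSing (U.map (g.1 : V →ₗ[F] V)) := by
  constructor
  · rintro _ ⟨x, hx, rfl⟩ _ ⟨y, hy, rfl⟩
    exact (Isom.map_B g x y).trans (h.1 x hx y hy)
  · rintro _ ⟨x, hx, rfl⟩
    exact (Isom.map_Q g x).trans (h.2 x hx)

variable {Φ} in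
/-- An injective linear map between totally singular subspaces extends to an isometry. -/
theorem Nondeg.exists_map_le_of_totSing [FiniteDimensional F V] (hΦ : Φ.Nondeg)
    {U U' : Submodule F V} (h : Φ.TotSing U) (h' : Φ.TotSing U')
    (hle : finrank F U ≤ finrank F U') : ∃ g : Φ.Isom, U.map (g.1 : V →ₗ[F] V) ≤ U' := by
  obtain ⟨f, hf⟩ := (finrank_le_iff_exists_linearMap (R := F) (M := U) (M' := U')).1 hle
  obtain ⟨g, hg⟩ := hΦ.witt' U (U'.subtype ∘ₗ f) (Subtype.val_injective.comp hf)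
    (fun x y => (h'.1 _ (f x).2 _ (f y).2).trans (h.1 _ x.2 _ y.2).symm)
    (fun x => (h'.2 _ (f x).2).trans (h.2 _ x.2).symm)
  refine ⟨g, ?_⟩
  rintro _ ⟨x, hx, rfl⟩
  have := hg ⟨x, hx⟩
  change g.1 x ∈ U'
  rw [this]
  exact (f ⟨x, hx⟩).2

variable {Φ} in
/-- The isometry group is transitive on totally singular subspaces of a given dimension. -/
theorem Nondeg.exists_map_eq_of_totSing [FiniteDimensional F V] (hΦ : Φ.Nondeg)
    {U U' : Submodule F V} (h : Φ.TotSing U) (h' : Φ.TotSing U')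
    (heq : finrank F U = finrank F U') : ∃ g : Φ.Isom, U.map (g.1 : V →ₗ[F] V) = U' := by
  obtain ⟨g, hg⟩ := hΦ.exists_map_le_of_totSing h h' heq.le
  refine ⟨g, Submodule.eq_of_le_of_finrank_eq hg ?_⟩
  rw [LinearEquiv.finrank_map_eq, heq]

variable {Φ} in
/-- A maximal totally singular subspace has the largest possible dimension. -/
theorem Nondeg.finrank_le_of_maximal [FiniteDimensional F V] (hΦ : Φ.Nondeg)
    {U U' : Submodule F V} (h : Φ.TotSing U) (hmax : ∀ X, U ≤ X → Φ.TotSing X → X = U)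
    (h' : Φ.TotSing U') : finrank F U' ≤ finrank F U := by
  by_contra hlt
  push Not at hlt
  obtain ⟨g, hg⟩ := hΦ.exists_map_le_of_totSing h h' hlt.le
  have h1 : U ≤ U'.map ((g⁻¹).1 : V →ₗ[F] V) := fun x hx =>
    ⟨g.1 x, hg ⟨x, hx, rfl⟩, Isom.inv_apply_apply g x⟩
  have h2 := hmax _ h1 (h'.map g⁻¹)
  rw [← h2, LinearEquiv.finrank_map_eq] at hlt
  exact lt_irrefl _ hlt

theorem exists_maximal_totSing [FiniteDimensional F V] {U0 : Submodule F V} (h0 : Φ.TotSing U0) :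
    ∃ U, U0 ≤ U ∧ Φ.TotSing U ∧ ∀ X, U ≤ X → Φ.TotSing X → X = U := by
  obtain ⟨U, ⟨h1, h2⟩, hmax⟩ := set_has_maximal_iff_noetherian.2 inferInstance
    {U : Submodule F V | U0 ≤ U ∧ Φ.TotSing U} ⟨U0, le_rfl, h0⟩
  exact ⟨U, h1, h2, fun X hX hX' => by
    by_contra hne
    exact hmax X ⟨h1.trans hX, hX'⟩ (lt_of_le_of_ne hX (Ne.symm hne))⟩

/-! ### Non-isotropic vectors and orthogonal bases -/

/-- The form is not of alternating kind. -/
def NonAlt : Prop := ∃ t : F, t + Φ.ε * σ t ≠ 0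

variable {Φ} in
theorem NonAlt.exists_aniso_of_ne (hN : Φ.NonAlt) {U : Submodule F V} {x y : V} (hx : x ∈ U)
    (hy : y ∈ U) (hxy : Φ.B x y ≠ 0) : ∃ v ∈ U, Φ.B v v ≠ 0 := by
  by_cases h1 : Φ.B x x = 0
  swap
  · exact ⟨x, hx, h1⟩
  by_cases h2 : Φ.B y y = 0
  swap
  · exact ⟨y, hy, h2⟩
  obtain ⟨t, ht⟩ := hN
  refine ⟨x + (t / Φ.B x y) • y, U.add_mem hx (U.smul_mem _ hy), ?_⟩
  have hxy' : σ (Φ.B x y) ≠ 0 := (map_ne_zero σ).2 hxy
  simp only [map_add, LinearMap.map_smulₛₗ, LinearMap.add_apply, LinearMap.smul_apply,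
    smul_eq_mul, RingHom.id_apply, h1, h2, Φ.symm x y, map_div₀]
  convert ht using 1
  field_simp
  ring

theorem exists_B_ne_zero_of_disjoint {U : Submodule F V} (hU : Disjoint U (Φ.perp U))
    {x : V} (hx : x ∈ U) (hx0 : x ≠ 0) : ∃ y ∈ U, Φ.B x y ≠ 0 := by
  by_contra hcon
  push Not at hcon
  exact hx0 (Submodule.disjoint_def.1 hU x hx (Φ.mem_perp'.2 hcon))

variable {Φ} in
theorem NonAlt.exists_aniso (hN : Φ.NonAlt) {U : Submodule F V} (hU : Disjoint U (Φ.perp U))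
    (hU0 : U ≠ ⊥) : ∃ v ∈ U, Φ.B v v ≠ 0 := by
  obtain ⟨x, hx, hx0⟩ := Submodule.exists_mem_ne_zero_of_ne_bot hU0
  obtain ⟨y, hy, hxy⟩ := Φ.exists_B_ne_zero_of_disjoint hU hx hx0
  exact hN.exists_aniso_of_ne hx hy hxy

theorem exists_Q_ne_zero_of_ne (hτ : Φ.τ ≠ 0) {U : Submodule F V} {x y : V} (hx : x ∈ U)
    (hy : y ∈ U) (hxy : Φ.B x y ≠ 0) : ∃ v ∈ U, Φ.Q v ≠ 0 := by
  by_contra hcon
  push Not at hcon
  have := Φ.Q_add x y
  rw [hcon _ hx, hcon _ hy, hcon _ (U.add_mem hx hy)] at this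
  exact mul_ne_zero hτ hxy (by linear_combination -this)

theorem exists_Q_ne_zero (hτ : Φ.τ ≠ 0) {U : Submodule F V} (hU : Disjoint U (Φ.perp U))
    (hU0 : U ≠ ⊥) : ∃ v ∈ U, Φ.Q v ≠ 0 := by
  obtain ⟨x, hx, hx0⟩ := Submodule.exists_mem_ne_zero_of_ne_bot hU0
  obtain ⟨y, hy, hxy⟩ := Φ.exists_B_ne_zero_of_disjoint hU hx hx0
  exact Φ.exists_Q_ne_zero_of_ne hτ hx hy hxy

theorem mem_perp_singleton {u y : V} : y ∈ Φ.perp (Submodule.span F {u}) ↔ Φ.B u y = 0 := by
  rw [mem_perp_span]; simp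

theorem disjoint_span_singleton {u : V} (hu : Φ.B u u ≠ 0) :
    Disjoint (Submodule.span F {u}) (Φ.perp (Submodule.span F {u})) := by
  rw [Submodule.disjoint_def]
  intro x hx hx'
  obtain ⟨c, rfl⟩ := Submodule.mem_span_singleton.1 hx
  rw [mem_perp_singleton, map_smul, smul_eq_mul] at hx'
  rw [(mul_eq_zero.1 hx').resolve_right hu, zero_smul]

/-- Inside a non-degenerate subspace, the perpendicular of a non-isotropic vector is
non-degenerate. -/
theorem disjoint_inf_perp {U : Submodule F V} (hU : Disjoint U (Φ.perp U)) {u : V} (huU : u ∈ U)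
    (hu : Φ.B u u ≠ 0) : Disjoint (U ⊓ Φ.perp (Submodule.span F {u}))
      (Φ.perp (U ⊓ Φ.perp (Submodule.span F {u}))) := by
  rw [Submodule.disjoint_def] at hU ⊢
  intro x hx hx'
  refine hU x hx.1 fun y hy => ?_
  have h1 : y - (Φ.B u y / Φ.B u u) • u ∈ U ⊓ Φ.perp (Submodule.span F {u}) :=
    ⟨U.sub_mem hy (U.smul_mem _ huU), Φ.mem_perp_singleton.2 (by simp [hu])⟩
  have h2 := hx' _ h1
  have h3 := Φ.mem_perp_singleton.1 hx.2
  simpa [h3] using h2

theorem finrank_inf_perp_singleton [FiniteDimensional F V] (U : Submodule F V) (u : V) :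
    finrank F U ≤ finrank F (U ⊓ Φ.perp (Submodule.span F {u}) : Submodule F V) + 1 := by
  have h1 := LinearMap.finrank_range_add_finrank_ker ((Φ.B u).domRestrict U)
  have h2 : finrank F (LinearMap.range ((Φ.B u).domRestrict U)) ≤ 1 := by
    have := Submodule.finrank_le (LinearMap.range ((Φ.B u).domRestrict U))
    rwa [finrank_self] at this
  have h3 : finrank F (LinearMap.ker ((Φ.B u).domRestrict U)) =
      finrank F (U ⊓ Φ.perp (Submodule.span F {u}) : Submodule F V) := by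
    rw [← Submodule.finrank_map_subtype_eq U]
    refine congrArg (fun X : Submodule F V => finrank F X) ?_
    ext x
    simp only [Submodule.mem_map, LinearMap.mem_ker, LinearMap.domRestrict_apply,
      Submodule.subtype_apply, Submodule.mem_inf, mem_perp_singleton]
    exact ⟨by rintro ⟨y, hy, rfl⟩; exact ⟨y.2, hy⟩, fun h => ⟨⟨x, h.1⟩, h.2, rfl⟩⟩
  omega

variable {Φ} in
/-- Building an orthogonal family step by step. -/
theorem Nondeg.exists_orth_family [FiniteDimensional F V] (h : Φ.Nondeg) (P : ℕ → V → Prop)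
    (k : ℕ) (hP : ∀ i < k, ∀ U : Submodule F V, Disjoint U (Φ.perp U) →
      finrank F U + i = finrank F V → ∃ v ∈ U, Φ.B v v ≠ 0 ∧ P i v) :
    ∃ b : Fin k → V, (∀ i j, i ≠ j → Φ.B (b i) (b j) = 0) ∧
      ∀ i, Φ.B (b i) (b i) ≠ 0 ∧ P i (b i) := by
  induction k with
  | zero => exact ⟨Fin.elim0, fun i => i.elim0, fun i => i.elim0⟩
  | succ k ih =>
    obtain ⟨b, hb1, hb2⟩ := ih fun i hi => hP i (by omega)
    have hli := Φ.linearIndependent_of_dual b b (fun i => (hb2 i).1) hb1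
    have hd := Φ.disjoint_of_dual b b (fun i => (hb2 i).1) hb1
      fun i => Submodule.subset_span ⟨i, rfl⟩
    have hr := h.finrank_perp (Submodule.span F (Set.range b))
    rw [finrank_span_eq_card hli, Fintype.card_fin] at hr
    obtain ⟨v, hv, hv1, hv2⟩ := hP k (by omega) _ (h.disjoint_perp_perp hd) (by omega)
    have hv' : ∀ i, Φ.B (b i) v = 0 := fun i => hv _ (Submodule.subset_span ⟨i, rfl⟩)
    refine ⟨Fin.snoc b v, fun i j hij => ?_, fun i => ?_⟩
    · induction i using Fin.lastCases with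
      | last =>
        induction j using Fin.lastCases with
        | last => exact absurd rfl hij
        | cast j => simpa using Φ.B_eq_zero_comm.1 (hv' j)
      | cast i =>
        induction j using Fin.lastCases with
        | last => simpa using hv' i
        | cast j => simpa using hb1 i j fun e => hij (congrArg _ e)
    · induction i using Fin.lastCases with
      | last => simpa using ⟨hv1, hv2⟩
      | cast i => simpa using hb2 i

variable {Φ} in
/-- Building an orthogonal basis step by step. -/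
theorem Nondeg.exists_orth_basis [FiniteDimensional F V] (h : Φ.Nondeg) (P : ℕ → V → Prop)
    {n : ℕ} (hn : finrank F V = n) (hP : ∀ i < n, ∀ U : Submodule F V, Disjoint U (Φ.perp U) →
      finrank F U + i = n → ∃ v ∈ U, Φ.B v v ≠ 0 ∧ P i v) :
    ∃ b : Basis (Fin n) F V, (∀ i j, i ≠ j → Φ.B (b i) (b j) = 0) ∧
      ∀ i, Φ.B (b i) (b i) ≠ 0 ∧ P i (b i) := by
  obtain ⟨b, hb1, hb2⟩ := h.exists_orth_family P n (by rwa [hn])
  have hli := Φ.linearIndependent_of_dual b b (fun i => (hb2 i).1) hb1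
  have hsp : ⊤ ≤ Submodule.span F (Set.range b) := by
    rw [top_le_iff]
    apply Submodule.eq_top_of_finrank_eq
    rw [finrank_span_eq_card hli, Fintype.card_fin, hn]
  exact ⟨Basis.mk hli hsp, by simpa using hb1, by simpa using hb2⟩

variable {Φ} in
theorem NonAlt.exists_orth_basis [FiniteDimensional F V] (hN : Φ.NonAlt) (h : Φ.Nondeg)
    {n : ℕ} (hn : finrank F V = n) :
    ∃ b : Basis (Fin n) F V, (∀ i j, i ≠ j → Φ.B (b i) (b j) = 0) ∧ ∀ i, Φ.B (b i) (b i) ≠ 0 := by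
  obtain ⟨b, hb1, hb2⟩ := h.exists_orth_basis (fun _ _ => True) hn fun i hi U hU hr => by
    obtain ⟨v, hv, hv'⟩ := hN.exists_aniso hU (by rintro rfl; rw [finrank_bot] at hr; omega)
    exact ⟨v, hv, hv', trivial⟩
  exact ⟨b, hb1, fun i => (hb2 i).1⟩

variable {Φ} in
/-- Two orthogonal non-isotropic vectors in a non-degenerate subspace of dimension `≥ 2`. -/
theorem NonAlt.exists_orth_pair [FiniteDimensional F V] (hN : Φ.NonAlt) {U : Submodule F V}
    (hU : Disjoint U (Φ.perp U)) (h2 : 2 ≤ finrank F U) {u : V} (huU : u ∈ U)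
    (hu : Φ.B u u ≠ 0) : ∃ w ∈ U, Φ.B u w = 0 ∧ Φ.B w w ≠ 0 := by
  have h3 := Φ.finrank_inf_perp_singleton U u
  obtain ⟨w, hw, hw'⟩ := hN.exists_aniso (Φ.disjoint_inf_perp hU huU hu)
    (by intro h0; rw [h0, finrank_bot] at h3; omega)
  exact ⟨w, hw.1, Φ.mem_perp_singleton.1 hw.2, hw'⟩

/-! ### Hyperbolic pairs and families -/

variable {Φ} in
theorem Nondeg.exists_hyp_partner [FiniteDimensional F V] (h : Φ.Nondeg) {H : Submodule F V}
    {p : V} (hp : p ∉ H) (hpp : Φ.B p p = 0) (hQ : Φ.Q p = 0) (hpH : ∀ x ∈ H, Φ.B x p = 0) :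
    ∃ r, (∀ x ∈ H, Φ.B x r = 0) ∧ Φ.B p r = 1 ∧ Φ.B r r = 0 ∧ Φ.Q r = 0 := by
  obtain ⟨r0, h1, h2⟩ := h.exists_perp_eq_one' hp
  obtain ⟨t, h3, h4⟩ := Φ.adj p r0 0 hQ hpp (by rw [h2]; exact one_ne_zero)
  refine ⟨r0 + t • p, fun x hx => by simp [h1 x hx, hpH x hx], by simp [h2, hpp], ?_, ?_⟩
  · rw [h3]; simp
  · rw [h4, Φ.Q_zero]

/-- A hyperbolic partner inside a non-degenerate subspace. -/
theorem exists_hyp_partner_mem {U : Submodule F V} (hU : Disjoint U (Φ.perp U)) {p : V}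
    (hpU : p ∈ U) (hp : p ≠ 0) (hpp : Φ.B p p = 0) (hQ : Φ.Q p = 0) :
    ∃ r ∈ U, Φ.B p r = 1 ∧ Φ.B r r = 0 ∧ Φ.Q r = 0 := by
  obtain ⟨y, hy, hpy⟩ := Φ.exists_B_ne_zero_of_disjoint hU hpU hp
  obtain ⟨t, h3, h4⟩ := Φ.adj p ((Φ.B p y)⁻¹ • y) 0 hQ hpp (by simp [hpy])
  refine ⟨(Φ.B p y)⁻¹ • y + t • p, U.add_mem (U.smul_mem _ hy) (U.smul_mem t hpU),
    by simp [hpy, hpp], ?_, ?_⟩
  · rw [h3]; simp
  · rw [h4, Φ.Q_zero]

/-- A hyperbolic family. -/
structure Hyp {ι : Type*} [DecidableEq ι] (e f : ι → V) : Prop where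
  ee : ∀ i j, Φ.B (e i) (e j) = 0
  ff : ∀ i j, Φ.B (f i) (f j) = 0
  ef : ∀ i j, Φ.B (e i) (f j) = if i = j then 1 else 0
  Qe : ∀ i, Φ.Q (e i) = 0
  Qf : ∀ i, Φ.Q (f i) = 0

section HypLemmas

variable {Φ} {ι : Type*} [DecidableEq ι] {e f : ι → V}

theorem Hyp.fe (H : Φ.Hyp e f) (i j : ι) : Φ.B (f i) (e j) = if i = j then Φ.ε else 0 := by
  rw [Φ.symm, H.ef]
  by_cases hij : i = j
  · simp [hij]
  · simp [hij, Ne.symm hij]

theorem Hyp.dual1 (H : Φ.Hyp e f) (i : ι ⊕ ι) : Φ.B (Sum.elim f e i) (Sum.elim e f i) ≠ 0 := by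
  rcases i with i | i
  · simp [H.fe, Φ.eps_ne_zero]
  · simp [H.ef]

theorem Hyp.dual2 (H : Φ.Hyp e f) (i j : ι ⊕ ι) (hij : i ≠ j) :
    Φ.B (Sum.elim f e i) (Sum.elim e f j) = 0 := by
  rcases i with i | i <;> rcases j with j | j
  · have : i ≠ j := fun h => hij (congrArg _ h)
    simp [H.fe, this]
  · simp [H.ff]
  · simp [H.ee]
  · have : i ≠ j := fun h => hij (congrArg _ h)
    simp [H.ef, this]

theorem Hyp.linearIndependent (H : Φ.Hyp e f) : LinearIndependent F (Sum.elim e f) :=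
  Φ.linearIndependent_of_dual _ _ H.dual1 H.dual2

theorem Hyp.disjoint (H : Φ.Hyp e f) : Disjoint (Submodule.span F (Set.range (Sum.elim e f)))
    (Φ.perp (Submodule.span F (Set.range (Sum.elim e f)))) :=
  Φ.disjoint_of_dual _ _ H.dual1 H.dual2 fun i => by
    rcases i with i | i
    · exact Submodule.subset_span ⟨Sum.inr i, rfl⟩
    · exact Submodule.subset_span ⟨Sum.inl i, rfl⟩

theorem Hyp.finrank_span [Fintype ι] (H : Φ.Hyp e f) :
    finrank F (Submodule.span F (Set.range (Sum.elim e f))) = 2 * Fintype.card ι := by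
  rw [finrank_span_eq_card H.linearIndependent, Fintype.card_sum, two_mul]

theorem Hyp.mem_perp (e f : ι → V) {x : V} :
    x ∈ Φ.perp (Submodule.span F (Set.range (Sum.elim e f))) ↔
      (∀ i, Φ.B (e i) x = 0) ∧ ∀ i, Φ.B (f i) x = 0 := by
  rw [mem_perp_span]
  simp [or_imp, forall_and]

/-- A totally singular independent family has a hyperbolic completion. -/
theorem Nondeg.exists_hyp [FiniteDimensional F V] [Finite ι] (h : Φ.Nondeg) (e : ι → V)
    (hli : LinearIndependent F e) (hee : ∀ i j, Φ.B (e i) (e j) = 0) (hQ : ∀ i, Φ.Q (e i) = 0) :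
    ∃ f : ι → V, Φ.Hyp e f := by
  have hdual : ∀ j, ∃ g, ∀ i, Φ.B (e i) g = if i = j then 1 else 0 := fun j => by
    obtain ⟨g, hg1, hg2⟩ := h.exists_perp_eq_one'
      (hli.notMem_span_image (s := {i | i ≠ j}) (x := j) (by simp))
    refine ⟨g, fun i => ?_⟩
    split_ifs with hij
    · rw [hij, hg2]
    · exact hg1 _ (Submodule.subset_span ⟨i, hij, rfl⟩)
  have key : ∀ s : Finset ι, ∃ f : ι → V, ∀ j ∈ s, (∀ i, Φ.B (e i) (f j) = if i = j then 1 else 0) ∧
      (∀ l ∈ s, Φ.B (f l) (f j) = 0) ∧ Φ.Q (f j) = 0 := by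
    intro s
    induction s using Finset.induction_on with
    | empty => exact ⟨0, fun j hj => by simp at hj⟩
    | insert j0 s hj0 ih =>
      obtain ⟨f, hf⟩ := ih
      obtain ⟨g, hg⟩ := hdual j0
      have hfe : ∀ l ∈ s, ∀ i, Φ.B (f l) (e i) = if i = l then Φ.ε else 0 := fun l hl i => by
        rw [Φ.symm, (hf l hl).1]
        split_ifs <;> simp
      obtain ⟨r0, hr0⟩ : ∃ r0, r0 = g - ∑ l ∈ s, (Φ.B (f l) g / Φ.ε) • e l := ⟨_, rfl⟩
      have hr1 : ∀ i, Φ.B (e i) r0 = if i = j0 then 1 else 0 := fun i => by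
        simp [hr0, hg, hee]
      have hr2 : ∀ l ∈ s, Φ.B (f l) r0 = 0 := fun l hl => by
        rw [hr0, map_sub, map_sum, Finset.sum_eq_single_of_mem l hl
          (fun k _ hk => by rw [map_smul, hfe l hl, if_neg hk, smul_zero]), map_smul, hfe l hl,
          if_pos rfl, smul_eq_mul, div_mul_cancel₀ _ Φ.eps_ne_zero, sub_self]
      obtain ⟨t, h3, h4⟩ := Φ.adj (e j0) r0 0 (hQ j0) (hee _ _) (by rw [hr1]; simp)
      obtain ⟨r, hr⟩ : ∃ r, r = r0 + t • e j0 := ⟨_, rfl⟩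
      rw [← hr] at h3 h4
      have hr3 : ∀ i, Φ.B (e i) r = if i = j0 then 1 else 0 := fun i => by
        simp [hr, hr1, hee]
      have hr4 : ∀ l ∈ s, Φ.B (f l) r = 0 := fun l hl => by
        have : j0 ≠ l := fun h => hj0 (h ▸ hl)
        simp [hr, hr2 l hl, hfe l hl, this]
      have hup : ∀ l ∈ s, Function.update f j0 r l = f l := fun l hl =>
        Function.update_of_ne (fun h : l = j0 => hj0 (h ▸ hl)) _ _
      refine ⟨Function.update f j0 r, fun j hj => ?_⟩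
      rcases Finset.mem_insert.1 hj with hj' | hj'
      · rw [hj', Function.update_self]
        refine ⟨hr3, fun l hl => ?_, by rw [h4, Φ.Q_zero]⟩
        rcases Finset.mem_insert.1 hl with hl' | hl'
        · rw [hl', Function.update_self, h3]; simp
        · rw [hup l hl', hr4 l hl']
      · rw [hup j hj']
        refine ⟨(hf j hj').1, fun l hl => ?_, (hf j hj').2.2⟩
        rcases Finset.mem_insert.1 hl with hl' | hl'
        · rw [hl', Function.update_self, Φ.B_eq_zero_comm, hr4 j hj']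
        · rw [hup l hl', (hf j hj').2.1 l hl']
  have := Fintype.ofFinite ι
  obtain ⟨f, hf⟩ := key Finset.univ
  exact ⟨f, hee, fun i j => (hf j (Finset.mem_univ _)).2.1 i (Finset.mem_univ _),
    fun i j => (hf j (Finset.mem_univ _)).1 i, hQ, fun i => (hf i (Finset.mem_univ _)).2.2⟩

end HypLemmas

variable {Φ} in
/-- A totally singular subspace is spanned by the first half of a hyperbolic family. -/
theorem Nondeg.exists_hyp_of_totSing [FiniteDimensional F V] (h : Φ.Nondeg) {U : Submodule F V}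
    (hU : Φ.TotSing U) {k : ℕ} (hk : finrank F U = k) :
    ∃ e f : Fin k → V, Φ.Hyp e f ∧ Submodule.span F (Set.range e) = U := by
  let b := Module.finBasisOfFinrankEq F U hk
  let e : Fin k → V := fun i => b i
  have hli : LinearIndependent F e := b.linearIndependent.map' U.subtype U.ker_subtype
  obtain ⟨f, hf⟩ := h.exists_hyp e hli (fun i j => hU.1 _ (b i).2 _ (b j).2)
    (fun i => hU.2 _ (b i).2)
  refine ⟨e, f, hf, ?_⟩
  have : Set.range e = U.subtype '' Set.range b := by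
    rw [← Set.range_comp]; rfl
  rw [this, ← Submodule.map_span, b.span_eq, Submodule.map_top, Submodule.range_subtype]

variable {Φ} in
/-- **Witt decomposition**: a hyperbolic family whose perpendicular space is anisotropic. -/
theorem Nondeg.exists_witt_decomp [FiniteDimensional F V] (h : Φ.Nondeg) :
    ∃ (k : ℕ) (e f : Fin k → V), Φ.Hyp e f ∧
      ∀ x ∈ Φ.perp (Submodule.span F (Set.range (Sum.elim e f))),
        Φ.B x x = 0 → Φ.Q x = 0 → x = 0 := by
  obtain ⟨U, -, hU, hmax⟩ := Φ.exists_maximal_totSing Φ.totSing_bot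
  obtain ⟨e, f, H, hsp⟩ := h.exists_hyp_of_totSing hU rfl
  refine ⟨_, e, f, H, fun x hx hxx hQ => ?_⟩
  have hle : U ≤ Submodule.span F (Set.range (Sum.elim e f)) := by
    refine hsp.symm.le.trans ?_
    exact Submodule.span_mono (by rintro _ ⟨i, rfl⟩; exact ⟨Sum.inl i, rfl⟩)
  have h1 := hmax _ le_sup_left (hU.sup_span (Φ.perp_anti hle hx) hxx hQ)
  have h2 : x ∈ U := by
    rw [← h1]; exact Submodule.mem_sup_right (Submodule.mem_span_singleton_self x)
  exact Submodule.disjoint_def.1 H.disjoint x (hle h2) hx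

variable {Φ} in
/-- A hyperbolic family with `2k = dim V` is a basis. -/
noncomputable def Hyp.basis [FiniteDimensional F V] {ι : Type*} [DecidableEq ι] [Fintype ι]
    {e f : ι → V} (H : Φ.Hyp e f) (hk : finrank F V = 2 * Fintype.card ι) : Basis (ι ⊕ ι) F V :=
  Basis.mk H.linearIndependent (by
    rw [top_le_iff]
    apply Submodule.eq_top_of_finrank_eq
    rw [H.finrank_span, hk])

variable {Φ} in
@[simp] theorem Hyp.basis_apply [FiniteDimensional F V] {ι : Type*} [DecidableEq ι] [Fintype ι]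
    {e f : ι → V} (H : Φ.Hyp e f) (hk : finrank F V = 2 * Fintype.card ι) (i : ι ⊕ ι) :
    H.basis hk i = Sum.elim e f i := by
  simp [Hyp.basis]

/-- Alternating kind: every vector is singular. -/
def IsAlt : Prop := (∀ x, Φ.B x x = 0) ∧ ∀ x, Φ.Q x = 0

variable {Φ} in
theorem IsAlt.comap (hA : Φ.IsAlt) (f : W →ₗ[F] V) : (Φ.comap f).IsAlt :=
  ⟨fun x => hA.1 (f x), fun x => hA.2 (f x)⟩

variable {Φ} in
/-- Symplectic bases. -/
theorem IsAlt.exists_hyp [FiniteDimensional F V] (hA : Φ.IsAlt) (h : Φ.Nondeg) :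
    ∃ (k : ℕ) (e f : Fin k → V), Φ.Hyp e f ∧ finrank F V = 2 * k := by
  obtain ⟨k, e, f, H, hx⟩ := h.exists_witt_decomp
  refine ⟨k, e, f, H, ?_⟩
  have h1 : Φ.perp (Submodule.span F (Set.range (Sum.elim e f))) = ⊥ := by
    rw [eq_bot_iff]
    exact fun x hx' => hx x hx' (hA.1 x) (hA.2 x)
  have h2 := h.finrank_perp (Submodule.span F (Set.range (Sum.elim e f)))
  rw [h1, finrank_bot, H.finrank_span, Fintype.card_fin] at h2
  omega

/-- Hermitian kind. -/
def IsHerm : Prop := σ ≠ RingHom.id F ∧ Φ.ε = 1 ∧ ∀ x, Φ.Q x = 0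

variable {Φ} in
theorem IsHerm.comap (hA : Φ.IsHerm) (f : W →ₗ[F] V) : (Φ.comap f).IsHerm :=
  ⟨hA.1, hA.2.1, fun x => hA.2.2 (f x)⟩

variable {Φ} in
theorem IsHerm.symm (hH : Φ.IsHerm) (x y : V) : σ (Φ.B x y) = Φ.B y x := by
  rw [Φ.symm x y, hH.2.1, one_mul]

variable {Φ} in
theorem IsHerm.nonAlt (hH : Φ.IsHerm) : Φ.NonAlt := by
  obtain ⟨θ, hθ⟩ := exists_trace_eq_one σ hH.1 Φ.invol
  exact ⟨θ, by rw [hH.2.1, one_mul, hθ]; exact one_ne_zero⟩

variable {Φ} in
theorem IsHerm.exists_smul_eq [Finite F] (hH : Φ.IsHerm) {v : V} (hv : Φ.B v v ≠ 0) {a : F}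
    (ha : σ a = a) : ∃ c : F, Φ.B (c • v) (c • v) = a := by
  obtain ⟨c, hc⟩ := norm_surj σ hH.1 Φ.invol (a := a / Φ.B v v)
    (by rw [map_div₀, ha, hH.symm])
  refine ⟨c, ?_⟩
  simp only [LinearMap.map_smulₛₗ, LinearMap.smul_apply, smul_eq_mul, RingHom.id_apply]
  rw [← mul_assoc, hc, div_mul_cancel₀ _ hv]

variable {Φ} in
theorem IsHerm.exists_unit [Finite F] (hH : Φ.IsHerm) {U : Submodule F V}
    (hU : Disjoint U (Φ.perp U)) (hU0 : U ≠ ⊥) : ∃ v ∈ U, Φ.B v v = 1 := by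
  obtain ⟨v, hv, hv'⟩ := hH.nonAlt.exists_aniso hU hU0
  obtain ⟨c, hc⟩ := hH.exists_smul_eq hv' (map_one σ)
  exact ⟨c • v, U.smul_mem c hv, hc⟩

variable {Φ} in
/-- Orthonormal bases of Hermitian spaces over finite fields. -/
theorem IsHerm.exists_orthonormal [Finite F] [FiniteDimensional F V] (hH : Φ.IsHerm)
    (h : Φ.Nondeg) {n : ℕ} (hn : finrank F V = n) :
    ∃ b : Basis (Fin n) F V, ∀ i j, Φ.B (b i) (b j) = if i = j then 1 else 0 := by
  obtain ⟨b, hb1, hb2⟩ := h.exists_orth_basis (fun _ v => Φ.B v v = 1) hn fun i hi U hU hr => by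
    obtain ⟨v, hv, hv'⟩ := hH.exists_unit hU (by rintro rfl; rw [finrank_bot] at hr; omega)
    exact ⟨v, hv, by rw [hv']; exact one_ne_zero, hv'⟩
  refine ⟨b, fun i j => ?_⟩
  split_ifs with hij
  · rw [hij, (hb2 j).2]
  · exact hb1 i j hij

variable {Φ} in
/-- A Hermitian space of dimension `≥ 2` over a finite field has isotropic vectors. -/
theorem IsHerm.exists_isotropic [Finite F] [FiniteDimensional F V] (hH : Φ.IsHerm)
    {U : Submodule F V} (h2 : 2 ≤ finrank F U) : ∃ v ∈ U, v ≠ 0 ∧ Φ.B v v = 0 := by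
  by_contra hcon
  push Not at hcon
  obtain ⟨u, hu, hu0⟩ := Submodule.exists_mem_ne_zero_of_ne_bot (p := U)
    (by rintro rfl; rw [finrank_bot] at h2; omega)
  have h3 := Φ.finrank_inf_perp_singleton U u
  obtain ⟨w, hw, hw0⟩ := Submodule.exists_mem_ne_zero_of_ne_bot
    (p := U ⊓ Φ.perp (Submodule.span F {u})) (by intro h0; rw [h0, finrank_bot] at h3; omega)
  have huw : Φ.B u w = 0 := Φ.mem_perp_singleton.1 hw.2
  have hwu : Φ.B w u = 0 := Φ.B_eq_zero_comm.1 huw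
  obtain ⟨c, hc⟩ := hH.exists_smul_eq (hcon u hu hu0) (a := -Φ.B w w) (by rw [map_neg, hH.symm])
  refine hcon (c • u + w) (U.add_mem (U.smul_mem c hu) hw.1) (fun h0 => ?_) ?_
  · have := congrArg (Φ.B w) h0
    simp only [map_add, map_smul, hwu, smul_zero, zero_add, map_zero] at this
    exact hcon w hw.1 hw0 this
  · rw [map_add, map_add, LinearMap.add_apply, LinearMap.add_apply, hc]
    simp [huw, hwu]

end Form

/-! ### The standard spaces -/

section Kinds

variable {F : Type*} [Field F] {V : Type*} [AddCommGroup V] [Module F V]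

theorem ofAlt_isAlt (B : LinearMap.BilinForm F V) (hA : B.IsAlt) : (ofAlt B hA).IsAlt :=
  ⟨hA, fun _ => rfl⟩

theorem spForm_isAlt (m : ℕ) : (spForm m F).IsAlt := ofAlt_isAlt _ _

theorem ofHerm_isHerm (σ : F →+* F) (hσ : σ ≠ RingHom.id F) (hσ2 : ∀ a, σ (σ a) = a)
    (B : V →ₛₗ[σ] V →ₗ[F] F) (hS : B.IsSymm) : (ofHerm σ hσ hσ2 B hS).IsHerm :=
  ⟨hσ, rfl, fun _ => rfl⟩

theorem unForm_isHerm [Fintype F] {q : ℕ} (hF : Fintype.card F = q ^ 2) (n : ℕ) :
    (unForm hF n).IsHerm := ofHerm_isHerm _ _ _ _ _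

theorem ofQuad_nonAlt (h2 : (2 : F) ≠ 0) (Q : QuadraticForm F V) : (ofQuad Q).NonAlt :=
  ⟨1, by simpa [one_add_one_eq_two] using h2⟩

/-- A symmetric bilinear form in characteristic not two. -/
def ofSymm (h2 : (2 : F) ≠ 0) (B : LinearMap.BilinForm F V) (hS : B.IsSymm) :
    Form (RingHom.id F) V where
  B := B
  Q := fun _ => 0
  ε := 1
  τ := 0
  invol _ := rfl
  eps := by simp
  symm x y := by simp [hS.eq x y]
  Q_add _ _ := by simp
  Q_smul _ _ := by simp
  adj p x y _ h1 h3 := by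
    refine ⟨(B y y - B x x) / (2 * B p x), ?_, rfl⟩
    simp only [map_add, map_smul, LinearMap.add_apply, LinearMap.smul_apply, smul_eq_mul, h1,
      hS.eq x p]
    field_simp
    ring

@[simp] theorem ofSymm_B (h2 : (2 : F) ≠ 0) (B : LinearMap.BilinForm F V) (hS : B.IsSymm) :
    (ofSymm h2 B hS).B = B := rfl

@[simp] theorem ofSymm_Q (h2 : (2 : F) ≠ 0) (B : LinearMap.BilinForm F V) (hS : B.IsSymm)
    (x : V) : (ofSymm h2 B hS).Q x = 0 := rfl

theorem ofSymm_nonAlt (h2 : (2 : F) ≠ 0) (B : LinearMap.BilinForm F V) (hS : B.IsSymm) :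
    (ofSymm h2 B hS).NonAlt :=
  ⟨1, by simpa [ofSymm, one_add_one_eq_two] using h2⟩

theorem spForm_hyp (m : ℕ) : (spForm m F).Hyp (fun i : Fin m => Pi.single (Sum.inr i) 1)
    (fun i : Fin m => Pi.single (Sum.inl i) 1) := by
  refine ⟨fun i j => ?_, fun i j => ?_, fun i j => ?_, fun _ => rfl, fun _ => rfl⟩
  · simp [spForm_B, sympForm_eq, Pi.single_apply]
  · simp [spForm_B, sympForm_eq, Pi.single_apply]
  · simp [spForm_B, sympForm_eq, Pi.single_apply, eq_comm]

theorem finrank_sum_fun (m : ℕ) : finrank F (Fin m ⊕ Fin m → F) = 2 * m := by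
  simp [two_mul]

variable [FiniteDimensional F V]

/-- Two hyperbolic bases give an isometry. -/
theorem Form.Hyp.exists_equiv {σ : F →+* F} {W : Type*} [AddCommGroup W] [Module F W]
    [FiniteDimensional F W] {Φ : Form σ V} {Ψ : Form σ W} (hε : Ψ.ε = Φ.ε)
    {ι : Type*} [DecidableEq ι] [Fintype ι] {e f : ι → V} {e' f' : ι → W} (H : Φ.Hyp e f)
    (H' : Ψ.Hyp e' f') (hk : finrank F V = 2 * Fintype.card ι)
    (hk' : finrank F W = 2 * Fintype.card ι) :
    ∃ g : V ≃ₗ[F] W, (∀ x y, Ψ.B (g x) (g y) = Φ.B x y) ∧ (Ψ.τ = Φ.τ → ∀ x, Ψ.Q (g x) = Φ.Q x) ∧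
      (∀ i, g (e i) = e' i) ∧ ∀ i, g (f i) = f' i := by
  have hB : ∀ i j, Ψ.B (H'.basis hk' i) (H'.basis hk' j) = Φ.B (H.basis hk i) (H.basis hk j) := by
    rintro (i | i) (j | j) <;> simp [H.ee, H.ff, H.ef, H.fe, H'.ee, H'.ff, H'.ef, H'.fe, hε]
  refine ⟨(H.basis hk).equiv (H'.basis hk') (Equiv.refl _), Φ.B_basis_equiv Ψ _ _ hB,
    fun hτ => Φ.Q_basis_equiv Ψ hτ _ _ hB ?_, fun i => ?_, fun i => ?_⟩
  · rintro (i | i) <;> simp [H.Qe, H.Qf, H'.Qe, H'.Qf]
  · simpa using (H.basis hk).equiv_apply (Sum.inl i) (H'.basis hk') (Equiv.refl _)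
  · simpa using (H.basis hk).equiv_apply (Sum.inr i) (H'.basis hk') (Equiv.refl _)

/-- A non-degenerate alternating space of dimension `2m` is isometric to the standard one. -/
theorem Form.IsAlt.exists_equiv_sp {Φ : Form (RingHom.id F) V} (hA : Φ.IsAlt) (hε : Φ.ε = -1)
    (h : Φ.Nondeg) {m : ℕ} (hm : finrank F V = 2 * m) :
    ∃ g : V ≃ₗ[F] (Fin m ⊕ Fin m → F), ∀ x y, (spForm m F).B (g x) (g y) = Φ.B x y := by
  obtain ⟨k, e, f, H, hk⟩ := hA.exists_hyp h
  obtain rfl : k = m := by omega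
  obtain ⟨g, hg, -⟩ := H.exists_equiv (Ψ := spForm k F) hε.symm (spForm_hyp k)
    (by simpa using hk) (by simpa using finrank_sum_fun (F := F) k)
  exact ⟨g, hg⟩

theorem Form.IsAlt.isom_equiv_sp {Φ : Form (RingHom.id F) V} (hA : Φ.IsAlt) (hε : Φ.ε = -1)
    (h : Φ.Nondeg) {m : ℕ} (hm : finrank F V = 2 * m) :
    Nonempty (Φ.Isom ≃* Matrix.symplecticGroup (Fin m) F) := by
  obtain ⟨g, hg⟩ := hA.exists_equiv_sp hε h hm
  exact ⟨(Form.isomCongr Φ _ g hg fun x => (hA.2 x).symm).trans (spEquiv m F).symm⟩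

/-- A non-degenerate Hermitian space of dimension `n` is isometric to the standard one. -/
theorem Form.IsHerm.exists_equiv_un [Fintype F] {q : ℕ} (hF : Fintype.card F = q ^ 2)
    {Φ : Form (frob hF) V} (hH : Φ.IsHerm) (h : Φ.Nondeg) {n : ℕ} (hn : finrank F V = n) :
    ∃ g : V ≃ₗ[F] (Fin n → F), ∀ x y, (unForm hF n).B (g x) (g y) = Φ.B x y := by
  obtain ⟨b, hb⟩ := hH.exists_orthonormal h hn
  refine ⟨b.equiv (Pi.basisFun F (Fin n)) (Equiv.refl _), Φ.B_basis_equiv _ _ _ fun i j => ?_⟩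
  rw [hb, unForm_B']
  simp [Pi.single_apply, apply_ite (frob hF), eq_comm]

theorem Form.IsHerm.isom_equiv_gu [Fintype F] {q : ℕ} (hF : Fintype.card F = q ^ 2)
    {Φ : Form (frob hF) V} (hH : Φ.IsHerm) (h : Φ.Nondeg) {n : ℕ} (hn : finrank F V = n) :
    Nonempty (Φ.Isom ≃* Cfsg.GU n F q) := by
  obtain ⟨g, hg⟩ := hH.exists_equiv_un hF h hn
  exact ⟨(Form.isomCongr Φ _ g hg fun x => (hH.2.2 x).symm).trans (guEquiv hF n).symm⟩

/-- A quadratic form on a space of dimension at least three over a finite field has a non-zero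
singular vector. -/
theorem exists_singular [Finite F] (Q : QuadraticForm F V) {U : Submodule F V}
    (h3 : 3 ≤ finrank F U) : ∃ v ∈ U, v ≠ 0 ∧ Q v = 0 := by
  by_contra hcon
  push Not at hcon
  let Φ := ofQuad Q
  have hQ : ∀ x, Φ.Q x = Q x := fun _ => rfl
  have hτ : Φ.τ = 1 := rfl
  obtain ⟨u, hu, hu0⟩ := Submodule.exists_mem_ne_zero_of_ne_bot (p := U)
    (by rintro rfl; rw [finrank_bot] at h3; omega)
  have h4 := Φ.finrank_inf_perp_singleton U u
  by_cases h2 : (2 : F) = 0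
  · have : ¬ (U ⊓ Φ.perp (Submodule.span F {u}) ≤ Submodule.span F {u}) := by
      intro hle
      have := Submodule.finrank_mono hle
      rw [finrank_span_singleton hu0] at this
      omega
    obtain ⟨w, hw, hwu⟩ := SetLike.not_le_iff_exists.1 this
    obtain ⟨c, hc⟩ := isSquare_of_two_eq_zero h2 (-Q w / Q u)
    have huw : Φ.B w u = 0 := Φ.B_eq_zero_comm.1 (Φ.mem_perp_singleton.1 hw.2)
    refine hcon (w + c • u) (U.add_mem hw.1 (U.smul_mem c hu)) (fun h0 => hwu ?_) ?_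
    · rw [eq_neg_of_add_eq_zero_left h0]
      exact Submodule.neg_mem _ (Submodule.smul_mem _ _ (Submodule.mem_span_singleton_self u))
    · rw [← hQ, Φ.Q_add_smul, huw, hQ, hQ, sq, ← hc, div_mul_cancel₀ _ (hcon u hu hu0)]
      ring
  · obtain ⟨w, hw, hw0⟩ := Submodule.exists_mem_ne_zero_of_ne_bot
      (p := U ⊓ Φ.perp (Submodule.span F {u})) (by intro h0; rw [h0, finrank_bot] at h4; omega)
    have h5 := Φ.finrank_inf_perp_singleton (U ⊓ Φ.perp (Submodule.span F {u})) w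
    obtain ⟨z, hz, hz0⟩ := Submodule.exists_mem_ne_zero_of_ne_bot
      (p := U ⊓ Φ.perp (Submodule.span F {u}) ⊓ Φ.perp (Submodule.span F {w}))
      (by intro h0; rw [h0, finrank_bot] at h5; omega)
    have huw : Φ.B u w = 0 := Φ.mem_perp_singleton.1 hw.2
    have hzu : Φ.B z u = 0 := Φ.B_eq_zero_comm.1 (Φ.mem_perp_singleton.1 hz.1.2)
    have hzw : Φ.B z w = 0 := Φ.B_eq_zero_comm.1 (Φ.mem_perp_singleton.1 hz.2)
    obtain ⟨x, y, hxy⟩ := exists_sq_add_sq (hcon u hu hu0) (hcon w hw.1 hw0) (-Q z)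
    refine hcon (z + x • u + y • w) (U.add_mem (U.add_mem hz.1.1 (U.smul_mem x hu))
      (U.smul_mem y hw.1)) (fun h0 => ?_) ?_
    · have h6 := congrArg (Φ.B z) h0
      simp only [map_add, map_smul, hzu, hzw, smul_zero, add_zero, map_zero] at h6
      have h7 := Φ.tau_self z
      rw [h6, mul_zero] at h7
      exact mul_ne_zero h2 (hcon z hz.1.1 hz0) h7.symm
    · rw [← hQ, Φ.Q_add_smul, Φ.Q_add_smul, hzu]
      simp only [map_add, LinearMap.map_smulₛₗ, LinearMap.add_apply, LinearMap.smul_apply, hzw, huw,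
        hQ]
      simp only [smul_zero, add_zero, mul_zero]
      linear_combination hxy

/-- A non-degenerate quadratic space of dimension `≥ 2` over a finite field of odd order
represents every non-zero scalar; stated for a form with `B v v`. -/
theorem Form.NonAlt.exists_B_eq [Finite F] {Φ : Form (RingHom.id F) V} (hN : Φ.NonAlt)
    {U : Submodule F V} (hU : Disjoint U (Φ.perp U)) (h2 : 2 ≤ finrank F U) (c : F) :
    ∃ v ∈ U, Φ.B v v = c := by
  obtain ⟨u, hu, hu'⟩ := hN.exists_aniso hU (by rintro rfl; rw [finrank_bot] at h2; omega)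
  obtain ⟨w, hw, huw, hw'⟩ := hN.exists_orth_pair hU h2 hu hu'
  obtain ⟨x, y, hxy⟩ := exists_sq_add_sq hu' hw' c
  refine ⟨x • u + y • w, U.add_mem (U.smul_mem _ hu) (U.smul_mem _ hw), ?_⟩
  simp only [map_add, map_smul, LinearMap.add_apply, LinearMap.smul_apply, smul_eq_mul, huw,
    Φ.B_eq_zero_comm.1 huw]
  linear_combination hxy

/-- Diagonalisation `⟨1, …, 1, d⟩` with `d ∈ {1, α}` over a finite field of odd order. -/
theorem Form.NonAlt.exists_basis_one_or [Finite F] {Φ : Form (RingHom.id F) V} (hN : Φ.NonAlt)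
    (h : Φ.Nondeg) {n : ℕ} (hn : finrank F V = n + 1) (α : F) (hα : ¬ IsSquare α) :
    ∃ b : Basis (Fin (n + 1)) F V, (∀ i j, i ≠ j → Φ.B (b i) (b j) = 0) ∧
      (∀ i, i ≠ Fin.last n → Φ.B (b i) (b i) = 1) ∧
      (Φ.B (b (Fin.last n)) (b (Fin.last n)) = 1 ∨ Φ.B (b (Fin.last n)) (b (Fin.last n)) = α) := by
  have hα0 : α ≠ 0 := by rintro rfl; exact hα IsSquare.zero
  obtain ⟨b, hb1, hb2⟩ := h.exists_orth_basis
    (fun i v => (i < n → Φ.B v v = 1) ∧ (Φ.B v v = 1 ∨ Φ.B v v = α)) hn fun i hi U hU hr => by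
      by_cases hin : i < n
      · obtain ⟨v, hv, hv'⟩ := hN.exists_B_eq hU (by omega) 1
        exact ⟨v, hv, by rw [hv']; exact one_ne_zero, fun _ => hv', Or.inl hv'⟩
      · obtain ⟨v, hv, hv'⟩ := hN.exists_aniso hU (by rintro rfl; rw [finrank_bot] at hr; omega)
        have key : ∀ c d : F, d ≠ 0 → Φ.B v v * d = c * c →
            Φ.B ((d / c) • v) ((d / c) • v) = d := fun c d hd hc => by
          have hc0 : c ≠ 0 := by
            rintro rfl
            exact mul_ne_zero hv' hd (by simpa using hc)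
          simp only [map_smul, LinearMap.smul_apply, smul_eq_mul]
          field_simp
          linear_combination hc
        by_cases hsq : IsSquare (Φ.B v v)
        · obtain ⟨c, hc⟩ := hsq
          have := key c 1 one_ne_zero (by rw [mul_one, hc])
          exact ⟨_, U.smul_mem _ hv, by rw [this]; exact one_ne_zero, fun h => absurd h hin,
            Or.inl this⟩
        · obtain ⟨c, hc⟩ := isSquare_mul_of_not hsq hα
          have := key c α hα0 hc
          exact ⟨_, U.smul_mem _ hv, by rw [this]; exact hα0, fun h => absurd h hin,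
            Or.inr this⟩
  exact ⟨b, hb1, fun i hi => (hb2 i).2.1 (Fin.val_lt_last hi), (hb2 _).2.2⟩

end Kinds

end H15
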