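import Mathlib

/-!
# Transport of subgroups along group isomorphisms
-/

set_option autoImplicit false

namespace H15

variable {G H : Type*} [Group G] [Group H]

/-- Corresponding subgroups of isomorphic groups are isomorphic. -/
def subgroupEquivOfMem (e : G ≃* H) (S : Subgroup G) (T : Subgroup H)
    (h : ∀ g, g ∈ S ↔ e g ∈ T) : S ≃* T where
  toFun g := ⟨e g, (h g).1 g.2⟩
  invFun g := ⟨e.symm g, (h _).2 (by rw [e.apply_symm_apply]; exact g.2)⟩
  left_inv g := Subtype.ext (by simp)
  right_inv g := Subtype.ext (by simp)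
  map_mul' g h := Subtype.ext (by simp)

theorem card_eq_of_mem (e : G ≃* H) (S : Subgroup G) (T : Subgroup H)
    (h : ∀ g, g ∈ S ↔ e g ∈ T) : Nat.card S = Nat.card T :=
  Nat.card_congr (subgroupEquivOfMem e S T h).toEquiv

theorem eq_comap_of_mem (e : G ≃* H) (S : Subgroup G) (T : Subgroup H)
    (h : ∀ g, g ∈ S ↔ e g ∈ T) : S = T.comap e.toMonoidHom :=
  Subgroup.ext h

theorem index_eq_of_mem (e : G ≃* H) (S : Subgroup G) (T : Subgroup H)
    (h : ∀ g, g ∈ S ↔ e g ∈ T) : S.index = T.index := by
  rw [eq_comap_of_mem e S T h]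
  exact Subgroup.index_comap_of_surjective _ e.surjective

theorem mem_closure_iff_of_mem (e : G ≃* H) (s : Set G) (t : Set H)
    (h : ∀ g, g ∈ s ↔ e g ∈ t) (g : G) : g ∈ Subgroup.closure s ↔ e g ∈ Subgroup.closure t := by
  constructor
  · intro hg
    induction hg using Subgroup.closure_induction with
    | mem x hx => exact Subgroup.subset_closure ((h x).1 hx)
    | one => rw [map_one]; exact Subgroup.one_mem _
    | mul x y _ _ h1 h2 => rw [map_mul]; exact Subgroup.mul_mem _ h1 h2
    | inv x _ h1 => rw [map_inv]; exact Subgroup.inv_mem _ h1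
  · intro hg
    have : ∀ y ∈ Subgroup.closure t, e.symm y ∈ Subgroup.closure s := by
      intro y hy
      induction hy using Subgroup.closure_induction with
      | mem x hx => exact Subgroup.subset_closure ((h _).2 (by rwa [e.apply_symm_apply]))
      | one => rw [map_one]; exact Subgroup.one_mem _
      | mul x y _ _ h1 h2 => rw [map_mul]; exact Subgroup.mul_mem _ h1 h2
      | inv x _ h1 => rw [map_inv]; exact Subgroup.inv_mem _ h1
    simpa using this _ hg

theorem closure_eq_top_of_mem (e : G ≃* H) (s : Set G) (t : Set H)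
    (h : ∀ g, g ∈ s ↔ e g ∈ t) (ht : Subgroup.closure t = ⊤) : Subgroup.closure s = ⊤ := by
  rw [eq_top_iff]
  intro g _
  rw [mem_closure_iff_of_mem e s t h, ht]
  trivial

theorem mem_commutator_iff_equiv (e : G ≃* H) (g : G) :
    g ∈ commutator G ↔ e g ∈ commutator H := by
  rw [commutator_eq_closure, commutator_eq_closure]
  refine mem_closure_iff_of_mem e _ _ (fun g => ?_) g
  constructor
  · rintro ⟨a, b, rfl⟩
    exact ⟨e a, e b, (map_commutatorElement e a b).symm⟩
  · rintro ⟨a, b, hab⟩
    refine ⟨e.symm a, e.symm b, e.injective ?_⟩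
    rw [map_commutatorElement, e.apply_symm_apply, e.apply_symm_apply, hab]

theorem mem_commutatorSet_iff_equiv (e : G ≃* H) (g : G) :
    g ∈ commutatorSet G ↔ e g ∈ commutatorSet H := by
  constructor
  · rintro ⟨a, b, rfl⟩
    exact ⟨e a, e b, (map_commutatorElement e a b).symm⟩
  · rintro ⟨a, b, hab⟩
    refine ⟨e.symm a, e.symm b, e.injective ?_⟩
    rw [map_commutatorElement, e.apply_symm_apply, e.apply_symm_apply, hab]

theorem index_commutator_equiv (e : G ≃* H) : (commutator G).index = (commutator H).index :=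
  index_eq_of_mem e _ _ (mem_commutator_iff_equiv e)

end H15
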