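import Mathlib
import Cfsg.Agent.H15.Bases
import Cfsg.Agent.H15.Util

/-!
# Orthogonal groups: reflections, Eichler transformations, generation by reflections
-/

set_option autoImplicit false
set_option linter.unusedSectionVars false

namespace H15

open Module
open scoped commutatorElement

attribute [-simp] ofQuad_B

variable {F : Type*} [Field F] {V : Type*} [AddCommGroup V] [Module F V]
variable (Q : QuadraticForm F V)

/-- The polar form, as a bilinear map. -/
abbrev pol : V →ₗ[F] V →ₗ[F] F := (ofQuad Q).B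

theorem pol_eq (x y : V) : pol Q x y = QuadraticMap.polar Q x y := rfl

theorem pol_comm (x y : V) : pol Q x y = pol Q y x := QuadraticMap.polar_comm _ _ _

theorem pol_self (x : V) : pol Q x x = 2 * Q x := by
  rw [pol_eq, QuadraticMap.polar_self]; simp

theorem quad_add (x y : V) : Q (x + y) = Q x + Q y + pol Q x y := by
  simp [pol_eq, QuadraticMap.polar]

theorem quad_sub (x y : V) : Q (x - y) = Q x + Q y - pol Q x y := by
  simpa using (ofQuad Q).Q_sub x y

theorem quad_smul (c : F) (x : V) : Q (c • x) = c ^ 2 * Q x := (ofQuad Q).Q_smul c x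

theorem quad_add_smul (x y : V) (c : F) :
    Q (x + c • y) = Q x + c ^ 2 * Q y + c * pol Q x y := by
  simpa using (ofQuad Q).Q_add_smul x y c

theorem totSing_ofQuad {U : Submodule F V} : (ofQuad Q).TotSing U ↔ ∀ w ∈ U, Q w = 0 :=
  ⟨fun h => h.2, fun h => ⟨fun x hx y hy => by
    simp [ofQuad_B, QuadraticMap.polar, h x hx, h y hy, h _ (U.add_mem hx hy)], h⟩⟩

variable {Q} in
theorem Form.Isom.map_quad (g : (ofQuad Q).Isom) (x : V) : Q (g.1 x) = Q x := g.2.2 x

variable {Q} in
theorem Form.Isom.map_pol (g : (ofQuad Q).Isom) (x y : V) :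
    pol Q (g.1 x) (g.1 y) = pol Q x y := g.2.1 x y

/-! ### Reflections -/

theorem dil_refl_involutive (v : V) :
    Function.Involutive ((ofQuad Q).dil v (-(Q v)⁻¹)) := fun x => by
  by_cases hv : Q v = 0
  · simp [Form.dil_apply, hv]
  · simp only [Form.dil_apply, map_add, map_smul, pol_self]
    match_scalars
    · rfl
    · field_simp
      ring

/-- The reflection in `v` (the identity if `Q v = 0`). -/
noncomputable def refl (v : V) : (ofQuad Q).Isom :=
  ⟨LinearEquiv.ofInvolutive ((ofQuad Q).dil v (-(Q v)⁻¹)) (dil_refl_involutive Q v),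
    (mem_Isom_ofQuad Q _).2 fun x => by
      have := (ofQuad Q).dil_Q v (-(Q v)⁻¹) x
      simp only [ofQuad_Q, ofQuad_tau] at this
      change Q ((ofQuad Q).dil v (-(Q v)⁻¹) x) = Q x
      rw [this]
      by_cases hv : Q v = 0
      · simp [hv]
      · field_simp
        ring⟩

theorem refl_apply (v x : V) : (refl Q v).1 x = x + (-(Q v)⁻¹ * pol Q v x) • v :=
  (ofQuad Q).dil_apply v _ x

theorem refl_mul_self (v : V) : refl Q v * refl Q v = 1 :=
  Form.Isom.ext fun x => dil_refl_involutive Q v x

theorem refl_inv (v : V) : (refl Q v)⁻¹ = refl Q v :=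
  inv_eq_of_mul_eq_one_right (refl_mul_self Q v)

theorem refl_of_perp {v x : V} (h : pol Q v x = 0) : (refl Q v).1 x = x := by
  simp [refl_apply, h]

theorem refl_self {v : V} (hv : Q v ≠ 0) : (refl Q v).1 v = -v := by
  rw [refl_apply, pol_self]
  have : -(Q v)⁻¹ * (2 * Q v) = -2 := by field_simp
  rw [this]
  module

theorem refl_conj (g : (ofQuad Q).Isom) (v : V) : g * refl Q v * g⁻¹ = refl Q (g.1 v) := by
  refine Form.Isom.ext fun x => ?_
  simp only [Form.Isom.mul_apply, refl_apply, map_add, map_smul, Form.Isom.apply_inv_apply,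
    Form.Isom.map_quad, Form.Isom.B_left]

theorem refl_smul {c : F} (hc : c ≠ 0) (v : V) : refl Q (c • v) = refl Q v := by
  refine Form.Isom.ext fun x => ?_
  simp only [refl_apply, quad_smul, map_smul, LinearMap.smul_apply, smul_eq_mul, smul_smul]
  congr 2
  by_cases hv : Q v = 0
  · simp [hv]
  · field_simp

theorem det_refl [FiniteDimensional F V] {v : V} (hv : Q v ≠ 0) :
    (ofQuad Q).det (refl Q v) = -1 := by
  apply Units.ext
  rw [Form.coe_det]
  change LinearMap.det ((ofQuad Q).dil v (-(Q v)⁻¹)) = _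
  rw [Form.dil_det, pol_self]
  simp only [Units.val_neg, Units.val_one]
  field_simp
  norm_num

/-- If `Q (u' - u) ≠ 0` and `Q u' = Q u`, the reflection in `u' - u` maps `u` to `u'`. -/
theorem refl_sub_apply {u u' : V} (h : Q u' = Q u) (hp : Q (u' - u) ≠ 0) :
    (refl Q (u' - u)).1 u = u' := by
  have h1 : pol Q (u' - u) u = -Q (u' - u) := by
    rw [quad_sub, map_sub, LinearMap.sub_apply, pol_self, h]; ring
  rw [refl_apply, h1, neg_mul_neg, inv_mul_cancel₀ hp]
  simp

theorem orthEquiv_eq_refl_iff {ι : Type} [Fintype ι] [DecidableEq ι] (Q : QuadraticForm F (ι → F))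
    (g : Cfsg.isometryGroup F ⇑Q) (v : ι → F) :
    ((g : GL ι F) : Matrix ι ι F) = Cfsg.reflectionMatrix ⇑Q v ↔ orthEquiv Q g = refl Q v := by
  constructor
  · intro h
    refine Form.Isom.ext fun x => ?_
    rw [orthEquiv_apply, h, reflectionMatrix_mulVec, refl_apply, pol_eq]
  · intro h
    refine matrix_ext_mulVec fun x => ?_
    rw [← orthEquiv_apply, h, reflectionMatrix_mulVec, refl_apply, pol_eq]

/-! ### Eichler transformations -/

/-- The linear map underlying an Eichler transformation. -/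
def eichMap (u v : V) : V →ₗ[F] V :=
  LinearMap.id + (pol Q v).smulRight u - (pol Q u).smulRight v - Q v • (pol Q u).smulRight u

theorem eichMap_apply (u v x : V) :
    eichMap Q u v x = x + pol Q v x • u - pol Q u x • v - (Q v * pol Q u x) • u := by
  simp [eichMap, smul_smul]

variable {Q} in
theorem eichMap_add {u v w : V} (hu : Q u = 0) (hv : pol Q u v = 0) (hw : pol Q u w = 0) (x : V) :
    eichMap Q u v (eichMap Q u w x) = eichMap Q u (v + w) x := by
  have huu : pol Q u u = 0 := by rw [pol_self, hu, mul_zero]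
  have hvu : pol Q v u = 0 := by rw [pol_comm, hv]
  simp only [eichMap_apply, map_add, map_sub, map_smul, huu, hvu, hw, quad_add,
    LinearMap.add_apply]
  module

theorem eichMap_zero (u x : V) : eichMap Q u 0 x = x := by simp [eichMap_apply]

/-- The Eichler transformation `x ↦ x + B(v,x) u - B(u,x) v - Q(v) B(u,x) u`. -/
def eich (u v : V) (hu : Q u = 0) (huv : pol Q u v = 0) : (ofQuad Q).Isom :=
  ⟨{ eichMap Q u v with
      invFun := eichMap Q u (-v)
      left_inv := fun x => by
        change eichMap Q u (-v) (eichMap Q u v x) = x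
        rw [eichMap_add hu (by simp [huv]) huv, neg_add_cancel, eichMap_zero]
      right_inv := fun x => by
        change eichMap Q u v (eichMap Q u (-v) x) = x
        rw [eichMap_add hu huv (by simp [huv]), add_neg_cancel, eichMap_zero] },
    (mem_Isom_ofQuad Q _).2 fun x => by
      change Q (eichMap Q u v x) = Q x
      have hvu : pol Q v u = 0 := by rw [pol_comm, huv]
      have : eichMap Q u v x = (x + (-pol Q u x) • v) + (pol Q v x - Q v * pol Q u x) • u := by
        rw [eichMap_apply]; module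
      rw [this, quad_add_smul, quad_add_smul, hu, map_add, map_smul, LinearMap.add_apply,
        LinearMap.smul_apply, hvu, pol_comm Q x u, pol_comm Q x v]
      simp only [smul_eq_mul]
      ring⟩

theorem eich_apply (u v : V) (hu : Q u = 0) (huv : pol Q u v = 0) (x : V) :
    (eich Q u v hu huv).1 x = x + pol Q v x • u - pol Q u x • v - (Q v * pol Q u x) • u :=
  eichMap_apply Q u v x

theorem eich_add {u v w : V} (hu : Q u = 0) (hv : pol Q u v = 0) (hw : pol Q u w = 0)
    (hvw : pol Q u (v + w) = 0) :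
    eich Q u (v + w) hu hvw = eich Q u v hu hv * eich Q u w hu hw :=
  Form.Isom.ext fun x => (eichMap_add hu hv hw x).symm

theorem eich_congr {u v v' : V} (hu : Q u = 0) (hv : pol Q u v = 0) (h : v = v') :
    eich Q u v hu hv = eich Q u v' hu (h ▸ hv) := by subst h; rfl

theorem eich_neg {u v : V} (hu : Q u = 0) (hv : pol Q u v = 0) (hv' : pol Q u (-v) = 0) :
    eich Q u (-v) hu hv' = (eich Q u v hu hv)⁻¹ :=
  Form.Isom.ext fun _ => rfl

theorem eich_smul_self {u : V} (hu : Q u = 0) (c : F) (hv : pol Q u (c • u) = 0) :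
    eich Q u (c • u) hu hv = 1 := by
  refine Form.Isom.ext fun x => ?_
  simp only [eich_apply, map_smul, LinearMap.smul_apply, quad_smul, hu, Form.Isom.one_apply,
    smul_eq_mul]
  module

theorem eich_zero_left {v : V} (hu : Q 0 = 0) (hv : pol Q 0 v = 0) : eich Q 0 v hu hv = 1 := by
  refine Form.Isom.ext fun x => ?_
  simp [eich_apply]

theorem eich_smul_left {u v : V} (c : F) (hu : Q u = 0) (hv : pol Q u (c • v) = 0)
    (hu' : Q (c • u) = 0) (hv' : pol Q (c • u) v = 0) :
    eich Q (c • u) v hu' hv' = eich Q u (c • v) hu hv := by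
  refine Form.Isom.ext fun x => ?_
  simp only [eich_apply, map_smul, LinearMap.smul_apply, quad_smul, smul_eq_mul]
  module

theorem eich_conj (g : (ofQuad Q).Isom) {u v : V} (hu : Q u = 0) (hv : pol Q u v = 0) :
    g * eich Q u v hu hv * g⁻¹ = eich Q (g.1 u) (g.1 v) ((Form.Isom.map_quad g u).trans hu)
      ((Form.Isom.map_pol g u v).trans hv) := by
  refine Form.Isom.ext fun x => ?_
  simp only [Form.Isom.mul_apply, eich_apply, map_add, map_sub, map_smul,
    Form.Isom.apply_inv_apply, Form.Isom.map_quad, Form.Isom.B_left]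

theorem eich_eq_refl_mul {u v : V} (hu : Q u = 0) (huv : pol Q u v = 0) (hv : Q v ≠ 0) :
    eich Q u v hu huv = refl Q v * refl Q (v + (-Q v) • u) := by
  have hvu : pol Q v u = 0 := by rw [pol_comm, huv]
  have h1 : Q (v + (-Q v) • u) = Q v := by rw [quad_add_smul, hu, hvu]; ring
  refine Form.Isom.ext fun x => ?_
  simp only [Form.Isom.mul_apply, eich_apply, refl_apply, h1, map_add, map_smul, hvu, pol_self,
    LinearMap.add_apply, LinearMap.smul_apply, smul_eq_mul]
  match_scalars <;> field_simp <;> ring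

theorem quad_sub_smul_sing {u v : V} (hu : Q u = 0) (huv : pol Q u v = 0) (c : F) :
    Q (v + c • u) = Q v := by
  rw [quad_add_smul, hu, pol_comm, huv]; ring

theorem orthEquiv_eq_eich_iff {ι : Type} [Fintype ι] [DecidableEq ι] (Q : QuadraticForm F (ι → F))
    (g : Cfsg.isometryGroup F ⇑Q) (u v : ι → F) (c : F) (hu : Q u = 0) (hv : Q v = 0)
    (huv : pol Q u ((-c) • v) = 0) :
    ((g : GL ι F) : Matrix ι ι F) = Cfsg.siegelMatrix ⇑Q u v c ↔
      orthEquiv Q g = eich Q u ((-c) • v) hu huv := by
  have key : ∀ x, (Cfsg.siegelMatrix ⇑Q u v c).mulVec x = (eich Q u ((-c) • v) hu huv).1 x := by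
    intro x
    simp only [siegelMatrix_mulVec, eich_apply, quad_smul, hv, map_smul, LinearMap.smul_apply,
      ← pol_eq, smul_eq_mul]
    module
  constructor
  · intro h
    refine Form.Isom.ext fun x => ?_
    rw [orthEquiv_apply, h, key]
  · intro h
    refine matrix_ext_mulVec fun x => ?_
    rw [← orthEquiv_apply, h, key]

variable [FiniteDimensional F V]

/-- The exceptional case `O⁺₄(2)` is excluded by this hypothesis. -/
def NotTwoFour (F V : Type*) [Field F] [AddCommGroup V] [Module F V] : Prop :=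
  (∃ a : F, a ≠ 0 ∧ a ≠ 1) ∨ finrank F V ≠ 4

theorem exists_ne_zero_one_of_card {F : Type*} [Field F] [Fintype F] (h : Fintype.card F ≠ 2) :
    ∃ a : F, a ≠ 0 ∧ a ≠ 1 := by
  classical
  by_contra hcon
  push Not at hcon
  have h1 : (Finset.univ : Finset F) ⊆ {0, 1} := fun a _ => by
    by_cases ha : a = 0
    · simp [ha]
    · simp [hcon a ha]
  have h2 := Finset.card_le_card h1
  have h3 := Finset.card_le_two (a := (0 : F)) (b := 1)
  have h4 := Fintype.one_lt_card (α := F)
  rw [Finset.card_univ] at h2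
  omega

theorem notTwoFour_of_two_ne_zero (h2 : (2 : F) ≠ 0) : NotTwoFour F V :=
  Or.inl ⟨-1, by simp, fun h => h2 (by linear_combination -h)⟩

theorem notTwoFour_of_card {F : Type*} [Field F] [Fintype F] {ι : Type*} [Fintype ι]
    (h : Fintype.card F ≠ 2 ∨ Fintype.card ι ≠ 4) : NotTwoFour F (ι → F) := by
  rcases h with h | h
  · exact Or.inl (exists_ne_zero_one_of_card h)
  · exact Or.inr (by simpa using h)

variable {Q}

/-- Every Eichler transformation is a product of Eichler transformations `E(u, z)` with `z`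
non-singular. -/
theorem eich_mem_of_nonsing (h : (ofQuad Q).Nondeg) (h24 : NotTwoFour F V)
    (S : Subgroup (ofQuad Q).Isom) {u : V} (hu : Q u = 0)
    (hS : ∀ v (huv : pol Q u v = 0), Q v ≠ 0 → eich Q u v hu huv ∈ S) (v : V)
    (huv : pol Q u v = 0) : eich Q u v hu huv ∈ S := by
  by_cases hv : Q v = 0
  swap
  · exact hS v huv hv
  by_cases hu0 : u = 0
  · subst hu0
    rw [eich_zero_left]; exact S.one_mem
  by_cases hvu : v ∈ Submodule.span F {u}
  · obtain ⟨c, rfl⟩ := Submodule.mem_span_singleton.1 hvu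
    rw [eich_smul_self]; exact S.one_mem
  have key : ∃ z, pol Q u z = 0 ∧ Q z ≠ 0 ∧ Q (v - z) ≠ 0 := by
    rcases h24 with ⟨a, ha0, ha1⟩ | h4
    · obtain ⟨z0, hz1, hz2⟩ := h.exists_perp_eq_one' hvu
      have hz3 : pol Q u z0 = 0 := hz1 u (Submodule.mem_span_singleton_self u)
      have hz4 : pol Q z0 v = 1 := by rw [pol_comm]; exact hz2
      have hvv : pol Q v v = 0 := by rw [pol_self, hv, mul_zero]
      have hz5 : Q (z0 + (a - Q z0) • v) = a := by rw [quad_add_smul, hv, hz4]; ring
      refine ⟨z0 + (a - Q z0) • v, by simp only [map_add, map_smul, hz3, huv]; simp,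
        by rwa [hz5], ?_⟩
      rw [quad_sub, hz5, hv, map_add, map_smul, hvv, pol_comm, hz4]
      simpa [sub_eq_zero] using ha1
    · have hT : (ofQuad Q).TotSing (Submodule.span F {u} ⊔ Submodule.span F {v}) := by
        refine Form.TotSing.sup_span ?_ (((ofQuad Q).mem_perp_singleton).2 huv)
          (by rw [pol_self, hv, mul_zero]) hv
        rw [totSing_ofQuad]
        intro w hw
        obtain ⟨c, rfl⟩ := Submodule.mem_span_singleton.1 hw
        rw [quad_smul, hu, mul_zero]
      have hr : finrank F (Submodule.span F {u} ⊔ Submodule.span F {v} : Submodule F V) = 2 := by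
        rw [Submodule.finrank_sup_span_singleton hvu, finrank_span_singleton hu0]
      have h1 := hT.two_mul_finrank_le h
      have h2 := h.finrank_perp (Submodule.span F {u} ⊔ Submodule.span F {v})
      have h3 : ¬ (ofQuad Q).TotSing
          ((ofQuad Q).perp (Submodule.span F {u} ⊔ Submodule.span F {v})) := fun h5 => by
        have := h5.two_mul_finrank_le h
        omega
      rw [totSing_ofQuad] at h3
      push Not at h3
      obtain ⟨z, hz, hz'⟩ := h3
      rw [Form.perp_sup, Submodule.mem_inf, Form.mem_perp_singleton, Form.mem_perp_singleton] at hz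
      refine ⟨z, hz.1, hz', ?_⟩
      rw [quad_sub, hv, show pol Q v z = 0 from hz.2]
      simpa using hz'
  obtain ⟨z, hz1, hz2, hz3⟩ := key
  have hz4 : pol Q u (v - z) = 0 := by rw [map_sub, huv, hz1, sub_zero]
  rw [eich_congr Q hu huv (show v = z + (v - z) by abel), eich_add Q hu hz1 hz4]
  exact S.mul_mem (hS _ _ hz2) (hS _ _ hz3)

variable (Q) in
/-- The set of reflections. -/
def reflSet : Set (ofQuad Q).Isom := {g | ∃ v, Q v ≠ 0 ∧ g = refl Q v}

theorem refl_mem_closure {v : V} (hv : Q v ≠ 0) : refl Q v ∈ Subgroup.closure (reflSet Q) :=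
  Subgroup.subset_closure ⟨v, hv, rfl⟩

/-- **Cartan–Dieudonné**: the orthogonal group is generated by reflections. -/
theorem closure_reflSet (h : (ofQuad Q).Nondeg) (h24 : NotTwoFour F V) :
    Subgroup.closure (reflSet Q) = ⊤ := by
  refine (ofQuad Q).eq_top_of_fix _ fun g hg => ?_
  have hfix : ∀ u v, g.1 v = v → pol Q (g.1 u - u) v = 0 := fun u v hv => by
    rw [map_sub, LinearMap.sub_apply, sub_eq_zero]
    conv_lhs => rw [← hv]
    exact Form.Isom.map_pol g u v
  by_cases h1 : ∃ u, Q (g.1 u - u) ≠ 0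
  · obtain ⟨u, hu⟩ := h1
    refine ⟨refl Q (g.1 u - u), refl_mem_closure hu, u, fun v hv => refl_of_perp Q (hfix u v hv),
      fun h0 => hu (by rw [h0, sub_self, map_zero]), refl_sub_apply Q (Form.Isom.map_quad g u) hu⟩
  push Not at h1
  obtain ⟨u, hu⟩ : ∃ u, g.1 u ≠ u := by
    by_contra hcon
    push Not at hcon
    exact hg (Form.Isom.ext hcon)
  have h2 : ∀ x y, pol Q (g.1 x - x) (g.1 y - y) = 0 := fun x y => by
    have := h1 (x + y)
    rw [map_add, show g.1 x + g.1 y - (x + y) = (g.1 x - x) + (g.1 y - y) by abel, quad_add, h1,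
      h1] at this
    simpa using this
  have hp : g.1 (g.1 u - u) = g.1 u - u := by
    refine h.ext_left fun z => ?_
    obtain ⟨z, rfl⟩ := g.1.surjective z
    have e1 := Form.Isom.map_pol g (g.1 u - u) z
    have e2 := h2 u z
    rw [map_sub (pol Q (g.1 u - u))] at e2
    change pol Q _ _ = pol Q _ _
    linear_combination e1 - e2
  obtain ⟨w, hw1, hw2⟩ := h.exists_perp_eq_one
    (H := LinearMap.eqLocus (g.1 : V →ₗ[F] V) LinearMap.id) (u := u) hu
  have hpw : pol Q (g.1 u - u) w = 0 := by rw [pol_comm]; exact hw1 _ hp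
  have hpu : pol Q (g.1 u - u) u = 0 := by
    have := h1 u
    rw [quad_sub, Form.Isom.map_quad] at this
    rw [map_sub, LinearMap.sub_apply, pol_self]
    linear_combination -this
  refine ⟨eich Q _ w (h1 u) hpw, ?_, u, fun v hv => ?_, hu, ?_⟩
  · refine eich_mem_of_nonsing h h24 _ _ (fun v huv hv => ?_) _ _
    rw [eich_eq_refl_mul Q _ _ hv]
    exact Subgroup.mul_mem _ (refl_mem_closure hv)
      (refl_mem_closure (by rwa [quad_sub_smul_sing Q (h1 u) huv]))
  · rw [eich_apply, hfix u v hv, show pol Q w v = 0 from hw1 v hv]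
    simp
  · rw [eich_apply, hpu, show pol Q w u = 1 from hw2]
    simp

/-- Reflections in vectors whose norms differ by a square are conjugate. -/
theorem refl_conj_of_sq (h : (ofQuad Q).Nondeg) {a b : V} (ha : Q a ≠ 0) {c : F} (hc : c ≠ 0)
    (hab : Q b = c ^ 2 * Q a) : ∃ g : (ofQuad Q).Isom, refl Q b = g * refl Q a * g⁻¹ := by
  have hb : Q b ≠ 0 := by rw [hab]; exact mul_ne_zero (pow_ne_zero _ hc) ha
  have ha0 : c • a ≠ 0 := smul_ne_zero hc (by rintro rfl; simp at ha)
  have hb0 : b ≠ 0 := by rintro rfl; simp at hb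
  have hQ : Q b = Q (c • a) := by rw [quad_smul, hab]
  obtain ⟨g, hg⟩ := h.witt_one ha0 hb0 (by rw [pol_self, pol_self, hQ]) hQ
  exact ⟨g, by rw [← refl_smul Q hc a, refl_conj, hg]⟩

theorem refl_mul_refl_mem_commutator (h : (ofQuad Q).Nondeg) {a b : V} (ha : Q a ≠ 0) {c : F}
    (hc : c ≠ 0) (hab : Q b = c ^ 2 * Q a) :
    refl Q b * refl Q a ∈ commutator (ofQuad Q).Isom := by
  obtain ⟨g, hg⟩ := refl_conj_of_sq h ha hc hab
  have : refl Q b * refl Q a = ⁅g, refl Q a⁆ := by
    rw [hg, commutatorElement_def, refl_inv]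
  rw [this]
  exact Subgroup.commutator_mem_commutator (Subgroup.mem_top _) (Subgroup.mem_top _)

/-- Eichler transformations lie in `Ω`. -/
theorem eich_mem_commutator (h : (ofQuad Q).Nondeg) (h24 : NotTwoFour F V) {u v : V}
    (hu : Q u = 0) (huv : pol Q u v = 0) : eich Q u v hu huv ∈ commutator (ofQuad Q).Isom := by
  refine eich_mem_of_nonsing h h24 _ hu (fun v huv hv => ?_) v huv
  rw [eich_eq_refl_mul Q _ _ hv]
  have h1 := quad_sub_smul_sing Q hu huv (-Q v)
  exact refl_mul_refl_mem_commutator h (c := 1) (by rwa [h1]) one_ne_zero (by rw [h1]; ring)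

/-- The commutator subgroup is contained in every subgroup containing all `(r_a r_b)²`. -/
theorem commutator_le_of_refl (h : (ofQuad Q).Nondeg) (h24 : NotTwoFour F V)
    (S : Subgroup (ofQuad Q).Isom)
    (hS : ∀ a b, Q a ≠ 0 → Q b ≠ 0 → refl Q a * refl Q b * (refl Q a * refl Q b) ∈ S) :
    commutator (ofQuad Q).Isom ≤ S := by
  let C : Set (ofQuad Q).Isom :=
    {g | ∃ a b, Q a ≠ 0 ∧ Q b ≠ 0 ∧ g = refl Q a * refl Q b * (refl Q a * refl Q b)}
  have hC : Subgroup.closure C ≤ S := by
    rw [Subgroup.closure_le]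
    rintro _ ⟨a, b, ha, hb, rfl⟩
    exact hS a b ha hb
  refine le_trans ?_ hC
  have hn : (Subgroup.closure C).Normal := by
    refine ⟨fun n hn g => ?_⟩
    induction hn using Subgroup.closure_induction with
    | mem x hx =>
      obtain ⟨a, b, ha, hb, rfl⟩ := hx
      refine Subgroup.subset_closure ⟨g.1 a, g.1 b, by rwa [Form.Isom.map_quad],
        by rwa [Form.Isom.map_quad], ?_⟩
      rw [← refl_conj, ← refl_conj]; group
    | one => simp
    | mul x y _ _ h1 h2 =>
      have : g * (x * y) * g⁻¹ = g * x * g⁻¹ * (g * y * g⁻¹) := by group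
      rw [this]; exact Subgroup.mul_mem _ h1 h2
    | inv x _ h1 =>
      have : g * x⁻¹ * g⁻¹ = (g * x * g⁻¹)⁻¹ := by group
      rw [this]; exact Subgroup.inv_mem _ h1
  rw [← Subgroup.Normal.quotient_commutative_iff_commutator_le]
  have htop := closure_reflSet h h24
  have hcomm : ∀ x ∈ reflSet Q, ∀ y ∈ reflSet Q,
      Commute (QuotientGroup.mk' (Subgroup.closure C) x) (QuotientGroup.mk' _ y) := by
    rintro _ ⟨a, ha, rfl⟩ _ ⟨b, hb, rfl⟩
    rw [Commute, SemiconjBy, ← map_mul, ← map_mul, QuotientGroup.mk'_apply,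
      QuotientGroup.mk'_apply, eq_comm, QuotientGroup.eq, mul_inv_rev, refl_inv, refl_inv]
    exact Subgroup.subset_closure ⟨a, b, ha, hb, rfl⟩
  refine ⟨⟨fun x y => ?_⟩⟩
  obtain ⟨x, rfl⟩ := QuotientGroup.mk'_surjective _ x
  obtain ⟨y, rfl⟩ := QuotientGroup.mk'_surjective _ y
  have hx : x ∈ Subgroup.closure (reflSet Q) := by rw [htop]; trivial
  have hy : y ∈ Subgroup.closure (reflSet Q) := by rw [htop]; trivial
  change Commute _ _
  induction hx, hy using Subgroup.closure_induction₂ with
  | mem x y hx hy => exact hcomm x hx y hy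
  | one_left x _ => simp
  | one_right x _ => simp
  | mul_left x y z _ _ _ h1 h2 => rw [map_mul]; exact h1.mul_left h2
  | mul_right x y z _ _ _ h1 h2 => rw [map_mul]; exact h1.mul_right h2
  | inv_left x y _ _ h1 => rw [map_inv]; exact h1.inv_left
  | inv_right x y _ _ h1 => rw [map_inv]; exact h1.inv_right

end H15
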