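import Mathlib
import Cfsg.Agent.H15.Bases
import Cfsg.Agent.H15.Util

/-!
# Generation of symplectic and special unitary groups by transvections
-/

set_option autoImplicit false
set_option linter.unusedSectionVars false

namespace H15

open Module
open scoped commutatorElement

namespace Form

variable {F : Type*} [Field F] {σ : F →+* F} {V : Type*} [AddCommGroup V] [Module F V]
variable (Φ : Form σ V)

/-- The isometries of the shape `v ↦ v + c B(p, v) p` with `p` isotropic. -/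
def transvSet : Set Φ.Isom := {g | ∃ p c, Φ.B p p = 0 ∧ ∀ v, g.1 v = v + (c * Φ.B p v) • p}

/-- The isometries of the shape `v ↦ v + c B(p, v) p`. -/
def dilSet : Set Φ.Isom := {g | ∃ p c, ∀ v, g.1 v = v + (c * Φ.B p v) • p}

theorem conj_dil_apply (g k : Φ.Isom) {p : V} {c : F} (hk : ∀ v, k.1 v = v + (c * Φ.B p v) • p)
    (v : V) : (g * k * g⁻¹).1 v = v + (c * Φ.B (g.1 p) v) • g.1 p := by
  simp only [Isom.mul_apply, hk, map_add, map_smul, Isom.apply_inv_apply, Isom.B_left]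

theorem closure_transvSet_normal : (Subgroup.closure Φ.transvSet).Normal := by
  refine ⟨fun n hn g => ?_⟩
  induction hn using Subgroup.closure_induction with
  | mem x hx =>
    obtain ⟨p, c, hp, hx⟩ := hx
    exact Subgroup.subset_closure ⟨g.1 p, c, by rw [Isom.map_B, hp], Φ.conj_dil_apply g x hx⟩
  | one => simp
  | mul x y _ _ h1 h2 =>
    have : g * (x * y) * g⁻¹ = g * x * g⁻¹ * (g * y * g⁻¹) := by group
    rw [this]; exact Subgroup.mul_mem _ h1 h2
  | inv x _ h1 =>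
    have : g * x⁻¹ * g⁻¹ = (g * x * g⁻¹)⁻¹ := by group
    rw [this]; exact Subgroup.inv_mem _ h1

variable [FiniteDimensional F V]

theorem det_of_dil {g : Φ.Isom} {p : V} {c : F} (hg : ∀ v, g.1 v = v + (c * Φ.B p v) • p) :
    (Φ.det g : F) = 1 + c * Φ.B p p := by
  rw [coe_det, ← Φ.dil_det]
  congr 1
  ext v
  rw [dil_apply]; exact hg v

theorem closure_transvSet_le_det_ker : Subgroup.closure Φ.transvSet ≤ Φ.det.ker := by
  rw [Subgroup.closure_le]
  rintro g ⟨p, c, hp, hg⟩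
  exact Units.ext (by rw [Φ.det_of_dil hg, hp]; simp)

variable {Φ}

theorem Nondeg.exists_dil (h : Φ.Nondeg) {u u' : V} (hBB : Φ.B u' u' = Φ.B u u)
    (hQ : Φ.Q u' = Φ.Q u) (hp : Φ.B (u' - u) u ≠ 0) :
    ∃ (g : Φ.Isom) (c : F), (∀ v, g.1 v = v + (c * Φ.B (u' - u) v) • (u' - u)) ∧ g.1 u = u' := by
  refine ⟨Φ.dilIsom h _ _ (Φ.dilOK_of_ne hBB hQ hp), _, Φ.dilIsom_apply h _ _ _, ?_⟩
  rw [dilIsom_apply, inv_mul_cancel₀ hp]; simp

omit [FiniteDimensional F V] in
theorem Isom.B_sub_of_fix (g : Φ.Isom) (u : V) {v : V} (hv : g.1 v = v) :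
    Φ.B (g.1 u - u) v = 0 := by
  rw [map_sub, LinearMap.sub_apply, sub_eq_zero]
  conv_lhs => rw [← hv]
  exact Isom.map_B g u v

omit [FiniteDimensional F V] in
theorem Isom.exists_ne {g : Φ.Isom} (hg : g ≠ 1) : ∃ u, g.1 u ≠ u := by
  by_contra hcon
  push Not at hcon
  exact hg (Isom.ext hcon)

/-- In an alternating space, `u ↦ u'` by at most two transvections fixing `H` pointwise. -/
theorem IsAlt.exists_transv (hA : Φ.IsAlt) (h : Φ.Nondeg) (H : Submodule F V) {u u' : V}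
    (hu : u ∉ H) (hu' : u' ∉ H) (hB : ∀ x ∈ H, Φ.B (u' - u) x = 0) :
    ∃ g ∈ Subgroup.closure Φ.transvSet, (∀ x ∈ H, g.1 x = x) ∧ g.1 u = u' := by
  have step : ∀ a b : V, (∀ x ∈ H, Φ.B (b - a) x = 0) → Φ.B (b - a) a ≠ 0 →
      ∃ g ∈ Subgroup.closure Φ.transvSet, (∀ x ∈ H, g.1 x = x) ∧ g.1 a = b := by
    intro a b h1 h2
    obtain ⟨g, c, hg1, hg2⟩ := h.exists_dil (by rw [hA.1, hA.1]) (by rw [hA.2, hA.2]) h2
    exact ⟨g, Subgroup.subset_closure ⟨_, c, hA.1 _, hg1⟩,
      fun x hx => by rw [hg1, h1 x hx]; simp, hg2⟩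
  by_cases hp : Φ.B (u' - u) u = 0
  swap
  · exact step u u' hB hp
  obtain ⟨w, hw1, hw2, hw3⟩ := h.exists_perp_two hu hu'
  obtain ⟨g1, hg1, hg2, hg3⟩ := step u (u + w) (by simpa using hw1) (by simp [hw2])
  obtain ⟨g2, hg4, hg5, hg6⟩ := step (u + w) u' (fun x hx => by
    rw [← sub_sub, map_sub, LinearMap.sub_apply, hB x hx, hw1 x hx, sub_zero]) (by
    have e1 : Φ.B u' u = 0 := by simpa [hA.1] using hp
    have e2 : Φ.B u' w ≠ 0 := fun h0 => hw3 (Φ.B_eq_zero_comm.1 h0)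
    rw [map_sub, LinearMap.sub_apply, hA.1, map_add, e1]
    simpa using e2)
  exact ⟨g2 * g1, Subgroup.mul_mem _ hg4 hg1, fun x hx => by rw [Isom.mul_apply, hg2 x hx, hg5 x hx],
    by rw [Isom.mul_apply, hg3, hg6]⟩

/-- The symplectic group is generated by transvections. -/
theorem IsAlt.closure_transvSet (hA : Φ.IsAlt) (h : Φ.Nondeg) :
    Subgroup.closure Φ.transvSet = ⊤ := by
  refine Φ.eq_top_of_fix _ fun g hg => ?_
  obtain ⟨u, hu⟩ := Isom.exists_ne hg
  obtain ⟨s, hs1, hs2, hs3⟩ := hA.exists_transv h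
    (LinearMap.eqLocus (g.1 : V →ₗ[F] V) LinearMap.id) (u := u) (u' := g.1 u) hu
    (fun h0 => hu (g.1.injective h0)) (fun x hx => Isom.B_sub_of_fix g u hx)
  exact ⟨s, hs1, u, hs2, hu, hs3⟩

/-! ### Unitary groups -/

/-- The unitary group is generated by transvections and quasi-reflections. -/
theorem IsHerm.closure_dilSet (hH : Φ.IsHerm) (h : Φ.Nondeg) : Subgroup.closure Φ.dilSet = ⊤ := by
  refine Φ.eq_top_of_fix _ fun g hg => ?_
  have : ∃ u, Φ.B (g.1 u - u) u ≠ 0 := by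
    by_contra hcon
    push Not at hcon
    obtain ⟨a, ha⟩ := exists_sigma_ne σ hH.1
    refine hg (Isom.ext fun x => sub_eq_zero.1 (h _ fun y => ?_))
    have h1 := hcon (x + y)
    have h2 := hcon (a • x + y)
    have h3 := hcon x
    have h4 := hcon y
    simp only [map_add, map_sub, LinearMap.map_smulₛₗ, map_smul, LinearMap.add_apply,
      LinearMap.sub_apply, LinearMap.smul_apply, smul_eq_mul, Isom.one_apply] at h1 h2 h3 h4 ⊢
    have : (σ a - a) * (Φ.B (g.1 x) y - Φ.B x y) = 0 := by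
      linear_combination h2 - a * h1 - (σ a * a - a) * h3 - (1 - a) * h4
    exact (mul_eq_zero.1 this).resolve_left (sub_ne_zero.2 ha)
  obtain ⟨u, hu⟩ := this
  obtain ⟨s, c, hs1, hs2⟩ := h.exists_dil (Isom.map_B g u u) (Isom.map_Q g u) hu
  exact ⟨s, Subgroup.subset_closure ⟨_, c, hs1⟩, u,
    fun v hv => by rw [hs1, Isom.B_sub_of_fix g u hv]; simp,
    fun h0 => hu (by rw [h0]; simp), hs2⟩

omit [FiniteDimensional F V] in
theorem Nondeg.tau_eq_zero (h : Φ.Nondeg) (hQ : ∀ x, Φ.Q x = 0) {p : V} (hp : p ≠ 0) :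
    Φ.τ = 0 := by
  by_contra hτ
  refine hp (h p fun y => ?_)
  have := Φ.Q_add p y
  rw [hQ, hQ, hQ] at this
  exact (mul_eq_zero.1 (by linear_combination -this : Φ.τ * Φ.B p y = 0)).resolve_left hτ

/-- Unitary transvections and quasi-reflections exist. -/
theorem IsHerm.exists_dil (hH : Φ.IsHerm) (h : Φ.Nondeg) (p : V) {c : F}
    (hc : c + σ c + c * σ c * Φ.B p p = 0) :
    ∃ g : Φ.Isom, ∀ v, g.1 v = v + (c * Φ.B p v) • p :=
  ⟨Φ.mkIsom h (Φ.dil p c) (fun x y => by rw [dil_B, hH.2.1, mul_one, hc]; ring)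
    (fun x => by rw [hH.2.2, hH.2.2]), Φ.dil_apply p c⟩

theorem IsHerm.exists_transv (hH : Φ.IsHerm) (h : Φ.Nondeg) {p : V} (hp : Φ.B p p = 0) {c : F}
    (hc : c + σ c = 0) :
    ∃ g ∈ Subgroup.closure Φ.transvSet, ∀ v, g.1 v = v + (c * Φ.B p v) • p := by
  obtain ⟨g, hg⟩ := hH.exists_dil h p (c := c) (by rw [hc, hp]; ring)
  exact ⟨g, Subgroup.subset_closure ⟨p, c, hp, hg⟩, hg⟩

variable (Φ) in
/-- Being in the same orbit under the group generated by transvections. -/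
def TRel (x y : V) : Prop := ∃ g ∈ Subgroup.closure Φ.transvSet, g.1 x = y

omit [FiniteDimensional F V] in
theorem TRel.refl (x : V) : Φ.TRel x x := ⟨1, Subgroup.one_mem _, rfl⟩

omit [FiniteDimensional F V] in
theorem TRel.symm {x y : V} (h : Φ.TRel x y) : Φ.TRel y x := by
  obtain ⟨g, hg, rfl⟩ := h
  exact ⟨g⁻¹, Subgroup.inv_mem _ hg, by simp⟩

omit [FiniteDimensional F V] in
theorem TRel.trans {x y z : V} (h : Φ.TRel x y) (h' : Φ.TRel y z) : Φ.TRel x z := by
  obtain ⟨g, hg, rfl⟩ := h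
  obtain ⟨g', hg', rfl⟩ := h'
  exact ⟨g' * g, Subgroup.mul_mem _ hg' hg, rfl⟩

/-- Transitivity on unit vectors of a hyperbolic plane. -/
theorem IsHerm.trel_plane (hH : Φ.IsHerm) (h : Φ.Nondeg) {e f : V} (hee : Φ.B e e = 0)
    (hff : Φ.B f f = 0) (hef : Φ.B e f = 1) {x y x' y' : F} (h1 : σ x * y + σ y * x = 1)
    (h2 : σ x' * y' + σ y' * x' = 1) : Φ.TRel (x • e + y • f) (x' • e + y' • f) := by
  have hfe : Φ.B f e = 1 := by rw [Φ.B_symm_one hef, hH.2.1]
  have hσ := Φ.invol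
  have opE : ∀ x y c : F, c + σ c = 0 → Φ.TRel (x • e + y • f) ((x + c * y) • e + y • f) := by
    intro x y c hc
    obtain ⟨g, hg1, hg2⟩ := hH.exists_transv h hee hc
    refine ⟨g, hg1, ?_⟩
    simp only [hg2, map_add, map_smul, hee, hef, smul_eq_mul]
    module
  have opF : ∀ x y c : F, c + σ c = 0 → Φ.TRel (x • e + y • f) (x • e + (y + c * x) • f) := by
    intro x y c hc
    obtain ⟨g, hg1, hg2⟩ := hH.exists_transv h hff hc
    refine ⟨g, hg1, ?_⟩
    simp only [hg2, map_add, map_smul, hff, hfe, smul_eq_mul]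
    module
  obtain ⟨θ, hθ⟩ := exists_trace_eq_one σ hH.1 hσ
  have k1 : ∀ y : F, y + σ y = 1 → Φ.TRel ((1 : F) • e + y • f) ((1 : F) • e + θ • f) := by
    intro y hy
    have := opF 1 y (θ - y) (by rw [map_sub]; linear_combination hθ - hy)
    rwa [mul_one, add_sub_cancel] at this
  have k2 : ∀ x y : F, σ x * y + σ y * x = 1 → σ x - x ≠ 0 →
      Φ.TRel (x • e + y • f) ((1 : F) • e + θ • f) := by
    intro x y hxy hx
    have hx' : x - σ x ≠ 0 := fun h0 => hx (by linear_combination -h0)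
    obtain ⟨k, hk⟩ : ∃ k, k = (y + σ y - 1) / (σ x - x) := ⟨_, rfl⟩
    have hk1 : k * (σ x - x) = y + σ y - 1 := by rw [hk, div_mul_cancel₀ _ hx]
    have hk2 : k + σ k = 0 := by
      rw [hk, map_div₀, map_sub, map_add, map_sub, hσ, hσ, map_one]
      field_simp
      ring
    have s1 := opF x y k hk2
    have s2 := opE x (y + k * x) (σ x - x) (by rw [map_sub, hσ]; ring)
    rw [show x + (σ x - x) * (y + k * x) = 1 by linear_combination hxy + x * hk1] at s2
    refine s1.trans (s2.trans (k1 _ ?_))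
    rw [map_add, map_mul]
    linear_combination -hk1 + σ x * hk2
  have k3 : ∀ x y : F, σ x * y + σ y * x = 1 → Φ.TRel (x • e + y • f) ((1 : F) • e + θ • f) := by
    intro x y hxy
    by_cases hx : σ x - x = 0
    swap
    · exact k2 x y hxy hx
    obtain ⟨η, hη0, hη⟩ := exists_trace_zero σ hH.1 hσ
    have hη' : σ η = -η := by linear_combination hη
    have hx' : σ x = x := by linear_combination hx
    refine (opE x y η hη).trans (k2 _ _ ?_ ?_)
    · rw [map_add, map_mul, hη']; linear_combination hxy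
    · rw [map_add, map_mul, hη', hx']
      intro h0
      have : η * (y + σ y) = 0 := by linear_combination -h0
      have h3 := (mul_eq_zero.1 this).resolve_left hη0
      rw [hx'] at hxy
      exact one_ne_zero (by linear_combination -hxy + x * h3 : (1 : F) = 0)
  exact (k3 x y h1).trans (k3 x' y' h2).symm

/-- Two unit vectors spanning a non-degenerate plane are in the same orbit. -/
theorem IsHerm.trel_of_gram_ne [Finite F] (hH : Φ.IsHerm) (h : Φ.Nondeg) {a b : V}
    (ha : Φ.B a a = 1) (hb : Φ.B b b = 1) (hab : σ (Φ.B a b) * Φ.B a b ≠ 1) : Φ.TRel a b := by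
  have hσ := Φ.invol
  have hba : Φ.B b a = σ (Φ.B a b) := (hH.symm a b).symm
  obtain ⟨β, hβ⟩ : ∃ β, β = Φ.B a b := ⟨_, rfl⟩
  rw [← hβ] at hab hba
  have h1 : Φ.B (b - β • a) (b - β • a) ≠ 0 := by
    simp only [map_sub, LinearMap.map_smulₛₗ, LinearMap.sub_apply, LinearMap.smul_apply,
      smul_eq_mul, RingHom.id_apply, ha, hb, hba, ← hβ]
    intro h0
    exact hab (by linear_combination -h0)
  obtain ⟨s, hs⟩ := hH.exists_smul_eq h1 (a := -1) (by simp)
  have hs0 : s ≠ 0 := by rintro rfl; simp at hs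
  obtain ⟨d, hd⟩ : ∃ d, d = s • (b - β • a) := ⟨_, rfl⟩
  rw [← hd] at hs
  have had : Φ.B a d = 0 := by simp [hd, ha, ← hβ]
  have hda : Φ.B d a = 0 := Φ.B_eq_zero_comm.1 had
  obtain ⟨θ, hθ⟩ := exists_trace_eq_one σ hH.1 hσ
  have hee : Φ.B (a + d) (a + d) = 0 := by simp [ha, hs, had, hda]
  have hff : Φ.B (θ • a - σ θ • d) (θ • a - σ θ • d) = 0 := by
    simp [ha, hs, had, hda, hσ]; ring
  have hef : Φ.B (a + d) (θ • a - σ θ • d) = 1 := by simp [ha, hs, had, hda, hθ]
  have hθ' : σ θ = 1 - θ := by linear_combination hθ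
  have ea : a = σ θ • (a + d) + (1 : F) • (θ • a - σ θ • d) := by
    rw [hθ']; module
  have eb : b = (β * σ θ + s⁻¹ * θ) • (a + d) + (β - s⁻¹) • (θ • a - σ θ • d) := by
    have : b = β • a + s⁻¹ • d := by rw [hd, smul_smul, inv_mul_cancel₀ hs0]; simp
    rw [hθ']
    conv_lhs => rw [this]
    module
  have hfe : Φ.B (θ • a - σ θ • d) (a + d) = 1 := by rw [Φ.B_symm_one hef, hH.2.1]
  have norm : ∀ x y : F, Φ.B (x • (a + d) + y • (θ • a - σ θ • d))
      (x • (a + d) + y • (θ • a - σ θ • d)) = σ x * y + σ y * x := fun x y => by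
    generalize a + d = e at hee hef hfe
    generalize θ • a - σ θ • d = f at hff hef hfe
    simp [hee, hff, hef, hfe]
  have := hH.trel_plane h hee hff hef (x := σ θ) (y := 1) (x' := β * σ θ + s⁻¹ * θ)
    (y' := β - s⁻¹) (by rw [← norm, ← ea, ha]) (by rw [← norm, ← eb, hb])
  rwa [← ea, ← eb] at this

/-- The hypothesis excluding `SU₃(2)`. -/
def NotSU32 (_Φ : Form σ V) : Prop :=
  4 ≤ finrank F V ∨ (3 ≤ finrank F V ∧ ∃ k : F, σ k = k ∧ k ≠ 0 ∧ k ≠ 1)

/-- The group generated by unitary transvections is transitive on unit vectors. -/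
theorem IsHerm.trel_unit [Finite F] (hH : Φ.IsHerm) (h : Φ.Nondeg) (hn : Φ.NotSU32) {a b : V}
    (ha : Φ.B a a = 1) (hb : Φ.B b b = 1) : Φ.TRel a b := by
  classical
  by_cases hab : σ (Φ.B a b) * Φ.B a b = 1
  swap
  · exact hH.trel_of_gram_ne h ha hb hab
  suffices ∃ c, Φ.B c c = 1 ∧ Φ.B a c = 0 ∧ σ (Φ.B b c) * Φ.B b c ≠ 1 by
    obtain ⟨c, h1, h2, h3⟩ := this
    exact (hH.trel_of_gram_ne h ha h1 (by simp [h2])).trans (hH.trel_of_gram_ne h hb h1 h3).symm
  have hn3 : 3 ≤ finrank F V := by rcases hn with hn | hn <;> omega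
  have hba : Φ.B b a = σ (Φ.B a b) := (hH.symm a b).symm
  obtain ⟨β, hβ⟩ : ∃ β, β = Φ.B a b := ⟨_, rfl⟩
  rw [← hβ] at hab hba
  obtain ⟨p, hp⟩ : ∃ p, p = b - β • a := ⟨_, rfl⟩
  have hbp : b = p + β • a := by rw [hp]; simp
  have hap : Φ.B a p = 0 := by simp [hp, ha, ← hβ]
  have hpa : Φ.B p a = 0 := Φ.B_eq_zero_comm.1 hap
  have hpp : Φ.B p p = 0 := by
    simp only [hp, map_sub, LinearMap.map_smulₛₗ, LinearMap.sub_apply, LinearMap.smul_apply,
      smul_eq_mul, RingHom.id_apply, ha, hb, hba, ← hβ]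
    linear_combination -hab
  have ha0 : Φ.B a a ≠ 0 := by rw [ha]; exact one_ne_zero
  have hd := h.disjoint_perp_perp (Φ.disjoint_span_singleton ha0)
  have hr := h.finrank_perp (Submodule.span F {a})
  rw [finrank_span_singleton (by rintro rfl; simp at ha)] at hr
  by_cases hp0 : p = 0
  · obtain ⟨c, hc, hc'⟩ := hH.exists_unit hd (by intro h0; rw [h0, finrank_bot] at hr; omega)
    have hac := Φ.mem_perp_singleton.1 hc
    exact ⟨c, hc', hac, by simp [hbp, hp0, hac]⟩
  obtain ⟨r, hr1, hpr, hrr, -⟩ := Φ.exists_hyp_partner_mem hd (Φ.mem_perp_singleton.2 hap) hp0 hpp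
    (hH.2.2 p)
  have har : Φ.B a r = 0 := Φ.mem_perp_singleton.1 hr1
  have hra : Φ.B r a = 0 := Φ.B_eq_zero_comm.1 har
  have hrp : Φ.B r p = 1 := by rw [Φ.B_symm_one hpr, hH.2.1]
  rcases hn with hn | ⟨-, k, hk, hk0, hk1⟩
  · have d1 : ∀ i, Φ.B (![a, r, p] i) (![a, p, r] i) ≠ 0 := by
      intro i; fin_cases i <;> simp [ha, hrp, hpr]
    have d2 : ∀ i j, i ≠ j → Φ.B (![a, r, p] i) (![a, p, r] j) = 0 := by
      intro i j hij
      fin_cases i <;> fin_cases j <;> simp [hap, har, hra, hrr, hpa, hpp] at hij ⊢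
    have hli := Φ.linearIndependent_of_dual _ _ d1 d2
    have hd2 := h.disjoint_perp_perp (Φ.disjoint_of_dual _ _ d1 d2 (by
      intro i
      fin_cases i
      · exact Submodule.subset_span ⟨0, rfl⟩
      · exact Submodule.subset_span ⟨2, rfl⟩
      · exact Submodule.subset_span ⟨1, rfl⟩))
    have hr2 := h.finrank_perp (Submodule.span F (Set.range ![a, p, r]))
    rw [finrank_span_eq_card hli, Fintype.card_fin] at hr2
    obtain ⟨c, hc, hc'⟩ := hH.exists_unit hd2 (by intro h0; rw [h0, finrank_bot] at hr2; omega)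
    have hac : Φ.B a c = 0 := hc _ (Submodule.subset_span ⟨0, rfl⟩)
    have hpc : Φ.B p c = 0 := hc _ (Submodule.subset_span ⟨1, rfl⟩)
    exact ⟨c, hc', hac, by simp [hbp, hac, hpc]⟩
  · obtain ⟨θ, hθ⟩ := exists_trace_eq_one σ hH.1 Φ.invol
    obtain ⟨t, ht⟩ := norm_surj σ hH.1 Φ.invol (a := k⁻¹) (by rw [map_inv₀, hk])
    refine ⟨t • ((k * θ) • p + r), ?_, by simp [hap, har], ?_⟩
    · simp only [map_add, LinearMap.map_smulₛₗ, LinearMap.add_apply, LinearMap.smul_apply,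
        smul_eq_mul, RingHom.id_apply, hpp, hpr, hrp, hrr, map_mul, hk]
      have : k * k⁻¹ = 1 := mul_inv_cancel₀ hk0
      linear_combination k * (θ + σ θ) * ht + k * k⁻¹ * hθ + this
    · have : Φ.B b (t • ((k * θ) • p + r)) = t := by simp [hbp, hpp, hpr, hap, har]
      rw [this, mul_comm, ht]
      exact fun h0 => hk1 (inv_eq_one.1 h0)

/-- `SU` is generated by unitary transvections. -/
theorem IsHerm.closure_transvSet [Finite F] (hH : Φ.IsHerm) (h : Φ.Nondeg) (hn : Φ.NotSU32) :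
    Subgroup.closure Φ.transvSet = Φ.det.ker := by
  refine le_antisymm Φ.closure_transvSet_le_det_ker ?_
  have hN := Φ.closure_transvSet_normal
  have hn3 : 3 ≤ finrank F V := by rcases hn with hn | hn <;> omega
  obtain ⟨a0, -, ha0⟩ := hH.exists_unit (U := ⊤) (by rw [h.perp_top]; exact disjoint_bot_right) (by
    intro h0
    have := finrank_top F V
    rw [h0, finrank_bot] at this
    omega)
  have hqr : ∀ g : Φ.Isom, ∃ k : Φ.Isom, ∀ v, k.1 v = v + (((Φ.det g : F) - 1) * Φ.B a0 v) • a0 :=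
    fun g => hH.exists_dil h a0 (by
      rw [ha0, map_sub, map_one]; linear_combination Φ.det_mul_sigma_det h g)
  choose qr hqr using hqr
  let qr0 : Φ.Isom →* Φ.Isom := MonoidHom.mk' qr fun g g' => Isom.ext fun v => by
    simp only [Isom.mul_apply, hqr, map_mul, Units.val_mul, map_add, map_smul, ha0, smul_eq_mul]
    module
  let π := QuotientGroup.mk' (Subgroup.closure Φ.transvSet)
  have hπ : ∀ g, π g = 1 ↔ g ∈ Subgroup.closure Φ.transvSet := fun g => QuotientGroup.eq_one_iff g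
  have hqr1 : ∀ g, Φ.det g = 1 → qr0 g = 1 := fun g hg =>
    Isom.ext fun v => by
      change (qr g).1 v = v
      rw [hqr, hg]; simp
  have key : Subgroup.closure Φ.dilSet ≤ MonoidHom.eqLocus π (π.comp qr0) := by
    rw [Subgroup.closure_le]
    rintro g ⟨p, c, hg⟩
    change π g = π (qr0 g)
    by_cases hp : Φ.B p p = 0
    · have h1 : g ∈ Subgroup.closure Φ.transvSet := Subgroup.subset_closure ⟨p, c, hp, hg⟩
      rw [(hπ g).2 h1, hqr1 g (Φ.closure_transvSet_le_det_ker h1), map_one]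
    · obtain ⟨s, hs⟩ := hH.exists_smul_eq hp (map_one σ)
      obtain ⟨t, ht, hta⟩ := hH.trel_unit h hn ha0 hs
      have : g = t * qr0 g * t⁻¹ := Isom.ext fun v => by
        rw [Φ.conj_dil_apply t (qr0 g) (hqr g), hta, Φ.det_of_dil hg, hg]
        simp only [LinearMap.map_smulₛₗ, LinearMap.smul_apply, smul_eq_mul, RingHom.id_apply,
          smul_smul] at hs ⊢
        congr 2
        linear_combination (-c * Φ.B p v) * hs
      conv_lhs => rw [this]
      rw [map_mul, map_mul, map_inv, (hπ t).2 ht]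
      simp
  intro g hg
  have h1 : π g = π (qr0 g) := key (by rw [hH.closure_dilSet h]; trivial)
  rw [hqr1 g hg, map_one] at h1
  exact (hπ g).1 h1

/-- Unitary Eichler transformations. -/
theorem IsHerm.exists_eichler (hH : Φ.IsHerm) (h : Φ.Nondeg) {v w : V} (hv : Φ.B v v = 0)
    (hvw : Φ.B v w = 0) {μ : F} (hμ : μ + σ μ = Φ.B w w) :
    ∃ g : Φ.det.ker, ∀ x, g.1.1 x = x + (Φ.B w x - μ * Φ.B v x) • v - Φ.B v x • w := by
  have hwv : Φ.B w v = 0 := Φ.B_eq_zero_comm.1 hvw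
  let f : V →ₗ[F] V := LinearMap.transvection (Φ.B w + σ μ • Φ.B v) v ∘ₗ
    LinearMap.transvection (-Φ.B v) w
  have hf : ∀ x, f x = x + (Φ.B w x - μ * Φ.B v x) • v - Φ.B v x • w := fun x => by
    simp only [f, LinearMap.comp_apply, LinearMap.transvection.apply, LinearMap.add_apply,
      LinearMap.smul_apply, LinearMap.neg_apply, map_add, map_smul, hvw, ← hμ, smul_eq_mul]
    module
  refine ⟨⟨Φ.mkIsom h f (fun x y => ?_) (fun x => by rw [hH.2.2, hH.2.2]), ?_⟩, hf⟩
  · simp only [hf, map_add, map_sub, LinearMap.map_smulₛₗ, LinearMap.add_apply,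
      LinearMap.sub_apply, LinearMap.smul_apply, smul_eq_mul, RingHom.id_apply, hv, hvw, hwv, ← hμ,
      map_mul, ← hH.symm v x, ← hH.symm w x]
    ring
  · rw [MonoidHom.mem_ker, Units.ext_iff, coe_det, mkIsom_coe, LinearMap.det_comp]
    simp [hv, hvw, hwv]

/-- In dimension `≥ 3` every unitary transvection is a commutator in `SU`. -/
theorem IsHerm.transv_mem_commutatorSet [Finite F] (hH : Φ.IsHerm) (h : Φ.Nondeg)
    (hn : 3 ≤ finrank F V) (g : Φ.det.ker) (hg : g.1 ∈ Φ.transvSet) :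
    g ∈ commutatorSet Φ.det.ker := by
  classical
  obtain ⟨v, c, hv, hg⟩ := hg
  by_cases hv0 : v = 0
  · have : g = 1 := Subtype.ext (Isom.ext fun x => by rw [hg, hv0]; simp)
    rw [this]; exact one_mem_commutatorSet _
  obtain ⟨r, -, hvr, hrr, -⟩ := h.exists_hyp_partner (H := ⊥) (p := v) (by simpa using hv0) hv
    (hH.2.2 v) (by simp)
  have hc : c + σ c = 0 := by
    have := Isom.map_B g.1 r r
    simp only [hg, map_add, LinearMap.map_smulₛₗ, LinearMap.add_apply, LinearMap.smul_apply,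
      smul_eq_mul, RingHom.id_apply, hv, hvr, hrr, Φ.B_symm_one hvr, hH.2.1] at this
    simp only [mul_one, mul_zero, add_zero, zero_add] at this
    linear_combination this
  have H : Φ.Hyp (fun _ : Unit => v) (fun _ : Unit => r) :=
    ⟨fun _ _ => hv, fun _ _ => hrr, fun _ _ => hvr, fun _ => hH.2.2 _, fun _ => hH.2.2 _⟩
  have hr := h.finrank_perp
    (Submodule.span F (Set.range (Sum.elim (fun _ : Unit => v) fun _ : Unit => r)))
  rw [H.finrank_span] at hr
  simp only [Fintype.card_unique] at hr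
  obtain ⟨w, hw, hww⟩ := hH.exists_unit (h.disjoint_perp_perp H.disjoint)
    (by intro h0; rw [h0, finrank_bot] at hr; omega)
  have hvw : Φ.B v w = 0 := ((Hyp.mem_perp _ _).1 hw).1 ()
  have hwv : Φ.B w v = 0 := Φ.B_eq_zero_comm.1 hvw
  obtain ⟨θ, hθ⟩ := exists_trace_eq_one σ hH.1 Φ.invol
  obtain ⟨s, hs⟩ : ∃ s, s = -c * θ := ⟨_, rfl⟩
  have hs' : s - σ s = -c := by
    rw [hs, map_mul, map_neg]; linear_combination -c * hθ + σ θ * hc
  obtain ⟨E1, h1⟩ := hH.exists_eichler h hv hvw (μ := θ) (by rw [hθ, hww])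
  obtain ⟨E2, h2⟩ := hH.exists_eichler h hv (w := s • w) (by simp [hvw]) (μ := σ s * s * θ) (by
    simp only [map_mul, Φ.invol, LinearMap.map_smulₛₗ, LinearMap.smul_apply, smul_eq_mul,
      RingHom.id_apply, hww]
    linear_combination σ s * s * hθ)
  refine ⟨E1, E2, ?_⟩
  rw [commutatorElement_def, mul_assoc, ← mul_inv_rev, mul_inv_eq_iff_eq_mul]
  refine Subtype.ext (Isom.ext fun x => ?_)
  have hc' : c = σ s - s := by linear_combination hs'
  change E1.1.1 (E2.1.1 x) = g.1.1 (E2.1.1 (E1.1.1 x))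
  simp only [h1, h2, hg, map_add, map_sub, LinearMap.map_smulₛₗ,
    LinearMap.smul_apply, smul_eq_mul, RingHom.id_apply, hv, hvw, hwv, hww, hc']
  module

end Form

theorem closure_preimage_subtype_eq_top {G : Type*} [Group G] {s : Set G} {K : Subgroup G}
    (h : Subgroup.closure s = K) : Subgroup.closure (K.subtype ⁻¹' s) = ⊤ := by
  subst h
  exact Subgroup.closure_preimage_eq_top s

theorem exists_fixed_ne_zero_one {F : Type*} [Field F] [Fintype F] {q : ℕ}
    (hF : Fintype.card F = q ^ 2) (hq : 3 ≤ q) : ∃ k : F, frob hF k = k ∧ k ≠ 0 ∧ k ≠ 1 := by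
  classical
  by_contra hcon
  push Not at hcon
  have h1 := card_fixed hF
  have h2 : Nat.card {x : F // x ^ q = x} ≤ Nat.card Bool :=
    Nat.card_le_card_of_injective (fun x => decide (x.1 = 0)) (by
      rintro ⟨x, hx⟩ ⟨y, hy⟩ hxy
      simp only [decide_eq_decide] at hxy
      by_cases hx0 : x = 0
      · exact Subtype.ext (hx0.trans (hxy.1 hx0).symm)
      · exact Subtype.ext ((hcon x hx hx0).trans (hcon y hy fun h => hx0 (hxy.2 h)).symm))
  simp only [Nat.card_eq_fintype_card, Fintype.card_bool] at h2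
  rw [Nat.card_eq_fintype_card] at h1
  omega

end H15
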