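import Mathlib
import Cfsg.Agent.H15.Orth

/-!
# The standard quadratic forms of the Prelude as `QuadraticForm`s
-/

set_option autoImplicit false
set_option linter.unusedSectionVars false

namespace H15

open Module

attribute [-simp] ofQuad_B

variable (m : ℕ) (F : Type*) [Field F]

/-- `quadFormPlus` as a quadratic form. -/
def qPlus : QuadraticForm F (Fin m ⊕ Fin m → F) :=
  QuadraticMap.copy (∑ i : Fin m, QuadraticMap.proj (Sum.inl i) (Sum.inr i))
    (Cfsg.quadFormPlus m F) (by ext v; simp [Cfsg.quadFormPlus])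

theorem coe_qPlus : ⇑(qPlus m F) = Cfsg.quadFormPlus m F := rfl

/-- `quadFormOdd` as a quadratic form. -/
def qOdd : QuadraticForm F (Unit ⊕ (Fin m ⊕ Fin m) → F) :=
  QuadraticMap.copy (QuadraticMap.proj (Sum.inl ()) (Sum.inl ()) +
    ∑ i : Fin m, QuadraticMap.proj (Sum.inr (Sum.inl i)) (Sum.inr (Sum.inr i)))
    (Cfsg.quadFormOdd m F) (by ext v; simp [Cfsg.quadFormOdd, sq])

theorem coe_qOdd : ⇑(qOdd m F) = Cfsg.quadFormOdd m F := rfl

/-- `quadFormMinus` as a quadratic form. -/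
def qMinus (a b : F) : QuadraticForm F ((Fin m ⊕ Fin m) ⊕ Fin 2 → F) :=
  QuadraticMap.copy (∑ i : Fin m, QuadraticMap.proj (Sum.inl (Sum.inl i)) (Sum.inl (Sum.inr i)) +
    (QuadraticMap.proj (Sum.inr 0) (Sum.inr 0) + a • QuadraticMap.proj (Sum.inr 0) (Sum.inr 1) +
      b • QuadraticMap.proj (Sum.inr 1) (Sum.inr 1)))
    (Cfsg.quadFormMinus m F a b)
    (by ext v; simp [Cfsg.quadFormMinus, sq, mul_assoc])

theorem coe_qMinus (a b : F) : ⇑(qMinus m F a b) = Cfsg.quadFormMinus m F a b := rfl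

variable {m F}

theorem qPlus_apply (v : Fin m ⊕ Fin m → F) :
    qPlus m F v = ∑ i : Fin m, v (.inl i) * v (.inr i) := rfl

theorem qOdd_apply (v : Unit ⊕ (Fin m ⊕ Fin m) → F) :
    qOdd m F v = v (.inl ()) ^ 2 + ∑ i : Fin m, v (.inr (.inl i)) * v (.inr (.inr i)) := rfl

theorem qMinus_apply (a b : F) (v : (Fin m ⊕ Fin m) ⊕ Fin 2 → F) :
    qMinus m F a b v = (∑ i : Fin m, v (.inl (.inl i)) * v (.inl (.inr i)))
      + (v (.inr 0) ^ 2 + a * v (.inr 0) * v (.inr 1) + b * v (.inr 1) ^ 2) := rfl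

theorem pol_qPlus (u v : Fin m ⊕ Fin m → F) :
    pol (qPlus m F) u v = ∑ i : Fin m, (u (.inl i) * v (.inr i) + u (.inr i) * v (.inl i)) := by
  simp only [pol_eq, QuadraticMap.polar, qPlus_apply, Pi.add_apply, ← Finset.sum_sub_distrib]
  exact Finset.sum_congr rfl fun i _ => by ring

theorem pol_qOdd (u v : Unit ⊕ (Fin m ⊕ Fin m) → F) :
    pol (qOdd m F) u v = 2 * u (.inl ()) * v (.inl ()) + ∑ i : Fin m,
      (u (.inr (.inl i)) * v (.inr (.inr i)) + u (.inr (.inr i)) * v (.inr (.inl i))) := by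
  simp only [pol_eq, QuadraticMap.polar, qOdd_apply, Pi.add_apply, add_mul, mul_add,
    Finset.sum_add_distrib, mul_comm (v _) (u _)]
  ring

theorem pol_qMinus (a b : F) (u v : (Fin m ⊕ Fin m) ⊕ Fin 2 → F) :
    pol (qMinus m F a b) u v = ∑ i : Fin m,
      (u (.inl (.inl i)) * v (.inl (.inr i)) + u (.inl (.inr i)) * v (.inl (.inl i))) +
      (2 * u (.inr 0) * v (.inr 0) + a * (u (.inr 0) * v (.inr 1) + u (.inr 1) * v (.inr 0)) +
        2 * b * u (.inr 1) * v (.inr 1)) := by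
  simp only [pol_eq, QuadraticMap.polar, qMinus_apply, Pi.add_apply, add_mul, mul_add,
    Finset.sum_add_distrib, mul_comm (v _) (u _)]
  ring

variable (m F)

theorem qPlus_nondeg : (ofQuad (qPlus m F)).Nondeg := by
  intro x hx
  ext i
  rcases i with i | i
  · have := hx (Pi.single (Sum.inr i) 1)
    rw [pol_qPlus] at this
    simpa [Pi.single_apply] using this
  · have := hx (Pi.single (Sum.inl i) 1)
    rw [pol_qPlus] at this
    simpa [Pi.single_apply] using this

variable {F} in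
theorem qOdd_nondeg (h2 : (2 : F) ≠ 0) : (ofQuad (qOdd m F)).Nondeg := by
  intro x hx
  ext i
  rcases i with i | i | i
  · have := hx (Pi.single (Sum.inl i) 1)
    rw [pol_qOdd] at this
    simpa [Pi.single_apply, h2] using this
  · have := hx (Pi.single (Sum.inr (Sum.inr i)) 1)
    rw [pol_qOdd] at this
    simpa [Pi.single_apply] using this
  · have := hx (Pi.single (Sum.inr (Sum.inl i)) 1)
    rw [pol_qOdd] at this
    simpa [Pi.single_apply] using this

variable {F} in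
theorem disc_ne_zero_of_aniso [Finite F] {a b : F}
    (hab : ∀ z₁ z₂ : F, z₁ ^ 2 + a * z₁ * z₂ + b * z₂ ^ 2 = 0 → z₁ = 0 ∧ z₂ = 0) :
    a ^ 2 - 4 * b ≠ 0 := by
  intro h0
  by_cases h2 : (2 : F) = 0
  · obtain ⟨c, hc⟩ := isSquare_of_two_eq_zero h2 b
    have ha : a = 0 := by
      have : a ^ 2 = 0 := by linear_combination h0 + 2 * b * h2
      exact pow_eq_zero_iff two_ne_zero |>.1 this
    exact one_ne_zero (hab c 1 (by rw [ha, hc]; linear_combination c * c * h2)).2
  · exact h2 (hab (-a) 2 (by linear_combination -h0)).2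

variable {F} in
theorem not_isSquare_disc_of_aniso (h2 : (2 : F) ≠ 0) {a b : F}
    (hab : ∀ z₁ z₂ : F, z₁ ^ 2 + a * z₁ * z₂ + b * z₂ ^ 2 = 0 → z₁ = 0 ∧ z₂ = 0) :
    ¬ IsSquare (a ^ 2 - 4 * b) := by
  rintro ⟨c, hc⟩
  exact h2 (hab (c - a) 2 (by linear_combination -hc)).2

variable {F} in
theorem qMinus_nondeg [Finite F] {a b : F}
    (hab : ∀ z₁ z₂ : F, z₁ ^ 2 + a * z₁ * z₂ + b * z₂ ^ 2 = 0 → z₁ = 0 ∧ z₂ = 0) :
    (ofQuad (qMinus m F a b)).Nondeg := by
  intro x hx
  have h0 := hx (Pi.single (Sum.inr 0) 1)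
  have h1 := hx (Pi.single (Sum.inr 1) 1)
  rw [pol_qMinus] at h0 h1
  simp at h0 h1
  have hd := disc_ne_zero_of_aniso hab
  ext i
  rcases i with (i | i) | i
  · have := hx (Pi.single (Sum.inl (Sum.inr i)) 1)
    rw [pol_qMinus] at this
    simpa [Pi.single_apply] using this
  · have := hx (Pi.single (Sum.inl (Sum.inl i)) 1)
    rw [pol_qMinus] at this
    simpa [Pi.single_apply] using this
  · fin_cases i
    · apply mul_left_cancel₀ hd
      simp only [Fin.zero_eta, Pi.zero_apply, mul_zero]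
      linear_combination a * h1 - 2 * b * h0
    · apply mul_left_cancel₀ hd
      simp only [Fin.mk_one, Pi.zero_apply, mul_zero]
      linear_combination a * h0 - 2 * h1

theorem qPlus_hyp : (ofQuad (qPlus m F)).Hyp (fun i : Fin m => Pi.single (Sum.inl i) 1)
    (fun i : Fin m => Pi.single (Sum.inr i) 1) := by
  refine ⟨fun i j => ?_, fun i j => ?_, fun i j => ?_, fun i => ?_, fun i => ?_⟩
  · simp [pol_qPlus]
  · simp [pol_qPlus]
  · simp [pol_qPlus, Pi.single_apply, eq_comm]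
  · simp [qPlus_apply]
  · simp [qPlus_apply]

theorem qOdd_hyp : (ofQuad (qOdd m F)).Hyp (fun i : Fin m => Pi.single (Sum.inr (Sum.inl i)) 1)
    (fun i : Fin m => Pi.single (Sum.inr (Sum.inr i)) 1) := by
  refine ⟨fun i j => ?_, fun i j => ?_, fun i j => ?_, fun i => ?_, fun i => ?_⟩
  · simp [pol_qOdd]
  · simp [pol_qOdd]
  · simp [pol_qOdd, Pi.single_apply, eq_comm]
  · simp [qOdd_apply]
  · simp [qOdd_apply]

theorem qMinus_hyp (a b : F) :
    (ofQuad (qMinus m F a b)).Hyp (fun i : Fin m => Pi.single (Sum.inl (Sum.inl i)) 1)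
      (fun i : Fin m => Pi.single (Sum.inl (Sum.inr i)) 1) := by
  refine ⟨fun i j => ?_, fun i j => ?_, fun i j => ?_, fun i => ?_, fun i => ?_⟩
  · simp [pol_qMinus]
  · simp [pol_qMinus]
  · simp [pol_qMinus, Pi.single_apply, eq_comm]
  · simp [qMinus_apply]
  · simp [qMinus_apply]

end H15
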