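import Mathlib
import Cfsg.Agent.H15.Bases

/-!
# Gram determinants and the type of an even-dimensional orthogonal space
-/

set_option autoImplicit false
set_option linter.unusedSectionVars false

namespace H15

open Module Matrix

namespace Form

variable {F : Type*} [Field F] {σ : F →+* F} {V : Type*} [AddCommGroup V] [Module F V]
variable (Φ : Form σ V)

/-- The Gram matrix of a family. -/
def gram {ι : Type*} (a : ι → V) : Matrix ι ι F := Matrix.of fun i j => Φ.B (a i) (a j)

theorem gram_apply {ι : Type*} (a : ι → V) (i j : ι) : Φ.gram a i j = Φ.B (a i) (a j) := rfl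

theorem det_gram_basis {ι : Type*} [Fintype ι] [DecidableEq ι] (b : Basis ι F V) (a : ι → V) :
    (Φ.gram a).det = σ (b.det a) * b.det a * (Φ.gram b).det := by
  let M := b.toMatrix a
  have hM : ∀ j, a j = ∑ i, M i j • b i := fun j => (b.sum_toMatrix_smul_self a j).symm
  have h1 : Φ.gram a = (M.map σ)ᵀ * Φ.gram b * M := by
    ext i j
    rw [gram_apply, hM i, hM j]
    simp only [map_sum, LinearMap.map_smulₛₗ, LinearMap.coe_sum, Finset.sum_apply,
      LinearMap.smul_apply, smul_eq_mul, RingHom.id_apply]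
    simp only [Matrix.mul_apply, Matrix.transpose_apply, Matrix.map_apply, gram_apply]
    exact Finset.sum_congr rfl fun k _ => mul_comm _ _
  rw [h1, Matrix.det_mul, Matrix.det_mul, Matrix.det_transpose, Basis.det_apply]
  have h3 : (M.map σ).det = σ M.det := (RingHom.map_det σ M).symm
  rw [h3]
  ring

variable {Φ} in
theorem Nondeg.det_gram_ne_zero (h : Φ.Nondeg) {ι : Type*} [Fintype ι] [DecidableEq ι]
    (b : Basis ι F V) : (Φ.gram b).det ≠ 0 := by
  intro h0
  obtain ⟨v, hv, hGv⟩ := Matrix.exists_mulVec_eq_zero_iff.2 h0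
  apply hv
  have : ∑ j, v j • b j = 0 := by
    apply h.right
    intro x
    rw [← b.sum_repr x]
    simp only [map_sum, LinearMap.map_smulₛₗ, LinearMap.coe_sum, Finset.sum_apply,
      LinearMap.smul_apply, smul_eq_mul, RingHom.id_apply]
    simp only [Finset.mul_sum]
    rw [Finset.sum_comm]
    refine Finset.sum_eq_zero fun i _ => ?_
    have := congrFun hGv i
    simp only [Matrix.mulVec, dotProduct, gram_apply, Pi.zero_apply] at this
    calc ∑ j, v j * (σ (b.repr x i) * Φ.B (b i) (b j))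
        = σ (b.repr x i) * ∑ j, Φ.B (b i) (b j) * v j := by
          rw [Finset.mul_sum]; exact Finset.sum_congr rfl fun j _ => by ring
      _ = 0 := by rw [this, mul_zero]
  funext j
  exact Fintype.linearIndependent_iff.1 b.linearIndependent v this j

theorem nondeg_of_det_gram_ne_zero {ι : Type*} [Fintype ι] [DecidableEq ι]
    (b : Basis ι F V) (hb : (Φ.gram b).det ≠ 0) : Φ.Nondeg := by
  intro x hx
  have hx' : ∀ y, Φ.B y x = 0 := fun y => Φ.B_eq_zero_comm.1 (hx y)
  have h1 : Φ.gram b *ᵥ (fun j => b.repr x j) = 0 := by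
    ext i
    have := hx' (b i)
    rw [← b.sum_repr x, map_sum] at this
    simp only [Matrix.mulVec, dotProduct, gram_apply, Pi.zero_apply]
    rw [← this]
    exact Finset.sum_congr rfl fun j _ => by rw [map_smul, smul_eq_mul, mul_comm]
  have h2 := Matrix.eq_zero_of_mulVec_eq_zero hb h1
  exact b.ext_elem fun i => by simpa using congrFun h2 i

theorem exists_det_gram_eq {ι κ : Type*} [Fintype ι] [DecidableEq ι] [Fintype κ] [DecidableEq κ]
    (b : Basis ι F V) (a : κ → V) (hc : Fintype.card ι = Fintype.card κ) :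
    ∃ d : F, (Φ.gram a).det = σ d * d * (Φ.gram b).det := by
  let e := Fintype.equivOfCardEq hc
  refine ⟨(b.reindex e).det a, ?_⟩
  rw [Φ.det_gram_basis (b.reindex e) a]
  congr 1
  rw [← Matrix.det_submatrix_equiv_self e.symm]
  congr 1
  ext i j
  simp [gram_apply]

theorem det_gram_orth {κ : Type*} [Fintype κ] [DecidableEq κ] (a : κ → V)
    (ha : ∀ i j, i ≠ j → Φ.B (a i) (a j) = 0) : (Φ.gram a).det = ∏ i, Φ.B (a i) (a i) := by
  rw [← Matrix.det_diagonal]
  congr 1
  ext i j
  rw [gram_apply, Matrix.diagonal_apply]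
  split_ifs with hij
  · rw [hij]
  · exact ha i j hij

theorem exists_prod_orth_eq {ι κ : Type*} [Fintype ι] [DecidableEq ι] [Fintype κ]
    (b : Basis ι F V) (a : κ → V) (hc : Fintype.card ι = Fintype.card κ)
    (ha : ∀ i j, i ≠ j → Φ.B (a i) (a j) = 0) :
    ∃ d : F, ∏ i, Φ.B (a i) (a i) = σ d * d * (Φ.gram b).det := by
  classical
  rw [← Φ.det_gram_orth a ha]
  exact Φ.exists_det_gram_eq b a hc

end Form

section Symm

variable {F : Type*} [Field F] {V : Type*} [AddCommGroup V] [Module F V]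

/-- The orthogonal family `e i + f i`, `e i - f i` made from a hyperbolic family. -/
theorem Form.Hyp.orth {Φ : Form (RingHom.id F) V} (hε : Φ.ε = 1) {ι : Type*} [DecidableEq ι]
    {e f : ι → V} (H : Φ.Hyp e f) :
    (∀ i j, i ≠ j → Φ.B (Sum.elim (e + f) (e - f) i) (Sum.elim (e + f) (e - f) j) = 0) ∧
    (∀ i, Φ.B ((e + f) i) ((e + f) i) = 2) ∧ ∀ i, Φ.B ((e - f) i) ((e - f) i) = -2 := by
  refine ⟨?_, fun i => ?_, fun i => ?_⟩
  · rintro (i | i) (j | j) hij
    · have : i ≠ j := fun h => hij (congrArg _ h)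
      simp [H.ee, H.ff, H.ef, H.fe, this]
    · simp [H.ee, H.ff, H.ef, H.fe, hε]
    · simp [H.ee, H.ff, H.ef, H.fe, hε]
    · have : i ≠ j := fun h => hij (congrArg _ h)
      simp [H.ee, H.ff, H.ef, H.fe, this]
  · simp [H.ee, H.ff, H.ef, H.fe, hε]; norm_num
  · simp [H.ee, H.ff, H.ef, H.fe, hε]; norm_num

variable [FiniteDimensional F V]

/-- An anisotropic subspace of an orthogonal space over a finite field has dimension at most 2. -/
theorem Form.finrank_le_two_of_aniso [Finite F] (Φ : Form (RingHom.id F) V) {U : Submodule F V}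
    (hU : ∀ x ∈ U, Φ.B x x = 0 → x = 0) : finrank F U ≤ 2 := by
  by_contra hlt
  obtain ⟨v, hv, hv0, hQ⟩ := exists_singular (LinearMap.BilinMap.toQuadraticMap Φ.B) (U := U)
    (by omega)
  exact hv0 (hU v hv hQ)

/-- **Type of an orthogonal space** of dimension `2m` over a finite field of odd order. -/
theorem Form.Nondeg.plus_iff [Finite F] {Φ : Form (RingHom.id F) V} (h : Φ.Nondeg)
    (h2 : (2 : F) ≠ 0) (hε : Φ.ε = 1) (hQ : ∀ x, Φ.B x x = 0 → Φ.Q x = 0) {ι : Type*} [Fintype ι]
    [DecidableEq ι] (b : Basis ι F V) {m : ℕ} (hm : finrank F V = 2 * m) :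
    (∃ U : Submodule F V, finrank F U = m ∧ Φ.TotSing U) ↔
      IsSquare ((-1) ^ m * (Φ.gram b).det) := by
  have hcard : Fintype.card ι = 2 * m := by rw [← hm, finrank_eq_card_basis b]
  have hG := h.det_gram_ne_zero b
  have hN : Φ.NonAlt := ⟨1, by simpa [hε, one_add_one_eq_two] using h2⟩
  constructor
  · rintro ⟨U, hU, hU'⟩
    obtain ⟨e, f, H, -⟩ := h.exists_hyp_of_totSing hU' hU
    obtain ⟨o1, o2, o3⟩ := H.orth hε
    obtain ⟨d, hd⟩ := Φ.exists_prod_orth_eq b _ (by simp [hcard, two_mul]) o1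
    rw [Fintype.prod_sum_type] at hd
    simp only [Sum.elim_inl, Sum.elim_inr, o2, o3, Finset.prod_const, Finset.card_univ,
      Fintype.card_fin, RingHom.id_apply] at hd
    have hd0 : d ≠ 0 := by
      rintro rfl
      simp [h2] at hd
    refine ⟨2 ^ m / d, ?_⟩
    field_simp
    have : (-2 : F) ^ m = (-1) ^ m * 2 ^ m := by rw [← mul_pow]; norm_num
    rw [this] at hd
    have h1 : ((-1 : F) ^ m) * (-1) ^ m = 1 := by rw [← mul_pow]; simp
    linear_combination (-(-1) ^ m) * hd + (2 ^ m) ^ 2 * h1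
  · intro hsq
    obtain ⟨k, e, f, H, hx⟩ := h.exists_witt_decomp
    have hr := h.finrank_perp (Submodule.span F (Set.range (Sum.elim e f)))
    rw [H.finrank_span, Fintype.card_fin] at hr
    have hle := Φ.finrank_le_two_of_aniso fun x hx' hxx => hx x hx' hxx (hQ x hxx)
    by_cases hk : k = m
    · subst hk
      refine ⟨Submodule.span F (Set.range e), ?_, Φ.totSing_span e H.ee H.Qe⟩
      rw [finrank_span_eq_card, Fintype.card_fin]
      exact H.linearIndependent.comp Sum.inl Sum.inl_injective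
    exfalso
    obtain rfl : m = k + 1 := by omega
    have hd := h.disjoint_perp_perp H.disjoint
    obtain ⟨u, hu, hu'⟩ := hN.exists_aniso hd (by intro h0; rw [h0, finrank_bot] at hr; omega)
    obtain ⟨w, hw, huw, hw'⟩ := hN.exists_orth_pair hd (by omega) hu hu'
    have hwu := Φ.B_eq_zero_comm.1 huw
    obtain ⟨o1, o2, o3⟩ := H.orth hε
    obtain ⟨hu1, hu2⟩ := (Form.Hyp.mem_perp e f).1 hu
    obtain ⟨hw1, hw2⟩ := (Form.Hyp.mem_perp e f).1 hw
    have hu1' := fun i => Φ.B_eq_zero_comm.1 (hu1 i)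
    have hu2' := fun i => Φ.B_eq_zero_comm.1 (hu2 i)
    have hw1' := fun i => Φ.B_eq_zero_comm.1 (hw1 i)
    have hw2' := fun i => Φ.B_eq_zero_comm.1 (hw2 i)
    obtain ⟨d, hd⟩ := Φ.exists_prod_orth_eq b (Sum.elim (Sum.elim (e + f) (e - f)) ![u, w])
      (by simp [hcard]; ring) (by
        rintro (i | i) (j | j) hij
        · exact o1 i j fun h => hij (congrArg _ h)
        · rcases i with i | i <;> fin_cases j <;> simp [hu1, hu2, hw1, hw2]
        · rcases j with j | j <;> fin_cases i <;> simp [hu1', hu2', hw1', hw2']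
        · fin_cases i <;> fin_cases j <;> simp_all)
    rw [Fintype.prod_sum_type, Fintype.prod_sum_type] at hd
    simp only [Sum.elim_inl, Sum.elim_inr, o2, o3, Finset.prod_const, Finset.card_univ,
      Fintype.card_fin, RingHom.id_apply, Fin.prod_univ_two, Matrix.cons_val_zero,
      Matrix.cons_val_one] at hd
    obtain ⟨c, hc⟩ := hsq
    have e1 : (-2 : F) ^ k = (-1) ^ k * 2 ^ k := by rw [← mul_pow]; norm_num
    have h1 : ((-1 : F) ^ k) * (-1) ^ k = 1 := by rw [← mul_pow]; simp
    have h3 : (2 : F) ^ k ≠ 0 := pow_ne_zero _ h2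
    have h4 : -(Φ.B u u * Φ.B w w) = (d * c / 2 ^ k) ^ 2 := by
      field_simp
      rw [e1] at hd
      rw [pow_succ] at hc
      linear_combination (-(-1) ^ k) * hd + d ^ 2 * hc + (2 ^ k) ^ 2 * (Φ.B u u * Φ.B w w) * h1
    have h5 := hx ((d * c / 2 ^ k / Φ.B u u) • u + w)
      (Submodule.add_mem _ (Submodule.smul_mem _ _ hu) hw)
    have h6 : Φ.B ((d * c / 2 ^ k / Φ.B u u) • u + w) ((d * c / 2 ^ k / Φ.B u u) • u + w) = 0 := by
      simp only [map_add, map_smul, LinearMap.add_apply, LinearMap.smul_apply, smul_eq_mul, huw,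
        hwu]
      generalize d * c / 2 ^ k = t at h4
      field_simp
      linear_combination -h4
    have h7 := congrArg (Φ.B w) (h5 h6 (hQ _ h6))
    simp [hwu, hw'] at h7

end Symm

end H15
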