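import Mathlib
import Cfsg.Agent.H15.Orth

/-!
# Dickson invariant and spinor norm through the Clifford algebra; the index of `Ω`
-/

set_option autoImplicit false
set_option linter.unusedSectionVars false

namespace H15

open Module CliffordAlgebra

attribute [-simp] ofQuad_B

variable {F : Type*} [Field F] {V : Type*} [AddCommGroup V] [Module F V]
variable (Q : QuadraticForm F V)

theorem clifford_nontrivial : Nontrivial (CliffordAlgebra Q) := by
  obtain ⟨B, hB⟩ := LinearMap.BilinMap.toQuadraticMap_surjective (R := F) (M := V) (N := F) Q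
  have h : LinearMap.BilinMap.toQuadraticMap B = Q - 0 := by rw [hB, sub_zero]
  have : Nontrivial (CliffordAlgebra (0 : QuadraticForm F V)) :=
    inferInstanceAs (Nontrivial (ExteriorAlgebra F V))
  exact (changeFormEquiv h).injective.nontrivial

theorem contractLeft_pol (v : V) (x : CliffordAlgebra Q) :
    contractLeft (Q := Q) (pol Q v) x = ι Q v * x - involute x * ι Q v := by
  induction x using CliffordAlgebra.left_induction with
  | algebraMap r => simp [Algebra.commutes]
  | add x y hx hy => simp only [map_add, hx, hy, mul_add, add_mul]; abel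
  | ι_mul x m hx =>
    rw [contractLeft_ι_mul, hx, map_mul, involute_ι, Algebra.smul_def, pol_eq,
      ← ι_mul_ι_add_swap]
    noncomm_ring

/-- Elements of the Clifford algebra generated by a subspace. -/
inductive CliffGen (W : Submodule F V) : CliffordAlgebra Q → Prop
  | alg (r : F) : CliffGen W (algebraMap F _ r)
  | add {x y : CliffordAlgebra Q} : CliffGen W x → CliffGen W y → CliffGen W (x + y)
  | mul {v : V} {x : CliffordAlgebra Q} : v ∈ W → CliffGen W x → CliffGen W (ι Q v * x)

variable {Q}

theorem CliffGen.smul {W : Submodule F V} {x : CliffordAlgebra Q} (h : CliffGen Q W x) (c : F) :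
    CliffGen Q W (c • x) := by
  induction h with
  | alg r => rw [Algebra.smul_def, ← map_mul]; exact .alg _
  | add _ _ h1 h2 => rw [smul_add]; exact .add h1 h2
  | mul hv _ h1 => rw [← mul_smul_comm]; exact .mul hv h1

theorem CliffGen.contract {W : Submodule F V} {x : CliffordAlgebra Q} (h : CliffGen Q W x)
    {d : Dual F V} (hd : ∀ v ∈ W, d v = 0) : contractLeft (Q := Q) d x = 0 := by
  induction h with
  | alg r => simp
  | add _ _ h1 h2 => rw [map_add, h1, h2, add_zero]
  | mul hv _ h1 => rw [contractLeft_ι_mul, h1, hd _ hv]; simp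

theorem CliffGen.split {W : Submodule F V} {x : CliffordAlgebra Q} (h : CliffGen Q W x)
    {d : Dual F V} {e : V} (he : e ∈ W) (hd : d e = 1) :
    ∃ a y, CliffGen Q (W ⊓ LinearMap.ker d) a ∧ CliffGen Q (W ⊓ LinearMap.ker d) y ∧
      x = a + ι Q e * y := by
  induction h with
  | alg r => exact ⟨_, algebraMap F _ 0, .alg r, .alg 0, by simp⟩
  | add _ _ h1 h2 =>
    obtain ⟨a, y, ha, hy, rfl⟩ := h1
    obtain ⟨a', y', ha', hy', rfl⟩ := h2
    exact ⟨a + a', y + y', .add ha ha', .add hy hy', by rw [mul_add]; abel⟩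
  | @mul v x hv _ h1 =>
    obtain ⟨a, y, ha, hy, rfl⟩ := h1
    have hw : v - d v • e ∈ W ⊓ LinearMap.ker d :=
      ⟨W.sub_mem hv (W.smul_mem _ he), by simp [hd]⟩
    obtain ⟨w, hwdef⟩ : ∃ w, w = v - d v • e := ⟨_, rfl⟩
    rw [← hwdef] at hw
    have hv' : v = w + d v • e := by rw [hwdef]; abel
    refine ⟨ι Q w * a + (QuadraticMap.polar Q w e + d v * Q e) • y,
      (-1 : F) • (ι Q w * y) + d v • a, .add (.mul hw ha) (hy.smul _),
      .add ((CliffGen.mul hw hy).smul _) (ha.smul _), ?_⟩
    have e1 : ι Q w * ι Q e = algebraMap F _ (QuadraticMap.polar Q w e) - ι Q e * ι Q w := by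
      rw [← ι_mul_ι_add_swap]; abel
    have e2 : ι Q e * ι Q e = algebraMap F _ (Q e) := ι_sq_scalar Q e
    generalize d v = c at hv'
    rw [hv', map_add, map_smul]
    simp only [add_mul, mul_add, smul_mul_assoc, mul_smul_comm, ← mul_assoc, e1, e2, sub_mul,
      add_smul, ← Algebra.smul_def, smul_smul]
    module

theorem scalar_of_contract [FiniteDimensional F V] {x : CliffordAlgebra Q}
    (hx : ∀ d : Dual F V, contractLeft (Q := Q) d x = 0) : ∃ c, x = algebraMap F _ c := by
  have h0 : CliffGen Q ⊤ x := by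
    clear hx
    induction x using CliffordAlgebra.left_induction with
    | algebraMap r => exact .alg r
    | add x y hx hy => exact .add hx hy
    | ι_mul x m hx => exact .mul trivial hx
  obtain ⟨W, hW, hmin⟩ := (wellFounded_lt (α := Submodule F V)).has_min
    {W | CliffGen Q W x} ⟨⊤, h0⟩
  have hW0 : W = ⊥ := by
    by_contra hne
    obtain ⟨e, he, he0⟩ := Submodule.exists_mem_ne_zero_of_ne_bot hne
    obtain ⟨d, hd⟩ := Module.Projective.exists_dual_eq_one F he0
    obtain ⟨a, y, ha, hy, rfl⟩ := CliffGen.split hW he hd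
    have h1 := hx d
    rw [map_add, contractLeft_ι_mul, ha.contract (fun v hv => hv.2),
      hy.contract (fun v hv => hv.2), hd] at h1
    have h2 : y = 0 := by simpa using h1
    refine hmin (W ⊓ LinearMap.ker d) (by simpa [h2] using ha)
      (lt_of_le_of_ne inf_le_left fun h => ?_)
    rw [← h] at he
    have := he.2
    rw [SetLike.mem_coe, LinearMap.mem_ker, hd] at this
    exact one_ne_zero this
  subst hW0
  clear hx h0 hmin
  have hW' : CliffGen Q ⊥ x := hW
  clear hW
  induction hW' with
  | alg r => exact ⟨r, rfl⟩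
  | add _ _ h1 h2 =>
    obtain ⟨c, rfl⟩ := h1
    obtain ⟨c', rfl⟩ := h2
    exact ⟨c + c', by rw [map_add]⟩
  | mul hv _ _ =>
    rw [Submodule.mem_bot] at hv
    exact ⟨0, by simp [hv]⟩

theorem involute_prod_mul (l : List V) (hl : ∀ a ∈ l, Q a ≠ 0) (v : V) :
    involute (l.map (ι Q)).prod * ι Q v = ι Q ((l.map (refl Q)).prod.1 v) * (l.map (ι Q)).prod := by
  induction l with
  | nil => simp
  | cons a l ih =>
    have ha := hl a (by simp)
    have key : ∀ w, -ι Q a * ι Q w = ι Q ((refl Q a).1 w) * ι Q a := fun w => by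
      rw [refl_apply, map_add, map_smul, add_mul, smul_mul_assoc, ι_sq_scalar, Algebra.smul_def,
        ← map_mul (algebraMap F (CliffordAlgebra Q)), show -(Q a)⁻¹ * pol Q a w * Q a = -pol Q a w by field_simp, map_neg, pol_eq,
        ← ι_mul_ι_add_swap]
      noncomm_ring
    simp only [List.map_cons, List.prod_cons, map_mul, involute_ι, Form.Isom.mul_apply]
    rw [mul_assoc, ih fun b hb => hl b (by simp [hb]), ← mul_assoc, key, mul_assoc]

theorem reverse_prod_mul (l : List V) :
    reverse (l.map (ι Q)).prod * (l.map (ι Q)).prod = algebraMap F _ (l.map Q).prod := by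
  induction l with
  | nil => simp
  | cons a l ih =>
    simp only [List.map_cons, List.prod_cons, reverse.map_mul, reverse_ι, map_mul]
    rw [mul_assoc, ← mul_assoc (ι Q a), ι_sq_scalar, ← mul_assoc, ← Algebra.commutes, mul_assoc, ih]

theorem prod_mem_evenOdd (l : List V) : (l.map (ι Q)).prod ∈ evenOdd Q (l.length : ZMod 2) := by
  induction l with
  | nil => simpa using one_le_evenOdd_zero Q (Submodule.mem_one.2 ⟨1, by simp⟩)
  | cons a l ih =>
    simp only [List.map_cons, List.prod_cons, List.length_cons, Nat.cast_add, Nat.cast_one]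
    rw [add_comm]
    exact evenOdd_mul_le Q _ _ (Submodule.mul_mem_mul (ι_mem_evenOdd_one Q a) ih)

variable [FiniteDimensional F V]

/-- A product of reflections equal to the identity has even length and square norm. -/
theorem even_and_isSquare_of_prod_refl (h : (ofQuad Q).Nondeg) (l : List V)
    (hl : ∀ a ∈ l, Q a ≠ 0) (h1 : (l.map (refl Q)).prod = 1) :
    Even l.length ∧ IsSquare (l.map Q).prod := by
  have := clifford_nontrivial Q
  obtain ⟨c, hc⟩ := scalar_of_contract (x := (l.map (ι Q)).prod) fun d => by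
    obtain ⟨w, hw⟩ := h.exists_dual d
    rw [show d = pol Q w from (LinearMap.ext hw).symm, contractLeft_pol, involute_prod_mul l hl, h1]
    simp
  have h2 := reverse_prod_mul (Q := Q) l
  rw [hc, reverse.commutes, ← map_mul] at h2
  have h3 := (algebraMap F (CliffordAlgebra Q)).injective h2
  refine ⟨?_, ⟨c, h3.symm⟩⟩
  by_contra hodd
  have h4 := prod_mem_evenOdd (Q := Q) l
  rw [(ZMod.natCast_eq_one_iff_odd).2 (Nat.not_even_iff_odd.1 hodd), hc] at h4
  have h5 : algebraMap F (CliffordAlgebra Q) c ∈ evenOdd Q 0 :=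
    one_le_evenOdd_zero Q (Submodule.mem_one.2 ⟨c, rfl⟩)
  have h6 := Submodule.disjoint_def.1 (evenOdd_isCompl Q).disjoint _ h5 h4
  have h7 : c = 0 := (algebraMap F (CliffordAlgebra Q)).injective (by rw [h6, map_zero])
  rw [h7, mul_zero] at h3
  refine List.prod_ne_zero (fun h0 => ?_) h3.symm
  obtain ⟨a, ha, ha'⟩ := List.mem_map.1 h0
  exact hl a ha ha'

omit [FiniteDimensional F V] in
theorem exists_list_of_mem_closure {g : (ofQuad Q).Isom} (hg : g ∈ Subgroup.closure (reflSet Q)) :
    ∃ l : List V, (∀ a ∈ l, Q a ≠ 0) ∧ g = (l.map (refl Q)).prod := by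
  induction hg using Subgroup.closure_induction_left with
  | one => exact ⟨[], by simp, by simp⟩
  | mul_left x hx y _ ih =>
    obtain ⟨a, ha, rfl⟩ := hx
    obtain ⟨l, hl, rfl⟩ := ih
    exact ⟨a :: l, by simpa using ⟨ha, hl⟩, by simp⟩
  | inv_mul_cancel x hx y _ ih =>
    obtain ⟨a, ha, rfl⟩ := hx
    obtain ⟨l, hl, rfl⟩ := ih
    exact ⟨a :: l, by simpa using ⟨ha, hl⟩, by simp [refl_inv]⟩

theorem exists_list_refl (h : (ofQuad Q).Nondeg) (h24 : NotTwoFour F V) (g : (ofQuad Q).Isom) :
    ∃ l : List V, (∀ a ∈ l, Q a ≠ 0) ∧ g = (l.map (refl Q)).prod :=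
  exists_list_of_mem_closure (by rw [closure_reflSet h h24]; trivial)

omit [FiniteDimensional F V] in
theorem prod_refl_reverse (l : List V) :
    (l.reverse.map (refl Q)).prod = (l.map (refl Q)).prod⁻¹ := by
  induction l with
  | nil => simp
  | cons a l ih =>
    rw [List.reverse_cons, List.map_append, List.prod_append, ih]
    simp [refl_inv]

/-- Building a sign character from its values on reflections. -/
theorem exists_hom_of_refl (h : (ofQuad Q).Nondeg) (h24 : NotTwoFour F V) (c : V → ℤˣ)
    (hc : ∀ l : List V, (∀ a ∈ l, Q a ≠ 0) → (l.map (refl Q)).prod = 1 → (l.map c).prod = 1) :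
    ∃ φ : (ofQuad Q).Isom →* ℤˣ, ∀ a, Q a ≠ 0 → φ (refl Q a) = c a := by
  choose L hL1 hL2 using exists_list_refl h h24
  have key : ∀ g (l : List V), (∀ a ∈ l, Q a ≠ 0) → g = (l.map (refl Q)).prod →
      ((L g).map c).prod = (l.map c).prod := fun g l hl hg => by
    have := hc (L g ++ l.reverse) (fun a ha => by
      rcases List.mem_append.1 ha with ha | ha
      · exact hL1 g a ha
      · exact hl a (List.mem_reverse.1 ha))
      (by rw [List.map_append, List.prod_append, prod_refl_reverse, ← hL2, ← hg, mul_inv_cancel])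
    rw [List.map_append, List.prod_append, List.map_reverse, List.prod_reverse] at this
    rw [eq_inv_of_mul_eq_one_left this, Int.units_inv_eq_self]
  refine ⟨MonoidHom.mk' (fun g => ((L g).map c).prod) fun g g' => ?_, fun a ha => ?_⟩
  · rw [key (g * g') (L g ++ L g') (fun a ha => by
      rcases List.mem_append.1 ha with ha | ha
      · exact hL1 g a ha
      · exact hL1 g' a ha) (by rw [List.map_append, List.prod_append, ← hL2, ← hL2]),
      List.map_append, List.prod_append]
  · change ((L (refl Q a)).map c).prod = _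
    rw [key _ [a] (by simpa using ha) (by simp)]
    simp

/-- The **Dickson invariant** (the determinant in odd characteristic). -/
theorem exists_dickson (h : (ofQuad Q).Nondeg) (h24 : NotTwoFour F V) :
    ∃ φ : (ofQuad Q).Isom →* ℤˣ, ∀ a, Q a ≠ 0 → φ (refl Q a) = -1 := by
  refine exists_hom_of_refl h h24 (fun _ => -1) fun l hl h1 => ?_
  simpa using (even_and_isSquare_of_prod_refl h l hl h1).1.neg_one_pow

open Classical in
/-- The sign `1` for squares, `-1` for non-squares. -/
noncomputable def sqSign (a : F) : ℤˣ := if IsSquare a then 1 else -1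

omit [FiniteDimensional F V] in
theorem sqSign_eq_one_iff {a : F} : sqSign a = 1 ↔ IsSquare a := by
  unfold sqSign
  split_ifs with h <;> simp [h]

omit [FiniteDimensional F V] in
theorem sqSign_eq_neg_one_iff {a : F} : sqSign a = -1 ↔ ¬ IsSquare a := by
  unfold sqSign
  split_ifs with h <;> simp [h]

omit [FiniteDimensional F V] in
theorem sqSign_mul [Finite F] {a b : F} (ha : a ≠ 0) (hb : b ≠ 0) :
    sqSign (a * b) = sqSign a * sqSign b := by
  by_cases h1 : IsSquare a <;> by_cases h2 : IsSquare b
  · rw [sqSign_eq_one_iff.2 h1, sqSign_eq_one_iff.2 h2, sqSign_eq_one_iff.2 (h1.mul h2)]; simp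
  · rw [sqSign_eq_one_iff.2 h1, sqSign_eq_neg_one_iff.2 h2, sqSign_eq_neg_one_iff.2
      (by rw [mul_comm]; exact not_isSquare_mul h2 h1 ha)]; simp
  · rw [sqSign_eq_neg_one_iff.2 h1, sqSign_eq_one_iff.2 h2, sqSign_eq_neg_one_iff.2
      (not_isSquare_mul h1 h2 hb)]; simp
  · rw [sqSign_eq_neg_one_iff.2 h1, sqSign_eq_neg_one_iff.2 h2, sqSign_eq_one_iff.2
      (isSquare_mul_of_not h1 h2)]; simp

omit [FiniteDimensional F V] in
theorem sqSign_list_prod [Finite F] (l : List F) (hl : ∀ a ∈ l, a ≠ 0) :
    sqSign l.prod = (l.map sqSign).prod := by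
  induction l with
  | nil => simp [sqSign_eq_one_iff]
  | cons a l ih =>
    have h1 : ∀ b ∈ l, b ≠ 0 := fun b hb => hl b (by simp [hb])
    rw [List.prod_cons, sqSign_mul (hl a (by simp))
      (List.prod_ne_zero fun h0 => h1 0 h0 rfl), ih h1]
    simp

/-- The **spinor norm** over a finite field. -/
theorem exists_spinor [Finite F] (h : (ofQuad Q).Nondeg) (h24 : NotTwoFour F V) :
    ∃ φ : (ofQuad Q).Isom →* ℤˣ, ∀ a, Q a ≠ 0 → φ (refl Q a) = sqSign (Q a) := by
  refine exists_hom_of_refl h h24 (fun a => sqSign (Q a)) fun l hl h1 => ?_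
  have := sqSign_list_prod (l.map Q) (by simpa using hl)
  rw [List.map_map] at this
  rw [← sqSign_eq_one_iff.2 (even_and_isSquare_of_prod_refl h l hl h1).2, this]
  rfl

omit [FiniteDimensional F V] in
theorem hom_prod_refl (φ : (ofQuad Q).Isom →* ℤˣ) (c : V → ℤˣ)
    (hφ : ∀ a, Q a ≠ 0 → φ (refl Q a) = c a) (l : List V) (hl : ∀ a ∈ l, Q a ≠ 0) :
    φ (l.map (refl Q)).prod = (l.map c).prod := by
  rw [map_list_prod, List.map_map]
  congr 1
  exact List.map_congr_left fun a ha => hφ a (hl a ha)

/-- A product of reflections lies in `Ω` iff it has even length and square norm. -/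
theorem prod_refl_mem_commutator_iff [Finite F] (h : (ofQuad Q).Nondeg) (h24 : NotTwoFour F V)
    (l : List V) (hl : ∀ a ∈ l, Q a ≠ 0) :
    (l.map (refl Q)).prod ∈ commutator (ofQuad Q).Isom ↔
      Even l.length ∧ IsSquare (l.map Q).prod := by
  constructor
  · intro hm
    obtain ⟨D, hD⟩ := exists_dickson h h24
    obtain ⟨S, hS⟩ := exists_spinor h h24
    have h1 := Abelianization.commutator_subset_ker D hm
    have h2 := Abelianization.commutator_subset_ker S hm
    rw [MonoidHom.mem_ker, hom_prod_refl D _ hD l hl] at h1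
    rw [MonoidHom.mem_ker, hom_prod_refl S _ hS l hl] at h2
    constructor
    · by_contra hodd
      simp [(Nat.not_even_iff_odd.1 hodd).neg_one_pow] at h1
    · have := sqSign_list_prod (l.map Q) (by simpa using hl)
      rw [List.map_map] at this
      exact sqSign_eq_one_iff.1 (this.trans h2)
  · rintro ⟨h1, h2⟩
    -- work in the abelianisation
    rw [← Abelianization.ker_of, MonoidHom.mem_ker]
    let π := Abelianization.of (G := (ofQuad Q).Isom)
    have hsame : ∀ a b, Q a ≠ 0 → Q b ≠ 0 → IsSquare (Q a * Q b) →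
        π (refl Q a) * π (refl Q b) = 1 := by
      rintro a b ha hb ⟨c, hc⟩
      have hc0 : c ≠ 0 := by rintro rfl; exact mul_ne_zero ha hb (by simpa using hc)
      rw [← map_mul, ← MonoidHom.mem_ker, Abelianization.ker_of]
      exact refl_mul_refl_mem_commutator h hb (c := c / Q b) (div_ne_zero hc0 hb)
        (by field_simp; linear_combination hc)
    -- strong induction on the length
    have key : ∀ n, ∀ l : List V, l.length = n → (∀ a ∈ l, Q a ≠ 0) → Even l.length →
        IsSquare (l.map Q).prod → (l.map fun a => π (refl Q a)).prod = 1 := by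
      intro n
      induction n using Nat.strong_induction_on with
      | _ n ih =>
        intro l hn hl h1 h2
        -- removing two vectors of the same class
        have rem : ∀ (a b : V) (l' : List V), l.Perm (a :: b :: l') → IsSquare (Q a * Q b) →
            (l.map fun a => π (refl Q a)).prod = 1 := by
          intro a b l' hp hab
          have hl' : ∀ x ∈ a :: b :: l', Q x ≠ 0 := fun x hx => hl x (hp.mem_iff.2 hx)
          have ha := hl' a (by simp)
          have hb := hl' b (by simp)
          have hlen := hp.length_eq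
          simp only [List.length_cons] at hlen
          rw [(hp.map _).prod_eq]
          simp only [List.map_cons, List.prod_cons]
          rw [← mul_assoc, hsame a b ha hb hab, one_mul]
          refine ih l'.length (by omega) l' rfl (fun x hx => hl' x (by simp [hx])) ?_ ?_
          · rw [hlen] at h1
            simpa [parity_simps] using h1
          · rw [(hp.map _).prod_eq] at h2
            simp only [List.map_cons, List.prod_cons] at h2
            by_contra hns
            refine not_isSquare_mul hns hab (mul_ne_zero ha hb) ?_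
            rwa [mul_comm, mul_assoc]
        match l, hn, hl, h1, h2, rem with
        | [], _, _, _, _, _ => simp
        | [a], _, _, h1, _, _ => simp at h1
        | [a, b], _, _, _, h2, rem => exact rem a b [] (List.Perm.refl _) (by simpa using h2)
        | a :: b :: c :: l', _, hl, _, _, rem =>
          by_cases hab : IsSquare (Q a * Q b)
          · exact rem a b (c :: l') (List.Perm.refl _) hab
          by_cases hac : IsSquare (Q a * Q c)
          · exact rem a c (b :: l') ((List.Perm.swap c b l').cons a) hac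
          have ha := hl a (by simp)
          obtain ⟨d, hd⟩ := isSquare_mul_of_not hab hac
          refine rem b c (a :: l') ?_ ⟨d / Q a, by field_simp; linear_combination hd⟩
          exact (List.Perm.swap b a _).trans ((List.Perm.swap c a l').cons b)
    rw [map_list_prod, List.map_map]
    exact key _ l rfl hl h1 h2

/-- `Ω` is the common kernel of the Dickson invariant and the spinor norm. -/
theorem mem_commutator_iff_hom [Finite F] (h : (ofQuad Q).Nondeg) (h24 : NotTwoFour F V)
    (D S : (ofQuad Q).Isom →* ℤˣ) (hD : ∀ a, Q a ≠ 0 → D (refl Q a) = -1)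
    (hS : ∀ a, Q a ≠ 0 → S (refl Q a) = sqSign (Q a)) (g : (ofQuad Q).Isom) :
    g ∈ commutator (ofQuad Q).Isom ↔ D g = 1 ∧ S g = 1 := by
  refine ⟨fun hm => ⟨Abelianization.commutator_subset_ker D hm,
    Abelianization.commutator_subset_ker S hm⟩, fun ⟨h1, h2⟩ => ?_⟩
  obtain ⟨l, hl, rfl⟩ := exists_list_refl h h24 g
  rw [prod_refl_mem_commutator_iff h h24 l hl]
  rw [hom_prod_refl D _ hD l hl] at h1
  rw [hom_prod_refl S _ hS l hl] at h2
  constructor
  · by_contra hodd
    simp [(Nat.not_even_iff_odd.1 hodd).neg_one_pow] at h1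
  · have := sqSign_list_prod (l.map Q) (by simpa using hl)
    rw [List.map_map] at this
    exact sqSign_eq_one_iff.1 (this.trans h2)

/-- In odd characteristic the Dickson invariant is the determinant. -/
theorem dickson_eq_one_iff_det (h2 : (2 : F) ≠ 0) (h : (ofQuad Q).Nondeg)
    (D : (ofQuad Q).Isom →* ℤˣ) (hD : ∀ a, Q a ≠ 0 → D (refl Q a) = -1) (g : (ofQuad Q).Isom) :
    D g = 1 ↔ (ofQuad Q).det g = 1 := by
  obtain ⟨l, hl, rfl⟩ := exists_list_refl h (notTwoFour_of_two_ne_zero h2) g
  have h1 : (ofQuad Q).det (l.map (refl Q)).prod = (-1) ^ l.length := by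
    rw [map_list_prod, List.map_map, List.map_congr_left (f := (ofQuad Q).det ∘ refl Q)
      (g := fun _ => -1) fun a ha => det_refl Q (hl a ha)]
    simp
  rw [hom_prod_refl D _ hD l hl, h1]
  have hne : (-1 : Fˣ) ≠ 1 := fun h0 => h2 (by
    have := congrArg Units.val h0
    simp only [Units.val_neg, Units.val_one] at this
    linear_combination -this)
  rcases Nat.even_or_odd l.length with he | ho
  · simp [he.neg_one_pow]
  · simp [ho.neg_one_pow, hne]

/-- A non-degenerate quadratic form of dimension `≥ 2` over a finite field represents every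
non-zero scalar on any non-degenerate subspace of dimension `≥ 2`. -/
theorem exists_quad_eq [Finite F] {U : Submodule F V} (hU : Disjoint U ((ofQuad Q).perp U))
    (h2 : 2 ≤ finrank F U) (c : F) : ∃ v ∈ U, Q v = c := by
  by_cases h20 : (2 : F) = 0
  · obtain ⟨v, hv, hv'⟩ := (ofQuad Q).exists_Q_ne_zero (by simp) hU
      (by rintro rfl; rw [finrank_bot] at h2; omega)
    obtain ⟨d, hd⟩ := isSquare_of_two_eq_zero h20 (c / Q v)
    refine ⟨d • v, U.smul_mem d hv, ?_⟩
    rw [quad_smul, sq, ← hd, div_mul_cancel₀ _ (show Q v ≠ 0 from hv')]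
  · obtain ⟨v, hv, hv'⟩ := (ofQuad_nonAlt h20 Q).exists_B_eq hU h2 (2 * c)
    exact ⟨v, hv, mul_left_cancel₀ h20 (by rw [← hv', pol_self])⟩

theorem disjoint_top_perp (h : (ofQuad Q).Nondeg) : Disjoint ⊤ ((ofQuad Q).perp ⊤) := by
  rw [h.perp_top]; exact disjoint_bot_right

theorem exists_quad_eq' [Finite F] (h : (ofQuad Q).Nondeg) (h2 : 2 ≤ finrank F V) (c : F) :
    ∃ v, Q v = c := by
  obtain ⟨v, -, hv⟩ := exists_quad_eq (disjoint_top_perp h) (by rwa [finrank_top]) c
  exact ⟨v, hv⟩

/-- The abelianisation of the orthogonal group in odd characteristic. -/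
theorem exists_hom_ker_eq_commutator_odd [Finite F] (h2 : (2 : F) ≠ 0) (h : (ofQuad Q).Nondeg)
    (hn : 2 ≤ finrank F V) : ∃ φ : (ofQuad Q).Isom →* ℤˣ × ℤˣ, Function.Surjective φ ∧
      φ.ker = commutator (ofQuad Q).Isom ∧
      (∀ a, Q a ≠ 0 → φ (refl Q a) = (-1, sqSign (Q a))) ∧
      ∀ g, (φ g).1 = 1 ↔ (ofQuad Q).det g = 1 := by
  have h24 : NotTwoFour F V := notTwoFour_of_two_ne_zero h2
  obtain ⟨D, hD⟩ := exists_dickson h h24
  obtain ⟨S, hS⟩ := exists_spinor h h24
  refine ⟨D.prod S, ?_, ?_, fun a ha => by simp [hD a ha, hS a ha],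
    dickson_eq_one_iff_det h2 h D hD⟩
  · obtain ⟨α, hα⟩ := FiniteField.exists_nonsquare (ringChar_ne_two_iff.2 h2)
    have hα0 : α ≠ 0 := by rintro rfl; exact hα IsSquare.zero
    obtain ⟨a, ha⟩ := exists_quad_eq' h hn 1
    obtain ⟨b, hb⟩ := exists_quad_eq' h hn α
    have ha0 : Q a ≠ 0 := by rw [ha]; exact one_ne_zero
    have hb0 : Q b ≠ 0 := by rwa [hb]
    have e1 := hS a ha0
    have e2 := hS b hb0
    rw [ha, sqSign_eq_one_iff.2 IsSquare.one] at e1
    rw [hb, sqSign_eq_neg_one_iff.2 hα] at e2
    rintro ⟨x, y⟩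
    rcases Int.units_eq_one_or x with rfl | rfl <;> rcases Int.units_eq_one_or y with rfl | rfl
    · exact ⟨1, by simp⟩
    · exact ⟨refl Q a * refl Q b, by simp [hD a ha0, hD b hb0, e1, e2]⟩
    · exact ⟨refl Q a, by simp [hD a ha0, e1]⟩
    · exact ⟨refl Q b, by simp [hD b hb0, e2]⟩
  · ext g
    rw [mem_commutator_iff_hom h h24 D S hD hS, MonoidHom.mem_ker, Prod.ext_iff]
    rfl

theorem index_commutator_odd [Finite F] (h2 : (2 : F) ≠ 0) (h : (ofQuad Q).Nondeg)
    (hn : 2 ≤ finrank F V) : (commutator (ofQuad Q).Isom).index = 4 := by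
  obtain ⟨φ, h1, h3, -⟩ := exists_hom_ker_eq_commutator_odd h2 h hn
  rw [← h3, Subgroup.index_ker, MonoidHom.range_eq_top.2 h1, Subgroup.card_top]
  simp

/-- The abelianisation of the orthogonal group in characteristic two. -/
theorem exists_hom_ker_eq_commutator_even [Finite F] (h2 : (2 : F) = 0) (h : (ofQuad Q).Nondeg)
    (h24 : NotTwoFour F V) (hn : 1 ≤ finrank F V) :
    ∃ φ : (ofQuad Q).Isom →* ℤˣ, Function.Surjective φ ∧ φ.ker = commutator (ofQuad Q).Isom ∧
      ∀ a, Q a ≠ 0 → φ (refl Q a) = -1 := by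
  obtain ⟨D, hD⟩ := exists_dickson h h24
  refine ⟨D, ?_, ?_, hD⟩
  · obtain ⟨a, -, ha⟩ := (ofQuad Q).exists_Q_ne_zero (by simp) (disjoint_top_perp h) (by
      intro h0
      have := finrank_top F V
      rw [h0, finrank_bot] at this
      omega)
    intro x
    rcases Int.units_eq_one_or x with rfl | rfl
    · exact ⟨1, by simp⟩
    · exact ⟨refl Q a, hD a ha⟩
  · ext g
    rw [mem_commutator_iff_hom h h24 D 1 hD fun a _ => by
      rw [sqSign_eq_one_iff.2 (isSquare_of_two_eq_zero h2 _)]; rfl]
    simp

theorem index_commutator_even [Finite F] (h2 : (2 : F) = 0) (h : (ofQuad Q).Nondeg)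
    (h24 : NotTwoFour F V) (hn : 1 ≤ finrank F V) : (commutator (ofQuad Q).Isom).index = 2 := by
  obtain ⟨φ, h1, h3, -⟩ := exists_hom_ker_eq_commutator_even h2 h h24 hn
  rw [← h3, Subgroup.index_ker, MonoidHom.range_eq_top.2 h1, Subgroup.card_top]
  simp

/-- `-1` is the product of the reflections in an orthogonal basis. -/
theorem prod_refl_orth_basis {ι : Type*} [Fintype ι] (a : ι → V)
    (hsp : Submodule.span F (Set.range a) = ⊤) (ho : ∀ i j, i ≠ j → pol Q (a i) (a j) = 0)
    (ha : ∀ i, Q (a i) ≠ 0) (x : V) :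
    (((Finset.univ : Finset ι).toList.map a).map (refl Q)).prod.1 x = -x := by
  classical
  have key : ∀ l : List ι, l.Nodup → ∀ j, ((l.map a).map (refl Q)).prod.1 (a j) =
      if j ∈ l then -a j else a j := by
    intro l hl j
    induction l with
    | nil => simp
    | cons i l ih =>
      rw [List.nodup_cons] at hl
      simp only [List.map_cons, List.prod_cons, Form.Isom.mul_apply, ih hl.2, List.mem_cons]
      by_cases hij : j = i
      · subst hij
        simp [hl.1, refl_self Q (ha j)]
      · have := refl_of_perp Q (ho i j (Ne.symm hij))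
        split_ifs <;> simp_all
  have hx : x ∈ Submodule.span F (Set.range a) := by rw [hsp]; trivial
  induction hx using Submodule.span_induction with
  | mem x hx =>
    obtain ⟨j, rfl⟩ := hx
    rw [key _ (Finset.nodup_toList _)]
    simp
  | zero => simp
  | add x y _ _ h1 h2 => rw [map_add, h1, h2, neg_add]
  | smul c x _ h1 => rw [map_smul, h1, smul_neg]

/-- Criterion for `-1 ∈ Ω` from an orthogonal basis. -/
theorem neg_one_mem_commutator_iff [Finite F] (h2 : (2 : F) ≠ 0) (h : (ofQuad Q).Nondeg)
    {ι : Type*} [Fintype ι] (a : ι → V) (hc : Fintype.card ι = finrank F V)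
    (ho : ∀ i j, i ≠ j → pol Q (a i) (a j) = 0) (ha : ∀ i, Q (a i) ≠ 0) :
    (∃ g ∈ commutator (ofQuad Q).Isom, ∀ x, g.1 x = -x) ↔
      Even (Fintype.card ι) ∧ IsSquare (∏ i, Q (a i)) := by
  have hli := (ofQuad Q).linearIndependent_of_dual a a
    (fun i => by rw [pol_self]; exact mul_ne_zero h2 (ha i)) ho
  have hsp : Submodule.span F (Set.range a) = ⊤ := by
    apply Submodule.eq_top_of_finrank_eq
    rw [finrank_span_eq_card hli, hc]
  have h1 := prod_refl_orth_basis a hsp ho ha
  have h3 := prod_refl_mem_commutator_iff h (notTwoFour_of_two_ne_zero h2)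
    ((Finset.univ : Finset ι).toList.map a) (by simpa using ha)
  rw [List.length_map, Finset.length_toList, Finset.card_univ, List.map_map (g := Q),
    Finset.prod_map_toList] at h3
  rw [show (∏ i, Q (a i)) = ∏ i, (Q ∘ a) i from rfl, ← h3]
  constructor
  · rintro ⟨g, hg, hg'⟩
    rwa [show (((Finset.univ : Finset ι).toList.map a).map (refl Q)).prod = g from
      Form.Isom.ext fun x => by rw [h1, hg']]
  · intro hm
    exact ⟨_, hm, h1⟩

end H15
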