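import Mathlib
import Cfsg.Agent.H15.Spinor

/-!
# `Ω` is generated by Eichler (Siegel) transformations; index-two subgroups
-/

set_option autoImplicit false
set_option linter.unusedSectionVars false

namespace H15

open Module

attribute [-simp] ofQuad_B

variable {F : Type*} [Field F] {V : Type*} [AddCommGroup V] [Module F V]
variable (Q : QuadraticForm F V)

/-- The set of Eichler transformations. -/
def eichSet : Set (ofQuad Q).Isom := {g | ∃ u v hu huv, g = eich Q u v hu huv}

/-- The set of Siegel transformations `E(u, v)` with `u`, `v` both singular. -/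
def siegelSet : Set (ofQuad Q).Isom := {g | ∃ u v hu huv, Q v = 0 ∧ g = eich Q u v hu huv}

theorem eich_mem_closure {u v : V} (hu : Q u = 0) (huv : pol Q u v = 0) :
    eich Q u v hu huv ∈ Subgroup.closure (eichSet Q) :=
  Subgroup.subset_closure ⟨u, v, hu, huv, rfl⟩

theorem normal_closure_of_conj {G : Type*} [Group G] (s : Set G)
    (hs : ∀ x ∈ s, ∀ g : G, g * x * g⁻¹ ∈ s) : (Subgroup.closure s).Normal := by
  refine ⟨fun n hn g => ?_⟩
  induction hn using Subgroup.closure_induction with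
  | mem x hx => exact Subgroup.subset_closure (hs x hx g)
  | one => simp
  | mul x y _ _ h1 h2 =>
    have : g * (x * y) * g⁻¹ = g * x * g⁻¹ * (g * y * g⁻¹) := by group
    rw [this]; exact Subgroup.mul_mem _ h1 h2
  | inv x _ h1 =>
    have : g * x⁻¹ * g⁻¹ = (g * x * g⁻¹)⁻¹ := by group
    rw [this]; exact Subgroup.inv_mem _ h1

theorem closure_eichSet_normal : (Subgroup.closure (eichSet Q)).Normal :=
  normal_closure_of_conj _ (by
    rintro _ ⟨u, v, hu, huv, rfl⟩ g
    exact ⟨_, _, _, _, eich_conj Q g hu huv⟩)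

variable {Q}

/-- One Eichler step: `a ↦ b` when a singular `u` has `B(u,a) = B(u,b) ≠ 0`. -/
theorem exists_eich_apply_eq {u a b : V} (hu : Q u = 0) (hab : Q a = Q b)
    (h1 : pol Q u a = pol Q u b) (h0 : pol Q u a ≠ 0) :
    ∃ v huv, (eich Q u v hu huv).1 a = b := by
  have huv : pol Q u ((pol Q u a)⁻¹ • (a - b)) = 0 := by simp [h1]
  refine ⟨_, huv, ?_⟩
  obtain ⟨t, ht⟩ : ∃ t : F, (eich Q u _ hu huv).1 a = b + t • u := by
    refine ⟨pol Q ((pol Q u a)⁻¹ • (a - b)) a - Q ((pol Q u a)⁻¹ • (a - b)) * pol Q u a, ?_⟩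
    rw [eich_apply, smul_smul, mul_inv_cancel₀ h0]
    module
  have h2 := Form.Isom.map_quad (eich Q u _ hu huv) a
  rw [ht, quad_add_smul, hu, hab, pol_comm, ← h1] at h2
  have h3 : t = 0 := by
    have : t * pol Q u a = 0 := by linear_combination h2
    exact (mul_eq_zero.1 this).resolve_right h0
  rw [ht, h3, zero_smul, add_zero]

variable [FiniteDimensional F V]

omit [FiniteDimensional F V] in
theorem hyp_pair_disjoint {u w : V} (hu : Q u = 0) (hw : Q w = 0) (huw : pol Q u w = 1) :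
    (ofQuad Q).Hyp (fun _ : Unit => u) (fun _ => w) :=
  ⟨fun _ _ => by rw [pol_self, hu, mul_zero], fun _ _ => by rw [pol_self, hw, mul_zero],
    fun _ _ => huw, fun _ => hu, fun _ => hw⟩

/-- The group generated by Eichler transformations is transitive on vectors of a given non-zero
norm, in dimension at least four over a finite field. -/
theorem exists_closure_eich_apply_eq [Finite F] (h : (ofQuad Q).Nondeg) (hn : 4 ≤ finrank F V)
    {a b : V} (hab : Q a = Q b) (ha : Q a ≠ 0) :
    ∃ g ∈ Subgroup.closure (eichSet Q), g.1 a = b := by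
  let R : V → V → Prop := fun x y => ∃ g ∈ Subgroup.closure (eichSet Q), g.1 x = y
  have Rsymm : ∀ x y, R x y → R y x := by
    rintro x _ ⟨g, hg, rfl⟩
    exact ⟨g⁻¹, Subgroup.inv_mem _ hg, by simp⟩
  have Rtrans : ∀ x y z, R x y → R y z → R x z := by
    rintro x _ _ ⟨g, hg, rfl⟩ ⟨g', hg', rfl⟩
    exact ⟨g' * g, Subgroup.mul_mem _ hg' hg, rfl⟩
  have Rstep : ∀ u x y, Q u = 0 → Q x = Q y → pol Q u x = pol Q u y → pol Q u x ≠ 0 → R x y := by
    intro u x y hu h1 h2 h3
    obtain ⟨v, huv, hv⟩ := exists_eich_apply_eq hu h1 h2 h3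
    exact ⟨_, eich_mem_closure Q hu huv, hv⟩
  obtain ⟨u, -, hu0, hu⟩ := exists_singular Q (U := ⊤) (by rw [finrank_top]; omega)
  have huu : pol Q u u = 0 := by rw [pol_self, hu, mul_zero]
  obtain ⟨w, -, huw, hww, hw⟩ := h.exists_hyp_partner (H := ⊥) (p := u) (by simpa using hu0) huu hu
    (by simp)
  change pol Q u w = 1 at huw
  change pol Q w w = 0 at hww
  change Q w = 0 at hw
  have hwu : pol Q w u = 1 := by rw [pol_comm, huw]
  have H := hyp_pair_disjoint hu hw huw
  have hd := h.disjoint_perp_perp H.disjoint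
  have hr := h.finrank_perp
    (Submodule.span F (Set.range (Sum.elim (fun _ : Unit => u) fun _ : Unit => w)))
  rw [H.finrank_span] at hr
  simp only [Fintype.card_unique] at hr
  obtain ⟨c, hc⟩ : ∃ c, c = Q a := ⟨_, rfl⟩
  have hc0 : c ≠ 0 := by rwa [hc]
  have hX : ∀ β : F, β ≠ 0 → Q ((c / β) • u + β • w) = c := fun β hβ => by
    rw [quad_add, quad_smul, quad_smul, hu, hw]
    simp only [map_smul, LinearMap.smul_apply, huw, smul_eq_mul]
    field_simp
    ring
  have hX1 : ∀ β : F, β ≠ 0 → R ((c / β) • u + β • w) ((c / 1) • u + (1 : F) • w) := by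
    intro β hβ
    obtain ⟨z, hz, hzQ⟩ := exists_quad_eq hd (by omega) ((β - 1) * β / c)
    obtain ⟨hz1, hz2⟩ := (Form.Hyp.mem_perp _ _).1 hz
    have hz3 : pol Q u z = 0 := hz1 ()
    have hz4 : pol Q w z = 0 := hz2 ()
    have hz5 : pol Q z u = 0 := by rw [pol_comm, hz3]
    have hz6 : pol Q z w = 0 := by rw [pol_comm, hz4]
    have e1 : pol Q u ((eich Q w z hw hz4).1 ((c / β) • u + β • w)) = 1 := by
      simp only [eich_apply, map_add, map_sub, map_smul, hz5, hz6, hwu, hww, huu, huw, hz3, hzQ,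
        smul_eq_mul]
      field_simp
      ring
    refine Rtrans _ _ _ ⟨_, eich_mem_closure Q hw hz4, rfl⟩ (Rstep u _ _ hu ?_ ?_ ?_)
    · rw [Form.Isom.map_quad, hX β hβ, hX 1 one_ne_zero]
    · rw [e1]; simp [huu, huw]
    · rw [e1]; exact one_ne_zero
  have key1 : ∀ x, Q x = c → pol Q u x ≠ 0 → R x ((c / 1) • u + (1 : F) • w) := by
    intro x hx hux
    refine Rtrans _ _ _ (Rstep u _ _ hu ?_ ?_ hux) (hX1 _ hux)
    · rw [hx, hX _ hux]
    · simp [huu, huw]
  have key2 : ∀ x, Q x = c → pol Q w x ≠ 0 → R x ((c / 1) • u + (1 : F) • w) := by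
    intro x hx hwx
    have hβ : c / pol Q w x ≠ 0 := div_ne_zero hc0 hwx
    refine Rtrans _ _ _ (Rstep w _ _ hw ?_ ?_ hwx) (hX1 _ hβ)
    · rw [hx, hX _ hβ]
    · simp only [map_add, map_smul, hwu, hww, smul_eq_mul]
      field_simp
      ring
  have key : ∀ x, Q x = c → R x ((c / 1) • u + (1 : F) • w) := by
    intro x hx
    by_cases hux : pol Q u x = 0
    swap
    · exact key1 x hx hux
    by_cases hwx : pol Q w x = 0
    swap
    · exact key2 x hx hwx
    have hx0 : x ≠ 0 := by rintro rfl; exact hc0 (by rw [← hx, map_zero])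
    obtain ⟨y, hy, hxy⟩ := (ofQuad Q).exists_B_ne_zero_of_disjoint hd
      ((Form.Hyp.mem_perp _ _).2 ⟨fun _ => hux, fun _ => hwx⟩) hx0
    have huy : pol Q u y = 0 := ((Form.Hyp.mem_perp _ _).1 hy).1 ()
    refine Rtrans _ _ _ ⟨_, eich_mem_closure Q hu huy, rfl⟩ (key2 _ ?_ ?_)
    · rw [Form.Isom.map_quad, hx]
    · simp only [eich_apply, map_add, map_sub, map_smul, hux, hwx, hwu, smul_eq_mul]
      rw [pol_comm]
      simpa using hxy
  exact Rtrans _ _ _ (key a hc.symm) (Rsymm _ _ (key b (by rw [hc, hab])))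

/-- `Ω` is generated by the Eichler transformations (dimension `≥ 4`, finite field). -/
theorem commutator_eq_closure_eichSet [Finite F] (h : (ofQuad Q).Nondeg) (h24 : NotTwoFour F V)
    (hn : 4 ≤ finrank F V) : commutator (ofQuad Q).Isom = Subgroup.closure (eichSet Q) := by
  apply le_antisymm
  · refine commutator_le_of_refl h h24 _ fun a b ha hb => ?_
    obtain ⟨t, ht, htb⟩ := exists_closure_eich_apply_eq h hn
      (a := b) (b := (refl Q a).1 b) (Form.Isom.map_quad _ _).symm hb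
    have e1 : refl Q a * refl Q b * (refl Q a * refl Q b) =
        t * (refl Q b * t⁻¹ * (refl Q b)⁻¹) := by
      have := refl_conj Q (refl Q a) b
      rw [← htb, ← refl_conj, refl_inv] at this
      rw [refl_inv, ← mul_assoc, this]
      group
    rw [e1]
    exact Subgroup.mul_mem _ ht
      ((closure_eichSet_normal Q).conj_mem _ (Subgroup.inv_mem _ ht) _)
  · rw [Subgroup.closure_le]
    rintro _ ⟨u, v, hu, huv, rfl⟩
    exact eich_mem_commutator h h24 hu huv

/-- In dimension `≥ 5` over a finite field, every vector orthogonal to a singular vector `u` is a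
sum of singular vectors orthogonal to `u`. -/
theorem eich_mem_of_sing [Finite F] (h : (ofQuad Q).Nondeg) (hn : 5 ≤ finrank F V)
    (S : Subgroup (ofQuad Q).Isom) {u : V} (hu : Q u = 0)
    (hS : ∀ v (huv : pol Q u v = 0), Q v = 0 → eich Q u v hu huv ∈ S) (v : V)
    (huv : pol Q u v = 0) : eich Q u v hu huv ∈ S := by
  by_cases hu0 : u = 0
  · subst hu0
    rw [eich_zero_left]; exact S.one_mem
  have huu : pol Q u u = 0 := by rw [pol_self, hu, mul_zero]
  obtain ⟨w, -, huw, hww, hw⟩ := h.exists_hyp_partner (H := ⊥) (p := u) (by simpa using hu0) huu hu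
    (by simp)
  have H := hyp_pair_disjoint hu hw huw
  have hd := h.disjoint_perp_perp H.disjoint
  have hr := h.finrank_perp
    (Submodule.span F (Set.range (Sum.elim (fun _ : Unit => u) fun _ : Unit => w)))
  rw [H.finrank_span] at hr
  simp only [Fintype.card_unique] at hr
  obtain ⟨e, he, he0, hQe⟩ := exists_singular Q (U := (ofQuad Q).perp
    (Submodule.span F (Set.range (Sum.elim (fun _ : Unit => u) fun _ : Unit => w)))) (by omega)
  have hee : pol Q e e = 0 := by rw [pol_self, hQe, mul_zero]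
  obtain ⟨f, hf, hef, hff, hQf⟩ := (ofQuad Q).exists_hyp_partner_mem hd he he0 hee hQe
  change pol Q e f = 1 at hef
  change pol Q f f = 0 at hff
  change Q f = 0 at hQf
  have hue : pol Q u e = 0 := ((Form.Hyp.mem_perp _ _).1 he).1 ()
  have huf : pol Q u f = 0 := ((Form.Hyp.mem_perp _ _).1 hf).1 ()
  obtain ⟨y, hy⟩ : ∃ y, y = v + (1 - pol Q v f) • e := ⟨_, rfl⟩
  have hyf : pol Q y f = 1 := by simp [hy, hef]
  have h1 : pol Q u (y + (-Q y) • f) = 0 := by simp [hy, huv, hue, huf]
  have h2 : pol Q u ((pol Q v f - 1) • e) = 0 := by simp [hue]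
  have h3 : pol Q u (Q y • f) = 0 := by simp [huf]
  have h4 : pol Q u ((pol Q v f - 1) • e + Q y • f) = 0 := by rw [map_add, h2, h3, add_zero]
  rw [eich_congr Q hu huv (show v = (y + (-Q y) • f) + ((pol Q v f - 1) • e + Q y • f) by
    generalize Q y = t; rw [hy]; module), eich_add Q hu h1 h4, eich_add Q hu h2 h3]
  refine S.mul_mem (hS _ _ ?_) (S.mul_mem (hS _ _ ?_) (hS _ _ ?_))
  · rw [quad_add_smul, hQf, hyf]; ring
  · rw [quad_smul, hQe, mul_zero]
  · rw [quad_smul, hQf, mul_zero]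

/-- `Ω` is generated by the Siegel transformations (dimension `≥ 5`, finite field). -/
theorem commutator_eq_closure_siegelSet [Finite F] (h : (ofQuad Q).Nondeg)
    (hn : 5 ≤ finrank F V) : commutator (ofQuad Q).Isom = Subgroup.closure (siegelSet Q) := by
  rw [commutator_eq_closure_eichSet h (Or.inr (by omega)) (by omega)]
  apply le_antisymm
  · rw [Subgroup.closure_le]
    rintro _ ⟨u, v, hu, huv, rfl⟩
    exact eich_mem_of_sing h hn (Subgroup.closure (siegelSet Q)) hu
      (fun v huv hv => Subgroup.subset_closure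
        (show _ ∈ siegelSet Q from ⟨u, v, hu, huv, hv, rfl⟩)) v huv
  · refine Subgroup.closure_mono ?_
    rintro _ ⟨u, v, hu, huv, -, rfl⟩
    exact ⟨u, v, hu, huv, rfl⟩

omit [FiniteDimensional F V] in
theorem refl_mul_refl_sq_mem_of_index_two (H : Subgroup (ofQuad Q).Isom) (hH : H.index = 2)
    (a b : V) : refl Q a * refl Q b * (refl Q a * refl Q b) ∈ H :=
  Subgroup.mul_self_mem_of_index_two hH _

/-- `SO / Ω` has order two. -/
theorem exists_hom_det_ker [Finite F] (h : (ofQuad Q).Nondeg) (h24 : NotTwoFour F V)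
    (hn : 2 ≤ finrank F V) : ∃ ψ : (ofQuad Q).det.ker →* ℤˣ, Function.Surjective ψ ∧
      ψ.ker = (commutator (ofQuad Q).Isom).subgroupOf (ofQuad Q).det.ker := by
  by_cases h2 : (2 : F) = 0
  · obtain ⟨φ, h1, h3, -⟩ := exists_hom_ker_eq_commutator_even h2 h h24 (by omega)
    refine ⟨φ.comp (Subgroup.subtype _), fun x => ?_, ?_⟩
    · obtain ⟨g, rfl⟩ := h1 x
      refine ⟨⟨g, ?_⟩, rfl⟩
      have := (ofQuad Q).det_mul_sigma_det h g
      rw [MonoidHom.mem_ker, Units.ext_iff]
      rcases mul_self_eq_one_iff.1 this with h4 | h4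
      · exact h4
      · rw [h4, Units.val_one]; linear_combination -h2
    · rw [← h3]; rfl
  · obtain ⟨φ, h1, h3, -, h4⟩ := exists_hom_ker_eq_commutator_odd h2 h hn
    refine ⟨(MonoidHom.snd _ _).comp (φ.comp (Subgroup.subtype _)), fun x => ?_, ?_⟩
    · obtain ⟨g, hg⟩ := h1 (1, x)
      exact ⟨⟨g, (h4 g).1 (by rw [hg])⟩, by simp [hg]⟩
    · ext g
      rw [← h3, Subgroup.mem_subgroupOf, MonoidHom.mem_ker, MonoidHom.mem_ker, Prod.ext_iff]
      simp [(h4 g).2 g.2]

/-- `SO` has a unique subgroup of index two. -/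
theorem existsUnique_index_two_det_ker [Finite F] (h : (ofQuad Q).Nondeg) (h24 : NotTwoFour F V)
    (hn : 2 ≤ finrank F V) : ∃! H : Subgroup (ofQuad Q).det.ker, H.index = 2 := by
  obtain ⟨ψ, h1, h2⟩ := exists_hom_det_ker h h24 hn
  have h3 : ψ.ker.index = 2 := by
    rw [Subgroup.index_ker, MonoidHom.range_eq_top.2 h1, Subgroup.card_top]
    simp
  refine ⟨ψ.ker, h3, fun H hH => ?_⟩
  have h4 : ψ.ker ≤ H := by
    rw [h2]
    have := commutator_le_of_refl h h24 (H.map (Subgroup.subtype _)) fun a b ha hb =>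
      ⟨⟨refl Q a * refl Q b, by simp [MonoidHom.mem_ker, det_refl Q ha, det_refl Q hb]⟩ *
        ⟨refl Q a * refl Q b, by simp [MonoidHom.mem_ker, det_refl Q ha, det_refl Q hb]⟩,
        Subgroup.mul_self_mem_of_index_two hH _, rfl⟩
    intro g hg
    obtain ⟨g', hg', e⟩ := this hg
    rwa [← Subtype.ext e]
  have h5 := Subgroup.relIndex_mul_index h4
  rw [hH, h3] at h5
  exact le_antisymm (Subgroup.relIndex_eq_one.1 (by omega)) h4

/-- In odd characteristic the orthogonal group has exactly three subgroups of index two. -/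
theorem card_index_two [Finite F] (h2 : (2 : F) ≠ 0) (h : (ofQuad Q).Nondeg)
    (hn : 2 ≤ finrank F V) : Nat.card {H : Subgroup (ofQuad Q).Isom // H.index = 2} = 3 := by
  obtain ⟨φ, h1, h3, -⟩ := exists_hom_ker_eq_commutator_odd h2 h hn
  have hidx : ∀ ψ : ℤˣ × ℤˣ →* ℤˣ, Function.Surjective ψ → (ψ.comp φ).ker.index = 2 := by
    intro ψ hψ
    have h5 : Function.Surjective (ψ.comp φ) := by rw [MonoidHom.coe_comp]; exact hψ.comp h1
    rw [Subgroup.index_ker, MonoidHom.range_eq_top.2 h5, Subgroup.card_top]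
    simp
  obtain ⟨x, hx⟩ := h1 (-1, 1)
  obtain ⟨y, hy⟩ := h1 (1, -1)
  let ψ1 : ℤˣ × ℤˣ →* ℤˣ := MonoidHom.fst _ _
  let ψ2 : ℤˣ × ℤˣ →* ℤˣ := MonoidHom.snd _ _
  change Nat.card {H : Subgroup (ofQuad Q).Isom | H.index = 2} = 3
  rw [Nat.card_coe_set_eq, Set.ncard_eq_three]
  refine ⟨(ψ1.comp φ).ker, (ψ2.comp φ).ker, ((ψ1 * ψ2).comp φ).ker, fun e => ?_, fun e => ?_,
    fun e => ?_, ?_⟩
  · have := SetLike.ext_iff.1 e x
    simp [MonoidHom.mem_ker, ψ1, ψ2, hx] at this
  · have := SetLike.ext_iff.1 e y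
    simp [MonoidHom.mem_ker, ψ1, ψ2, hy] at this
  · have := SetLike.ext_iff.1 e x
    simp [MonoidHom.mem_ker, ψ1, ψ2, hx] at this
  · ext H
    simp only [Set.mem_ofPred_eq, Set.mem_insert_iff, Set.mem_singleton_iff]
    constructor
    · intro hH
      have hle := commutator_le_of_refl h (notTwoFour_of_two_ne_zero h2) H
        fun a b _ _ => Subgroup.mul_self_mem_of_index_two hH _
      have hφ : ∀ g g', φ g = φ g' → (g ∈ H ↔ g' ∈ H) := fun g g' e => by
        have : g * g'⁻¹ ∈ H := hle (by rw [← h3, MonoidHom.mem_ker, map_mul, map_inv, e]; simp)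
        rwa [Subgroup.mul_mem_iff_of_index_two hH, inv_mem_iff] at this
      have hcases : ∀ g, (φ g = (1, 1) ∧ g ∈ H) ∨ (φ g = (-1, 1) ∧ (g ∈ H ↔ x ∈ H)) ∨
          (φ g = (1, -1) ∧ (g ∈ H ↔ y ∈ H)) ∨ (φ g = (-1, -1) ∧ (g ∈ H ↔ (x ∈ H ↔ y ∈ H))) := by
        intro g
        rcases hg : φ g with ⟨s, t⟩
        rcases Int.units_eq_one_or s with rfl | rfl <;>
          rcases Int.units_eq_one_or t with rfl | rfl
        · exact Or.inl ⟨rfl, (hφ g 1 (by rw [hg, map_one]; rfl)).2 H.one_mem⟩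
        · exact Or.inr (Or.inr (Or.inl ⟨rfl, hφ g y (by rw [hg, hy])⟩))
        · exact Or.inr (Or.inl ⟨rfl, hφ g x (by rw [hg, hx])⟩)
        · refine Or.inr (Or.inr (Or.inr ⟨rfl, ?_⟩))
          rw [hφ g (x * y) (by rw [hg, map_mul, hx, hy]; simp),
            Subgroup.mul_mem_iff_of_index_two hH]
      by_cases hxH : x ∈ H <;> by_cases hyH : y ∈ H
      · exfalso
        have : H = ⊤ := by
          rw [eq_top_iff]
          intro g _
          rcases hcases g with h | h | h | h <;> tauto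
        rw [this, Subgroup.index_top] at hH
        omega
      · refine Or.inr (Or.inl ?_)
        ext g
        rcases hcases g with h | h | h | h <;> simp [MonoidHom.mem_ker, ψ2, h, hxH, hyH]
      · refine Or.inl ?_
        ext g
        rcases hcases g with h | h | h | h <;> simp [MonoidHom.mem_ker, ψ1, h, hxH, hyH]
      · refine Or.inr (Or.inr ?_)
        ext g
        rcases hcases g with h | h | h | h <;> simp [MonoidHom.mem_ker, ψ1, ψ2, h, hxH, hyH]
    · rintro (rfl | rfl | rfl)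
      · exact hidx _ fun s => ⟨(s, 1), rfl⟩
      · exact hidx _ fun s => ⟨(1, s), rfl⟩
      · exact hidx _ fun s => ⟨(s, 1), by simp [ψ1, ψ2]⟩

end H15
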