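import Mathlib
import Cfsg.Agent.H15.Omega

/-!
# The subgroup generated by the reflections of one norm class
-/

set_option autoImplicit false
set_option linter.unusedSectionVars false

namespace H15

open Module

attribute [-simp] ofQuad_B

variable {F : Type*} [Field F] {V : Type*} [AddCommGroup V] [Module F V]
variable (Q : QuadraticForm F V)

/-- The reflections in vectors of norm in `c (F^×)²`. -/
def reflClass (c : F) : Set (ofQuad Q).Isom :=
  {g | ∃ (v : V) (t : F), t ≠ 0 ∧ Q v = c * t ^ 2 ∧ g = refl Q v}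

theorem quad_three (a b : V) (x y : F) :
    Q ((x * Q a + y * pol Q a b) • b - (y * Q b) • a) = Q (x • a + y • b) * Q a * Q b := by
  simp only [quad_sub, quad_add, quad_smul, map_smul, LinearMap.smul_apply, smul_eq_mul,
    pol_comm Q b a]
  ring

/-- A product of three reflections in vectors of a plane is a reflection. -/
theorem refl_mul_three {a b : V} (ha : Q a ≠ 0) (hb : Q b ≠ 0) (x y : F)
    (h : Q (x • a + y • b) ≠ 0) : refl Q (x • a + y • b) * refl Q a * refl Q b =
      refl Q ((x * Q a + y * pol Q a b) • b - (y * Q b) • a) := by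
  refine Form.Isom.ext fun v => ?_
  have e : Q (x • a + y • b) = x ^ 2 * Q a + y ^ 2 * Q b + x * y * pol Q a b := by
    simp only [quad_add, quad_smul, map_smul, LinearMap.smul_apply, smul_eq_mul]
    ring
  rw [refl_apply Q (_ - _), quad_three]
  simp only [Form.Isom.mul_apply, refl_apply, map_add, map_sub, map_smul, LinearMap.add_apply,
    LinearMap.sub_apply, LinearMap.smul_apply, smul_eq_mul, pol_self, pol_comm Q b a]
  generalize Q (x • a + y • b) = N at h e
  match_scalars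
  · rfl
  · field_simp
    rw [e]; ring
  · field_simp
    rw [e]; ring

variable {Q} [Finite F]

theorem refl_mul_mem_of_gram_ne (h2 : (2 : F) ≠ 0) {c : F} (hc : c ≠ 0) {a b : V} (ha : Q a ≠ 0)
    {t : F} (ht : t ≠ 0) (hab : Q b = t ^ 2 * Q a) (hg : 4 * Q a * Q b ≠ pol Q a b ^ 2) :
    refl Q a * refl Q b ∈ Subgroup.closure (reflClass Q c) := by
  have hb : Q b ≠ 0 := by rw [hab]; exact mul_ne_zero (pow_ne_zero _ ht) ha
  have h4 : (4 : F) ≠ 0 := by rw [show (4 : F) = 2 * 2 by norm_num]; exact mul_ne_zero h2 h2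
  obtain ⟨x, y, hxy⟩ := exists_sq_add_sq ha
    (b := Q a * (4 * Q a * Q b - pol Q a b ^ 2)) (mul_ne_zero ha (sub_ne_zero.2 hg)) c
  have h1 : Q ((x - y * pol Q a b) • a + (2 * y * Q a) • b) = c := by
    simp only [quad_add, quad_smul, map_smul, LinearMap.smul_apply, smul_eq_mul]
    linear_combination hxy
  have h3 := refl_mul_three Q ha hb _ _ (h1.trans_ne hc)
  rw [mul_assoc, ← eq_inv_mul_iff_mul_eq, refl_inv] at h3
  rw [h3]
  refine Subgroup.mul_mem _ (Subgroup.subset_closure ⟨_, 1, one_ne_zero, by rw [h1]; ring, rfl⟩)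
    (Subgroup.subset_closure ⟨_, t * Q a, mul_ne_zero ht ha, ?_, rfl⟩)
  rw [quad_three, h1, hab]
  ring

variable [FiniteDimensional F V]

theorem refl_mul_mem_of_quad_eq (h2 : (2 : F) ≠ 0) (h : (ofQuad Q).Nondeg)
    (hn : finrank F V ≠ 3) (h43 : finrank F V = 4 → ∀ ν : F, ∃ s, s ≠ 0 ∧ s ^ 2 ≠ ν)
    {c : F} (hc : c ≠ 0) {a b : V} (ha : Q a ≠ 0) (hab : Q b = Q a) :
    refl Q a * refl Q b ∈ Subgroup.closure (reflClass Q c) := by
  classical
  by_cases hg : 4 * Q a * Q b = pol Q a b ^ 2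
  swap
  · exact refl_mul_mem_of_gram_ne h2 hc ha one_ne_zero (by rw [hab]; ring) hg
  obtain ⟨l, hl⟩ : ∃ l, pol Q a b = l * (2 * Q a) :=
    ⟨pol Q a b / (2 * Q a), (div_mul_cancel₀ _ (mul_ne_zero h2 ha)).symm⟩
  have hl2 : l ^ 2 = 1 := by
    apply mul_right_cancel₀ (pow_ne_zero 2 (mul_ne_zero h2 ha))
    rw [hl, hab] at hg
    linear_combination -hg
  have hl0 : l ≠ 0 := by rintro rfl; simp at hl2
  obtain ⟨u, hu⟩ : ∃ u, u = b - l • a := ⟨_, rfl⟩
  have hbu : b = u + l • a := by rw [hu]; simp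
  have hau : pol Q a u = 0 := by rw [hu, map_sub, map_smul, pol_self, hl, smul_eq_mul, sub_self]
  have hua : pol Q u a = 0 := by rw [pol_comm, hau]
  have hQu : Q u = 0 := by
    rw [hbu, quad_add_smul, hua, hl2] at hab
    linear_combination hab
  have huu : pol Q u u = 0 := by rw [pol_self, hQu, mul_zero]
  by_cases hu0 : u = 0
  · rw [hbu, hu0, zero_add, refl_smul Q hl0, refl_mul_self]
    exact Subgroup.one_mem _
  suffices ∃ d t, t ≠ 0 ∧ Q d = t ^ 2 * Q a ∧ pol Q u d = 0 ∧ 4 * Q a * Q d ≠ pol Q a d ^ 2 by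
    obtain ⟨d, t, ht, h1, h3, h4⟩ := this
    have e : refl Q a * refl Q b = (refl Q a * refl Q d) * (refl Q b * refl Q d)⁻¹ := by
      rw [mul_inv_rev, refl_inv, refl_inv, mul_assoc, ← mul_assoc (refl Q d), refl_mul_self, one_mul]
    rw [e]
    refine Subgroup.mul_mem _ (refl_mul_mem_of_gram_ne h2 hc ha ht h1 h4) (Subgroup.inv_mem _
      (refl_mul_mem_of_gram_ne h2 hc (by rwa [hab]) ht (by rwa [hab]) ?_))
    rwa [hab, hbu, map_add, map_smul, LinearMap.add_apply, LinearMap.smul_apply, h3, zero_add,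
      smul_eq_mul, mul_pow, hl2, one_mul]
  have haa : pol Q a a ≠ 0 := by rw [pol_self]; exact mul_ne_zero h2 ha
  have hd := h.disjoint_perp_perp ((ofQuad Q).disjoint_span_singleton haa)
  obtain ⟨r, hr1, hur, hrr, -⟩ := (ofQuad Q).exists_hyp_partner_mem hd
    ((ofQuad Q).mem_perp_singleton.2 hau) hu0 huu hQu
  have har : pol Q a r = 0 := (ofQuad Q).mem_perp_singleton.1 hr1
  have hra : pol Q r a = 0 := by rw [pol_comm, har]
  have hru : pol Q r u = 1 := by rw [pol_comm, hur]
  have d1 : ∀ i, pol Q (![a, r, u] i) (![a, u, r] i) ≠ 0 := by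
    intro i; fin_cases i <;> simp [haa, hru, hur]
  have d2 : ∀ i j, i ≠ j → pol Q (![a, r, u] i) (![a, u, r] j) = 0 := by
    intro i j hij
    fin_cases i <;> fin_cases j <;> simp [hau, har, hra, hrr, hua, huu] at hij ⊢
  have hli := (ofQuad Q).linearIndependent_of_dual _ _ d1 d2
  have hd2 := h.disjoint_perp_perp ((ofQuad Q).disjoint_of_dual _ _ d1 d2 (by
    intro i
    fin_cases i
    · exact Submodule.subset_span ⟨0, rfl⟩
    · exact Submodule.subset_span ⟨2, rfl⟩
    · exact Submodule.subset_span ⟨1, rfl⟩))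
  have hr2 := h.finrank_perp (Submodule.span F (Set.range ![a, u, r]))
  rw [finrank_span_eq_card hli, Fintype.card_fin] at hr2
  have h4 : (4 : F) ≠ 0 := by rw [show (4 : F) = 2 * 2 by norm_num]; exact mul_ne_zero h2 h2
  by_cases hn4 : finrank F V = 4
  · obtain ⟨w, hw, hw0⟩ := (ofQuad Q).exists_Q_ne_zero (by simp) hd2
      (by intro h0; rw [h0, finrank_bot] at hr2; omega)
    have haw : pol Q a w = 0 := hw _ (Submodule.subset_span ⟨0, rfl⟩)
    have huw : pol Q u w = 0 := hw _ (Submodule.subset_span ⟨1, rfl⟩)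
    change Q w ≠ 0 at hw0
    obtain ⟨s, hs0, hs⟩ := h43 hn4 (-(Q a * Q w))
    refine ⟨(Q a * Q w - s ^ 2) • a + (2 * s * Q a) • w, Q a * Q w + s ^ 2,
      fun h0 => hs (by linear_combination h0), ?_, by simp [hua, huw], ?_⟩
    · simp only [quad_add, quad_smul, map_smul, LinearMap.smul_apply, smul_eq_mul, haw]
      ring
    · simp only [quad_add, quad_smul, map_add, map_smul, LinearMap.smul_apply, smul_eq_mul, haw,
        pol_self]
      intro h0
      have : 4 * 4 * s ^ 2 * Q a ^ 3 * Q w = 0 := by linear_combination h0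
      simp [h4, hs0, ha, hw0] at this
  · obtain ⟨w, hw, hw0⟩ := exists_quad_eq hd2 (by omega) (Q a)
    have haw : pol Q a w = 0 := hw _ (Submodule.subset_span ⟨0, rfl⟩)
    have huw : pol Q u w = 0 := hw _ (Submodule.subset_span ⟨1, rfl⟩)
    exact ⟨w, 1, one_ne_zero, by rw [hw0]; ring, huw, by simp [haw, hw0, h4, ha]⟩

/-- The reflections of one norm class generate a subgroup of index two. -/
theorem index_closure_reflClass (h2 : (2 : F) ≠ 0) (h : (ofQuad Q).Nondeg) (hn2 : 2 ≤ finrank F V)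
    (hn : finrank F V ≠ 3) (h43 : finrank F V = 4 → ∀ ν : F, ∃ s, s ≠ 0 ∧ s ^ 2 ≠ ν)
    {c : F} (hc : c ≠ 0) : (Subgroup.closure (reflClass Q c)).index = 2 := by
  obtain ⟨φ, h1, h3, h4, -⟩ := exists_hom_ker_eq_commutator_odd h2 h hn2
  have hle : φ.ker ≤ Subgroup.closure (reflClass Q c) := by
    rw [h3]
    refine commutator_le_of_refl h (notTwoFour_of_two_ne_zero h2) _ fun a b ha _ => ?_
    have : refl Q a * refl Q b * (refl Q a * refl Q b) =
        refl Q a * (refl Q b * refl Q a * (refl Q b)⁻¹) := by rw [refl_inv]; group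
    rw [this, refl_conj]
    exact refl_mul_mem_of_quad_eq h2 h hn h43 hc ha (Form.Isom.map_quad _ _)
  have himg : φ '' reflClass Q c = {(-1, sqSign c)} := by
    apply Set.Subset.antisymm
    · rintro _ ⟨_, ⟨v, t, ht, hv, rfl⟩, rfl⟩
      rw [h4 v (by rw [hv]; exact mul_ne_zero hc (pow_ne_zero _ ht)), hv,
        sqSign_mul hc (pow_ne_zero _ ht), sqSign_eq_one_iff.2 (IsSquare.sq t), mul_one]
      rfl
    · rintro _ rfl
      obtain ⟨v, hv⟩ := exists_quad_eq' h hn2 c
      exact ⟨_, ⟨v, 1, one_ne_zero, by rw [hv]; ring, rfl⟩, by rw [h4 v (hv.trans_ne hc), hv]⟩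
  rw [← Subgroup.index_map_eq _ h1 hle, MonoidHom.map_closure, himg, ← Subgroup.zpowers_eq_closure]
  have h5 := (Subgroup.zpowers ((-1, sqSign c) : ℤˣ × ℤˣ)).card_mul_index
  rw [Nat.card_zpowers, orderOf_eq_prime (p := 2) (by ext <;> simp [Int.units_sq])
    (by simp [Prod.ext_iff])] at h5
  simp only [Nat.card_eq_fintype_card, Fintype.card_prod, Fintype.card_units_int] at h5
  omega

end H15
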