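import Mathlib
import Cfsg.Agent.H15.Spinor
import Cfsg.Agent.H15.StdQuad
import Cfsg.Agent.H15.Disc

/-!
# When `-1` lies in `Ω`
-/

set_option autoImplicit false
set_option linter.unusedSectionVars false

namespace H15

open Module

attribute [-simp] ofQuad_B

variable {F : Type*} [Field F]

theorem exists_neg_one_mem_omega_iff {ι : Type} [Fintype ι] [DecidableEq ι]
    (Q : QuadraticForm F (ι → F)) :
    (∃ g : Cfsg.isometryGroup F ⇑Q, g ∈ Cfsg.Omega F ⇑Q ∧ ((g : GL ι F) : Matrix ι ι F) = -1) ↔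
      ∃ g ∈ commutator (ofQuad Q).Isom, ∀ x, g.1 x = -x := by
  rw [(orthEquiv Q).surjective.exists]
  refine exists_congr fun g => and_congr (mem_commutator_iff_equiv (orthEquiv Q) g) ?_
  constructor
  · intro h x
    rw [orthEquiv_apply, h, Matrix.neg_mulVec, Matrix.one_mulVec]
  · intro h
    refine matrix_ext_mulVec fun x => ?_
    rw [← orthEquiv_apply, h, Matrix.neg_mulVec, Matrix.one_mulVec]

theorem isSquare_neg_one_pow_iff [Fintype F] (h2 : (2 : F) ≠ 0) (m : ℕ) :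
    IsSquare ((-1 : F) ^ m) ↔ Fintype.card F ^ m % 4 = 1 := by
  have hodd := Nat.odd_iff.1 (card_odd_iff.2 h2)
  have h13 : Fintype.card F % 4 = 1 ∨ Fintype.card F % 4 = 3 := by omega
  rcases Nat.even_or_odd m with ⟨k, rfl⟩ | ⟨k, rfl⟩
  · rw [Even.neg_one_pow ⟨k, rfl⟩, ← two_mul, pow_mul, Nat.pow_mod, Nat.pow_mod _ 2]
    rcases h13 with h | h <;> simp [h]
  · rw [Odd.neg_one_pow ⟨k, rfl⟩, isSquare_neg_one_iff' h2, pow_succ, pow_mul, Nat.mul_mod,
      Nat.pow_mod, Nat.pow_mod _ 2]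
    rcases h13 with h | h <;> simp [h]

theorem odd_pow_mod_four {q : ℕ} (hq : Odd q) (m : ℕ) : q ^ m % 4 = 1 ∨ q ^ m % 4 = 3 := by
  have := Nat.odd_iff.1 (hq.pow (n := m))
  omega

variable {V : Type*} [AddCommGroup V] [Module F V] {Q : QuadraticForm F V}

theorem hyp_quad_add_sub {ι : Type*} [DecidableEq ι] {e f : ι → V} (H : (ofQuad Q).Hyp e f)
    (i : ι) : Q ((e + f) i) = 1 ∧ Q ((e - f) i) = -1 := by
  have h1 : Q (e i) = 0 := H.Qe i
  have h2 : Q (f i) = 0 := H.Qf i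
  have h3 : pol Q (e i) (f i) = 1 := by simpa using H.ef i i
  rw [Pi.add_apply, Pi.sub_apply, quad_add, quad_sub, h1, h2, h3]
  simp

theorem neg_one_mem_omega_plus [Fintype F] (h2 : (2 : F) ≠ 0) (m : ℕ) :
    (∃ g ∈ commutator (ofQuad (qPlus m F)).Isom, ∀ x, g.1 x = -x) ↔
      Fintype.card F ^ m % 4 = 1 := by
  have H := qPlus_hyp m F
  rw [neg_one_mem_commutator_iff h2 (qPlus_nondeg m F) _ (by simp) (H.orth rfl).1 (by
    rintro (i | i)
    · rw [Sum.elim_inl, (hyp_quad_add_sub H i).1]; exact one_ne_zero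
    · rw [Sum.elim_inr, (hyp_quad_add_sub H i).2]; simp), Fintype.prod_sum_type]
  simp only [Sum.elim_inl, Sum.elim_inr, (hyp_quad_add_sub H _).1, (hyp_quad_add_sub H _).2]
  simp [isSquare_neg_one_pow_iff h2]

theorem neg_one_mem_omega_minus [Fintype F] (h2 : (2 : F) ≠ 0) (m : ℕ) {a b : F}
    (hab : ∀ z₁ z₂ : F, z₁ ^ 2 + a * z₁ * z₂ + b * z₂ ^ 2 = 0 → z₁ = 0 ∧ z₂ = 0) :
    (∃ g ∈ commutator (ofQuad (qMinus m F a b)).Isom, ∀ x, g.1 x = -x) ↔
      Fintype.card F ^ (m + 1) % 4 = 3 := by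
  obtain ⟨e, he⟩ : ∃ e : Fin m → (Fin m ⊕ Fin m) ⊕ Fin 2 → F,
    e = fun i => Pi.single (Sum.inl (Sum.inl i)) 1 := ⟨_, rfl⟩
  obtain ⟨f, hf⟩ : ∃ f : Fin m → (Fin m ⊕ Fin m) ⊕ Fin 2 → F,
    f = fun i => Pi.single (Sum.inl (Sum.inr i)) 1 := ⟨_, rfl⟩
  have H := qMinus_hyp m F a b
  rw [← he, ← hf] at H
  have hd := disc_ne_zero_of_aniso hab
  let z0 : (Fin m ⊕ Fin m) ⊕ Fin 2 → F := Pi.single (Sum.inr 0) 1
  let z1 : (Fin m ⊕ Fin m) ⊕ Fin 2 → F := Pi.single (Sum.inr 0) (-a) + Pi.single (Sum.inr 1) 2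
  have q0 : qMinus m F a b z0 = 1 := by simp [z0, qMinus_apply]
  have q1 : qMinus m F a b z1 = -(a ^ 2 - 4 * b) := by simp [z1, qMinus_apply]; ring
  have p01 : pol (qMinus m F a b) z0 z1 = 0 := by simp [z0, z1, pol_qMinus]; ring
  have p10 : pol (qMinus m F a b) z1 z0 = 0 := by rw [pol_comm, p01]
  rw [neg_one_mem_commutator_iff h2 (qMinus_nondeg m hab)
    (Sum.elim (Sum.elim (e + f) (e - f)) ![z0, z1]) (by simp) (by
      rintro (i | i) (j | j) hij
      · exact (H.orth rfl).1 i j fun h => hij (congrArg _ h)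
      · rcases i with i | i <;> fin_cases j <;> simp [z0, z1, pol_qMinus, he, hf]
      · rcases j with j | j <;> fin_cases i <;> simp [z0, z1, pol_qMinus, he, hf]
      · fin_cases i <;> fin_cases j
        · exact absurd rfl hij
        · exact p01
        · exact p10
        · exact absurd rfl hij) (by
      rintro ((i | i) | i)
      · rw [Sum.elim_inl, Sum.elim_inl, (hyp_quad_add_sub H i).1]; exact one_ne_zero
      · rw [Sum.elim_inl, Sum.elim_inr, (hyp_quad_add_sub H i).2]; simp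
      · fin_cases i
        · simp [q0]
        · exact q1.trans_ne (neg_ne_zero.2 hd)), Fintype.prod_sum_type, Fintype.prod_sum_type]
  simp only [Sum.elim_inl, Sum.elim_inr, (hyp_quad_add_sub H _).1, (hyp_quad_add_sub H _).2,
    Fin.prod_univ_two, Matrix.cons_val_zero, Matrix.cons_val_one, q0, q1]
  have hev : Even (Fintype.card ((Fin m ⊕ Fin m) ⊕ Fin 2)) := by
    simp only [Fintype.card_sum, Fintype.card_fin]; exact ⟨m + 1, by ring⟩
  have hns := not_isSquare_disc_of_aniso h2 hab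
  have e1 : (∏ _i : Fin m, (1 : F)) * (∏ _i : Fin m, (-1 : F)) * (1 * -(a ^ 2 - 4 * b)) =
      (a ^ 2 - 4 * b) * (-1) ^ (m + 1) := by simp; ring
  rw [e1, and_iff_right hev]
  have h13 := odd_pow_mod_four (card_odd_iff.2 h2) (m + 1)
  have h1 := isSquare_neg_one_pow_iff h2 (m + 1)
  constructor
  · intro h
    by_contra h3
    exact not_isSquare_mul hns (h1.2 (by omega)) (by simp) h
  · intro h
    exact isSquare_mul_of_not hns fun h3 => by have := h1.1 h3; omega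

end H15
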