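import Mathlib
import Cfsg.Agent.H15.Mat
import Cfsg.Agent.H15.Util

/-!
# Stabilisers of subspaces, tori and monomial matrices in matrix groups
-/

set_option autoImplicit false
set_option linter.unusedSectionVars false

namespace H15

open Module Matrix

section Stab

variable {H : Type*} [Group H] {ι : Type} [Fintype ι] [DecidableEq ι] {F : Type*} [Field F]
  (toMat : H →* Matrix ι ι F)

theorem mem_stabilizing {S : Set (ι → F)} {h : H} :
    h ∈ Cfsg.stabilizing toMat S ↔ ∀ v, v ∈ S ↔ toMat h *ᵥ v ∈ S := Iff.rfl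

theorem toMat_inv_mulVec (h : H) (v : ι → F) : toMat h⁻¹ *ᵥ (toMat h *ᵥ v) = v := by
  rw [mulVec_mulVec, ← map_mul, inv_mul_cancel, map_one, one_mulVec]

theorem toMat_mulVec_inv (h : H) (v : ι → F) : toMat h *ᵥ (toMat h⁻¹ *ᵥ v) = v := by
  rw [mulVec_mulVec, ← map_mul, mul_inv_cancel, map_one, one_mulVec]

theorem toMat_mulVec_injective (h : H) : Function.Injective (toMat h).mulVec :=
  Function.LeftInverse.injective (toMat_inv_mulVec toMat h)

theorem mem_stabilizing_of_mapsTo (W : Submodule F (ι → F)) {h : H}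
    (hh : ∀ v ∈ W, toMat h *ᵥ v ∈ W) : h ∈ Cfsg.stabilizing toMat (W : Set (ι → F)) := by
  have h1 : W.map (toMat h).mulVecLin = W := by
    apply Submodule.eq_of_le_of_finrank_eq
    · rintro _ ⟨x, hx, rfl⟩; exact hh x hx
    · exact (Submodule.equivMapOfInjective _ (toMat_mulVec_injective toMat h) W).finrank_eq.symm
  intro x
  refine ⟨hh x, fun hx => ?_⟩
  rw [SetLike.mem_coe, ← h1] at hx
  obtain ⟨y, hy, hxy⟩ := hx
  rwa [← toMat_mulVec_injective toMat h hxy]

variable (F) in
/-- The coordinate subspace of vectors vanishing at the indices satisfying `p`. -/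
def coordSub (p : ι → Prop) : Submodule F (ι → F) where
  carrier := {v | ∀ i, p i → v i = 0}
  add_mem' {a b} ha hb i hi := by rw [Pi.add_apply, ha i hi, hb i hi, add_zero]
  zero_mem' _ _ := rfl
  smul_mem' c a ha i hi := by rw [Pi.smul_apply, ha i hi, smul_zero]

theorem mem_coordSub {p : ι → Prop} {v : ι → F} : v ∈ coordSub F p ↔ ∀ i, p i → v i = 0 := Iff.rfl

theorem coe_coordSub (p : ι → Prop) :
    (coordSub F p : Set (ι → F)) = {v | ∀ i, p i → v i = 0} := rfl

theorem single_mem_coordSub {p : ι → Prop} {j : ι} (hj : ¬ p j) (c : F) :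
    Pi.single j c ∈ coordSub F p := fun i hi =>
  Pi.single_eq_of_ne (by rintro rfl; exact hj hi) _

theorem finrank_coordSub (p : ι → Prop) [DecidablePred p] :
    finrank F (coordSub F p) = Fintype.card {i // ¬ p i} := by
  let e : coordSub F p ≃ₗ[F] ({i // ¬ p i} → F) :=
    { toFun := fun v i => v.1 i
      invFun := fun w => ⟨fun i => if h : p i then 0 else w ⟨i, h⟩, fun i hi => by simp [hi]⟩
      map_add' := fun _ _ => rfl
      map_smul' := fun _ _ => rfl
      left_inv := fun v => by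
        ext i
        by_cases h : p i
        · simp [h, v.2 i h]
        · simp [h]
      right_inv := fun w => by ext i; simp [i.2] }
  rw [e.finrank_eq, finrank_fintype_fun_eq_card]

theorem mem_stabilizing_coord (p : ι → Prop) (h : H) :
    h ∈ Cfsg.stabilizing toMat {v | ∀ i, p i → v i = 0} ↔
      ∀ i j, p i → ¬ p j → toMat h i j = 0 := by
  constructor
  · intro hh i j hi hj
    have := (hh (Pi.single j 1)).1 (single_mem_coordSub hj 1) i hi
    simpa using this
  · intro hh
    refine mem_stabilizing_of_mapsTo toMat (coordSub F p) fun v hv i hi => ?_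
    refine Finset.sum_eq_zero fun j _ => ?_
    by_cases hj : p j
    · rw [hv j hj, mul_zero]
    · exact mul_eq_zero_of_left (hh i j hi hj) _

theorem mem_stabilizing_axis (j : ι) (h : H) :
    h ∈ Cfsg.stabilizing toMat ((Submodule.span F {(Pi.single j (1 : F) : ι → F)} :
      Submodule F (ι → F)) : Set (ι → F)) ↔ ∀ i, i ≠ j → toMat h i j = 0 := by
  have : ((Submodule.span F {(Pi.single j (1 : F) : ι → F)} :
      Submodule F (ι → F)) : Set (ι → F)) = {v | ∀ i, i ≠ j → v i = 0} := by
    ext v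
    rw [SetLike.mem_coe, Submodule.mem_span_singleton]
    constructor
    · rintro ⟨c, rfl⟩ i hi
      simp [hi]
    · intro hv
      refine ⟨v j, ?_⟩
      ext i
      by_cases hi : i = j
      · simp [hi]
      · simp [hi, hv i hi]
  rw [this, mem_stabilizing_coord]
  constructor
  · intro h1 i hi
    exact h1 i j hi (by simp)
  · intro h1 i k hi hk
    rw [not_not.1 hk]
    exact h1 i hi

/-! ### Monomial matrices -/

/-- The monomial matrix sending `e_j` to `c_j e_(π j)`. -/
def mono (π : Equiv.Perm ι) (c : ι → Fˣ) : Matrix ι ι F :=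
  Matrix.of fun i j => if i = π j then (c j : F) else 0

theorem mono_apply (π : Equiv.Perm ι) (c : ι → Fˣ) (i j : ι) :
    mono π c i j = if i = π j then (c j : F) else 0 := rfl

theorem mul_mono_apply (X : Matrix ι ι F) (π : Equiv.Perm ι) (c : ι → Fˣ) (i j : ι) :
    (X * mono π c) i j = X i (π j) * c j := by
  simp [Matrix.mul_apply, mono_apply]

theorem mono_mul_apply (X : Matrix ι ι F) (π : Equiv.Perm ι) (c : ι → Fˣ) (i j : ι) :
    (mono π c * X) (π i) j = c i * X i j := by
  simp [Matrix.mul_apply, mono_apply]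

theorem transpose_mono_mul_apply (X : Matrix ι ι F) (π : Equiv.Perm ι) (c : ι → Fˣ) (i j : ι) :
    ((mono π c)ᵀ * X) i j = c i * X (π i) j := by
  simp [Matrix.mul_apply, mono_apply]

theorem mono_injective {π π' : Equiv.Perm ι} {c c' : ι → Fˣ} (h : mono π c = mono π' c') :
    π = π' ∧ c = c' := by
  have h1 : ∀ j, π j = π' j ∧ c j = c' j := fun j => by
    have := congrFun (congrFun h (π j)) j
    rw [mono_apply, mono_apply, if_pos rfl] at this
    by_cases hj : π j = π' j
    · rw [if_pos hj] at this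
      exact ⟨hj, Units.ext this⟩
    · rw [if_neg hj] at this
      exact absurd this (c j).ne_zero
  exact ⟨Equiv.ext fun j => (h1 j).1, funext fun j => (h1 j).2⟩

theorem mem_normalizer_of_mono (T : Subgroup H) (hT : ∀ h, h ∈ T ↔ (toMat h).IsDiag) {g : H}
    {π : Equiv.Perm ι} {c : ι → Fˣ} (hg : toMat g = mono π c) :
    g ∈ Subgroup.normalizer (T : Set H) := by
  rw [Subgroup.mem_normalizer_iff]
  intro h
  have key : ∀ j k, toMat (g * h * g⁻¹) (π j) (π k) * c k = c j * toMat h j k := fun j k => by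
    rw [← mul_mono_apply, ← mono_mul_apply _ π, ← hg, ← map_mul, ← map_mul, inv_mul_cancel_right]
  rw [hT, hT]
  constructor
  · intro hd i i' hi
    obtain ⟨j, rfl⟩ := π.surjective i
    obtain ⟨k, rfl⟩ := π.surjective i'
    have := key j k
    rw [hd (fun h0 => hi (by rw [h0])), mul_zero] at this
    exact (mul_eq_zero.1 this).resolve_right (c k).ne_zero
  · intro hd j k hjk
    have := key j k
    rw [hd (fun h0 => hjk (π.injective h0)), zero_mul] at this
    exact (mul_eq_zero.1 this.symm).resolve_left (c j).ne_zero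

theorem exists_row_ne_zero (g : H) (i : ι) : ∃ j, toMat g i j ≠ 0 := by
  by_contra hcon
  push Not at hcon
  have : (toMat g * toMat g⁻¹) i i = 1 := by rw [← map_mul, mul_inv_cancel, map_one, one_apply_eq]
  simp [Matrix.mul_apply, hcon] at this

theorem exists_col_ne_zero (g : H) (j : ι) : ∃ i, toMat g i j ≠ 0 := by
  by_contra hcon
  push Not at hcon
  have : (toMat g⁻¹ * toMat g) j j = 1 := by rw [← map_mul, inv_mul_cancel, map_one, one_apply_eq]
  simp [Matrix.mul_apply, hcon] at this

theorem exists_mono_of_row (g : H) (hg : ∀ i j k, toMat g i j ≠ 0 → toMat g i k ≠ 0 → j = k) :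
    ∃ π c, toMat g = mono π c := by
  choose τ hτ using exists_col_ne_zero toMat g
  have hinj : Function.Injective τ := fun j k hjk => hg (τ j) j k (hτ j) (by rw [hjk]; exact hτ k)
  let π : Equiv.Perm ι := Equiv.ofBijective τ (Finite.injective_iff_bijective.1 hinj)
  refine ⟨π, fun j => Units.mk0 _ (hτ j), ?_⟩
  ext i j
  obtain ⟨k, rfl⟩ := π.surjective i
  rw [mono_apply]
  by_cases hk : k = j
  · subst hk; simp [π]
  · rw [if_neg fun h0 => hk (π.injective h0)]
    by_contra h0
    exact hk (hg (τ k) k j (hτ k) h0)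

theorem row_unique_of_mem_normalizer (T : Subgroup H) (hT : ∀ h, h ∈ T ↔ (toMat h).IsDiag)
    (hsep : ∀ j k, j ≠ k → ∃ t ∈ T, toMat t j j ≠ toMat t k k) {g : H}
    (hg : g ∈ Subgroup.normalizer (T : Set H)) (i j k : ι) (hj : toMat g i j ≠ 0)
    (hk : toMat g i k ≠ 0) : j = k := by
  by_contra hjk
  obtain ⟨t, ht, hne⟩ := hsep j k hjk
  have h1 := (hT _).1 ((Subgroup.mem_normalizer_iff.1 hg t).1 ht)
  have h2 := (hT _).1 ht
  have h3 : toMat (g * t * g⁻¹) * toMat g = toMat g * toMat t := by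
    rw [← map_mul, ← map_mul, inv_mul_cancel_right]
  rw [← h1.diagonal_diag, ← h2.diagonal_diag] at h3
  have e1 := congrFun (congrFun h3 i) j
  have e2 := congrFun (congrFun h3 i) k
  rw [diagonal_mul, mul_diagonal, mul_comm] at e1 e2
  exact hne ((mul_left_cancel₀ hj e1).symm.trans (mul_left_cancel₀ hk e2))

theorem mem_normalizer_iff_mono (T : Subgroup H) (hT : ∀ h, h ∈ T ↔ (toMat h).IsDiag)
    (hsep : ∀ j k, j ≠ k → ∃ t ∈ T, toMat t j j ≠ toMat t k k) (g : H) :
    g ∈ Subgroup.normalizer (T : Set H) ↔ ∃ π c, toMat g = mono π c :=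
  ⟨fun hg => exists_mono_of_row toMat g (row_unique_of_mem_normalizer toMat T hT hsep hg),
    fun ⟨_, _, h⟩ => mem_normalizer_of_mono toMat T hT h⟩

end Stab

/-! ### Rank one perturbations of the identity -/

section Dil

variable {ι : Type} [Fintype ι] [DecidableEq ι] {F : Type*} [Field F]

theorem exists_dilGL (φ : Dual F (ι → F)) (v : ι → F) (h : 1 + φ v ≠ 0) :
    ∃ g : GL ι F, ∀ x, (g : Matrix ι ι F) *ᵥ x = x + φ x • v :=
  ⟨(glEquiv ι F).symm (LinearEquiv.dilatransvection (f := φ) (v := v) (Ne.isUnit h)), fun x => by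
    rw [glEquiv_symm_mulVec, LinearEquiv.dilatransvection.apply]⟩

theorem exists_dual_two {V : Type*} [AddCommGroup V] [Module F V] {W : Submodule F V} {u u' : V}
    (hu : u ∉ W) (hu' : u' ∉ W) : ∃ φ : Dual F V, (∀ x ∈ W, φ x = 0) ∧ φ u = 1 ∧ φ u' ≠ 0 := by
  obtain ⟨f, hf1, hf2⟩ := Submodule.exists_le_ker_of_notMem hu
  obtain ⟨f', hf1', hf2'⟩ := Submodule.exists_le_ker_of_notMem hu'
  by_cases h1 : f u' = 0
  · by_cases h2 : f' u = 0
    · exact ⟨(f u)⁻¹ • f + f', fun x hx => by simp [LinearMap.mem_ker.1 (hf2 hx),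
        LinearMap.mem_ker.1 (hf2' hx)], by simp [h2, hf1], by simpa [h1] using hf1'⟩
    · exact ⟨(f' u)⁻¹ • f', fun x hx => by simp [LinearMap.mem_ker.1 (hf2' hx)], by simp [h2],
        by simp [h2, hf1']⟩
  · exact ⟨(f u)⁻¹ • f, fun x hx => by simp [LinearMap.mem_ker.1 (hf2 hx)], by simp [hf1],
      by simp [h1, hf1]⟩

/-- The pointwise stabiliser of `W` is transitive on the vectors outside `W`. -/
theorem exists_gl_fix_apply_eq {W : Submodule F (ι → F)} {u u' : ι → F} (hu : u ∉ W)
    (hu' : u' ∉ W) :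
    ∃ g : GL ι F, (∀ x ∈ W, (g : Matrix ι ι F) *ᵥ x = x) ∧ (g : Matrix ι ι F) *ᵥ u = u' := by
  obtain ⟨φ, h1, h2, h3⟩ := exists_dual_two hu hu'
  obtain ⟨g, hg⟩ := exists_dilGL φ (u' - u) (by rw [map_sub, h2]; simpa using h3)
  exact ⟨g, fun x hx => by rw [hg, h1 x hx]; simp, by rw [hg, h2]; simp⟩

/-- A non-zero subspace is determined by its stabiliser. -/
theorem le_of_stabilizing_le {U W : Submodule F (ι → F)} (hW : W ≠ ⊥)
    (h : Cfsg.stabilizing (Cfsg.glToMat ι F) (U : Set (ι → F)) ≤
      Cfsg.stabilizing (Cfsg.glToMat ι F) (W : Set (ι → F))) : U ≤ W := by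
  intro u hu
  by_contra huW
  obtain ⟨w, hw, hw0⟩ := Submodule.exists_mem_ne_zero_of_ne_bot hW
  have : w ∉ Submodule.span F {u} := fun h0 => by
    obtain ⟨c, rfl⟩ := Submodule.mem_span_singleton.1 h0
    exact huW ((W.smul_mem_iff (by rintro rfl; simp at hw0)).1 hw)
  obtain ⟨φ, h1, h2, -⟩ := exists_dual_two this this
  obtain ⟨g, hg⟩ := exists_dilGL φ u (by rw [h1 u (Submodule.mem_span_singleton_self u)]; simp)
  have h3 := (h (mem_stabilizing_of_mapsTo (Cfsg.glToMat ι F) U (h := g) fun v hv => by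
    change (g : Matrix ι ι F) *ᵥ v ∈ U
    rw [hg]; exact U.add_mem hv (U.smul_mem _ hu)) w).1 hw
  change (g : Matrix ι ι F) *ᵥ w ∈ W at h3
  rw [hg, h2, one_smul] at h3
  exact huW ((W.add_mem_iff_right hw).1 h3)

/-- `GL` is generated by diagonal matrices and elementary transvections. -/
theorem gl_eq_top_of (K : Subgroup (GL ι F)) (hd : ∀ g : GL ι F, (g : Matrix ι ι F).IsDiag → g ∈ K)
    (ht : ∀ (g : GL ι F) (i j : ι) (c : F), i ≠ j → (g : Matrix ι ι F) = transvection i j c →
      g ∈ K) : K = ⊤ := by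
  rw [eq_top_iff]
  intro g _
  refine diagonal_transvection_induction_of_det_ne_zero
    (fun M => ∀ g : GL ι F, (g : Matrix ι ι F) = M → g ∈ K) g g.det_ne_zero
    (fun D _ g hg => hd g (by rw [hg]; exact isDiag_diagonal D))
    (fun t g hg => ht g t.i t.j t.c t.hij hg) (fun A B hA hB h1 h2 g hg => ?_) g rfl
  have : g = GeneralLinearGroup.mkOfDetNeZero A hA * GeneralLinearGroup.mkOfDetNeZero B hB :=
    Units.ext hg
  rw [this]
  exact K.mul_mem (h1 _ rfl) (h2 _ rfl)

theorem transvection_mulVec (i j : ι) (c : F) (x : ι → F) :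
    transvection i j c *ᵥ x = x + (c * x j) • Pi.single i 1 := by
  rw [transvection, add_mulVec, one_mulVec, single_mulVec]
  ext k
  by_cases hk : k = i
  · simp [hk]
  · simp [hk]

/-- An overgroup of the stabiliser of `W` contains all rank one perturbations of the identity. -/
theorem mem_of_stabilizing_lt {W : Submodule F (ι → F)} {K : Subgroup (GL ι F)}
    (hK : Cfsg.stabilizing (Cfsg.glToMat ι F) (W : Set (ι → F)) < K) (t : GL ι F)
    (φ : Dual F (ι → F)) (v : ι → F) (ht : ∀ x, (t : Matrix ι ι F) *ᵥ x = x + φ x • v) :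
    t ∈ K := by
  have h1 : ∀ (t : GL ι F) (φ : Dual F (ι → F)) (v : ι → F), v ∈ W →
      (∀ x, (t : Matrix ι ι F) *ᵥ x = x + φ x • v) → t ∈ K := fun t φ v hv ht =>
    hK.le (mem_stabilizing_of_mapsTo (Cfsg.glToMat ι F) W fun x hx => by
      change (t : Matrix ι ι F) *ᵥ x ∈ W
      rw [ht]; exact W.add_mem hx (W.smul_mem _ hv))
  by_cases hv : v ∈ W
  · exact h1 t φ v hv ht
  obtain ⟨g, hgK, hg⟩ := SetLike.exists_of_lt hK
  obtain ⟨w, hw, hgw⟩ : ∃ w ∈ W, (g : Matrix ι ι F) *ᵥ w ∉ W := by
    by_contra hcon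
    push Not at hcon
    exact hg (mem_stabilizing_of_mapsTo (Cfsg.glToMat ι F) W hcon)
  obtain ⟨p, hp1, hp2⟩ := exists_gl_fix_apply_eq hgw hv
  have hp : p ∈ K := hK.le (mem_stabilizing_of_mapsTo (Cfsg.glToMat ι F) W fun x hx => by
    change (p : Matrix ι ι F) *ᵥ x ∈ W
    rwa [hp1 x hx])
  have h2 : (p * g)⁻¹ * t * (p * g) ∈ K := by
    refine h1 _ (φ ∘ₗ ((p * g : GL ι F) : Matrix ι ι F).mulVecLin) w hw fun x => ?_
    have e : ((p * g : GL ι F) : Matrix ι ι F) *ᵥ w = v := by
      rw [Units.val_mul, ← mulVec_mulVec, hp2]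
    rw [Units.val_mul, Units.val_mul (p * g)⁻¹, ← mulVec_mulVec, ← mulVec_mulVec, ht, ← e,
      mulVec_add, mulVec_smul, mulVec_mulVec, mulVec_mulVec w, Units.inv_mul, one_mulVec, one_mulVec]
    rfl
  have : t = (p * g) * ((p * g)⁻¹ * t * (p * g)) * (p * g)⁻¹ := by group
  rw [this]
  exact K.mul_mem (K.mul_mem (K.mul_mem hp hgK) h2) (K.inv_mem (K.mul_mem hp hgK))

end Dil

/-! ### Counting -/

section Count

variable {ι : Type} [Fintype ι] [DecidableEq ι] {F : Type*} [Field F]

/-- Invertible matrices with a property. -/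
noncomputable def glSubEquiv (P : Matrix ι ι F → Prop) :
    {g : GL ι F // P g} ≃ {M : Matrix ι ι F // M.det ≠ 0 ∧ P M} where
  toFun g := ⟨g.1, g.1.det_ne_zero, g.2⟩
  invFun M := ⟨GeneralLinearGroup.mkOfDetNeZero M.1 M.2.1, M.2.2⟩
  left_inv _ := Subtype.ext (Units.ext rfl)
  right_inv _ := rfl

theorem card_gl_eq : Nat.card (GL ι F) = Nat.card {M : Matrix ι ι F // M.det ≠ 0} := by
  rw [← Nat.card_congr (Equiv.Set.univ (GL ι F))]
  exact Nat.card_congr ((glSubEquiv fun _ => True).trans (Equiv.subtypeEquivRight fun _ => by simp))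

theorem card_gl [Fintype F] {k : ℕ} (hk : Fintype.card ι = k) :
    Nat.card (GL ι F) = ∏ i : Fin k, (Fintype.card F ^ k - Fintype.card F ^ (i : ℕ)) := by
  rw [Nat.card_congr (glEquiv ι F).toEquiv]
  exact card_linearEquiv (by simpa using hk)

theorem card_matrix_forall (P : ι → ι → F → Prop) :
    Nat.card {M : Matrix ι ι F // ∀ i j, P i j (M i j)} = ∏ i, ∏ j, Nat.card {x // P i j x} := by
  have e : {M : Matrix ι ι F // ∀ i j, P i j (M i j)} ≃ ∀ i j, {x // P i j x} :=
    (Equiv.subtypePiEquivPi (β := fun _ : ι => ι → F) (p := fun i r => ∀ j, P i j (r j))).trans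
      (Equiv.piCongrRight fun i => Equiv.subtypePiEquivPi)
  rw [Nat.card_congr e, Nat.card_pi]
  simp only [Nat.card_pi]

/-- The order of the group of invertible lower triangular matrices. -/
theorem card_lower [Fintype F] (n : ℕ) :
    Nat.card {g : GL (Fin n) F // ∀ i j : Fin n, i < j → (g : Matrix (Fin n) (Fin n) F) i j = 0} =
      Fintype.card F ^ (n * (n - 1) / 2) * (Fintype.card F - 1) ^ n := by
  classical
  rw [Nat.card_congr ((glSubEquiv fun M => ∀ i j : Fin n, i < j → M i j = 0).trans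
    (Equiv.subtypeEquivRight (q := fun M => ∀ i j, (i < j → M i j = 0) ∧ (i = j → M i j ≠ 0))
      fun M => ?_)), card_matrix_forall fun i j x => (i < j → x = 0) ∧ (i = j → x ≠ 0)]
  · have : ∀ i j : Fin n, Nat.card {x : F // (i < j → x = 0) ∧ (i = j → x ≠ 0)} =
        (if j = i then Fintype.card F - 1 else 1) * (if j < i then Fintype.card F else 1) := by
      intro i j
      rcases lt_trichotomy i j with h | h | h
      · simp [h, h.ne, h.ne', h.not_gt]
      · simp [h]
      · simp [h, h.ne, h.ne', h.not_gt]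
    simp only [this, Finset.prod_mul_distrib, Finset.prod_ite_eq', Finset.mem_univ, if_true,
      Finset.prod_const, Finset.card_univ, Fintype.card_fin]
    rw [mul_comm]
    congr 1
    have h2 : ∀ i : Fin n, ∏ j : Fin n, (if j < i then Fintype.card F else 1) =
        Fintype.card F ^ (i : ℕ) := fun i => by
      rw [Finset.prod_ite, Finset.prod_const_one, mul_one, Finset.prod_const]
      congr 1
      rw [← Fin.card_Iio]
      congr 1
      ext j; simp
    simp only [h2]
    rw [Finset.prod_pow_eq_pow_sum, Fin.sum_univ_eq_sum_range (fun i => i), Finset.sum_range_id]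
  · constructor
    · rintro ⟨h1, h2⟩ i j
      refine ⟨h2 i j, ?_⟩
      rintro rfl
      rw [det_of_isLowerTriangular M (fun i j h => h2 i j h), Finset.prod_ne_zero_iff] at h1
      exact h1 i (Finset.mem_univ i)
    · intro h
      refine ⟨?_, fun i j => (h i j).1⟩
      rw [det_of_isLowerTriangular M (fun i j hij => (h i j).1 hij), Finset.prod_ne_zero_iff]
      exact fun i _ => (h i i).2 rfl

/-- The order of the group of invertible upper triangular matrices. -/
theorem card_upper [Fintype F] (n : ℕ) :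
    Nat.card {g : GL (Fin n) F // ∀ i j : Fin n, j < i → (g : Matrix (Fin n) (Fin n) F) i j = 0} =
      Fintype.card F ^ (n * (n - 1) / 2) * (Fintype.card F - 1) ^ n := by
  rw [← card_lower, Nat.card_congr (glSubEquiv fun M => ∀ i j : Fin n, i < j → M i j = 0),
    Nat.card_congr (glSubEquiv fun M => ∀ i j : Fin n, j < i → M i j = 0)]
  exact Nat.card_congr ((transposeAddEquiv _ _ F).toEquiv.subtypeEquiv fun M =>
    and_congr (by simp) ⟨fun h i j => h j i, fun h i j => h j i⟩)

/-- The order of the stabiliser of a coordinate subspace. -/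
theorem card_block [Fintype F] (p : ι → Prop) [DecidablePred p] :
    Nat.card {g : GL ι F // ∀ i j, p i → ¬ p j → (g : Matrix ι ι F) i j = 0} =
      Fintype.card F ^ (Fintype.card {i // ¬ p i} * Fintype.card {i // p i}) *
        Nat.card (GL {i // ¬ p i} F) * Nat.card (GL {i // p i} F) := by
  let s := Equiv.sumCompl p
  let f : Matrix {i // ¬ p i} {i // p i} F ×
      {M : Matrix {i // ¬ p i} {i // ¬ p i} F // M.det ≠ 0} ×
        {M : Matrix {i // p i} {i // p i} F // M.det ≠ 0} →
      {M : Matrix ι ι F // M.det ≠ 0 ∧ ∀ i j, p i → ¬ p j → M i j = 0} :=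
    fun x => ⟨reindex s s (fromBlocks x.2.2.1 0 x.1 x.2.1.1), by
      rw [det_reindex_self, det_fromBlocks_zero₁₂]; exact mul_ne_zero x.2.2.2 x.2.1.2,
      fun i j hi hj => by simp [s, hi, hj]⟩
  have hf : Function.Bijective f := by
    constructor
    · rintro ⟨a, b, c⟩ ⟨a', b', c'⟩ h
      have := (reindex s s).injective (congrArg Subtype.val h)
      rw [fromBlocks_inj] at this
      exact Prod.ext this.2.2.1 (Prod.ext (Subtype.ext this.2.2.2) (Subtype.ext this.1))
    · rintro ⟨M, h1, h2⟩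
      obtain ⟨N, rfl⟩ := (reindex s s).surjective M
      have h3 : N.toBlocks₁₂ = 0 := by
        ext i j
        have := h2 i j i.2 j.2
        simpa [s, toBlocks₁₂] using this
      have h4 := N.fromBlocks_toBlocks
      rw [h3] at h4
      rw [det_reindex_self, ← h4, det_fromBlocks_zero₁₂] at h1
      exact ⟨⟨N.toBlocks₂₁, ⟨N.toBlocks₂₂, right_ne_zero_of_mul h1⟩,
        ⟨N.toBlocks₁₁, left_ne_zero_of_mul h1⟩⟩, Subtype.ext (congrArg (reindex s s) h4)⟩
  rw [Nat.card_congr (glSubEquiv fun M => ∀ i j, p i → ¬ p j → M i j = 0),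
    ← Nat.card_eq_of_bijective f hf, Nat.card_prod, Nat.card_prod, card_gl_eq, card_gl_eq,
    mul_assoc]
  congr 1
  change Nat.card (_ → _ → F) = _
  rw [Nat.card_fun, Nat.card_fun, ← pow_mul, mul_comm]
  simp only [Nat.card_eq_fintype_card]

theorem card_eq_card_ker_mul_card_range {G H : Type*} [Group G] [Group H] (φ : G →* H) :
    Nat.card G = Nat.card φ.ker * Nat.card φ.range := by
  rw [← Subgroup.index_ker, Subgroup.card_mul_index]

end Count

/-! ### The upper left block -/

section Block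

variable {H : Type*} [Group H] {ι κ : Type} [Fintype ι] [DecidableEq ι] [Fintype κ] [DecidableEq κ]
  {F : Type*} [Field F] (toMat : H →* Matrix (ι ⊕ κ) (ι ⊕ κ) F)

/-- The upper left block of a block upper triangular matrix. -/
def blk11 (K : Subgroup H) (hK : ∀ g ∈ K, (toMat g).toBlocks₂₁ = 0) : K →* GL ι F :=
  MonoidHom.toHomUnits
    { toFun := fun g => (toMat g).toBlocks₁₁
      map_one' := by rw [Subgroup.coe_one, map_one, ← fromBlocks_one, toBlocks_fromBlocks₁₁]
      map_mul' := fun g h => by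
        have := (toMat h).fromBlocks_toBlocks
        rw [hK h h.2] at this
        rw [Subgroup.coe_mul, map_mul, ← (toMat g).fromBlocks_toBlocks, ← this,
          fromBlocks_multiply]
        simp }

theorem coe_blk11 (K : Subgroup H) (hK : ∀ g ∈ K, (toMat g).toBlocks₂₁ = 0) (g : K) :
    (blk11 toMat K hK g : Matrix ι ι F) = (toMat g).toBlocks₁₁ := rfl

end Block

end H15
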