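import Mathlib
import Cfsg.Agent.H3.Extraspecial
import Cfsg.Agent.H7.FormOrder
import Cfsg.Agent.H7.OmegaSimple
import Cfsg.Agent.H15.Spinor
import Cfsg.Agent.H24.Base5

/-!
# Automorphisms of extraspecial `2`-groups
-/

set_option autoImplicit false
set_option linter.unusedSectionVars false

namespace H15.XP

open Subgroup H3 H7 H24
open scoped commutatorElement

section

variable {E : Type*} [Group E] {z : E}

open Classical in
/-- the logarithm on a group of order two -/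
noncomputable def lg (c : E) : ZMod 2 := if c = 1 then 0 else 1

@[simp] theorem lg_one : lg (1 : E) = 0 := if_pos rfl
theorem lg_ne {c : E} (h : c ≠ 1) : lg c = 1 := if_neg h
theorem lg_eq_zero {c : E} : lg c = 0 ↔ c = 1 := by
  by_cases h : c = 1 <;> simp [h, lg_ne]
theorem lg_map (α : MulAut E) (c : E) : lg (α c) = lg c := by
  by_cases h : c = 1 <;> simp [h, lg_ne]

theorem mem_zp (h : orderOf z = 2) {c : E} (hc : c ∈ zpowers z) : c = 1 ∨ c = z := by
  have h2 : z * z = 1 := by rw [← pow_two, ← h, pow_orderOf_eq_one]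
  obtain ⟨n, rfl⟩ := hc
  change z ^ n = 1 ∨ z ^ n = z
  obtain ⟨k, rfl | rfl⟩ := Int.even_or_odd' n
  · left; rw [zpow_mul, zpow_two, h2, one_zpow]
  · right; rw [zpow_add, zpow_mul, zpow_two, h2, one_zpow, one_mul, zpow_one]

theorem lg_mul (h : orderOf z = 2) {c d : E} (hc : c ∈ zpowers z) (hd : d ∈ zpowers z) :
    lg (c * d) = lg c + lg d := by
  have h2 : z * z = 1 := by rw [← pow_two, ← h, pow_orderOf_eq_one]
  have h1 : z ≠ 1 := fun e => by simp [e] at h
  rcases mem_zp h hc with rfl | rfl <;> rcases mem_zp h hd with e | e <;> simp [e, h2, lg_ne h1]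
  rfl

variable (h : XS 2 z (⊤ : Subgroup E))
include h

theorem cen {c : E} (hc : c ∈ zpowers z) (x : E) : x * c * x⁻¹ = c := by
  rw [← (h.commute_of_mem hc (mem_top x)).eq]; simp

theorem lg_left (x y w : E) : lg ⁅x * y, w⁆ = lg ⁅x, w⁆ + lg ⁅y, w⁆ := by
  rw [show ⁅x * y, w⁆ = x * ⁅y, w⁆ * x⁻¹ * ⁅x, w⁆ by simp [commutatorElement_def, mul_assoc],
    cen h (h.comm _ trivial _ trivial), lg_mul h.ord (h.comm _ trivial _ trivial)
      (h.comm _ trivial _ trivial), add_comm]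

theorem lg_right (w x y : E) : lg ⁅w, x * y⁆ = lg ⁅w, x⁆ + lg ⁅w, y⁆ := by
  rw [show ⁅w, x * y⁆ = ⁅w, x⁆ * (x * ⁅w, y⁆ * x⁻¹) by simp [commutatorElement_def, mul_assoc],
    cen h (h.comm _ trivial _ trivial), lg_mul h.ord (h.comm _ trivial _ trivial)
      (h.comm _ trivial _ trivial)]

theorem lg_sq (x y : E) : lg (x * y * (x * y)) = lg (x * x) + lg (y * y) + lg ⁅x, y⁆ := by
  have s : ∀ a : E, a * a ∈ zpowers z := fun a => by simpa [pow_two] using h.pow a trivial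
  have c := h.comm y trivial x trivial
  rw [show x * y * (x * y) = x * ⁅y, x⁆ * x⁻¹ * (x * x * (y * y)) by
      simp [commutatorElement_def, mul_assoc], cen h c, lg_mul h.ord c (mul_mem (s x) (s y)),
    lg_mul h.ord (s x) (s y), add_comm]
  congr 1
  by_cases e : ⁅x, y⁆ = 1
  · rw [e, ← commutatorElement_inv, e, inv_one]
  · rw [lg_ne e, lg_ne fun e' => e (by rw [← commutatorElement_inv, e', inv_one])]

theorem card_aut [Finite E] {ι : Type} [Fintype ι] [DecidableEq ι] (g : ι → E) (σ : ι → ι)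
    (q : QuadraticForm (ZMod 2) (ι → ZMod 2))
    (gen : ∀ K : Subgroup E, z ∈ K → (∀ i, g i ∈ K) → K = ⊤)
    (hp : ∀ i j, pol q (Pi.single i 1) (Pi.single j 1) = lg ⁅g i, g j⁆)
    (hq : ∀ i, q (Pi.single i 1) = lg (g i * g i))
    (hσ : ∀ i j, pol q (Pi.single i 1) (Pi.single (σ j) 1) = (Pi.single i 1 : ι → ZMod 2) j) :
    ∃ a b, Nat.card (MulAut E) = a * b ∧ a ≤ 2 ^ Fintype.card ι ∧
      b ∣ Nat.card (ofQuad q).Isom := by
  have z2 : z * z = 1 := by rw [← pow_two]; exact h.z_pow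
  have ind : ∀ p : E → Prop, p 1 → p z → (∀ i, p (g i)) → (∀ x y, p x → p y → p (x * y)) →
      ∀ x, p x := fun p h0 h1 h2 h3 x => by
    let M : Submonoid E := ⟨⟨{x | p x}, fun {a b} => h3 a b⟩, h0⟩
    let K : Subgroup E := ⟨M, fun {a} ha => Submonoid.powers_le.2 (show a ∈ M from ha)
      (mem_powers_iff_mem_zpowers.2 (inv_mem (mem_zpowers a)))⟩
    exact (gen K h1 h2 ▸ mem_top x : x ∈ K)
  have zc : ∀ x : E, ⁅z, x⁆ = 1 := fun x => (h.central x trivial).commutator_eq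
  have zc' : ∀ x : E, ⁅x, z⁆ = 1 := fun x => (h.central x trivial).symm.commutator_eq
  let κ : E → ι → ZMod 2 := fun x j => lg ⁅x, g (σ j)⁆
  have k1 : κ 1 = 0 := by funext j; simp [κ]
  have kz : κ z = 0 := by funext j; simp [κ, zc]
  have kg : ∀ i, κ (g i) = Pi.single i 1 := fun i => by funext j; simp only [κ]; rw [← hp, hσ]
  have km : ∀ x y, κ (x * y) = κ x + κ y := fun x y => by funext j; exact lg_left h _ _ _
  have kp : ∀ x y, pol q (κ x) (κ y) = lg ⁅x, y⁆ := by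
    refine ind _ (by simp [k1]) (by simp [kz, zc]) (fun i => ?_) fun x y h1 h2 w => by
      rw [km, map_add, LinearMap.add_apply, h1, h2, lg_left h]
    refine ind _ (by simp [k1]) (by simp [kz, zc']) (fun j => by rw [kg, kg, hp])
      fun x y h1 h2 => by rw [km, map_add, h1, h2, lg_right h]
  have kq : ∀ x, q (κ x) = lg (x * x) :=
    ind _ (by simp [k1]) (by simp [kz, z2]) (fun i => by rw [kg, hq]) fun x y h1 h2 => by
      rw [km, quad_add, h1, h2, kp, lg_sq h]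
  have ks : ∀ v, ∃ x, κ x = v := fun v => by
    induction v using Pi.single_induction with
    | zero => exact ⟨1, k1⟩
    | add u v h1 h2 =>
      obtain ⟨x, rfl⟩ := h1
      obtain ⟨y, rfl⟩ := h2
      exact ⟨_, km x y⟩
    | single i a =>
      fin_cases a
      · exact ⟨1, k1.trans (Pi.single_zero i).symm⟩
      · exact ⟨_, kg i⟩
  have kk : ∀ x, κ x = 0 → x ∈ zpowers z := fun x hx => h.center_le x trivial fun y _ => by
    rw [← commutatorElement_eq_one_iff_commute, ← lg_eq_zero, ← kp, hx]; simp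
  have az : ∀ α : MulAut E, α z = z := fun α => by
    refine (mem_zp h.ord (h.center_le _ trivial fun y _ => ?_)).resolve_left (by simpa using h.z_ne_one)
    simpa using (h.central (α.symm y) trivial).map α
  let L : MulAut E → (ι → ZMod 2) →ₗ[ZMod 2] (ι → ZMod 2) := fun α =>
    Fintype.linearCombination (ZMod 2) fun i => κ (α (g i))
  have Lk : ∀ α x, L α (κ x) = κ (α x) := fun α =>
    ind _ (by simp [k1]) (by simp [kz, az]) (fun i => by simp [kg, L]) fun x y h1 h2 => by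
      rw [km, map_add, h1, h2, map_mul, km]
  let Θ : MulAut E →* (ofQuad q).Isom := MonoidHom.mk' (fun α => ⟨LinearEquiv.ofLinearMap (L α) (L α⁻¹)
    (LinearMap.ext fun v => by obtain ⟨x, rfl⟩ := ks v; simp [Lk])
    (LinearMap.ext fun v => by obtain ⟨x, rfl⟩ := ks v; simp [Lk]),
    (mem_Isom_ofQuad q _).2 fun v => by
      obtain ⟨x, rfl⟩ := ks v
      simp only [LinearEquiv.coe_ofLinearMap, Lk, kq, ← map_mul, lg_map]⟩) fun α β =>
    Form.Isom.ext fun v => by obtain ⟨x, rfl⟩ := ks v; simp [Lk]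
  refine ⟨Nat.card Θ.ker, Nat.card Θ.range, by
    rw [← index_ker, card_mul_index], ?_, card_subgroup_dvd_card _⟩
  have hm : ∀ (α : Θ.ker) i, (g i)⁻¹ * α.1 (g i) ∈ zpowers z := fun α i => kk _ (by
    have e1 : L α (κ (g i)) = κ (g i) := congrArg (fun t : (ofQuad q).Isom => t.1 (κ (g i))) α.2
    have e2 := km (g i) ((g i)⁻¹ * α.1 (g i))
    rw [mul_inv_cancel_left, ← Lk, e1] at e2
    simpa using e2)
  let φ : Θ.ker → ι → zpowers z := fun α i => ⟨_, hm α i⟩
  have hφ : Function.Injective φ := fun α β e => Subtype.ext (MulEquiv.ext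
    (ind _ (by simp) (by rw [az, az]) (fun i => by simpa [φ] using congrFun e i)
      fun x y h1 h2 => by rw [map_mul, map_mul, h1, h2]))
  simpa [Nat.card_fun, h.ord] using Nat.card_le_card_of_injective φ hφ

omit h in
theorem fam {l : List (ℕ × ℕ)} {K : Subgroup E} (hd : XDec 2 z l K) :
    ∃ x y : Fin l.length → E, (∀ i, x i ∈ K ∧ y i ∈ K ∧ ⁅x i, y i⁆ = z ∧ x i ^ 2 = z ^ (l.get i).1 ∧
      y i ^ 2 = z ^ (l.get i).2) ∧ (∀ i j, ⁅x i, x j⁆ = 1 ∧ ⁅y i, y j⁆ = 1 ∧
        (i ≠ j → ⁅x i, y j⁆ = 1)) ∧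
      ∀ L : Subgroup E, z ∈ L → (∀ i, x i ∈ L ∧ y i ∈ L) → K ≤ L := by
  induction hd with
  | nil _ => exact ⟨Fin.elim0, Fin.elim0, fun i => i.elim0, fun i => i.elim0,
      fun L h1 _ => zpowers_le.2 h1⟩
  | cons a b hK ha hb hab a2 b2 _ ih =>
    obtain ⟨x, y, h1, h2, h3⟩ := ih
    have c : ∀ {u v : E}, u ∈ centralizer {v} → ⁅u, v⁆ = 1 ∧ ⁅v, u⁆ = 1 := fun h =>
      ⟨commutatorElement_eq_one_iff_mul_comm.2 (mem_C1.1 h),
        commutatorElement_eq_one_iff_mul_comm.2 (mem_C1.1 h).symm⟩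
    refine ⟨Fin.cons a x, Fin.cons b y, fun i => ?_, fun i j => ?_, fun L hz hL => ?_⟩
    · refine Fin.cases ⟨ha, hb, hab, a2, b2⟩ (fun i => ?_) i
      exact ⟨(h1 i).1.1, (h1 i).2.1.1, (h1 i).2.2⟩
    · refine Fin.cases (Fin.cases ?_ (fun j => ?_) j) (fun i => Fin.cases ?_ (fun j => ?_) j) i
      · simp
      · exact ⟨(c (h1 j).1.2.1).2, (c (h1 j).2.1.2.2).2, fun _ => (c (h1 j).2.1.2.1).2⟩
      · exact ⟨(c (h1 i).1.2.1).1, (c (h1 i).2.1.2.2).1, fun _ => (c (h1 i).1.2.2).1⟩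
      · exact ⟨(h2 i j).1, (h2 i j).2.1, fun h => (h2 i j).2.2 fun e => h (by rw [e])⟩
    · rw [hK.eq_sup ha hb hab]
      exact sup_le (zpowers_le.2 (hL 0).2) (sup_le (zpowers_le.2 (hL 0).1)
        (h3 L hz fun i => hL i.succ))

/-- the commutation pattern of a standard family -/
def pat {n : ℕ} : Fin n ⊕ Fin n → Fin n ⊕ Fin n → ZMod 2
  | .inl i, .inr j => if i = j then 1 else 0
  | .inr i, .inl j => if i = j then 1 else 0
  | _, _ => 0

theorem card_aut' [Finite E] {l : List (ℕ × ℕ)} (hd : XDec 2 z l (⊤ : Subgroup E)) {ι : Type}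
    [Fintype ι] [DecidableEq ι] (τ : ι → Fin l.length ⊕ Fin l.length) (hτ : Function.Surjective τ)
    (σ : ι → ι) (q : QuadraticForm (ZMod 2) (ι → ZMod 2))
    (hp : ∀ i j, pol q (Pi.single i 1) (Pi.single j 1) = pat (τ i) (τ j))
    (hq : ∀ i, q (Pi.single i 1) = (τ i).elim (fun a => ((l.get a).1 : ZMod 2)) fun a => (l.get a).2)
    (hσ : ∀ i j, pat (τ i) (τ (σ j)) = (Pi.single i 1 : ι → ZMod 2) j) :
    ∃ a b, Nat.card (MulAut E) = a * b ∧ a ≤ 2 ^ Fintype.card ι ∧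
      b ∣ Nat.card (ofQuad q).Isom := by
  obtain ⟨x, y, h1, h2, h3⟩ := fam hd
  have lz : lg z = 1 := lg_ne h.z_ne_one
  have lp : ∀ n : ℕ, lg (z ^ n) = n := fun n => by
    induction n with
    | zero => simp
    | succ n ih => rw [pow_succ, lg_mul h.ord (pow_mem (mem_zpowers z) n) (mem_zpowers z), ih, lz]; simp
  have key : ∀ i j, lg ⁅x i, y j⁆ = if i = j then 1 else 0 := fun i j => by
    split_ifs with e
    · rw [e, (h1 j).2.2.1, lz]
    · rw [(h2 i j).2.2 e, lg_one]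
  have key' : ∀ i j, lg ⁅y i, x j⁆ = if i = j then 1 else 0 := fun i j => by
    rw [← commutatorElement_inv]
    split_ifs with e
    · rw [e, (h1 j).2.2.1, lg_ne (by simpa using h.z_ne_one)]
    · rw [(h2 j i).2.2 (Ne.symm e), inv_one, lg_one]
  refine card_aut h (fun i => (τ i).elim x y) σ q (fun K hz hK => top_le_iff.1 (h3 K hz fun i => ?_))
    (fun i j => ?_) (fun i => ?_) fun i j => by rw [hp, hσ]
  · obtain ⟨a, e1⟩ := hτ (.inl i)
    obtain ⟨b, e2⟩ := hτ (.inr i)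
    exact ⟨by simpa [e1] using hK a, by simpa [e2] using hK b⟩
  · rw [hp]
    rcases τ i with a | a <;> rcases τ j with b | b <;> simp [pat, key, key', h2]
  · rw [hq]
    rcases τ i with a | a
    · simp only [Sum.elim_inl, ← pow_two, (h1 a).2.2.2.1, lp]
    · simp only [Sum.elim_inr, ← pow_two, (h1 a).2.2.2.2, lp]

end

theorem aniso : Aniso (1 : ZMod 2) 1 := by unfold Aniso; decide

theorem xs_of {E : Type*} [Group E] {z : E} {d : ℕ × ℕ} {l : List (ℕ × ℕ)} {K : Subgroup E}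
    (hd : XDec 2 z (d :: l) K) : XS 2 z K := by
  cases hd; assumption

theorem aut7p {E : Type*} [Group E] [Finite E] {z : E} (hd : XDec 2 z [(0, 0), (0, 0), (0, 0)] ⊤) :
    ∃ a b, Nat.card (MulAut E) = a * b ∧ a ≤ 64 ∧ b ∣ 40320 := by
  have := card_aut' (xs_of hd) hd (ι := Fin 3 ⊕ Fin 3) id Function.surjective_id Sum.swap
    (H7.qPlus 3 (ZMod 2)) (by simp only [H7.pol_qPlus]; decide +kernel)
    (by simp only [H7.qPlus_apply]; decide +kernel) (by decide +kernel)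
  rw [card_isom_qPlus] at this
  simpa [Finset.prod_range_succ] using this

theorem aut7m {E : Type*} [Group E] [Finite E] {z : E} (hd : XDec 2 z [(0, 0), (0, 0), (1, 1)] ⊤) :
    ∃ a b, Nat.card (MulAut E) = a * b ∧ a ≤ 64 ∧ b ∣ 51840 := by
  have := card_aut' (xs_of hd) hd (ι := (Fin 2 ⊕ Fin 2) ⊕ Fin 2)
    (Sum.elim (Sum.map Fin.castSucc Fin.castSucc) ![.inl (2 : Fin 3), .inr (2 : Fin 3)])
    (by decide +kernel) (Sum.map Sum.swap ![1, 0])
    (H7.qMinus 2 (ZMod 2) 1 1) (by simp only [H7.pol_qMinus]; decide +kernel)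
    (by simp only [H7.qMinus_apply]; decide +kernel) (by decide +kernel)
  rw [card_isom_qMinus _ aniso] at this
  simpa [Finset.prod_range_succ] using this

theorem aut9p {E : Type*} [Group E] [Finite E] {z : E}
    (hd : XDec 2 z [(0, 0), (0, 0), (0, 0), (0, 0)] ⊤) :
    ∃ a b, Nat.card (MulAut E) = a * b ∧ a ≤ 256 ∧ b ∣ 348364800 := by
  have := card_aut' (xs_of hd) hd (ι := Fin 4 ⊕ Fin 4) id Function.surjective_id Sum.swap
    (H7.qPlus 4 (ZMod 2)) (by simp only [H7.pol_qPlus]; decide +kernel)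
    (by simp only [H7.qPlus_apply]; decide +kernel) (by decide +kernel)
  rw [card_isom_qPlus] at this
  simpa [Finset.prod_range_succ] using this

theorem aut9m {E : Type*} [Group E] [Finite E] {z : E}
    (hd : XDec 2 z [(0, 0), (0, 0), (0, 0), (1, 1)] ⊤) :
    ∃ a b, Nat.card (MulAut E) = a * b ∧ a ≤ 256 ∧ b ∣ 394813440 := by
  have := card_aut' (xs_of hd) hd (ι := (Fin 3 ⊕ Fin 3) ⊕ Fin 2)
    (Sum.elim (Sum.map Fin.castSucc Fin.castSucc) ![.inl (3 : Fin 4), .inr (3 : Fin 4)])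
    (by decide +kernel) (Sum.map Sum.swap ![1, 0])
    (H7.qMinus 3 (ZMod 2) 1 1) (by simp only [H7.pol_qMinus]; decide +kernel)
    (by simp only [H7.qMinus_apply]; decide +kernel) (by decide +kernel)
  rw [card_isom_qMinus _ aniso] at this
  simpa [Finset.prod_range_succ] using this

theorem card_omega6m : Nat.card (Cfsg.Omega (ZMod 2) (Cfsg.quadFormMinus 2 (ZMod 2) 1 1)) = 25920 := by
  have h1 := index_commutator_even (Q := H7.qMinus 2 (ZMod 2) 1 1) rfl (H7.qMinus_nondeg 2 aniso)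
    (notTwoFour_of_card (.inr (by simp))) (by simp)
  have h2 := (_root_.commutator (ofQuad (H7.qMinus 2 (ZMod 2) 1 1)).Isom).card_mul_index
  rw [h1, card_isom_qMinus _ aniso, ← Nat.card_congr (omegaEquiv _).toEquiv] at h2
  simp only [Finset.prod_range_succ, ZMod.card, Finset.range_zero, Finset.prod_empty] at h2
  change Nat.card (Cfsg.Omega (ZMod 2) (Cfsg.quadFormMinus 2 (ZMod 2) 1 1)) * 2 = _ at h2
  omega

theorem card_omega8p : Nat.card (Cfsg.Omega (ZMod 2) (Cfsg.quadFormPlus 4 (ZMod 2))) = 174182400 := by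
  have h1 := index_commutator_even (Q := H7.qPlus 4 (ZMod 2)) rfl (H7.qPlus_nondeg 4 _)
    (notTwoFour_of_card (.inr (by simp))) (by simp)
  have h2 := (_root_.commutator (ofQuad (H7.qPlus 4 (ZMod 2))).Isom).card_mul_index
  rw [h1, card_isom_qPlus, ← Nat.card_congr (omegaEquiv _).toEquiv] at h2
  simp only [Finset.prod_range_succ, ZMod.card, Finset.range_zero, Finset.prod_empty] at h2
  change Nat.card (Cfsg.Omega (ZMod 2) (Cfsg.quadFormPlus 4 (ZMod 2))) * 2 = _ at h2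
  omega

section

variable {G : Type*} [Group G] [Finite G] {Q H : Subgroup G} {z : G}

/-- the action of the normaliser -/
theorem card_dvd (hN : H ≤ N[Q]) (hC : H ⊓ C[Q] = zpowers z) :
    ∃ φ : H →* MulAut Q, (∀ (g : H) (q : Q), (φ g q : G) = g * q * (g : G)⁻¹) ∧
      Nat.card H = orderOf z * Nat.card φ.range := by
  let φ : H →* MulAut Q := Q.normalizerMonoidHom.comp (inclusion hN)
  refine ⟨φ, fun _ _ => rfl, ?_⟩
  have : φ.ker = (zpowers z).subgroupOf H := by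
    ext g
    rw [mem_subgroupOf, ← hC, MonoidHom.mem_ker, MulEquiv.ext_iff]
    exact ⟨fun h1 => ⟨g.2, mem_C'.2 fun q hq =>
        mul_inv_eq_iff_eq_mul.1 (congrArg Subtype.val (h1 ⟨q, hq⟩))⟩,
      fun h1 q => Subtype.ext (conj_eq_of_mem_C h1.2 q.2)⟩
  rw [← index_ker, ← Nat.card_zpowers, ← card_subgroupOf_of_le (hC.ge.trans inf_le_left), ← this,
    card_mul_index]

theorem lift3 (hN : H ≤ N[Q]) (hC : H ⊓ C[Q] = zpowers z) (hz : orderOf z = 2)
    (hA : Nat.card (MulAut Q) ≤ Nat.card H) (α : MulAut Q) (h3 : α ^ 3 = 1) :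
    ∃ g ∈ H, g ^ 3 = 1 ∧ ∀ q : Q, (α q : G) = g * q * g⁻¹ := by
  obtain ⟨φ, h1, h2⟩ := card_dvd hN hC
  have hi : φ.range.index ≤ 2 := by
    have := φ.range.card_mul_index
    have := Nat.card_pos (α := φ.range)
    rw [hz] at h2
    nlinarith
  have hα : α ∈ φ.range := by
    have h0 := φ.range.index_ne_zero_of_finite
    have h4 : φ.range.index ∣ 2 := by interval_cases φ.range.index <;> simp_all
    have : φ.range.Normal := by
      rcases (Nat.dvd_prime Nat.prime_two).1 h4 with e | e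
      · rw [index_eq_one.1 e]; infer_instance
      · exact normal_of_index_eq_two e
    obtain ⟨k, hk⟩ := h4
    have h5 := φ.range.pow_mem (φ.range.pow_index_mem α) (2 * k)
    rwa [← pow_mul, mul_left_comm, ← hk, show 2 * 2 = 3 + 1 from rfl, pow_succ, h3, one_mul] at h5
  obtain ⟨g, rfl⟩ := hα
  have h4 : (g : G) ^ 3 ∈ zpowers z := hC ▸ ⟨H.pow_mem g.2 3, mem_C'.2 fun q hq => by
    have := h1 (g ^ 3) ⟨q, hq⟩
    rw [map_pow, h3] at this
    exact mul_inv_eq_iff_eq_mul.1 this.symm⟩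
  refine ⟨(g ^ 4 : H), (g ^ 4).2, ?_, fun q => ?_⟩
  · rw [coe_pow, ← pow_mul, show 4 * 3 = 3 * 2 * 2 from rfl, pow_mul, pow_mul]
    rcases mem_zp hz h4 with e | e <;> rw [e]
    · simp
    · rw [← hz, pow_orderOf_eq_one, one_pow]
  · rw [← h1, map_pow, show 4 = 3 + 1 from rfl, pow_succ, h3, one_mul]

theorem xdec (hQ : Cfsg.IsExtraspecial 2 Q) (hz : z ∈ Q) (h1 : z ≠ 1) (hc : Q ≤ C{z}) {n : ℕ}
    (hn : Nat.card Q = 2 ^ (2 * (n + 1) + 1)) : ∃ ε ≤ 1,
      XDec 2 (⟨z, hz⟩ : Q) (List.replicate n (0, 0) ++ [(ε, ε)]) ⊤ := by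
  obtain ⟨z', n', ε, h2, h3, h4⟩ := H3.IsExtraspecial.exists_xdec_two hQ
  obtain rfl : n = n' := by
    have := Nat.pow_right_injective le_rfl (hn.symm.trans h3)
    omega
  have h5 : XS 2 z' (⊤ : Subgroup Q) := by
    cases n <;> exact xs_of h4
  obtain rfl : (⟨z, hz⟩ : Q) = z' := (mem_zp h5.ord (h5.center_le _ trivial fun y _ =>
    Subtype.ext (mem_C1.1 (hc y.2)).symm)).resolve_left fun e => h1 (congrArg Subtype.val e)
  exact ⟨ε, h2, h4⟩

theorem type7 (hQ : Cfsg.IsExtraspecial 2 Q) (hz : z ∈ Q) (h2 : orderOf z = 2) (hc : Q ≤ C{z})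
    (hn : Nat.card Q = 2 ^ 7) (hN : H ≤ N[Q]) (hC : H ⊓ C[Q] = zpowers z)
    (hH : Nat.card H = 3317760) : XDec 2 (⟨z, hz⟩ : Q) [(0, 0), (0, 0), (1, 1)] ⊤ ∧
      Nat.card (MulAut Q) ≤ Nat.card H := by
  obtain ⟨ε, h3, h4⟩ := xdec hQ hz (fun e => by simp [e] at h2) hc (n := 2) hn
  obtain ⟨φ, -, h5⟩ := card_dvd hN hC
  obtain ⟨k, hk⟩ := card_subgroup_dvd_card φ.range
  have h0 := Nat.card_pos (α := MulAut Q)
  rw [hH, h2] at h5
  rw [show Nat.card φ.range = 1658880 by omega] at hk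
  interval_cases ε
  · obtain ⟨a, b, e1, e2, j, e3⟩ := aut7p h4
    exfalso
    have : j < 2 := by
      by_contra h
      have : b ≤ 20160 := by nlinarith
      have : a * b ≤ 64 * 20160 := Nat.mul_le_mul e2 this
      omega
    interval_cases j
    · omega
    · obtain rfl : b = 40320 := by omega
      omega
  · obtain ⟨a, b, e1, e2, e3⟩ := aut7m h4
    exact ⟨h4, by rw [e1, hH]; exact Nat.mul_le_mul e2 (Nat.le_of_dvd (by norm_num) e3)⟩

theorem type9 (hQ : Cfsg.IsExtraspecial 2 Q) (hz : z ∈ Q) (h2 : orderOf z = 2) (hc : Q ≤ C{z})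
    (hn : Nat.card Q = 2 ^ 9) (hN : H ≤ N[Q]) (hC : H ⊓ C[Q] = zpowers z)
    (hH : Nat.card H = 89181388800) : XDec 2 (⟨z, hz⟩ : Q) [(0, 0), (0, 0), (0, 0), (0, 0)] ⊤ ∧
      Nat.card (MulAut Q) ≤ Nat.card H := by
  obtain ⟨ε, h3, h4⟩ := xdec hQ hz (fun e => by simp [e] at h2) hc (n := 3) hn
  obtain ⟨φ, -, h5⟩ := card_dvd hN hC
  obtain ⟨k, hk⟩ := card_subgroup_dvd_card φ.range
  have h0 := Nat.card_pos (α := MulAut Q)
  rw [hH, h2] at h5
  rw [show Nat.card φ.range = 44590694400 by omega] at hk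
  interval_cases ε
  · obtain ⟨a, b, e1, e2, e3⟩ := aut9p h4
    exact ⟨h4, by rw [e1, hH]; exact Nat.mul_le_mul e2 (Nat.le_of_dvd (by norm_num) e3)⟩
  · obtain ⟨a, b, e1, e2, j, e3⟩ := aut9m h4
    exfalso
    have : j < 3 := by
      by_contra h
      have : b ≤ 131604480 := by nlinarith
      have : a * b ≤ 256 * 131604480 := Nat.mul_le_mul e2 this
      omega
    interval_cases j
    · omega
    · obtain rfl : b = 394813440 := by omega
      omega
    · obtain rfl : b = 197406720 := by omega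
      omega

end

end H15.XP
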