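import Mathlib
import Cfsg.Agent.H15.XP
import Cfsg.Agent.H6.XSDual
import Cfsg.Agent.H23.Components

/-!
# Large extraspecial subgroups
-/

set_option autoImplicit false
set_option linter.unusedSectionVars false

namespace H15.XP

open Subgroup H3 H24
open scoped commutatorElement

variable {G : Type*} [Group G] [Finite G] {Q : Subgroup G} {z : G}

theorem card_modEq_cent {p : ℕ} (hp : p.Prime) {j : G} (hj : j ^ p = 1) {U : Subgroup G}
    (h : j ∈ N[U]) : Nat.card U ≡ Nat.card ↥(U ⊓ C{j}) [MOD p] := by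
  have := Fact.mk hp
  have hP : IsPGroup p (zpowers j) :=
    (piElt_of_pow_eq_one (piNat_self hp) hj).isPi.isPGroup hp
  let : MulAction (zpowers j) U :=
    { smul := fun g u => ⟨g * u * (g : G)⁻¹, conj_mem (zpowers_le.2 h g.2) u.2⟩
      one_smul := fun u => Subtype.ext (by
        change (1 : G) * u * (1 : G)⁻¹ = u
        simp)
      mul_smul := fun g k u => Subtype.ext (by
        change (g : G) * k * u * ((g : G) * k)⁻¹ = g * (k * u * (k : G)⁻¹) * (g : G)⁻¹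
        group) }
  have h1 := hP.card_modEq_card_fixedPoints U
  rw [← C_zpowers]
  rwa [Nat.card_congr (α := MulAction.fixedPoints (zpowers j) U) (β := ↥(U ⊓ C[zpowers j])) ?_]
    at h1
  exact
    { toFun := fun u => ⟨u.1.1, u.1.2, fun g hg =>
        mul_inv_eq_iff_eq_mul.mp (congrArg Subtype.val (u.2 ⟨g, hg⟩))⟩
      invFun := fun u => ⟨⟨u.1, u.2.1⟩, fun g => Subtype.ext
        (mul_inv_eq_iff_eq_mul.mpr (u.2.2 g g.2))⟩
      left_inv := fun _ => rfl
      right_inv := fun _ => rfl }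

theorem exists_fix_out {p : ℕ} (hp : p.Prime) {j : G} (hj : j ^ p = 1) {A U : Subgroup G}
    (hA : A ≤ U) (h1 : j ∈ N[U]) (h2 : j ∈ N[A]) (h : ¬ Nat.card U ≡ Nat.card A [MOD p]) :
    ∃ u ∈ U, u ∉ A ∧ u ∈ C{j} := by
  by_contra hn
  have : U ⊓ C{j} = A ⊓ C{j} := le_antisymm
    (fun u hu => ⟨by_contra fun h3 => hn ⟨u, hu.1, h3, hu.2⟩, hu.2⟩) (inf_le_inf_right _ hA)
  exact h ((card_modEq_cent hp hj h1).trans (this ▸ (card_modEq_cent hp hj h2).symm))

/-- `Q` is a large extraspecial subgroup with centre `z`. -/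
structure LX (z : G) (Q : Subgroup G) : Prop where
  xs : XS 2 z Q
  ne : zpowers z ≠ Q
  norm : C{z} ≤ N[Q]
  cent : C[Q] ≤ zpowers z

theorem lx_of {z : G} (hz : orderOf z = 2) (Q : Subgroup C{z}) [Q.Normal]
    (hC : C[Q] ≤ Q) (hQ : Cfsg.IsExtraspecial 2 Q) : LX z (Q.map C{z}.subtype) := by
  obtain ⟨w, h1, h2, h3⟩ := H3.IsExtraspecial.exists_xs hQ
  have hzC : (⟨z, self_mem_C1 z⟩ : C{z}) ∈ C[Q] := mem_C.2 fun q _ => Subtype.ext (mem_C1.1 q.2)
  obtain rfl : (⟨z, self_mem_C1 z⟩ : C{z}) = w :=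
    (mem_zp h1.ord (h3 ▸ ⟨hC hzC, hzC⟩)).resolve_left fun e => by
      rw [show z = 1 from congrArg Subtype.val e] at hz; simp at hz
  refine ⟨h1.map _ (subtype_injective _), fun e => h2 (map_injective (subtype_injective _)
    (by rw [← e, MonoidHom.map_zpowers]; rfl)), (nml_map_subtype Q).norm, fun g hg => ?_⟩
  have h4 : g ∈ C{z} := C_le_C1 (mem_map_of_mem _ h1.mem) hg
  have h5 : (⟨g, h4⟩ : C{z}) ∈ C[Q] := mem_C.2 fun q hq =>
    Subtype.ext (mem_C.1 hg _ (mem_map_of_mem _ hq))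
  have := mem_map_of_mem C{z}.subtype (h3.ge ⟨hC h5, h5⟩)
  rwa [MonoidHom.map_zpowers] at this

namespace LX

variable (h : LX z Q)
include h

theorem cj (g : G) : LX (g * z * g⁻¹) (cj g Q) :=
  ⟨h.xs.map (MulAut.conj g).toMonoidHom (conj_injective' g),
    fun e => h.ne (cj_inj.1 (by rw [← e, cj_zpowers])), by rw [← cj_C1]; exact norm_cj h.norm g,
    by rw [← cj_C, ← cj_zpowers]; exact cj_mono g h.cent⟩

theorem sq : z * z = 1 := by rw [← pow_two]; exact h.xs.z_pow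
theorem ne_one : z ≠ 1 := h.xs.z_ne_one
theorem le : Q ≤ C{z} := fun q hq => mem_C1.2 (h.xs.central q hq).eq.symm
theorem isX : Cfsg.IsExtraspecial 2 Q := h.xs.isExtraspecial h.ne
theorem zle : zpowers z ≤ Q := zpowers_le.2 h.xs.mem
theorem inf_C : C{z} ⊓ C[Q] = zpowers z := le_antisymm (inf_le_right.trans h.cent)
  (zpowers_le.2 ⟨self_mem_C1 z, mem_C_iff_le_C1.2 h.le⟩)
theorem eq_or {c : G} (hc : c ∈ C[Q]) : c = 1 ∨ c = z := mem_zp h.xs.ord (h.cent hc)
theorem sq_or {c : G} (hc : c ∈ Q) : c * c = 1 ∨ c * c = z := by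
  simpa [pow_two] using h.xs.sq_cases hc

/-- An involution `t` of `C(z)` whose centraliser there has nearly full `2`-part lies in `Q`. -/
theorem sym {t : G} (ht : orderOf t = 2) (hz : t ∈ C{z}) {a m : ℕ} (h1 : Nat.card C{z} = a * (2 * m))
    (h2 : a ∣ Nat.card ↥(C{z} ⊓ C{t})) (h3 : (Nat.card Q).Coprime m) :
    t ∈ Q ∧ Nat.card Q ≤ 2 * Nat.card ↥(Q ⊓ C{t}) := by
  have e1 := card_sup (A := Q) (B := C{z} ⊓ C{t}) (inf_le_left.trans h.norm)
  rw [← inf_assoc, inf_eq_left.2 h.le] at e1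
  have e2 := card_inf_mul_relIndex C{t} Q
  rw [inf_comm] at e2
  have e3 : Nat.card ↥(Q ⊔ C{z} ⊓ C{t}) = C{t}.relIndex Q * Nat.card ↥(C{z} ⊓ C{t}) :=
    Nat.eq_of_mul_eq_mul_right (card_pos (Q ⊓ C{t})) (by rw [e1, ← e2]; ring)
  have e4 : C{t}.relIndex Q * a ∣ 2 * m * a := by
    rw [mul_comm (2 * m), ← h1]
    exact (Nat.mul_dvd_mul_left _ h2).trans (e3 ▸ H24.card_dvd (sup_le h.le inf_le_left))
  have a0 : 0 < a := Nat.pos_of_ne_zero fun e => by have := card_pos C{z}; simp [e] at h1; omega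
  have e5 : C{t}.relIndex Q ≤ 2 := Nat.le_of_dvd two_pos
    ((h3.coprime_dvd_left (Dvd.intro_left _ e2)).dvd_of_dvd_mul_right
      (Nat.dvd_of_mul_dvd_mul_right a0 e4))
  refine ⟨sup_le le_rfl (h.cent.trans h.zle) (H6.mem_sup_centralizer_of_relIndex_le_two Q h.isX t ht
    (h.norm hz) (by rwa [inf_relIndex_right])), ?_⟩
  rw [← e2, mul_comm]
  exact Nat.mul_le_mul_right _ e5

theorem conj_eq {u t : G} (hu : u ∈ Q) (ht : t ∈ Q) (hn : u ∉ C{t}) : u * t * u⁻¹ = z * t := by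
  rcases mem_zp h.xs.ord (h.xs.comm u hu t ht) with e | e
  · exact absurd (mem_C1.2 (commutatorElement_eq_one_iff_mul_comm.1 e)) hn
  · rw [← e]; simp [commutatorElement_def]

end LX

end H15.XP
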