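import Mathlib
import Cfsg.Agent.H15.Bases
import Cfsg.Agent.H15.GL
import Cfsg.Agent.H7.FormOrder

/-!
# Orders of stabilisers of totally singular subspaces
-/

set_option autoImplicit false
set_option linter.unusedSectionVars false

namespace H15

open Module

namespace Form

variable {F : Type*} [Field F] {σ : F →+* F} {V : Type*} [AddCommGroup V] [Module F V]
variable {Φ : Form σ V} [FiniteDimensional F V] [Fintype F]

theorem Nondeg.card_fixer_step (h : Φ.Nondeg) {N : ℕ}
    (hN : ∀ w : V, Nat.card {c : F // c * Φ.ε + σ c + Φ.B w w = 0 ∧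
      Φ.τ * c * Φ.ε + Φ.Q w = 0} = N)
    (H : Submodule F V) {e f : V} (he : e ∈ H) (heH : ∀ x ∈ H, Φ.B x e = 0) (hQe : Φ.Q e = 0)
    (hef : Φ.B e f = 1) (hff : Φ.B f f = 0) (hQf : Φ.Q f = 0) :
    Nat.card (Φ.fixer H) = Nat.card (Φ.fixer (H ⊔ Submodule.span F {f})) *
      (N * Fintype.card F ^ (finrank F V - (finrank F H + 1))) := by
  classical
  have hfe : Φ.B f e = Φ.ε := Φ.B_symm_one hef
  have hee : Φ.B e e = 0 := heH e he
  have hnot : ∀ u, Φ.B e u = 1 → u ∉ H := fun u hu h0 => by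
    rw [Φ.B_eq_zero_comm.1 (heH u h0)] at hu
    exact zero_ne_one hu
  have : Finite V := Module.finite_of_finite F
  rw [h.card_fixer H (hnot f hef)]
  congr 1
  have hr := h.finrank_perp (H ⊔ Submodule.span F {f})
  rw [Submodule.finrank_sup_span_singleton (hnot f hef)] at hr
  have hmem : ∀ w, w ∈ Φ.perp (H ⊔ Submodule.span F {f}) ↔ (∀ x ∈ H, Φ.B x w = 0) ∧ Φ.B f w = 0 :=
    fun w => by rw [perp_sup, Submodule.mem_inf, mem_perp_singleton, mem_perp]
  have hB : ∀ (c : F) (w : V), Φ.B e w = 0 → Φ.B f w = 0 →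
      Φ.B (f + c • e + w) (f + c • e + w) = c * Φ.ε + σ c + Φ.B w w := fun c w h1 h2 => by
    simp [hff, hee, hef, hfe, h1, h2, Φ.B_eq_zero_comm.1 h1, Φ.B_eq_zero_comm.1 h2]
  have hQ : ∀ (c : F) (w : V), Φ.B e w = 0 → Φ.B f w = 0 →
      Φ.Q (f + c • e + w) = Φ.τ * c * Φ.ε + Φ.Q w := fun c w h1 h2 => by
    rw [Φ.Q_add, Φ.Q_add_smul, hQe, hQf, hfe]
    simp [h1, h2]
  let g : (Σ w : Φ.perp (H ⊔ Submodule.span F {f}), {c : F // c * Φ.ε + σ c + Φ.B w w = 0 ∧
      Φ.τ * c * Φ.ε + Φ.Q w = 0}) → {u' : V // u' ∉ H ∧ (∀ x ∈ H, Φ.B x u' = Φ.B x f) ∧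
        Φ.B u' u' = Φ.B f f ∧ Φ.Q u' = Φ.Q f} := fun x =>
    ⟨f + x.2.1 • e + x.1.1, hnot _ (by simp [hef, hee, ((hmem _).1 x.1.2).1 e he]),
      fun y hy => by simp [heH y hy, ((hmem _).1 x.1.2).1 y hy],
      by rw [hB _ _ (((hmem _).1 x.1.2).1 e he) ((hmem _).1 x.1.2).2, hff, x.2.2.1],
      by rw [hQ _ _ (((hmem _).1 x.1.2).1 e he) ((hmem _).1 x.1.2).2, hQf, x.2.2.2]⟩
  have hg : Function.Bijective g := by
    constructor
    · rintro ⟨⟨w, hw⟩, c, hc⟩ ⟨⟨w', hw'⟩, c', hc'⟩ hh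
      have h1 : f + c • e + w = f + c' • e + w' := congrArg Subtype.val hh
      have h2 := congrArg (Φ.B f) h1
      simp only [map_add, map_smul, hfe, ((hmem _).1 hw).2, ((hmem _).1 hw').2, add_zero,
        add_right_inj, smul_eq_mul] at h2
      obtain rfl : c = c' := mul_right_cancel₀ Φ.eps_ne_zero h2
      obtain rfl : w = w' := add_left_cancel h1
      rfl
    · rintro ⟨u, -, h1, h2, h3⟩
      have hw : u - f - (Φ.B f u / Φ.ε) • e ∈ Φ.perp (H ⊔ Submodule.span F {f}) :=
        (hmem _).2 ⟨fun x hx => by simp [h1 x hx, heH x hx], by simp [hff, hfe, Φ.eps_ne_zero]⟩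
      have hu : f + (Φ.B f u / Φ.ε) • e + (u - f - (Φ.B f u / Φ.ε) • e) = u := by abel
      refine ⟨⟨⟨_, hw⟩, Φ.B f u / Φ.ε, ?_, ?_⟩, Subtype.ext hu⟩
      · rw [← hB _ _ (((hmem _).1 hw).1 e he) ((hmem _).1 hw).2, hu, h2, hff]
      · rw [← hQ _ _ (((hmem _).1 hw).1 e he) ((hmem _).1 hw).2, hu, h3, hQf]
  have := Fintype.ofFinite (Φ.perp (H ⊔ Submodule.span F {f}))
  rw [← Nat.card_eq_of_bijective g hg, Nat.card_sigma]
  simp only [hN, Finset.sum_const, Finset.card_univ, smul_eq_mul]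
  rw [mul_comm, ← Nat.card_eq_fintype_card, H7.card_eq_pow (F := F) rfl]
  congr 2
  omega

theorem Hyp.card_fixer {ι : Type*} [Fintype ι] [DecidableEq ι] (h : Φ.Nondeg) {N : ℕ}
    (hN : ∀ w : V, Nat.card {c : F // c * Φ.ε + σ c + Φ.B w w = 0 ∧
      Φ.τ * c * Φ.ε + Φ.Q w = 0} = N) {e f : ι → V} (H : Φ.Hyp e f) :
    Nat.card (Φ.fixer (Submodule.span F (Set.range e))) =
      Nat.card (Φ.restrict (Φ.perp (Submodule.span F (Set.range (Sum.elim e f))))).Isom *
        N ^ Fintype.card ι * Fintype.card F ^ ∑ i ∈ Finset.range (Fintype.card ι),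
          (finrank F V - (Fintype.card ι + i + 1)) := by
  have hli : LinearIndependent F e := H.linearIndependent.comp Sum.inl Sum.inl_injective
  have key : ∀ s : Finset ι,
      finrank F (Submodule.span F (Set.range e) ⊔ Submodule.span F (f '' s) : Submodule F V) =
        Fintype.card ι + s.card ∧
      Nat.card (Φ.fixer (Submodule.span F (Set.range e))) =
        Nat.card (Φ.fixer (Submodule.span F (Set.range e) ⊔ Submodule.span F (f '' s))) *
          N ^ s.card * Fintype.card F ^ ∑ i ∈ Finset.range s.card,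
            (finrank F V - (Fintype.card ι + i + 1)) := by
    intro s
    induction s using Finset.induction_on with
    | empty =>
      rw [Finset.coe_empty, Set.image_empty, Submodule.span_empty, sup_bot_eq,
        finrank_span_eq_card hli]
      simp
    | insert a s ha ih =>
      have hperp : ∀ x ∈ Submodule.span F (Set.range e) ⊔ Submodule.span F (f '' s),
          Φ.B x (e a) = 0 := by
        rw [← Φ.mem_perp, perp_sup, Submodule.mem_inf, mem_perp_span, mem_perp_span]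
        constructor
        · rintro _ ⟨i, rfl⟩; exact H.ee i a
        · rintro _ ⟨i, hi, rfl⟩
          rw [H.fe, if_neg]
          rintro rfl
          exact ha hi
      have hef : Φ.B (e a) (f a) = 1 := by rw [H.ef, if_pos rfl]
      have hs : Submodule.span F (Set.range e) ⊔ Submodule.span F (f '' (insert a s : Finset ι)) =
          (Submodule.span F (Set.range e) ⊔ Submodule.span F (f '' s)) ⊔
            Submodule.span F {f a} := by
        rw [Finset.coe_insert, Set.image_insert_eq, Submodule.span_insert, sup_assoc,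
          sup_comm (Submodule.span F {f a})]
      rw [hs, Finset.card_insert_of_notMem ha]
      constructor
      · rw [Submodule.finrank_sup_span_singleton, ih.1, add_assoc]
        intro h0
        rw [Φ.B_eq_zero_comm.1 (hperp _ h0)] at hef
        exact zero_ne_one hef
      · rw [ih.2, h.card_fixer_step hN _
          (Submodule.mem_sup_left (Submodule.subset_span (Set.mem_range_self a))) hperp (H.Qe a) hef (H.ff a a)
          (H.Qf a), ih.1, Finset.sum_range_succ]
        ring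
  rw [(key Finset.univ).2, Finset.card_univ, Finset.coe_univ, Set.image_univ, ← Submodule.span_union,
    ← Set.Sum.elim_range, Nat.card_congr (h.fixerEquiv H.disjoint).toEquiv]

theorem sum_range_sub (n k : ℕ) (hk : 2 * k ≤ n) :
    2 * ∑ i ∈ Finset.range k, (n - (k + i + 1)) + 3 * k ^ 2 + k = 2 * k * n := by
  have : ∀ j ≤ k, 2 * ∑ i ∈ Finset.range j, (n - (k + i + 1)) + 2 * j * k + j ^ 2 + j =
      2 * j * n := by
    intro j
    induction j with
    | zero => simp
    | succ j ih =>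
      intro hj
      have := ih (by omega)
      rw [Finset.sum_range_succ]
      obtain ⟨r, hr⟩ : ∃ r, n = k + j + 1 + r := ⟨n - (k + j + 1), by omega⟩
      rw [show n - (k + j + 1) = r by omega]
      nlinarith
  have := this k le_rfl
  nlinarith

/-- The pointwise stabiliser of a totally isotropic subspace of a symplectic space. -/
theorem IsAlt.card_fixer {Φ : Form (RingHom.id F) V} (hA : Φ.IsAlt) (h : Φ.Nondeg) {m k : ℕ}
    (hV : finrank F V = 2 * m) {W : Submodule F V} (hW : Φ.TotSing W) (hk : finrank F W = k) :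
    Nat.card (Φ.fixer W) = Fintype.card F ^ (k * (k + 1) / 2 + 2 * k * (m - k)) *
      (Fintype.card F ^ ((m - k) ^ 2) *
        ∏ i ∈ Finset.range (m - k), (Fintype.card F ^ (2 * (i + 1)) - 1)) := by
  classical
  rcases Nat.eq_zero_or_pos k with rfl | hk0
  · rw [Submodule.finrank_eq_zero.1 hk, fixer_bot, Subgroup.card_top, H7.card_isom_alt m V Φ h hA hV]
    simp
  obtain ⟨e, f, H, rfl⟩ := h.exists_hyp_of_totSing hW hk
  have hef : Φ.B (e ⟨0, hk0⟩) (f ⟨0, hk0⟩) = 1 := by rw [H.ef, if_pos rfl]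
  have hε : Φ.ε = -1 := by
    have := hA.1 (e ⟨0, hk0⟩ + f ⟨0, hk0⟩)
    simp only [map_add, LinearMap.add_apply, hA.1, hef, Φ.B_symm_one hef] at this
    linear_combination this
  have hτ : Φ.τ = 0 := by
    have := Φ.Q_add (e ⟨0, hk0⟩) (f ⟨0, hk0⟩)
    simpa [hA.2, hef] using this.symm
  have hr := h.finrank_perp (Submodule.span F (Set.range (Sum.elim e f)))
  rw [H.finrank_span, Fintype.card_fin, hV] at hr
  rw [H.card_fixer h (N := Fintype.card F) fun w => by simp [hε, hτ, hA.1, hA.2],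
    H7.card_isom_alt (m - k) _ _ (h.restrict_perp H.disjoint) (hA.comap _) (by omega),
    Fintype.card_fin, mul_assoc _ (_ ^ k), ← pow_add, mul_comm, hV]
  congr 2
  have := sum_range_sub (2 * m) k (by omega)
  obtain ⟨r, rfl⟩ : ∃ r, m = k + r := ⟨m - k, by omega⟩
  rw [Nat.add_sub_cancel_left]
  have h2 : 2 * (k * (k + 1) / 2) = k * (k + 1) := Nat.mul_div_cancel' (Nat.even_mul_succ_self k).two_dvd
  nlinarith

/-- The pointwise stabiliser of a totally isotropic subspace of a unitary space. -/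
theorem IsHerm.card_fixer {q : ℕ} (hF : Fintype.card F = q ^ 2) {Φ : Form (frob hF) V}
    (hH : Φ.IsHerm) (h : Φ.Nondeg) {n k : ℕ}
    (hV : finrank F V = n) {W : Submodule F V} (hW : Φ.TotSing W) (hk : finrank F W = k) :
    Nat.card (Φ.fixer W) = q ^ (k * (2 * n - 3 * k)) *
      (q ^ ((n - 2 * k) * ((n - 2 * k) - 1) / 2) * ∏ i ∈ Finset.range (n - 2 * k),
        (if Even i then q ^ (i + 1) + 1 else q ^ (i + 1) - 1)) := by
  classical
  rcases Nat.eq_zero_or_pos k with rfl | hk0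
  · rw [Submodule.finrank_eq_zero.1 hk, fixer_bot, Subgroup.card_top,
      H7.card_isom_herm hF n V Φ h hH hV]
    simp
  obtain ⟨e, f, H, rfl⟩ := h.exists_hyp_of_totSing hW hk
  have hef : Φ.B (e ⟨0, hk0⟩) (f ⟨0, hk0⟩) = 1 := by rw [H.ef, if_pos rfl]
  have hτ : Φ.τ = 0 := by
    have := Φ.Q_add (e ⟨0, hk0⟩) (f ⟨0, hk0⟩)
    simpa [hH.2.2, hef] using this.symm
  have hr := h.finrank_perp (Submodule.span F (Set.range (Sum.elim e f)))
  rw [H.finrank_span, Fintype.card_fin, hV] at hr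
  rw [H.card_fixer h (N := q) fun w => by
      refine Eq.trans ?_ (card_trace_eq hF (-Φ.B w w) (by rw [← frob_apply hF, map_neg, hH.symm]))
      exact Nat.card_congr (Equiv.subtypeEquivRight fun c => by
        rw [hH.2.1, hτ, hH.2.2, mul_one, frob_apply, add_eq_zero_iff_eq_neg]; simp),
    H7.card_isom_herm hF (n - 2 * k) _ _ (h.restrict_perp H.disjoint) (hH.comap _) (by omega),
    Fintype.card_fin, hF, ← pow_mul, mul_assoc _ (_ ^ k), ← pow_add, mul_comm, hV]
  congr 2
  have := sum_range_sub n k (by omega)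
  obtain ⟨r, rfl⟩ : ∃ r, n = 2 * k + r := ⟨n - 2 * k, by omega⟩
  rw [show 2 * (2 * k + r) - 3 * k = k + 2 * r by omega]
  nlinarith

theorem Nondeg.card_stab_totSing (h : Φ.Nondeg) {W : Submodule F V} (hW : Φ.TotSing W) {k : ℕ}
    (hk : finrank F W = k) : Nat.card (Φ.stab W) = Nat.card (Φ.fixer W) *
      ∏ i : Fin k, (Fintype.card F ^ k - Fintype.card F ^ (i : ℕ)) := by
  rw [Φ.card_stab h, Φ.restrict_Isom_eq_top W hW.1 hW.2, Subgroup.card_top, card_linearEquiv hk]

omit [Fintype F] in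
/-- The isometry `e ↦ a e`, `f ↦ σ(a)⁻¹ f` of a hyperbolic plane in a unitary space. -/
theorem IsHerm.exists_hyp_scale (hH : Φ.IsHerm) (h : Φ.Nondeg) {e f : V} (hee : Φ.B e e = 0)
    (hff : Φ.B f f = 0) (hef : Φ.B e f = 1) {a : F} (ha : a ≠ 0) :
    ∃ g : Φ.Isom, (Φ.det g : F) = a / σ a ∧
      ∀ x, g.1 x = x + ((a - 1) * Φ.B f x) • e + (((σ a)⁻¹ - 1) * Φ.B e x) • f := by
  have hfe : Φ.B f e = 1 := by rw [Φ.B_symm_one hef, hH.2.1]
  have ha' : σ a ≠ 0 := by simpa using ha
  let l : V →ₗ[F] V := LinearMap.transvection ((a - 1) • Φ.B f) e ∘ₗ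
    LinearMap.transvection (((σ a)⁻¹ - 1) • Φ.B e) f
  have hl : ∀ x, l x = x + ((a - 1) * Φ.B f x) • e + (((σ a)⁻¹ - 1) * Φ.B e x) • f := fun x => by
    simp only [l, LinearMap.comp_apply, LinearMap.transvection.apply, LinearMap.smul_apply,
      map_add, map_smul, hff, smul_eq_mul]
    module
  refine ⟨Φ.mkIsom h l (fun x y => ?_) (fun x => by rw [hH.2.2, hH.2.2]), ?_, hl⟩
  · simp only [hl, map_add, map_sub, LinearMap.map_smulₛₗ, LinearMap.add_apply,
      LinearMap.smul_apply, smul_eq_mul, RingHom.id_apply, hee, hff, hef, hfe,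
      map_mul, ← hH.symm e x, ← hH.symm f x, map_inv₀, Φ.invol, map_one]
    field_simp
    ring
  · rw [coe_det, mkIsom_coe, LinearMap.det_comp]
    simp [hef, hfe, div_eq_mul_inv]

/-- The determinant maps the stabiliser of a totally isotropic subspace onto the elements of
norm one. -/
theorem IsHerm.card_stab_inf_det_ker {q : ℕ} (hF : Fintype.card F = q ^ 2) {Φ : Form (frob hF) V}
    (hH : Φ.IsHerm) (h : Φ.Nondeg) (hn : 1 ≤ finrank F V) {W : Submodule F V} (hW : Φ.TotSing W) :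
    (q + 1) * Nat.card ((Φ.stab W).subgroupOf Φ.det.ker) = Nat.card (Φ.stab W) := by
  have h1 : (Φ.det.comp (Φ.stab W).subtype).range = (powMonoidHom (q + 1) : Fˣ →* Fˣ).ker := by
    rw [← H7.range_det_herm hF h hH hn]
    refine le_antisymm (by rintro _ ⟨g, rfl⟩; exact ⟨g, rfl⟩) ?_
    rintro _ ⟨g, rfl⟩
    by_cases hW0 : W = ⊥
    · exact ⟨⟨g, Φ.mem_stab_of_mapsTo fun x hx => by
        rw [hW0, Submodule.mem_bot] at hx ⊢; simp [hx]⟩, rfl⟩
    obtain ⟨e, he, he0⟩ := Submodule.exists_mem_ne_zero_of_ne_bot hW0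
    obtain ⟨f, -, hef, hff, -⟩ := h.exists_hyp_partner (H := ⊥) (p := e) (by simpa using he0)
      (hW.1 e he e he) (hW.2 e he) (by simp)
    obtain ⟨a, ha0, ha⟩ := hilbert90 (frob hF) hH.1 Φ.invol (Φ.det_mul_sigma_det h g)
    obtain ⟨k, hk1, hk2⟩ := hH.exists_hyp_scale h (hW.1 e he e he) hff hef ha0
    refine ⟨⟨k, Φ.mem_stab_of_mapsTo fun x hx => ?_⟩, Units.ext (hk1.trans ha.symm)⟩
    rw [hk2, hW.1 e he x hx]
    simpa using W.add_mem hx (W.smul_mem _ he)
  rw [card_eq_card_ker_mul_card_range (Φ.det.comp (Φ.stab W).subtype), h1, card_norm_one_units hF,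
    mul_comm]
  congr 1
  rw [← MonoidHom.comap_ker, ← Subgroup.subgroupOf, ← Subgroup.inf_subgroupOf_right,
    ← Subgroup.inf_subgroupOf_left Φ.det.ker,
    Nat.card_congr (Subgroup.subgroupOfEquivOfLe inf_le_right).toEquiv,
    Nat.card_congr (Subgroup.subgroupOfEquivOfLe inf_le_left).toEquiv]

end Form

/-! ### The Levi factor of the Siegel parabolic subgroup -/

section Levi

open Matrix

variable (m : ℕ) (F : Type*) [Field F]

theorem fromBlocks_mem_symplecticGroup_iff (A D : Matrix (Fin m) (Fin m) F) :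
    fromBlocks A 0 0 D ∈ symplecticGroup (Fin m) F ↔ Aᵀ * D = 1 := by
  rw [SymplecticGroup.mem_iff', Matrix.J, fromBlocks_transpose, fromBlocks_multiply,
    fromBlocks_multiply, fromBlocks_inj]
  simp only [transpose_zero, mul_zero, mul_one, add_zero, mul_neg, zero_mul, neg_zero, zero_add,
    neg_mul, neg_inj, true_and, and_true]
  refine ⟨fun h => h.1, fun h => ⟨h, ?_⟩⟩
  have := congrArg transpose h
  rwa [transpose_mul, transpose_transpose, transpose_one] at this

/-- The block diagonal embedding of `GL_m` in `Sp_2m`. -/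
def levi : GL (Fin m) F →* symplecticGroup (Fin m) F where
  toFun A := ⟨fromBlocks A 0 0 ((A⁻¹ : GL (Fin m) F) : Matrix (Fin m) (Fin m) F)ᵀ,
    (fromBlocks_mem_symplecticGroup_iff m F _ _).2 (by
      rw [← transpose_mul, Units.inv_mul, transpose_one])⟩
  map_one' := Subtype.ext (by simp)
  map_mul' A B := Subtype.ext (by
    simp only [_root_.mul_inv_rev, Units.val_mul, transpose_mul, Submonoid.coe_mul,
      fromBlocks_multiply, mul_zero, zero_mul, add_zero, zero_add])

theorem coe_levi (A : GL (Fin m) F) : (levi m F A).1 =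
    fromBlocks (A : Matrix (Fin m) (Fin m) F) 0 0
      ((A⁻¹ : GL (Fin m) F) : Matrix (Fin m) (Fin m) F)ᵀ := rfl

theorem levi_injective : Function.Injective (levi m F) := fun _ _ h =>
  Units.ext (fromBlocks_inj.1 (congrArg Subtype.val h)).1

theorem mem_range_levi (g : symplecticGroup (Fin m) F) :
    g ∈ (levi m F).range ↔ g.1.toBlocks₂₁ = 0 ∧ g.1.toBlocks₁₂ = 0 := by
  constructor
  · rintro ⟨A, rfl⟩
    exact ⟨rfl, rfl⟩
  · rintro ⟨h1, h2⟩
    have h3 := g.1.fromBlocks_toBlocks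
    rw [h1, h2] at h3
    have h4 := g.2
    rw [← h3, fromBlocks_mem_symplecticGroup_iff] at h4
    have h5 := congrArg transpose h4
    rw [transpose_mul, transpose_transpose, transpose_one] at h5
    exact ⟨⟨g.1.toBlocks₁₁, g.1.toBlocks₂₂ᵀ, mul_eq_one_comm.1 h5, h5⟩, Subtype.ext h3⟩

end Levi

end H15
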