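import Mathlib
import Cfsg.Agent.H29.Tau
import Cfsg.Agent.H24.Base5

/-!
# Computing in a group through a model with decidable word problem
-/

set_option autoImplicit false
set_option linter.unusedSectionVars false

namespace H15.KM

open H29 H24 Subgroup

/-! ### Boolean helpers -/

noncomputable def or2 (a b : Bool) : Bool := Bool.rec b true a
noncomputable def not1 (a : Bool) : Bool := Bool.rec true false a
noncomputable def imp2 (a b : Bool) : Bool := Bool.rec true b a

@[simp] theorem or2_true {a b : Bool} : or2 a b = true ↔ a = true ∨ b = true := by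
  cases a <;> cases b <;> simp [or2]
@[simp] theorem not1_true {a : Bool} : not1 a = true ↔ ¬ a = true := by
  cases a <;> simp [not1]
@[simp] theorem imp2_true {a b : Bool} : imp2 a b = true ↔ (a = true → b = true) := by
  cases a <;> cases b <;> simp [imp2]

noncomputable def anyL {α : Type} (l : List α) (f : α → Bool) : Bool :=
  List.rec (motive := fun _ => Bool) false (fun a _ ih => or2 (f a) ih) l

theorem anyL_true {α : Type} {l : List α} {f : α → Bool} :
    anyL l f = true ↔ ∃ a ∈ l, f a = true := by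
  induction l with
  | nil => simp [anyL]
  | cons a t ih =>
    have : anyL (a :: t) f = or2 (f a) (anyL t f) := rfl
    rw [this, or2_true, ih]; simp

/-- Evaluate a list of numbers to numerals, then continue. -/
noncomputable def frc {α : Type} (l : List ℕ) : (List ℕ → α) → α :=
  List.rec (motive := fun _ => (List ℕ → α) → α) (fun k => k [])
    (fun a _ ih k => lit a fun a' => ih fun t => k (a' :: t)) l

@[simp] theorem frc_eq {α : Type} : ∀ (l : List ℕ) (k : List ℕ → α), frc l k = k l
  | [], _ => rfl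
  | a :: l, k => frc_eq l fun t => k (a :: t)

noncomputable def app (u v : List ℕ) : List ℕ :=
  List.rec (motive := fun _ => List ℕ) v (fun a _ ih => a :: ih) u

@[simp] theorem app_eq : ∀ (u v : List ℕ), app u v = u ++ v
  | [], _ => rfl
  | a :: u, v => congrArg (a :: ·) (app_eq u v)

noncomputable def mapL {α : Type} (f : α → ℕ) (l : List α) : List ℕ :=
  List.rec (motive := fun _ => List ℕ) [] (fun a _ ih => f a :: ih) l

@[simp] theorem mapL_eq {α : Type} (f : α → ℕ) : ∀ l : List α, mapL f l = l.map f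
  | [] => rfl
  | a :: l => congrArg (f a :: ·) (mapL_eq f l)

noncomputable def tabN (n : ℕ) (f : ℕ → ℕ) : List ℕ :=
  Nat.rec (motive := fun _ => List ℕ) [] (fun m ih => f m :: ih) n

theorem mem_tabN {f : ℕ → ℕ} {y : ℕ} : ∀ {n : ℕ}, y ∈ tabN n f ↔ ∃ m < n, f m = y
  | 0 => by simp [tabN]
  | n + 1 => by
    rw [show tabN (n + 1) f = f n :: tabN n f from rfl, List.mem_cons, mem_tabN]
    constructor
    · rintro (rfl | ⟨m, h1, h2⟩)
      · exact ⟨n, by omega, rfl⟩
      · exact ⟨m, by omega, h2⟩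
    · rintro ⟨m, h1, rfl⟩
      rcases Nat.lt_succ_iff_lt_or_eq.1 h1 with h | rfl
      · exact .inr ⟨m, h, rfl⟩
      · exact .inl rfl

noncomputable def lenL {α : Type} (l : List α) : ℕ :=
  List.rec (motive := fun _ => ℕ) 0 (fun _ _ ih => Nat.succ ih) l

@[simp] theorem lenL_eq {α : Type} : ∀ l : List α, lenL l = l.length
  | [] => rfl
  | _ :: l => congrArg Nat.succ (lenL_eq l)

/-- The subword of `l` selected by the bits of a number. -/
noncomputable def mw (l : List ℕ) : ℕ → List ℕ :=
  List.rec (motive := fun _ => ℕ → List ℕ) (fun _ => [])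
    (fun c _ ih n => lit (Nat.shiftRight n 1) fun n' =>
      Nat.rec (motive := fun _ => List ℕ) (ih n') (fun _ _ => c :: ih n') (Nat.land n 1)) l

theorem mw_even (c : ℕ) (l : List ℕ) (n : ℕ) : mw (c :: l) (2 * n) = mw l n := by
  have h1 : Nat.land (2 * n) 1 = 0 := by rw [land_eq, Nat.and_one_is_mod]; omega
  have h2 : Nat.shiftRight (2 * n) 1 = n := by rw [shr_eq, Nat.shiftRight_eq_div_pow]; omega
  change Nat.rec (motive := fun _ => List ℕ) (mw l (Nat.shiftRight (2 * n) 1))
    (fun _ _ => c :: mw l (Nat.shiftRight (2 * n) 1)) (Nat.land (2 * n) 1) = _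
  rw [h1, h2]; rfl

theorem mw_odd (c : ℕ) (l : List ℕ) (n : ℕ) : mw (c :: l) (2 * n + 1) = c :: mw l n := by
  have h1 : Nat.land (2 * n + 1) 1 = 1 := by rw [land_eq, Nat.and_one_is_mod]; omega
  have h2 : Nat.shiftRight (2 * n + 1) 1 = n := by rw [shr_eq, Nat.shiftRight_eq_div_pow]; omega
  change Nat.rec (motive := fun _ => List ℕ) (mw l (Nat.shiftRight (2 * n + 1) 1))
    (fun _ _ => c :: mw l (Nat.shiftRight (2 * n + 1) 1)) (Nat.land (2 * n + 1) 1) = _
  rw [h1, h2]; rfl

theorem mem_mw : ∀ (l : List ℕ) (n : ℕ), ∀ c ∈ mw l n, c ∈ l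
  | [], _, c, h => h
  | a :: l, n, c, h => by
    obtain ⟨k, rfl | rfl⟩ := Nat.even_or_odd' n
    · rw [mw_even] at h; exact List.mem_cons_of_mem _ (mem_mw l k c h)
    · rw [mw_odd] at h
      rcases List.mem_cons.1 h with rfl | h
      · exact List.mem_cons_self
      · exact List.mem_cons_of_mem _ (mem_mw l k c h)

/-- Substitute the words `x`, `y` for the letters `200`, `201`. -/
noncomputable def sb (w x y : List ℕ) : List ℕ :=
  List.rec (motive := fun _ => List ℕ) [] (fun c _ ih =>
    Bool.rec (Bool.rec (c :: ih) (app y ih) (Nat.beq c 201)) (app x ih) (Nat.beq c 200)) w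

/-- The `n`-th power of a word. -/
noncomputable def pw (n : ℕ) (w : List ℕ) : List ℕ :=
  Nat.rec (motive := fun _ => List ℕ) [] (fun _ ih => app w ih) n

section

variable {G : Type*} [Group G]

/-- Give the letters `200`, `201` the values `a`, `a⁻¹`. -/
noncomputable def up (e : ℕ → G) (a : G) (c : ℕ) : G :=
  if c = 200 then a else if c = 201 then a⁻¹ else e c

@[simp] theorem up_200 (e : ℕ → G) (a : G) : up e a 200 = a := by simp [up]
@[simp] theorem up_201 (e : ℕ → G) (a : G) : up e a 201 = a⁻¹ := by simp [up]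
theorem up_of (e : ℕ → G) (a : G) {c : ℕ} (h : c < 200) : up e a c = e c := by
  rw [up, if_neg (by omega), if_neg (by omega)]

theorem ev_sb {e : ℕ → G} {x y : List ℕ} (h : ev e y = (ev e x)⁻¹) :
    ∀ w : List ℕ, ev e (sb w x y) = ev (up e (ev e x)) w
  | [] => rfl
  | c :: w => by
    rw [show sb (c :: w) x y = Bool.rec (Bool.rec (c :: sb w x y) (app y (sb w x y)) (Nat.beq c 201))
      (app x (sb w x y)) (Nat.beq c 200) from rfl, ev_cons, ← ev_sb h w]
    by_cases h1 : c = 200
    · subst h1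
      change ev e (app x _) = _
      simp
    · rw [show Nat.beq c 200 = false by rw [← Bool.not_eq_true, H29.beq_true]; exact h1]
      by_cases h2 : c = 201
      · subst h2
        change ev e (app y _) = _
        simp [h]
      · rw [show Nat.beq c 201 = false by rw [← Bool.not_eq_true, H29.beq_true]; exact h2]
        change ev e (c :: _) = _
        rw [ev_cons, up, if_neg h1, if_neg h2]

@[simp] theorem ev_pw (e : ℕ → G) (w : List ℕ) : ∀ n, ev e (pw n w) = ev e w ^ n
  | 0 => by simp [pw]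
  | n + 1 => by
    rw [show pw (n + 1) w = app w (pw n w) from rfl, app_eq, ev_append, ev_pw e w n, pow_succ']

/-! ### Polycyclic lists -/

/-- Each letter normalises the group generated by the later ones and has order two modulo it. -/
def PC (e : ℕ → G) : List ℕ → Prop
  | [] => True
  | c :: l => PC e l ∧ e c ∉ gen e l ∧ e c * e c ∈ gen e l ∧
      ∀ d ∈ l, e c * e d * (e c)⁻¹ ∈ gen e l

theorem conj_mem_gen {e : ℕ → G} {l : List ℕ} {t : G} {H : Subgroup G}
    (h : ∀ d ∈ l, t * e d * t⁻¹ ∈ H) {g : G} (hg : g ∈ gen e l) : t * g * t⁻¹ ∈ H := by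
  have : gen e l ≤ H.comap (MulAut.conj t).toMonoidHom := gen_le.2 h
  exact this hg

theorem gen_cons (e : ℕ → G) (c : ℕ) (l : List ℕ) : gen e (c :: l) = zpowers (e c) ⊔ gen e l :=
  le_antisymm (gen_le.2 fun d hd => by
    rcases List.mem_cons.1 hd with rfl | hd
    · exact mem_sup_left (mem_zpowers _)
    · exact mem_sup_right (mem_gen hd))
    (sup_le (zpowers_le.2 (mem_gen List.mem_cons_self)) (gen_mono fun _ h => List.mem_cons_of_mem _ h))

theorem gen_append (e : ℕ → G) (l l' : List ℕ) : gen e (l ++ l') = gen e l ⊔ gen e l' :=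
  le_antisymm (gen_le.2 fun d hd => by
    rcases List.mem_append.1 hd with hd | hd
    · exact mem_sup_left (mem_gen hd)
    · exact mem_sup_right (mem_gen hd))
    (sup_le (gen_mono fun _ h => List.mem_append_left _ h)
      (gen_mono fun _ h => List.mem_append_right _ h))

theorem two_cosets {K : Subgroup G} {t : G} (h2 : t * t ∈ K) (hn : ∀ k ∈ K, t * k * t⁻¹ ∈ K)
    {g : G} (hg : g ∈ zpowers t ⊔ K) : g ∈ K ∨ t⁻¹ * g ∈ K := by
  have hn' : ∀ k ∈ K, t⁻¹ * k * t ∈ K := fun k hk => by
    have := K.mul_mem (K.mul_mem (K.inv_mem h2) (hn k hk)) h2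
    convert this using 1; group
  let Y : Subgroup G :=
    { carrier := {g | g ∈ K ∨ t⁻¹ * g ∈ K}
      one_mem' := .inl K.one_mem
      mul_mem' := by
        rintro a b (ha | ha) (hb | hb)
        · exact .inl (K.mul_mem ha hb)
        · refine .inr ?_
          have := K.mul_mem (hn' a ha) hb
          convert this using 1; group
        · exact .inr (by simpa [mul_assoc] using K.mul_mem ha hb)
        · refine .inl ?_
          have := K.mul_mem (K.mul_mem (hn _ ha) h2) hb
          convert this using 1; group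
      inv_mem' := by
        rintro a (ha | ha)
        · exact .inl (K.inv_mem ha)
        · refine .inr ?_
          have := K.mul_mem (hn' _ (K.inv_mem ha)) (K.inv_mem h2)
          convert this using 1; group }
  have : zpowers t ⊔ K ≤ Y := sup_le (zpowers_le.2 (.inr (by simp))) fun k hk => .inl hk
  exact this hg

theorem PC.dich {e : ℕ → G} {c : ℕ} {l : List ℕ} (h : PC e (c :: l)) {g : G}
    (hg : g ∈ gen e (c :: l)) : g ∈ gen e l ∨ (e c)⁻¹ * g ∈ gen e l :=
  two_cosets h.2.2.1 (fun _ hk => conj_mem_gen h.2.2.2 hk) (gen_cons e c l ▸ hg)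

theorem PC.cover {e : ℕ → G} : ∀ {l : List ℕ}, PC e l → ∀ {g : G}, g ∈ gen e l →
    ∃ n < 2 ^ l.length, ev e (mw l n) = g
  | [], _, g, hg => ⟨0, by simp, by rw [gen_nil, mem_bot] at hg; exact hg.symm⟩
  | c :: l, h, g, hg => by
    rcases h.dich hg with h1 | h1
    · obtain ⟨n, h2, h3⟩ := h.1.cover h1
      exact ⟨2 * n, by rw [List.length_cons, pow_succ]; omega, by rw [mw_even, h3]⟩
    · obtain ⟨n, h2, h3⟩ := h.1.cover h1
      exact ⟨2 * n + 1, by rw [List.length_cons, pow_succ]; omega,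
        by rw [mw_odd, ev_cons, h3]; simp⟩

theorem PC.card [Finite G] {e : ℕ → G} : ∀ {l : List ℕ}, PC e l →
    Nat.card (gen e l) = 2 ^ l.length
  | [], _ => by rw [gen_nil]; simp
  | c :: l, h => by
    have hle : gen e l ≤ gen e (c :: l) := gen_mono fun _ h => List.mem_cons_of_mem _ h
    have hc : e c ∈ gen e (c :: l) := mem_gen List.mem_cons_self
    have : (gen e l).relIndex (gen e (c :: l)) = 2 := by
      rw [relIndex, index_eq_two_iff']
      refine ⟨⟨(e c)⁻¹, inv_mem hc⟩, fun b => ?_⟩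
      simp only [mem_subgroupOf, coe_mul]
      rcases h.dich b.2 with h1 | h1
      · exact .inr ⟨h1, fun h2 => h.2.1 (by simpa using (gen e l).mul_mem h1 (inv_mem h2))⟩
      · exact .inl ⟨h1, fun h2 => h.2.1 (by simpa using (gen e l).mul_mem h2 (inv_mem h1))⟩
    rw [← card_mul_relIndex hle, this, h.1.card, List.length_cons, pow_succ]

theorem PC.pi [Finite G] {e : ℕ → G} {l : List ℕ} (h : PC e l) : IsPi {2} (gen e l) :=
  isPi_of_card Nat.prime_two h.card

theorem PC.drop {e : ℕ → G} : ∀ (n : ℕ) {l : List ℕ}, PC e l → PC e (l.drop n)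
  | 0, _, h => h
  | _ + 1, [], h => h
  | n + 1, _ :: _, h => h.1.drop n

/-! ### Models -/

/-- `run` decides the word problem for the letters `e`. -/
def Iso (run : List ℕ → ℕ) (e : ℕ → G) : Prop := ∀ u v, run u = run v ↔ ev e u = ev e v

variable (run : List ℕ → ℕ) (iv : ℕ → ℕ)

noncomputable def eqW (u v : List ℕ) : Bool := Nat.beq (run u) (run v)

noncomputable def vals (l : List ℕ) : List ℕ :=
  tabN (Nat.pow 2 (lenL l)) fun n => lit n fun n => run (mw l n)

noncomputable def inP (l w : List ℕ) : Bool := lit (run w) fun y => memL y (vals run l)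

noncomputable def inV (V w : List ℕ) : Bool := lit (run w) fun y => memL y V

noncomputable def chkPC (l : List ℕ) : Bool :=
  List.rec (motive := fun _ => Bool) true (fun c l ih => and2 ih (frc (vals run l) fun V =>
    and2 (not1 (inV run V [c])) (and2 (inV run V [c, c]) (allL l fun d => inV run V [c, d, iv c])))) l

/-- The letters `cs` normalise the group of the list `l`. -/
noncomputable def chkN (cs l : List ℕ) : Bool :=
  frc (vals run l) fun V => allL cs fun c => allL l fun d => inV run V [c, d, iv c]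

/-- The list of words `W` is closed under left multiplication by the letters `l`. -/
noncomputable def chkEn (l : List ℕ) (W : List (List ℕ)) : Bool :=
  frc (mapL run W) fun V => and2 (inV run V [])
    (allL l fun c => and2 (memL (iv c) l) (allL W fun w => inV run V (c :: w)))

/-- All members of the group of the list `l` pass a test. -/
noncomputable def allP (l : List ℕ) (f : List ℕ → List ℕ → Bool) : Bool :=
  allN (Nat.pow 2 (lenL l)) fun n => lit n fun n => frc (mw l n) fun x => frc (invW iv x) (f x)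

variable {run iv} {e : ℕ → G}

@[simp] theorem inV_vals (l w : List ℕ) : inV run (vals run l) w = inP run l w := rfl

theorem Iso.eqW (h : Iso run e) {u v : List ℕ} : eqW run u v = true ↔ ev e u = ev e v :=
  H29.beq_true.trans (h u v)

theorem inP_true {l w : List ℕ} : inP run l w = true ↔ ∃ n < 2 ^ l.length, run (mw l n) = run w := by
  rw [inP, lit_eq, memL_true, vals, mem_tabN, lenL_eq]; rfl

theorem Iso.mem (h : Iso run e) {l w : List ℕ} (hw : inP run l w = true) : ev e w ∈ gen e l := by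
  obtain ⟨n, -, h1⟩ := inP_true.1 hw
  rw [← (h _ _).1 h1]
  exact ev_mem_gen (mem_mw l n)

theorem Iso.inP (h : Iso run e) {l : List ℕ} (hl : PC e l) {w : List ℕ} :
    inP run l w = true ↔ ev e w ∈ gen e l := by
  refine ⟨h.mem, fun hw => ?_⟩
  obtain ⟨n, h1, h2⟩ := hl.cover hw
  exact inP_true.2 ⟨n, h1, (h _ _).2 h2⟩

theorem Iso.pc (h : Iso run e) (hi : IvOK e iv) : ∀ {l : List ℕ}, chkPC run iv l = true → PC e l
  | [], _ => trivial
  | c :: l, hc => by
    rw [show chkPC run iv (c :: l) = and2 (chkPC run iv l) (frc (vals run l) fun V =>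
      and2 (not1 (inV run V [c])) (and2 (inV run V [c, c])
        (allL l fun d => inV run V [c, d, iv c]))) from rfl] at hc
    simp only [and2_true, frc_eq, inV_vals, not1_true, allL_true] at hc
    have h1 := h.pc hi hc.1
    simp only [h.inP h1, ev_cons, ev_nil, mul_one, hi c, ← mul_assoc] at hc
    exact ⟨h1, hc.2⟩

theorem Iso.norm [Finite G] (h : Iso run e) (hi : IvOK e iv) {cs l : List ℕ}
    (hc : chkN run iv cs l = true) : gen e cs ≤ N[gen e l] := by
  simp only [chkN, frc_eq, inV_vals, allL_true] at hc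
  refine gen_le.2 fun c h1 => mem_N_of_finite fun x hx => conj_mem_gen (fun d hd => ?_) hx
  simpa [hi c, mul_assoc] using h.mem (hc c h1 d hd)

theorem Iso.enum (h : Iso run e) (hi : IvOK e iv) {l : List ℕ} {W : List (List ℕ)}
    (hc : chkEn run iv l W = true) {g : G} (hg : g ∈ gen e l) : ∃ w ∈ W, ev e w = g := by
  simp only [chkEn, frc_eq, inV, lit_eq, allL_true, and2_true, memL_true, mapL_eq,
    List.mem_map] at hc
  obtain ⟨u, hu, rfl⟩ := exists_word hi (fun c h1 => (hc.2 c h1).1) hg
  clear hg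
  induction u with
  | nil => obtain ⟨w, h1, h2⟩ := hc.1; exact ⟨w, h1, (h _ _).1 h2⟩
  | cons c u ih =>
    obtain ⟨w, h1, h2⟩ := ih fun y hy => hu y (List.mem_cons_of_mem _ hy)
    obtain ⟨w', h3, h4⟩ := (hc.2 c (hu c List.mem_cons_self)).2 w h1
    exact ⟨w', h3, by rw [(h _ _).1 h4, ev_cons, ev_cons, h2]⟩

theorem PC.allP {l : List ℕ} (hl : PC e l) (hi : IvOK e iv) {f : List ℕ → List ℕ → Bool}
    (hc : allP iv l f = true) {g : G} (hg : g ∈ gen e l) :
    ∃ x y, ev e x = g ∧ ev e y = g⁻¹ ∧ (∀ w, ev e (sb w x y) = ev (up e g) w) ∧ f x y = true := by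
  obtain ⟨n, h1, rfl⟩ := hl.cover hg
  have := allN_true.1 hc n (by rwa [lenL_eq])
  simp only [lit_eq, frc_eq] at this
  exact ⟨_, _, rfl, ev_invW hi _, ev_sb (ev_invW hi _), this⟩

/-- Congruence modulo a normal subgroup. -/
theorem ev_up_cong {B K : Subgroup G} (hn : B ≤ N[K]) {a b : G} (ha : a ∈ B) (hb : b ∈ B)
    (hab : a * b⁻¹ ∈ K) : ∀ {w : List ℕ}, (∀ c ∈ w, c = 200 ∨ c = 201 ∨ e c ∈ B) →
      ev (up e a) w ∈ B ∧ ev (up e a) w * (ev (up e b) w)⁻¹ ∈ K
  | [], _ => by simp
  | c :: w, hw => by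
    obtain ⟨h1, h2⟩ := ev_up_cong hn ha hb hab fun y hy => hw y (List.mem_cons_of_mem _ hy)
    have key : up e a c ∈ B ∧ up e a c * (up e b c)⁻¹ ∈ K := by
      by_cases c1 : c = 200
      · subst c1; simpa using ⟨ha, hab⟩
      by_cases c2 : c = 201
      · subst c2
        refine ⟨by simpa using ha, ?_⟩
        have := conj_mem' (hn ha) (K.inv_mem hab)
        simpa [mul_assoc] using this
      · simp only [up, if_neg c1, if_neg c2, mul_inv_cancel, one_mem, and_true]
        exact ((hw c List.mem_cons_self).resolve_left c1).resolve_left c2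
    refine ⟨B.mul_mem key.1 h1, ?_⟩
    have := K.mul_mem (conj_mem (hn key.1) h2) key.2
    simp only [ev_cons]
    convert this using 1; group

theorem ev_up_mem_iff {B K : Subgroup G} (hn : B ≤ N[K]) {a b : G} (ha : a ∈ B) (hb : b ∈ B)
    (hab : a * b⁻¹ ∈ K) {w : List ℕ} (hw : ∀ c ∈ w, c = 200 ∨ c = 201 ∨ e c ∈ B)
    (h : ev (up e a) w ∈ K) : ev (up e b) w ∈ K := by
  have := K.mul_mem (K.inv_mem (ev_up_cong hn ha hb hab hw).2) h
  simpa using this

/-! ### Coset tables -/

/-- `reps[i]` sends the base point to `i`. -/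
noncomputable def chkReps (T : TCData) (reps : List (List ℕ)) : Bool :=
  and2 (eqL (nth [] reps 0) []) (allN T.N fun i => lit i fun i => frc (nth [] reps i) fun w =>
    and2 (allL w fun c => memL c T.cols) (chkPt T.nets w 0 i))

/-- The letters `e` satisfy the relators of the table `T`. -/
def Sat (T : TCData) (e : ℕ → G) : Prop :=
  T.OK ∧ ∃ e' : ℕ → G, IvOK e' T.iv ∧ (∀ r ∈ T.R, ev e' r = 1) ∧ ∀ c ∈ T.cols, e' c = e c

theorem sat_of {G : Type} [Group G] {e : ℕ → G} {T : TCData} (hT : T.OK)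
    (hii : ∀ c, T.iv (T.iv c) = c) {R : List (List ℕ)} (hd : Derives T.iv R T.R)
    (h0 : (allL R fun r => allL r fun c => memL c T.cols) = true)
    (h1 : ∀ c ∈ T.cols, e c * e (T.iv c) = 1) (h2 : ∀ r ∈ R, ev e r = 1) : Sat T e := by
  classical
  simp only [allL_true, memL_true] at h0
  have hi : IvOK (fun c => if c ∈ T.cols then e c else 1) T.iv := fun c => by
    by_cases hc : c ∈ T.cols
    · simp only [if_pos hc, if_pos (hT.col c hc).1]
      exact eq_inv_of_mul_eq_one_right (h1 c hc)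
    · have : T.iv c ∉ T.cols := fun h => hc (hii c ▸ (hT.col _ h).1)
      simp only [if_neg hc, if_neg this, inv_one]
  refine ⟨hT, _, hi, hd G _ hi fun r hr => ?_, fun c hc => if_pos hc⟩
  rw [← h2 r hr]
  exact ev_congr fun c hc => if_pos (h0 r hr c hc)

namespace Sat

variable {T : TCData}

theorem inv_eq (h : Sat T e) {c : ℕ} (hc : c ∈ T.cols) : e (T.iv c) = (e c)⁻¹ := by
  obtain ⟨hT, e', hi, -, he⟩ := h
  rw [← he c hc, ← he _ (hT.col c hc).1, hi]

theorem word (h : Sat T e) {g : G} (hg : g ∈ gen e T.cols) :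
    ∃ w : List ℕ, (∀ c ∈ w, c ∈ T.cols) ∧ ev e w = g := by
  obtain ⟨hT, e', hi, -, he⟩ := h
  rw [← gen_congr he] at hg
  obtain ⟨w, h1, h2⟩ := exists_word hi (fun c hc => (hT.col c hc).1) hg
  exact ⟨w, h1, by rw [← h2]; exact (ev_congr fun c hc => he c (h1 c hc)).symm⟩

theorem invW_mem (h : Sat T e) {w : List ℕ} (hw : ∀ c ∈ w, c ∈ T.cols) :
    ∀ c ∈ invW T.iv w, c ∈ T.cols := fun c hc => by
  rw [invW_eq, List.mem_reverse, List.mem_map] at hc
  obtain ⟨y, hy, rfl⟩ := hc
  exact (h.1.col y (hw y hy)).1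

theorem ev_invW (h : Sat T e) {w : List ℕ} (hw : ∀ c ∈ w, c ∈ T.cols) :
    ev e (invW T.iv w) = (ev e w)⁻¹ := by
  have h1 := h.invW_mem hw
  obtain ⟨-, e', hi, -, he⟩ := h
  rw [← ev_congr fun c hc => he c (h1 c hc), ← ev_congr fun c hc => he c (hw c hc), H29.ev_invW hi]

theorem coset (h : Sat T e) {u v : List ℕ} (hu : ∀ c ∈ u, c ∈ T.cols) (hv : ∀ c ∈ v, c ∈ T.cols)
    (h0 : ev (sg T.nets) u 0 = ev (sg T.nets) v 0) : (ev e u)⁻¹ * ev e v ∈ gen e T.hcols := by
  obtain ⟨hT, e', hi, hR, he⟩ := h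
  rw [← ev_congr fun c hc => he c (hu c hc), ← ev_congr fun c hc => he c (hv c hc),
    ← gen_congr fun c hc => he c (hT.tree.hsub c hc)]
  have h1 := hT.ev_smul hi hR (H := gen e' T.hcols) (fun c hc => mem_gen hc) hu hT.tree.pos
  have h2 := hT.ev_smul hi hR (H := gen e' T.hcols) (fun c hc => mem_gen hc) hv hT.tree.pos
  rw [h0, ← h2, TCData.coset_zero, MulAction.Quotient.smul_coe, MulAction.Quotient.smul_coe,
    QuotientGroup.eq] at h1
  simpa using h1

theorem bd (h : Sat T e) {n : ℕ} (hb : Bd (gen e T.hcols) n) : Bd (gen e T.cols) (T.N * n) := by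
  obtain ⟨hT, e', hi, hR, he⟩ := h
  rw [← gen_congr he]
  rw [← gen_congr fun c hc => he c (hT.tree.hsub c hc)] at hb
  exact hT.bd hi hR hb

theorem mem_of_fix (h : Sat T e) {w : List ℕ}
    (hc : and2 (allL w fun c => memL c T.cols) (chkPt T.nets w 0 0) = true) :
    ev e w ∈ gen e T.hcols := by
  simp only [and2_true, allL_true, memL_true] at hc
  simpa using h.coset (u := []) (by simp) hc.1 (pt_of_chk h.1.basic.nets hc.2).symm

theorem cover (h : Sat T e) {reps : List (List ℕ)} (hc : chkReps T reps = true) {g : G}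
    (hg : g ∈ gen e T.cols) : ∃ i < T.N, (ev e (nth [] reps i))⁻¹ * g ∈ gen e T.hcols := by
  simp only [chkReps, allN_true, lit_eq, frc_eq, and2_true, allL_true, memL_true] at hc
  obtain ⟨w, hw, rfl⟩ := h.word hg
  have h1 := h.1.ev_lt hw h.1.tree.pos
  exact ⟨_, h1, h.coset (hc.2 _ h1).1 hw (pt_of_chk h.1.basic.nets (hc.2 _ h1).2)⟩

theorem tight (h : Sat T e) {reps : List (List ℕ)} (hc : chkReps T reps = true) {K : Subgroup G}
    (h1 : gen e T.hcols ≤ K) (h2 : ∀ i < T.N, i ≠ 0 → ev e (nth [] reps i) ∈ K →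
      ev e (nth [] reps i) ∈ gen e T.hcols)
    {g : G} (hg : g ∈ gen e T.cols) (hK : g ∈ K) : g ∈ gen e T.hcols := by
  obtain ⟨i, a1, a2⟩ := h.cover hc hg
  by_cases h0 : i = 0
  · subst h0
    rw [eqL_true (and2_true.1 hc).1] at a2
    simpa using a2
  have := h2 i a1 h0 (by simpa using K.mul_mem hK (K.inv_mem (h1 a2)))
  simpa using (gen e T.hcols).mul_mem this a2

theorem card [Finite G] (h : Sat T e) {reps : List (List ℕ)} (hc : chkReps T reps = true)
    (h2 : ∀ i < T.N, i ≠ 0 → ev e (nth [] reps i) ∉ gen e T.hcols) :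
    Nat.card (gen e T.cols) = T.N * Nat.card (gen e T.hcols) := by
  refine le_antisymm (h.bd ⟨inferInstance, le_rfl⟩).2 ?_
  have hT := h.1
  simp only [chkReps, allN_true, lit_eq, frc_eq, and2_true, allL_true, memL_true] at hc
  replace hc := hc.2
  have hle : gen e T.hcols ≤ gen e T.cols := gen_mono hT.tree.hsub
  let φ : Fin T.N × gen e T.hcols → gen e T.cols := fun p =>
    ⟨ev e (nth [] reps p.1) * p.2, mul_mem (ev_mem_gen (hc _ p.1.2).1) (hle p.2.2)⟩
  have hφ : Function.Injective φ := by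
    rintro ⟨i, a⟩ ⟨j, b⟩ hab
    simp only [φ, Subtype.mk.injEq] at hab
    have hw : ∀ c ∈ invW T.iv (nth [] reps j) ++ nth [] reps i, c ∈ T.cols := fun c h' =>
      (List.mem_append.1 h').elim (h.invW_mem (hc _ j.2).1 c) ((hc _ i.2).1 c)
    have h3 := hT.ev_lt hw hT.tree.pos
    have h4 := h.coset (hc _ h3).1 hw (pt_of_chk hT.basic.nets (hc _ h3).2)
    have h5 : ev e (invW T.iv (nth [] reps j) ++ nth [] reps i) ∈ gen e T.hcols := by
      rw [ev_append, h.ev_invW (hc _ j.2).1, show (ev e (nth [] reps j))⁻¹ * ev e (nth [] reps i) =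
        b * (a : G)⁻¹ by rw [inv_mul_eq_iff_eq_mul, ← mul_assoc, ← hab]; simp]
      exact mul_mem b.2 (inv_mem a.2)
    have h6 : ev (sg T.nets) (invW T.iv (nth [] reps j) ++ nth [] reps i) 0 = 0 := by
      by_contra h7
      exact h2 _ h3 h7 (by simpa [mul_assoc] using (gen e T.hcols).mul_mem h5 (inv_mem h4))
    rw [ev_append, H29.ev_invW hT.basic.iv, Equiv.Perm.mul_apply, Equiv.Perm.inv_eq_iff_eq,
      pt_of_chk hT.basic.nets (hc _ i.2).2, pt_of_chk hT.basic.nets (hc _ j.2).2] at h6
    obtain rfl : i = j := Fin.ext h6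
    rw [Subtype.ext (mul_left_cancel hab)]
  simpa using Nat.card_le_card_of_injective φ hφ

end Sat

/-- The word `w` does not normalise the group of one of the lists `Vs`. -/
noncomputable def notN (run : List ℕ → ℕ) (iv : ℕ → ℕ) (Vs : List (List ℕ)) (w : List ℕ) : Bool :=
  frc w fun w => frc (invW iv w) fun wi =>
    anyL Vs fun V => anyL V fun d => not1 (inP run V (app w (d :: wi)))

/-- The common normaliser. -/
def NV (e : ℕ → G) (Vs : List (List ℕ)) : Subgroup G := ⨅ V ∈ Vs, N[gen e V]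

theorem mem_NV {Vs : List (List ℕ)} {g : G} : g ∈ NV e Vs ↔ ∀ V ∈ Vs, g ∈ N[gen e V] := by
  simp [NV, mem_iInf]

theorem Iso.notN (h : Iso run e) (hi : IvOK e iv) {Vs : List (List ℕ)}
    (hV : allL Vs (chkPC run iv) = true) {w : List ℕ} (hc : notN run iv Vs w = true) :
    ev e w ∉ NV e Vs := fun hw => by
  simp only [KM.notN, frc_eq, anyL_true, not1_true, app_eq] at hc
  obtain ⟨V, h1, d, h2, h3⟩ := hc
  rw [h.inP (h.pc hi (allL_true.1 hV V h1)), ev_append, ev_cons, ev_invW hi, ← mul_assoc] at h3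
  exact h3 (conj_mem (mem_NV.1 hw V h1) (mem_gen h2))

theorem Iso.le_NV [Finite G] (h : Iso run e) (hi : IvOK e iv) {Vs : List (List ℕ)} {cs : List ℕ}
    (hc : allL Vs (chkN run iv cs) = true) : gen e cs ≤ NV e Vs := fun _ hg =>
  mem_NV.2 fun V hV => h.norm hi (allL_true.1 hc V hV) hg

/-- The data for a step of a tight chain. -/
noncomputable def chkTight (run : List ℕ → ℕ) (iv : ℕ → ℕ) (T : TCData) (reps Vs : List (List ℕ)) :
    Bool :=
  and2 (and2 (chkReps T reps) (and2 (allL Vs (chkPC run iv)) (allL Vs (chkN run iv T.hcols))))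
    (allN T.N fun i => lit i fun i => or2 (Nat.beq i 0) (notN run iv Vs (nth [] reps i)))

theorem Iso.tight [Finite G] (h : Iso run e) (hi : IvOK e iv) {T : TCData} (hT : Sat T e)
    {reps Vs : List (List ℕ)} (hc : chkTight run iv T reps Vs = true) :
    Nat.card (gen e T.cols) = T.N * Nat.card (gen e T.hcols) ∧
      ∀ g ∈ gen e T.cols, g ∈ NV e Vs → g ∈ gen e T.hcols := by
  simp only [chkTight, and2_true, allN_true, lit_eq, or2_true, H29.beq_true] at hc
  obtain ⟨⟨c1, c2, c3⟩, c4⟩ := hc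
  have a1 := h.le_NV hi c3
  have a2 : ∀ i < T.N, i ≠ 0 → ev e (nth [] reps i) ∉ NV e Vs := fun i h1 h2 =>
    h.notN hi c2 ((c4 i h1).resolve_left h2)
  exact ⟨hT.card c1 fun i h1 h2 h3 => a2 i h1 h2 (a1 h3),
    fun g h1 h2 => hT.tight c1 a1 (fun i h3 h4 h5 => absurd h5 (a2 i h3 h4)) h1 h2⟩

/-! ### Orbits under conjugation -/

/-- The list is strictly increasing. -/
noncomputable def incr (l : List ℕ) : ℕ → Bool :=
  List.rec (motive := fun _ => ℕ → Bool) (fun _ => true)
    (fun a _ ih b => lit a fun a => and2 (Nat.ble (Nat.succ b) a) (ih a)) l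

theorem incr_spec : ∀ (l : List ℕ) (b : ℕ), incr l b = true → (∀ a ∈ l, b < a) ∧ l.Nodup
  | [], _, _ => by simp
  | a :: l, b, h => by
    rw [show incr (a :: l) b = and2 (Nat.ble (Nat.succ b) a) (incr l a) from rfl, and2_true,
      ble_true] at h
    obtain ⟨h1, h2⟩ := incr_spec l a h.2
    refine ⟨fun y hy => ?_, List.nodup_cons.2 ⟨fun hy => lt_irrefl _ (h1 a hy), h2⟩⟩
    rcases List.mem_cons.1 hy with rfl | hy
    · exact h.1
    · exact lt_trans h.1 (h1 y hy)

noncomputable def chkOrb (run : List ℕ → ℕ) (iv : ℕ → ℕ) (l : List ℕ) (v : List ℕ)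
    (W : List (List ℕ)) : Bool :=
  and2 (allL W fun w => allL w fun c => memL c l)
    (incr (mapL (fun w => run (app w (app v (invW iv w)))) W) 0)

theorem Iso.orbit [Finite G] (h : Iso run e) (hi : IvOK e iv) {l v : List ℕ} {W : List (List ℕ)}
    (hc : chkOrb run iv l v W = true) :
    W.length * Nat.card ↥(gen e l ⊓ C{ev e v}) ≤ Nat.card (gen e l) := by
  simp only [chkOrb, and2_true, allL_true, memL_true, mapL_eq, app_eq] at hc
  have hn := (incr_spec _ _ hc.2).2
  let φ : Fin W.length × ↥(gen e l ⊓ C{ev e v}) → gen e l := fun p =>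
    ⟨ev e W[p.1] * p.2, mul_mem (ev_mem_gen (hc.1 _ (List.getElem_mem _))) p.2.2.1⟩
  have hφ : Function.Injective φ := by
    rintro ⟨i, a⟩ ⟨j, b⟩ hab
    simp only [φ, Subtype.mk.injEq] at hab
    have h1 : run (W[i] ++ (v ++ invW iv W[i])) = run (W[j] ++ (v ++ invW iv W[j])) := by
      rw [h, ev_append, ev_append, ev_append, ev_append, ev_invW hi, ev_invW hi]
      have a1 := mem_C1_iff_conj.1 a.2.2
      have a2 := mem_C1_iff_conj.1 b.2.2
      calc _ = ev e W[i] * a * ev e v * (ev e W[i] * a)⁻¹ := by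
            conv_lhs => rw [← a1]
            group
        _ = _ := by
            rw [hab]
            conv_rhs => rw [← a2]
            group
    have h2 : (i : ℕ) = j := by
      refine (List.Nodup.getElem_inj_iff hn (i := i) (j := j) (hi := by simp) (hj := by simp)).1 ?_
      simpa using h1
    obtain rfl : i = j := Fin.ext h2
    rw [Subtype.ext (mul_left_cancel hab)]
  simpa using Nat.card_le_card_of_injective φ hφ

end

end H15.KM
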