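import Mathlib
import Cfsg.Agent.H24.Base5
import Cfsg.Agent.H12.Replace
import Cfsg.Agent.H6.BaerSuzuki
import Cfsg.Agent.H21.OddInv

/-!
# Groups without elements of order `2p`: basic facts
-/

set_option autoImplicit false
set_option linter.unusedSectionVars false
set_option linter.style.haveILetI false

namespace H15.CIT

open H24 Cfsg Subgroup

variable {G : Type*} [Group G]

/-- every element of even order is a `2`-element. -/
def IsCIT (G : Type*) [Group G] : Prop := ∀ y : G, Even (orderOf y) → PiElt {2} y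

/-- `2`-subgroup. -/
abbrev T2 (H : Subgroup G) : Prop := IsPi {2} H

/-- `2`-element. -/
abbrev E2 (x : G) : Prop := PiElt {2} x

/-- exponent at most two. -/
def EA (A : Subgroup G) : Prop := ∀ x ∈ A, x * x = 1

/-- `Ω₁(Z(H))`. -/
def OZ (H : Subgroup G) : Subgroup G := omegaOne 2 Z[H]

theorem p2 : Nat.Prime 2 := Nat.prime_two

theorem mem_OZ {H : Subgroup G} {x : G} : x ∈ OZ H ↔ x ∈ H ∧ x ∈ C[H] ∧ x * x = 1 := by
  rw [OZ, H12.mem_omega_center_iff, pow_two]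

theorem EA.inv {A : Subgroup G} (h : EA A) {x : G} (hx : x ∈ A) : x⁻¹ = x :=
  inv_eq_of_mul_eq_one_right (h x hx)

theorem EA.comm {A : Subgroup G} (h : EA A) {x y : G} (hx : x ∈ A) (hy : y ∈ A) : x * y = y * x := by
  have := h.inv (A.mul_mem hx hy)
  rw [mul_inv_rev, h.inv hx, h.inv hy] at this
  exact this.symm

theorem EA.le_C {A : Subgroup G} (h : EA A) : A ≤ C[A] := le_C_iff.2 fun _ ha _ hb => h.comm ha hb

theorem EA.of_le {A B : Subgroup G} (h : EA A) (hB : B ≤ A) : EA B := fun x hx => h x (hB hx)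

theorem ea_iff {A : Subgroup G} : IsElementaryAbelian 2 A ↔ EA A := by
  rw [H12.isEA_iff]
  exact ⟨fun h x hx => by rw [← pow_two]; exact h.2 x hx,
    fun h => ⟨fun x hx y hy => h.comm hx hy, fun x hx => by rw [pow_two]; exact h x hx⟩⟩

theorem EA.sup {A B : Subgroup G} (hA : EA A) (hB : EA B) (h : A ≤ C[B]) : EA (A ⊔ B) :=
  ea_iff.1 (H12.ea_sup (ea_iff.2 hA) (ea_iff.2 hB) h)

theorem EA.cj {A : Subgroup G} (h : EA A) (g : G) : EA (cj g A) := by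
  intro x hx
  obtain ⟨y, hy, rfl⟩ := mem_cj'.1 hx
  calc g * y * g⁻¹ * (g * y * g⁻¹) = g * (y * y) * g⁻¹ := by group
    _ = 1 := by rw [h y hy]; group

theorem e2_of_sq {x : G} (h : x * x = 1) : E2 x :=
  piElt_of_pow_eq_one (n := 2) (piNat_self p2) (by rw [pow_two, h])

theorem EA.t2 [Finite G] {A : Subgroup G} (h : EA A) : T2 A :=
  isPi_iff_piElt.2 fun x hx => e2_of_sq (h x hx)

theorem ea_OZ (H : Subgroup G) : EA (OZ H) := fun _ hx => (mem_OZ.1 hx).2.2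

theorem OZ_le (H : Subgroup G) : OZ H ≤ H := fun _ hx => (mem_OZ.1 hx).1

theorem OZ_le_C (H : Subgroup G) : OZ H ≤ C[H] := fun _ hx => (mem_OZ.1 hx).2.1

theorem le_C_OZ (H : Subgroup G) : H ≤ C[OZ H] := cents_symm (OZ_le_C H)

theorem OZ_ne_bot [Finite G] {H : Subgroup G} (h : T2 H) (h1 : H ≠ ⊥) : OZ H ≠ ⊥ :=
  haveI : Fact (Nat.Prime 2) := ⟨p2⟩
  H12.omega_center_ne_bot (h.isPGroup p2) h1

theorem cj_OZ (g : G) (H : Subgroup G) : cj g (OZ H) = OZ (cj g H) := by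
  ext x
  rw [mem_cj, mem_OZ, mem_OZ, ← cj_C, mem_cj, mem_cj]
  refine and_congr Iff.rfl (and_congr Iff.rfl ?_)
  rw [show g⁻¹ * x * g * (g⁻¹ * x * g) = g⁻¹ * (x * x) * g⁻¹⁻¹ by group, conj_eq_one_iff']

theorem norm_OZ {X H : Subgroup G} (h : X ≤ N[H]) : X ≤ N[OZ H] := fun g hg => by
  rw [mem_N_iff_cj, cj_OZ, cj_of_mem_N (h hg)]

theorem EA.OZ_eq {A : Subgroup G} (h : EA A) : OZ A = A :=
  le_antisymm (OZ_le A) fun x hx => mem_OZ.2 ⟨hx, h.le_C hx, h x hx⟩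

theorem orderOf_eq_two {x : G} (h1 : x ≠ 1) (h : x * x = 1) : orderOf x = 2 :=
  orderOf_eq_prime (by rw [pow_two, h]) h1

theorem sq_of_orderOf {x : G} (h : orderOf x = 2) : x * x = 1 := by
  rw [← pow_two, ← h, pow_orderOf_eq_one]

theorem ne_one_of_orderOf {x : G} (h : orderOf x = 2) : x ≠ 1 := by
  rintro rfl; simp at h

theorem e2_odd_eq_one {x : G} (h : E2 x) (ho : Odd (orderOf x)) : x = 1 := by
  by_contra h1
  exact (Nat.not_even_iff_odd.2 ho) (even_iff_two_dvd.2 (h.dvd_orderOf h1))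

theorem piElt_compl_of_odd {x : G} (ho : Odd (orderOf x)) : PiElt {2}ᶜ x :=
  (piNat_compl_singleton p2).2 fun h => (Nat.not_even_iff_odd.2 ho) (even_iff_two_dvd.2 h)

theorem odd_of_piElt_compl {x : G} (h : PiElt {2}ᶜ x) : Odd (orderOf x) :=
  Nat.not_even_iff_odd.1 fun h' => (piNat_compl_singleton p2).1 h (even_iff_two_dvd.1 h')

theorem e2_of_sq_e2 [Finite G] {x : G} (h : E2 (x * x)) : E2 x := by
  obtain ⟨k, hk⟩ := h.exists_pow p2
  refine piElt_of_pow_eq_one (n := 2 ^ (k + 1)) (piNat_self_pow p2 _) ?_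
  rw [pow_succ', pow_mul, pow_two, ← hk, pow_orderOf_eq_one]

/-- a `2`-element outside `Q` has a power outside `Q` with square in `Q`. -/
theorem exists_sq_mem [Finite G] {Q : Subgroup G} {t : G} (ht : E2 t) (h : t ∉ Q) :
    ∃ s ∈ zpowers t, s ∉ Q ∧ s * s ∈ Q := by
  obtain ⟨k, hk⟩ := ht.exists_pow p2
  have key : ∀ n : ℕ, t ^ 2 ^ n ∈ Q → ∃ s ∈ zpowers t, s ∉ Q ∧ s * s ∈ Q := by
    intro n
    induction n with
    | zero => intro h'; simp at h'; exact absurd h' h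
    | succ n ih =>
      intro h'
      by_cases h2 : t ^ 2 ^ n ∈ Q
      · exact ih h2
      · exact ⟨t ^ 2 ^ n, npow_mem_zpowers _ _, h2, by rwa [← pow_two, ← pow_mul, ← pow_succ]⟩
  exact key k (by rw [← hk, pow_orderOf_eq_one]; exact Q.one_mem)

theorem exists_invol_zpowers [Finite G] {t : G} (ht : E2 t) (h : t ≠ 1) :
    ∃ s ∈ zpowers t, s ≠ 1 ∧ s * s = 1 := by
  simpa using exists_sq_mem (Q := ⊥) ht (by simpa using h)

theorem exists_invol [Finite G] {Q : Subgroup G} (h : T2 Q) (h1 : Q ≠ ⊥) :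
    ∃ s ∈ Q, s ≠ 1 ∧ s * s = 1 := by
  obtain ⟨x, hx, hx1⟩ := exists_ne_one h1
  obtain ⟨s, hs, h2⟩ := exists_invol_zpowers (h.piElt hx) hx1
  exact ⟨s, (zpowers_le.2 hx) hs, h2⟩

theorem exists_fix [Finite G] {X V : Subgroup G} (hX : T2 X) (hV : T2 V) (hn : X ≤ N[V])
    (h1 : V ≠ ⊥) : ∃ v ∈ V, v ≠ 1 ∧ v ∈ C[X] := by
  obtain ⟨v, hv, hv1⟩ := exists_ne_one (IsPi.inf_C_ne_bot p2 hX hV hn h1)
  exact ⟨v, hv.1, hv1, hv.2⟩

theorem cit_of [Finite G]
    (h : ∀ t : G, orderOf t = 2 → IsPGroup 2 (Subgroup.centralizer ({t} : Set G))) : IsCIT G := by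
  intro y hy
  obtain ⟨m, h1, h2⟩ := H21.exists_invol_pow_of_not_odd (isOfFinOrder_of_finite y)
    (Nat.not_odd_iff_even.2 hy)
  exact (isPi_of_isPGroup p2 (h _ (orderOf_eq_two h1 h2))).piElt
    (mem_C1.2 (Commute.self_pow y m).eq)

namespace IsCIT

variable [Finite G] (hG : IsCIT G)
include hG

theorem odd {x : G} (h : ¬ E2 x) : Odd (orderOf x) :=
  Nat.not_even_iff_odd.1 fun h' => h (hG x h')

theorem cent {t : G} (h1 : t ≠ 1) (ht : E2 t) : T2 C{t} := by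
  refine isPi_iff_piElt.2 fun x hx => ?_
  by_contra h
  have ho := hG.odd h
  have hc : t * x = x * t := (mem_C1.1 hx).symm
  have hcop : (orderOf t).Coprime (orderOf x) := ht.coprime (piElt_compl_of_odd ho)
  have h2 : E2 (t * x) := by
    apply hG
    rw [Commute.orderOf_mul_eq_mul_orderOf_of_coprime hc hcop]
    exact (even_iff_two_dvd.2 (ht.dvd_orderOf h1)).mul_right _
  exact h (h2.of_mem_zpowers (mem_zpowers_mul_right hc hcop))

theorem centS {Q : Subgroup G} (h : T2 Q) (h1 : Q ≠ ⊥) : T2 C[Q] := by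
  obtain ⟨x, hx, hx1⟩ := exists_ne_one h1
  exact (hG.cent hx1 (h.piElt hx)).of_le (C_le_C1 hx)

theorem eq_one_of_comm {t x : G} (ht : E2 t) (hx : ¬ E2 x) (h : x * t = t * x) : t = 1 := by
  by_contra h1
  exact hx ((hG.cent h1 ht).piElt (mem_C1.2 h))

theorem eq_one_of_odd {t x : G} (ht : E2 t) (h1 : t ≠ 1) (hx : Odd (orderOf x))
    (h : x * t = t * x) : x = 1 :=
  e2_odd_eq_one ((hG.cent h1 ht).piElt (mem_C1.2 h)) hx

theorem quo (K : Subgroup G) : IsCIT (QN K) := by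
  intro z hz
  obtain ⟨y, rfl⟩ := coset_surjective K z
  have h1 : Even (orderOf y) := by
    have := orderOf_map_dvd (coset K) y
    exact even_iff_two_dvd.2 ((even_iff_two_dvd.1 hz).trans this)
  have h2 : E2 (y : G) := hG _ (by rwa [Subgroup.orderOf_coe])
  have h3 : E2 y := by
    have := h2
    unfold E2 PiElt at this ⊢
    rwa [Subgroup.orderOf_coe] at this
  exact h3.map _

end IsCIT

/-- the elements that centralise `t` modulo `Q`. -/
noncomputable def cm (Q : Subgroup G) (t : G) : Subgroup G := coq Q C{cs Q t}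

theorem mem_cm {Q : Subgroup G} {t x : G} (ht : t ∈ N[Q]) :
    x ∈ cm Q t ↔ x ∈ N[Q] ∧ t⁻¹ * (x * t * x⁻¹) ∈ Q := by
  rw [cm, mem_coq]
  refine and_congr_right fun hx => ?_
  rw [mem_C1_iff_conj, eq_comm, ← cs_eq_cs ht (N[Q].mul_mem (N[Q].mul_mem hx ht) (N[Q].inv_mem hx))]
  have : cs Q (x * t * x⁻¹) = cs Q x * cs Q t * (cs Q x)⁻¹ := by
    rw [cs, ap_mul _ (N[Q].mul_mem hx ht) (N[Q].inv_mem hx), ap_mul _ hx ht, ap_inv _ hx]
  rw [this]

theorem IsCIT.cm_t2 [Finite G] (hG : IsCIT G) {Q : Subgroup G} {t : G} (hQ : T2 Q) (ht : E2 t)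
    (hN : t ∈ N[Q]) (h : t ∉ Q) : T2 (cm Q t) := by
  refine IsPi.coq hQ ((hG.quo Q).cent (fun h1 => h ((cs_eq_one hN).1 h1)) ?_)
  have : E2 (⟨t, hN⟩ : N[Q]) := by
    unfold E2 PiElt at ht ⊢
    rwa [← Subgroup.orderOf_coe]
  have h2 := this.map (coset Q)
  rwa [cs, ap_of_mem _ hN]

/-! ### counting conjugates -/

theorem relIndex_le_of_conj [Finite G] {X W : Subgroup G} {v : G}
    (h : ∀ a ∈ X, v⁻¹ * (a * v * a⁻¹) ∈ W) :
    C{v}.relIndex X ≤ Nat.card W ∧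
      (Nat.card W ≤ C{v}.relIndex X → ∀ w ∈ W, ∃ a ∈ X, a * v * a⁻¹ = v * w) := by
  classical
  let f : X ⧸ C{v}.subgroupOf X → W := fun q =>
    ⟨v⁻¹ * ((q.out : G) * v * (q.out : G)⁻¹), h _ q.out.2⟩
  have hf : Function.Injective f := by
    intro q q' e
    have e1 : (q.out : G) * v * (q.out : G)⁻¹ = (q'.out : G) * v * (q'.out : G)⁻¹ :=
      mul_left_cancel (congrArg Subtype.val e)
    rw [← q.out_eq, ← q'.out_eq]
    refine QuotientGroup.eq.2 ?_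
    rw [Subgroup.mem_subgroupOf, mem_C1_iff_conj]
    push_cast
    calc (q.out : G)⁻¹ * q'.out * v * ((q.out : G)⁻¹ * q'.out)⁻¹
        = (q.out : G)⁻¹ * ((q'.out : G) * v * (q'.out : G)⁻¹) * q.out := by group
      _ = v := by rw [← e1]; group
  refine ⟨Nat.card_le_card_of_injective f hf, fun hle w hw => ?_⟩
  have hb : Function.Bijective f := hf.bijective_of_nat_card_le hle
  obtain ⟨q, hq⟩ := hb.2 ⟨w, hw⟩
  refine ⟨q.out, q.out.2, ?_⟩
  have := congrArg Subtype.val hq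
  simp only [f] at this
  rw [← this]; group

theorem card_le_of_conj [Finite G] {X W : Subgroup G} {v : G}
    (h : ∀ a ∈ X, v⁻¹ * (a * v * a⁻¹) ∈ W) :
    Nat.card X ≤ Nat.card ↥(X ⊓ C{v}) * Nat.card W := by
  rw [← card_inf_mul_relIndex C{v} X, inf_comm]
  exact Nat.mul_le_mul_left _ (relIndex_le_of_conj h).1

theorem exists_conj_of_card [Finite G] {X W : Subgroup G} {v : G}
    (h : ∀ a ∈ X, v⁻¹ * (a * v * a⁻¹) ∈ W)
    (hc : Nat.card ↥(X ⊓ C{v}) * Nat.card W ≤ Nat.card X) :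
    ∀ w ∈ W, ∃ a ∈ X, a * v * a⁻¹ = v * w := by
  refine (relIndex_le_of_conj h).2 ?_
  rw [← card_inf_mul_relIndex C{v} X, inf_comm] at hc
  exact Nat.le_of_mul_le_mul_left hc (card_pos _)

/-- a fixed-point-free element is conjugate to every element of its coset. -/
theorem IsCIT.exists_conj [Finite G] (hG : IsCIT G) {Q : Subgroup G} (hQ : T2 Q) {x : G}
    (hx : ¬ E2 x) (hN : x ∈ N[Q]) : ∀ w ∈ Q, ∃ a ∈ Q, a * x * a⁻¹ = x * w := by
  refine exists_conj_of_card (fun a ha => ?_) ?_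
  · rw [show x⁻¹ * (a * x * a⁻¹) = (x⁻¹ * a * x) * a⁻¹ by group]
    exact Q.mul_mem (conj_mem' hN ha) (Q.inv_mem ha)
  · have : Q ⊓ C{x} = ⊥ := by
      rw [eq_bot_iff]
      intro u hu
      exact mem_bot.2 (hG.eq_one_of_comm (hQ.piElt hu.1) hx (mem_C1.1 hu.2).symm)
    rw [this]; simp

/-! ### Baer–Suzuki and the action of an involution -/

theorem exists_not_t2 [Finite G] {P : Subgroup G} {a : G} (ha : a ∈ P) (h : a ∉ O[{2}, P]) :
    ∃ x ∈ P, ¬ T2 (closure {a, x * a * x⁻¹}) := by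
  haveI : Fact (Nat.Prime 2) := ⟨p2⟩
  by_contra hc
  push Not at hc
  obtain ⟨N, hN, hN2, haN⟩ := H6.baer_suzuki_elem (p := 2) (⟨a, ha⟩ : P) fun g => by
    have h1 := hc g g.2
    rw [← isPi_iff_isPGroup p2, ← isPi_map_iff P.subtype_injective, MonoidHom.map_closure,
      Set.image_pair]
    exact h1
  apply h
  exact pcore_max ((isPi_of_isPGroup p2 hN2).map _) (nml_map_subtype N) ⟨_, haN, rfl⟩

theorem card_mul_le_of_inf [Finite G] {A B U : Subgroup G} (hA : A ≤ U) (hB : B ≤ U)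
    (hn : B ≤ N[A]) (h : A ⊓ B = ⊥) : Nat.card A * Nat.card B ≤ Nat.card U := by
  rw [← card_sup_of_inf hn h]
  exact card_le (sup_le hA hB)

/-- the action of an element `a ∉ O₂(P)` of order two on a normal elementary abelian subgroup. -/
theorem IsCIT.half [Finite G] (hG : IsCIT G) {P U : Subgroup G} {a : G} (ha : a ∈ P)
    (h : a ∉ O[{2}, P]) (hU : EA U) (hn : P ≤ N[U]) (ha2 : a * a ∈ C[U]) :
    Nat.card U = Nat.card ↥(U ⊓ C{a}) ^ 2 ∧
      (∀ c ∈ U ⊓ C{a}, ∃ u ∈ U, a * u * a⁻¹ = u * c) ∧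
      ∃ x ∈ P, cj x (U ⊓ C{a}) ⊓ (U ⊓ C{a}) = ⊥ := by
  obtain ⟨x, hx, h2⟩ := exists_not_t2 ha h
  have hb : cj x (U ⊓ C{a}) ⊓ (U ⊓ C{a}) = ⊥ := by
    rw [eq_bot_iff]
    intro u hu
    rw [cj_inf, cj_C1] at hu
    by_contra h1
    apply h2
    refine (hG.cent h1 (hU.t2.piElt hu.2.1)).of_le ((closure_le _).2 ?_)
    rintro y (rfl | rfl)
    · exact mem_C1_comm.1 hu.2.2
    · exact mem_C1_comm.1 hu.1.2
  have hle : Nat.card ↥(U ⊓ C{a}) * Nat.card ↥(U ⊓ C{a}) ≤ Nat.card U := by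
    have := card_mul_le_of_inf (U := U) (cj_le_of_mem_N inf_le_left (hn hx)) inf_le_left
      (norm_of_cent (cents_of_le (inf_le_left.trans hU.le_C)
        (cj_le_of_mem_N inf_le_left (hn hx)))) hb
    rwa [card_cj] at this
  have hk : ∀ u ∈ U, a⁻¹ * (u * a * u⁻¹) ∈ U ⊓ C{a} := by
    intro u hu
    have h3 : a⁻¹ * u * a ∈ U := conj_mem' (hn ha) hu
    have h4 : a * u * a⁻¹ ∈ U := conj_mem (hn ha) hu
    have h5 : a⁻¹ * u * a = a * u * a⁻¹ := by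
      have := mem_C.1 ha2 u hu
      calc a⁻¹ * u * a = a⁻¹ * (u * (a * a)) * a⁻¹ := by group
        _ = a * u * a⁻¹ := by rw [this]; group
    refine ⟨by rw [show a⁻¹ * (u * a * u⁻¹) = (a⁻¹ * u * a) * u⁻¹ by group]
               exact U.mul_mem h3 (U.inv_mem hu), ?_⟩
    refine mem_C1_comm.1 (mem_C1_iff_conj.2 ?_)
    calc a * (a⁻¹ * (u * a * u⁻¹)) * a⁻¹ = u * (a * u * a⁻¹)⁻¹ := by group
      _ = (a * u * a⁻¹) * u⁻¹ := by rw [hU.inv h4, hU.inv hu, hU.comm hu h4]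
      _ = a⁻¹ * (u * a * u⁻¹) := by rw [← h5]; group
  refine ⟨le_antisymm (by rw [pow_two]; exact card_le_of_conj hk) (by rw [pow_two]; exact hle),
    fun c hc => ?_, x, hx, hb⟩
  obtain ⟨u, hu, e⟩ := exists_conj_of_card hk hle c hc
  refine ⟨u, hu, ?_⟩
  have hc1 : c * a = a * c := mem_C1.1 hc.2
  have h4 : a * u * a⁻¹ ∈ U := conj_mem (hn ha) hu
  calc a * u * a⁻¹ = (a * u * a⁻¹)⁻¹ := (hU.inv h4).symm
    _ = u⁻¹ * (u * a * u⁻¹) * a⁻¹ := by group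
    _ = u⁻¹ * (c * a) * a⁻¹ := by rw [e, hc1]
    _ = u * c := by rw [hU.inv hu]; group

/-- an involution in the coset `Q a`. -/
theorem IsCIT.exists_invol [Finite G] (hG : IsCIT G) {P : Subgroup G} {a : G} (ha : a ∈ P)
    (h : a ∉ O[{2}, P]) (ha2 : a * a ∈ O[{2}, P]) :
    ∃ u ∈ O[{2}, P], (u * a) * (u * a) = 1 := by
  obtain ⟨x, hx, h2⟩ := exists_not_t2 ha h
  set Q := O[{2}, P] with hQ
  have hQ2 : T2 Q := pcore_pi _ _
  have hn : P ≤ N[Q] := (pcore_nml _ _).norm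
  set b := x * a * x⁻¹ with hb
  have hbP : b ∈ P := P.mul_mem (P.mul_mem hx ha) (P.inv_mem hx)
  have hb2 : b * b ∈ Q := by
    rw [show b * b = x * (a * a) * x⁻¹ by rw [hb]; group]
    exact conj_mem (hn hx) ha2
  have hy : ¬ E2 (a * b) := by
    intro hy
    apply h2
    -- the image of `⟨a, b⟩` modulo `Q` is a dihedral 2-group
    obtain ⟨k, hk⟩ := hy.exists_pow p2
    have e1 : cs Q a * cs Q a = 1 := by
      rw [cs, ← ap_mul _ (hn ha) (hn ha)]; exact cs_of_mem ha2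
    have e2 : cs Q b * cs Q b = 1 := by
      rw [cs, ← ap_mul _ (hn hbP) (hn hbP)]; exact cs_of_mem hb2
    have e3 : (cs Q a * cs Q b) ^ 2 ^ k = 1 := by
      rw [cs, ← ap_mul _ (hn ha) (hn hbP), ← ap_pow _ (hn (P.mul_mem ha hbP)), ← hk,
        pow_orderOf_eq_one, ap_one]
    have h3 := isPi_of_isPGroup p2 (H6.isPGroup_closure_pair e1 e2 e3)
    refine (IsPi.coq hQ2 h3).of_le ((closure_le _).2 ?_)
    rintro y (rfl | rfl)
    · exact mem_coq.2 ⟨hn ha, subset_closure (by simp)⟩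
    · exact mem_coq.2 ⟨hn hbP, subset_closure (by simp)⟩
  have hyi : ¬ E2 (a * b)⁻¹ := fun h' => hy (by simpa using h'.inv)
  have hw : (a * b)⁻¹⁻¹ * (a * (a * b) * a⁻¹) ∈ Q := by
    rw [show (a * b)⁻¹⁻¹ * (a * (a * b) * a⁻¹) = a * ((b * (a * a) * b⁻¹) * (b * b)) * a⁻¹ by group]
    exact conj_mem (hn ha) (Q.mul_mem (conj_mem (hn hbP) ha2) hb2)
  obtain ⟨u, hu, e⟩ := hG.exists_conj hQ2 hyi (hn (P.inv_mem (P.mul_mem ha hbP))) _ hw
  have e' : (u⁻¹ * a) * (a * b) * (u⁻¹ * a)⁻¹ = (a * b)⁻¹ := by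
    calc (u⁻¹ * a) * (a * b) * (u⁻¹ * a)⁻¹
        = u⁻¹ * ((a * b)⁻¹ * ((a * b)⁻¹⁻¹ * (a * (a * b) * a⁻¹))) * u := by group
      _ = (a * b)⁻¹ := by rw [← e]; group
  refine ⟨u⁻¹, Q.inv_mem hu, hG.eq_one_of_comm (hQ2.piElt ?_) hy ?_⟩
  · rw [show u⁻¹ * a * (u⁻¹ * a) = u⁻¹ * (a * u⁻¹ * a⁻¹) * (a * a) by group]
    exact Q.mul_mem (Q.mul_mem (Q.inv_mem hu) (conj_mem (hn ha) (Q.inv_mem hu))) ha2
  · generalize u⁻¹ * a = n at e'
    generalize a * b = y at e'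
    have : n * y⁻¹ * n⁻¹ = y := by
      rw [show n * y⁻¹ * n⁻¹ = (n * y * n⁻¹)⁻¹ by group, e', inv_inv]
    calc y * (n * n) = (n * y⁻¹ * n⁻¹) * (n * n) := by rw [this]
      _ = n * (n * y * n⁻¹) * n := by rw [e']; group
      _ = n * n * y := by group

end H15.CIT
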