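import Mathlib
import Cfsg.Agent.H22.SylIn
import Cfsg.Agent.H13.Basic

/-!
# An involution `t` with `C(t, z)` of shape `(2 × 2^(1+2n)).X`: local lemmas
-/

set_option autoImplicit false
set_option linter.all false

namespace H15.BF
open Subgroup H22

variable {G : Type*} [Group G]

/-- Membership in the four-group generated by `t` and `z`. -/
def W (t z g : G) : Prop := g = 1 ∨ g = t ∨ g = z ∨ g = t * z

/-- The local data: `M` has index at most two in `C(t)`, `R = ⟨t⟩ × 2^(1+2n)` is normal in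
`C_M(z)`, `y` is a point collinear with `z`. -/
structure Loc (t z y : G) (M R : Subgroup G) : Prop where
  tt : t * t = 1
  t1 : t ≠ 1
  zz : z * z = 1
  z1 : z ≠ 1
  zt : z ≠ t
  tR : t ∈ R
  zR : z ∈ R
  yR : y ∈ R
  RM : R ≤ M
  Mt : ∀ m ∈ M, m * t = t * m
  Mn : ∀ g, g * t = t * g → ∀ m ∈ M, g * m * g⁻¹ ∈ M
  Mi : ∀ g h, g * t = t * g → h * t = t * h → g ∉ M → h ∉ M → g * h ∈ M
  Rz : ∀ r ∈ R, r * z = z * r
  nR : ∀ m ∈ M, m * z = z * m → ∀ r ∈ R, m * r * m⁻¹ ∈ R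
  cm : ∀ a ∈ R, ∀ b ∈ R, a * b = b * a ∨ a * b = b * a * z
  sq : ∀ r ∈ R, r * r = 1 ∨ r * r = z
  cen : ∀ g ∈ R, (∀ r ∈ R, g * r = r * g) → W t z g
  ex : ∀ d ∈ R, ∃ a ∈ R, ∃ b ∈ R, a * d = d * a ∧ b * d = d * b ∧ a * b ≠ b * a
  syl : ∀ P : Subgroup G, P ≤ M → IsPGroup 2 P →
    ∃ m ∈ M, ∀ p ∈ P, m * p * m⁻¹ * z = z * (m * p * m⁻¹)
  yz : ∃ m ∈ M, m * z * m⁻¹ = y ∧ m⁻¹ * z * m ∈ R
  yW : ¬ W t z y
  ncy : ∃ m ∈ M, m * z = z * m ∧ y * (m * y * m⁻¹) ≠ m * y * m⁻¹ * y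
  mf : ∀ a ∈ M, a * a = 1 → ∃ m ∈ M, m * a * m⁻¹ ∈ R
  rk : ∀ a, a * t = t * a → a * z = z * a → a * a ∈ R → ∀ e1 ∈ R, ∀ e2 ∈ R, ∀ e3 ∈ R,
    (∀ r ∈ R, a * r * a⁻¹ * r⁻¹ ∈ closure ({z, e1, e2, e3} : Set G)) → a ∈ R

/-- Membership in `⟨t, z, e⟩`. -/
def W3 (t z e g : G) : Prop := W t z g ∨ W t z (g * e)

theorem cj_of_cm {a b : G} (h : a * b = b * a) : a * b * a⁻¹ = b := by rw [h]; group
theorem cm_of_cj {a b : G} (h : a * b * a⁻¹ = b) : a * b = b * a := by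
  rw [mul_inv_eq_iff_eq_mul] at h; exact h
theorem cm_cj {n a b : G} : n⁻¹ * a * n * b = b * (n⁻¹ * a * n) ↔
    a * (n * b * n⁻¹) = n * b * n⁻¹ * a := by
  constructor <;> intro h
  · calc a * (n * b * n⁻¹) = n * (n⁻¹ * a * n * b) * n⁻¹ := by group
      _ = _ := by rw [h]; group
  · calc n⁻¹ * a * n * b = n⁻¹ * (a * (n * b * n⁻¹)) * n := by group
      _ = _ := by rw [h]; group

theorem W.cm {t z w g : G} (h : W t z w) (h1 : g * t = t * g) (h2 : g * z = z * g) :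
    g * w = w * g := by
  rcases h with rfl | rfl | rfl | rfl
  exacts [by simp, h1, h2, (Commute.mul_right h1 h2 : Commute g _)]

namespace Loc
variable {t z y : G} {M R : Subgroup G} (L : Loc t z y M R)
include L

theorem Rt {r : G} (h : r ∈ R) : r * t = t * r := L.Mt r (L.RM h)
theorem tz : t * z = z * t := L.Rz t L.tR
theorem ti : t⁻¹ = t := inv_eq_of_mul_eq_one_right L.tt
theorem zi : z⁻¹ = z := inv_eq_of_mul_eq_one_right L.zz

theorem W_mul {a b : G} (ha : W t z a) (hb : W t z b) : W t z (a * b) := by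
  have e1 : t * (t * z) = z := by rw [← mul_assoc, L.tt, one_mul]
  have e2 : z * (t * z) = t := by rw [L.tz, ← mul_assoc, L.zz, one_mul]
  have e3 : t * z * t = z := by rw [mul_assoc, ← L.tz, e1]
  have e4 : t * z * z = t := by rw [mul_assoc, L.zz, mul_one]
  have e5 : t * z * (t * z) = 1 := by rw [← mul_assoc, e3, L.zz]
  have e6 := L.tz.symm
  have e7 := L.tt
  have e8 := L.zz
  unfold W at *
  rcases ha with h | h | h | h <;> rcases hb with k | k | k | k <;> rw [h, k] <;>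
    simp only [one_mul, mul_one, e1, e2, e3, e4, e5, e6, e7, e8, true_or, or_true]

theorem W_sq {a : G} (ha : W t z a) : a * a = 1 := by
  rcases ha with h | h | h | h <;> rw [h]
  exacts [one_mul 1, L.tt, L.zz, by
    rw [mul_assoc, ← mul_assoc z, ← L.tz, mul_assoc t z, L.zz, mul_one, L.tt]]

theorem W_inv {a : G} (ha : W t z a) : a⁻¹ = a := inv_eq_of_mul_eq_one_right (L.W_sq ha)

/-- The four-group as a subgroup. -/
def WS : Subgroup G where
  carrier := {g | W t z g}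
  mul_mem' := L.W_mul
  one_mem' := Or.inl rfl
  inv_mem' h := by rwa [Set.mem_setOf_eq, L.W_inv h]

theorem mem_WS {g : G} : g ∈ L.WS ↔ W t z g := Iff.rfl

theorem W_R {a : G} (ha : W t z a) : a ∈ R := by
  rcases ha with h | h | h | h <;> rw [h]
  exacts [R.one_mem, L.tR, L.zR, R.mul_mem L.tR L.zR]

theorem W_cm {w r : G} (h : W t z w) (hr : r ∈ R) : r * w = w * r := h.cm (L.Rt hr) (L.Rz r hr)

theorem cjR {a b : G} (ha : a ∈ R) (hb : b ∈ R) : a * b * a⁻¹ = b ∨ a * b * a⁻¹ = b * z := by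
  rcases L.cm a ha b hb with h | h
  · exact Or.inl (cj_of_cm h)
  · right
    rw [h, mul_assoc b, L.Rz a ha]; group

theorem two : IsPGroup 2 R := isPGroup_iff_forall_mem.2 fun a ha => ⟨2, by
  have : a ^ 2 ^ 2 = a * a * (a * a) := by rw [show 2 ^ 2 = 4 from rfl]; simp [pow_succ, mul_assoc]
  rcases L.sq a ha with h | h <;> rw [this, h]
  exacts [one_mul 1, L.zz]⟩

theorem cm2 {r r0 e : G} (hr : r ∈ R) (h0 : r0 ∈ R) (he : e ∈ R) (a : r * e ≠ e * r)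
    (b : r0 * e ≠ e * r0) : r0⁻¹ * r * e = e * (r0⁻¹ * r) := by
  have h1 := (L.cjR hr he).resolve_left fun h => a (cm_of_cj h)
  have h2 := (L.cjR h0 he).resolve_left fun h => b (cm_of_cj h)
  apply cm_of_cj
  calc r0⁻¹ * r * e * (r0⁻¹ * r)⁻¹ = r0⁻¹ * (r * e * r⁻¹) * r0 := by group
    _ = e := by rw [h1, ← h2]; group

theorem W3_R {e g : G} (he : e ∈ R) (h : W3 t z e g) : g ∈ R := by
  rcases h with h | h
  · exact L.W_R h
  · exact (R.mul_mem_cancel_right he).1 (L.W_R h)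

omit L in
theorem W3_cm {e w g : G} (h : W3 t z e w) (h1 : g * t = t * g) (h2 : g * z = z * g)
    (h3 : g * e = e * g) : g * w = w * g := by
  rcases h with h | h
  · exact h.cm h1 h2
  · have := h.cm h1 h2
    rw [← mul_assoc, mul_assoc w, ← h3, ← mul_assoc] at this
    exact mul_right_cancel this

theorem W3_mul {e a b : G} (he : e ∈ R) (ee : e * e = 1) (ha : W3 t z e a) (hb : W3 t z e b) :
    W3 t z e (a * b) := by
  have c := W3_cm hb (L.Rt he) (L.Rz e he) rfl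
  rcases ha with h | h <;> rcases hb with k | k
  · exact Or.inl (L.W_mul h k)
  · exact Or.inr (by rw [mul_assoc]; exact L.W_mul h k)
  · exact Or.inr (by rw [mul_assoc, ← c, ← mul_assoc]; exact L.W_mul h k)
  · left
    have := L.W_mul h k
    rwa [← c, mul_assoc a, ← mul_assoc e, ee, one_mul] at this

theorem cen1 {e g : G} (he : e ∈ R) (hg : g ∈ R) (h : ∀ r ∈ R, r * e = e * r → g * r = r * g) :
    W3 t z e g := by
  by_cases h1 : ∀ r ∈ R, g * r = r * g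
  · exact Or.inl (L.cen g hg h1)
  push Not at h1
  obtain ⟨r0, h0, h1⟩ := h1
  have h2 : r0 * e ≠ e * r0 := fun k => h1 (h r0 h0 k)
  refine Or.inr (L.cen _ (R.mul_mem hg he) fun r hr => ?_)
  have k0 : r0 * (g * e) * r0⁻¹ = g * e := by
    have a := (L.cjR h0 hg).resolve_left fun k => h1 (cm_of_cj k).symm
    have b := (L.cjR h0 he).resolve_left fun k => h2 (cm_of_cj k)
    calc r0 * (g * e) * r0⁻¹ = (r0 * g * r0⁻¹) * (r0 * e * r0⁻¹) := by group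
      _ = g * (z * e) * z := by rw [a, b]; group
      _ = g * e := by rw [← L.Rz e he, mul_assoc g, mul_assoc e, L.zz, mul_one]
  have k1 : ∀ r ∈ R, r * e = e * r → g * e * r = r * (g * e) := fun r hr k => by
    rw [mul_assoc, ← k, ← mul_assoc, h r hr k, mul_assoc]
  by_cases h3 : r * e = e * r
  · exact k1 r hr h3
  · have := k1 _ (R.mul_mem (R.inv_mem h0) hr) (L.cm2 hr h0 he h3 h2)
    calc g * e * r = r0 * (g * e) * r0⁻¹ * r := by rw [k0]
      _ = r0 * (g * e * (r0⁻¹ * r)) := by group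
      _ = _ := by rw [this]; group

/-- No Siegel elements. -/
theorem sieg {e : G} (he : e ∈ R) (ee : e * e = 1) (k : ℕ) : ∀ (a : G), a ^ 2 ^ k ∈ R →
    a * t = t * a → a * z = z * a → a * e = e * a → (∀ r ∈ R, a * r * a⁻¹ ∈ R) →
    (∀ r ∈ R, r * e = e * r → W3 t z e (a * r * a⁻¹ * r⁻¹)) → a ∈ R := by
  induction k with
  | zero => intro a h _ _ _ _ _; simpa using h
  | succ k ih =>
    intro a h h1 h2 h3 h4 h5
    have c : ∀ {x}, a * x = x * a → a * a * x = x * (a * a) := fun h =>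
      (Commute.mul_left h h : Commute (a * a) _)
    have h6 : a * a ∈ R := ih (a * a) (by rwa [← _root_.sq, ← pow_mul, ← pow_succ']) (c h1) (c h2)
      (c h3) (fun r hr => by
        have := h4 _ (h4 r hr)
        rwa [show a * (a * r * a⁻¹) * a⁻¹ = a * a * r * (a * a)⁻¹ by group] at this) fun r hr k => by
        have a1 := h5 r hr k
        have a2 := cj_of_cm (W3_cm a1 h1 h2 h3)
        rw [show a * a * r * (a * a)⁻¹ * r⁻¹ = a * (a * r * a⁻¹ * r⁻¹) * a⁻¹ *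
          (a * r * a⁻¹ * r⁻¹) by group, a2]
        exact L.W3_mul he ee a1 a1
    obtain ⟨r0, h0, h7⟩ : ∃ r0 ∈ R, ∀ r ∈ R, r * e ≠ e * r → r0 * e ≠ e * r0 := by
      by_cases h7 : ∃ r ∈ R, r * e ≠ e * r
      · obtain ⟨r, a, b⟩ := h7
        exact ⟨r, a, fun _ _ _ => b⟩
      · exact ⟨1, R.one_mem, fun r a b => absurd ⟨r, a, b⟩ h7⟩
    refine L.rk a h1 h2 h6 t L.tR e he _ (R.mul_mem (h4 r0 h0) (R.inv_mem h0)) fun r hr => ?_
    set K := closure ({z, t, e, a * r0 * a⁻¹ * r0⁻¹} : Set G)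
    have kz : z ∈ K := subset_closure (by simp)
    have kt : t ∈ K := subset_closure (by simp)
    have ke : e ∈ K := subset_closure (by simp)
    have k0 : a * r0 * a⁻¹ * r0⁻¹ ∈ K := subset_closure (by simp)
    have kW : ∀ w, W t z w → w ∈ K := fun w hw => by
      rcases hw with h | h | h | h <;> rw [h]
      exacts [K.one_mem, kt, kz, K.mul_mem kt kz]
    have k3 : ∀ w, W3 t z e w → w ∈ K := fun w hw =>
      hw.elim (kW w) fun h => (K.mul_mem_cancel_right ke).1 (kW _ h)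
    by_cases h8 : r * e = e * r
    · exact k3 _ (h5 r hr h8)
    · have a1 := h5 _ (R.mul_mem (R.inv_mem h0) hr) (L.cm2 hr h0 he h8 (h7 r hr h8))
      rw [show a * r * a⁻¹ * r⁻¹ = a * r0 * a⁻¹ * r0⁻¹ *
        (r0 * (a * (r0⁻¹ * r) * a⁻¹ * (r0⁻¹ * r)⁻¹) * r0⁻¹) by group]
      refine K.mul_mem k0 ?_
      rcases L.cjR h0 (L.W3_R he a1) with h | h <;> rw [h]
      exacts [k3 _ a1, K.mul_mem (k3 _ a1) kz]

theorem sieg0 {k : ℕ} {a : G} (h : a ^ 2 ^ k = 1) (h1 : a * t = t * a) (h2 : a * z = z * a)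
    (h5 : ∀ r ∈ R, W t z (a * r * a⁻¹ * r⁻¹)) : a ∈ R :=
  L.sieg R.one_mem (one_mul 1) k a (h ▸ R.one_mem) h1 h2 (by simp)
    (fun r hr => (R.mul_mem_cancel_right (R.inv_mem hr)).1 (L.W_R (h5 r hr)))
    fun r hr _ => Or.inl (h5 r hr)

theorem zT {k : ℕ} {a : G} (h : a ^ 2 ^ k = 1) (h5 : ∀ r ∈ R, a * r = r * a) : W t z a :=
  L.cen a (L.sieg0 h (h5 t L.tR) (h5 z L.zR) fun r hr => Or.inl (by rw [h5 r hr]; group)) h5

/-- The key lemma. -/
theorem key {e r : G} (he : e ∈ R) (ee : e * e = 1) {U : Subgroup G} (hU : ∀ u ∈ U, W3 t z e u)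
    (hz : z ∉ U) {k : ℕ} (hr : r ^ 2 ^ k = 1)
    (h1 : ∀ a ∈ R, a * e = e * a → r * a * r⁻¹ * a⁻¹ ∈ U)
    (h2 : r * z = z * r → r * t = t * r ∧ r * e = e * r ∧ ∀ a ∈ R, r * a * r⁻¹ ∈ R) :
    W3 t z e r := by
  obtain ⟨a, ha, b, hb, a1, b1, c⟩ := L.ex e he
  have c1 := (L.cm a ha b hb).resolve_left c
  have cU : ∀ u ∈ U, ∀ a ∈ R, a * e = e * a → a * u = u * a := fun u hu a ha k =>
    W3_cm (hU u hu) (L.Rt ha) (L.Rz a ha) k
  have h3 : r * z = z * r := by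
    apply cm_of_cj
    obtain ⟨u, hu, eu⟩ : ∃ u ∈ U, r * a * r⁻¹ = u * a := ⟨_, h1 a ha a1, by group⟩
    obtain ⟨v, hv, ev⟩ : ∃ v ∈ U, r * b * r⁻¹ = v * b := ⟨_, h1 b hb b1, by group⟩
    have uR := L.W3_R he (hU u hu)
    have e1 : r * a * r⁻¹ * (r * b * r⁻¹) = r * b * r⁻¹ * (r * a * r⁻¹) * (r * z * r⁻¹) := by
      calc _ = r * (a * b) * r⁻¹ := by group
        _ = _ := by rw [c1]; group
    have e2 : u * a * (v * b) = u * v * (a * b) := by
      rw [mul_assoc u, ← mul_assoc a, cU v hv a ha a1]; group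
    have e3 : v * b * (u * a) = u * v * (b * a) := by
      rw [mul_assoc v, ← mul_assoc b, cU u hu b hb b1,
        cU v hv u uR (W3_cm (hU u hu) (L.Rt he) (L.Rz e he) rfl).symm]; group
    rw [eu, ev, e2, e3, c1, ← mul_assoc] at e1
    exact (mul_left_cancel e1).symm
  obtain ⟨h4, h5, h6⟩ := h2 h3
  have h7 := L.sieg he ee k r (hr ▸ R.one_mem) h4 h3 h5 h6 fun a ha k => hU _ (h1 a ha k)
  refine L.cen1 he h7 fun a ha k => ?_
  rcases L.cjR h7 ha with h | h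
  · exact cm_of_cj h
  · have := h1 a ha k
    rw [h, L.Rz a ha, mul_inv_cancel_right] at this
    exact absurd this hz

theorem yy : y * y = 1 := by
  obtain ⟨m, -, h, -⟩ := L.yz
  rw [← h, show m * z * m⁻¹ * (m * z * m⁻¹) = m * (z * z) * m⁻¹ by group, L.zz]; group

theorem fixu : ∃ S : Subgroup G, S ≤ M ∧ IsPGroup 2 S ∧ (∀ a ∈ S, a * z = z * a) ∧
    ∀ r ∈ R, (∀ a ∈ S, W t z (r * a * r⁻¹ * a⁻¹)) → W3 t z y r := by
  obtain ⟨m, hm, h, h'⟩ := L.yz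
  have mt := L.Mt m hm
  have mt' : m⁻¹ * t * m = t := by rw [mul_assoc, ← mt]; group
  refine ⟨cj m R ⊓ centralizer {z}, fun a ha => ?_, (isPGroup_cj L.two m).to_inf_left,
    fun a ha => mem_centralizer_singleton_iff.1 ha.2, fun r hr h1 => ?_⟩
  · have := L.Mn m mt _ (L.RM (mem_cj.1 ha.1))
    rwa [show m * (m⁻¹ * a * m) * m⁻¹ = a by group] at this
  obtain ⟨k, hk⟩ := isPGroup_iff_forall_mem.1 L.two r hr
  have ee : m⁻¹ * z * m * (m⁻¹ * z * m) = 1 := by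
    rw [show m⁻¹ * z * m * (m⁻¹ * z * m) = m⁻¹ * (z * z) * m by group, L.zz]; group
  have := L.key (r := m⁻¹ * r * m) h' ee (U := cj m⁻¹ L.WS) (k := k) (fun u hu => ?_) ?_
    (by rw [show m⁻¹ * r * m = m⁻¹ * r * m⁻¹⁻¹ by group, conj_pow, hk]; group) (fun a ha k => ?_)
    fun k => ?_
  · have e1 : ∀ w, W t z w → W3 t z y (m * w * m⁻¹) := fun w hw => by
      rcases hw with k | k | k | k <;> rw [k]
      · exact Or.inl (Or.inl (by group))
      · exact Or.inl (Or.inr (Or.inl (cj_of_cm mt)))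
      · exact Or.inr (Or.inl (by rw [h, L.yy]))
      · refine Or.inr (Or.inr (Or.inl ?_))
        rw [show m * (t * z) * m⁻¹ = m * t * m⁻¹ * (m * z * m⁻¹) by group, cj_of_cm mt, h,
          mul_assoc, L.yy, mul_one]
    rcases this with k | k
    · have := e1 _ k
      rwa [show m * (m⁻¹ * r * m) * m⁻¹ = r by group] at this
    · have := L.W3_mul L.yR L.yy (e1 _ k) (Or.inl (Or.inr (Or.inr (Or.inl rfl))))
      rwa [show m * (m⁻¹ * r * m * (m⁻¹ * z * m)) * m⁻¹ * z = r * (z * z) by group, L.zz,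
        mul_one] at this
  · rw [mem_cj, inv_inv, mem_WS] at hu
    have e : u = m⁻¹ * (m * u * m⁻¹) * m := by group
    rcases hu with k | k | k | k <;> rw [e, k]
    · exact Or.inl (Or.inl (by group))
    · exact Or.inl (Or.inr (Or.inl mt'))
    · exact Or.inr (Or.inl ee)
    · refine Or.inr (Or.inr (Or.inl ?_))
      rw [show m⁻¹ * (t * z) * m = m⁻¹ * t * m * (m⁻¹ * z * m) by group, mt', mul_assoc, ee,
        mul_one]
  · rw [mem_cj, inv_inv, mem_WS, h]; exact L.yW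
  · rw [mem_cj, inv_inv, mem_WS, show m * (m⁻¹ * r * m * a * (m⁻¹ * r * m)⁻¹ * a⁻¹) * m⁻¹ =
      r * (m * a * m⁻¹) * r⁻¹ * (m * a * m⁻¹)⁻¹ by group]
    exact h1 _ ⟨conj_mem_cj ha, mem_centralizer_singleton_iff.2 (cm_cj.1 k.symm).symm⟩
  · have hM : m⁻¹ * r * m ∈ M := M.mul_mem (M.mul_mem (M.inv_mem hm) (L.RM hr)) hm
    refine ⟨L.Mt _ hM, cm_cj.2 ?_, L.nR _ hM k⟩
    rw [show m * (m⁻¹ * z * m) * m⁻¹ = z by group]; exact L.Rz r hr

variable [Finite G]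

theorem fixK {T K S : Subgroup G} (hT : IsPGroup 2 T) (hS : S ≤ T) (hK : K ≤ R)
    (h : ∀ r ∈ R, (∀ a ∈ S, W t z (r * a * r⁻¹ * a⁻¹)) → W3 t z y r)
    (hn : ∀ a ∈ T, ∀ k ∈ K, a * k * a⁻¹ ∈ K) (hW : ¬ K ≤ L.WS) :
    ∃ k ∈ K, W t z (k * y) ∧ ∀ a ∈ T, W t z (k * a * k⁻¹ * a⁻¹) := by
  have : Fact (Nat.Prime 2) := ⟨Nat.prime_two⟩
  have n1 : T ≤ normalizer (K : Set G) := fun a ha => mem_normalizer_of_conj_mem (hn a ha)
  obtain ⟨k, k1, k2, k3⟩ := H13.exists_not_mem_commutator_mem (K := T ⊔ K) (U := K) (H := L.WS)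
    (isPGroup_sup_of_le_normalizer hT (L.two.to_le hK) n1).isNilpotent le_sup_right
    (sup_le n1 le_normalizer) hW
  have k4 : ∀ a ∈ T, W t z (k * a * k⁻¹ * a⁻¹) := fun a ha => (k3 a (mem_sup_left ha)).1
  exact ⟨k, k1, (h k (hK k1) fun a ha => k4 a (hS ha)).resolve_left k2, k4⟩

theorem fixY {T S : Subgroup G} (hT : IsPGroup 2 T) (hS : S ≤ T)
    (h : ∀ r ∈ R, (∀ a ∈ S, W t z (r * a * r⁻¹ * a⁻¹)) → W3 t z y r)
    (hn : ∀ a ∈ T, a * t = t * a ∧ a * z = z * a ∧ ∀ k ∈ R, a * k * a⁻¹ ∈ R) :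
    ∀ a ∈ T, W t z (y * a * y⁻¹ * a⁻¹) := by
  obtain ⟨k, k1, k2, k3⟩ := L.fixK hT hS le_rfl h (fun a ha => (hn a ha).2.2)
    fun k => L.yW (k L.yR)
  intro a ha
  have e1 := k2.cm (hn a ha).1 (hn a ha).2.1
  have e2 : k = k * y * y := by rw [mul_assoc, L.yy, mul_one]
  have yi : y⁻¹ = y := inv_eq_of_mul_eq_one_right L.yy
  have := k3 a ha
  generalize k * y = w at *
  have e3 := L.W_cm k2 L.yR
  rwa [e2, show w * y * a * (w * y)⁻¹ * a⁻¹ = w * (y * a * y⁻¹) * w⁻¹ * a⁻¹ by group,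
    cj_of_cm (show w * (y * a * y⁻¹) = y * a * y⁻¹ * w from
      ((Commute.mul_left (Commute.mul_left e3 e1) (Commute.inv_left e3)) :
        Commute (y * a * y⁻¹) w).symm)] at this

/-- Normal 2-subgroups lie in `R`. -/
theorem o2 {N : Subgroup G} (hN : IsPGroup 2 N)
    (h1 : ∀ a ∈ N, a * t = t * a ∧ a * z = z * a ∧ ∀ k ∈ R, a * k * a⁻¹ ∈ R)
    (h2 : ∀ m ∈ M, m * z = z * m → ∀ a ∈ N, m * a * m⁻¹ ∈ N) : N ≤ R := by
  obtain ⟨S, s1, s2, s3, s4⟩ := L.fixu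
  have n1 : S ≤ normalizer (N : Set G) := fun a ha =>
    mem_normalizer_of_conj_mem (h2 a (s1 ha) (s3 a ha))
  have hy := L.fixY (isPGroup_sup_of_le_normalizer s2 hN n1) le_sup_left s4 fun a ha => by
    obtain ⟨b, hb, c, hc, rfl⟩ := (mem_sup_of_le_normalizer n1).1 ha
    refine ⟨(Commute.mul_left (L.Mt b (s1 hb)) (h1 c hc).1 : Commute _ _),
      (Commute.mul_left (s3 b hb) (h1 c hc).2.1 : Commute _ _), fun k hk => ?_⟩
    have := L.nR b (s1 hb) (s3 b hb) _ ((h1 c hc).2.2 k hk)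
    rwa [show b * (c * k * c⁻¹) * b⁻¹ = b * c * k * (b * c)⁻¹ by group] at this
  have inv : ∀ m, m * z = z * m → m⁻¹ * z = z * m⁻¹ := fun m h => (Commute.inv_left h : Commute _ _)
  let K : Subgroup G := R ⊓ centralizer {g | ∃ m ∈ M, m * z = z * m ∧ g = m * y * m⁻¹}
  have mK : ∀ k, k ∈ K ↔ k ∈ R ∧ ∀ m ∈ M, m * z = z * m → m * y * m⁻¹ * k = k * (m * y * m⁻¹) :=
    fun k => and_congr_right fun _ => ⟨fun h m a b => h _ ⟨m, a, b, rfl⟩,
      fun h _ ⟨m, a, b, e⟩ => e ▸ h m a b⟩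
  have hK : K ≤ L.WS := by
    by_contra hW
    obtain ⟨k, k1, k2, -⟩ := L.fixK s2 le_rfl (inf_le_left : K ≤ R) s4 (fun a ha k hk => by
      obtain ⟨a1, a2⟩ := (mK k).1 hk
      refine (mK _).2 ⟨L.nR a (s1 ha) (s3 a ha) k a1, fun m b c => ?_⟩
      have := a2 (a⁻¹ * m) (M.mul_mem (M.inv_mem (s1 ha)) b)
        (Commute.mul_left (inv a (s3 a ha)) c : Commute _ _)
      rw [show a⁻¹ * m * y * (a⁻¹ * m)⁻¹ = a⁻¹ * (m * y * m⁻¹) * a by group] at this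
      exact cm_cj.1 this) hW
    obtain ⟨m, a, b, c⟩ := L.ncy
    have e1 := ((mK k).1 k1).2 m a b
    have e2 := L.W_cm k2 (L.nR m a b y L.yR)
    rw [← mul_assoc, e1, mul_assoc k, mul_assoc k] at e2
    exact c (mul_left_cancel e2).symm
  intro a ha
  obtain ⟨k, hk⟩ := isPGroup_iff_forall_mem.1 hN a ha
  refine L.sieg0 hk (h1 a ha).1 (h1 a ha).2.1 fun r hr => hK ((mK _).2
    ⟨R.mul_mem ((h1 a ha).2.2 r hr) (R.inv_mem hr), fun m b c => ?_⟩)
  have yR := L.nR m b c y L.yR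
  obtain ⟨w, hw, e⟩ : ∃ w, W t z w ∧ a⁻¹ * (m * y * m⁻¹) * a = w * (m * y * m⁻¹) := by
    have a1 := h2 m⁻¹ (M.inv_mem b) (inv m c) _ (N.inv_mem ha)
    have a2 := L.W_inv (hy _ (mem_sup_right a1)) ▸ hy _ (mem_sup_right a1)
    refine ⟨_, a2, ?_⟩
    have a3 := cj_of_cm (a2.cm (L.Mt m b) c)
    rw [← a3]; group
  generalize m * y * m⁻¹ = v at *
  have c1 := L.W_cm hw hr
  have c2 := (h1 a ha).2.1
  have c3 := L.Rz r hr
  symm
  apply cm_of_cj
  have e0 : a * r * a⁻¹ * r⁻¹ * v * (a * r * a⁻¹ * r⁻¹)⁻¹ =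
      a * r * a⁻¹ * (r⁻¹ * v * r) * (a * r * a⁻¹)⁻¹ := by group
  have e1 : a * r * a⁻¹ * v * (a * r * a⁻¹)⁻¹ = a * (w * (r * v * r⁻¹)) * a⁻¹ := by
    calc _ = a * (r * (a⁻¹ * v * a) * r⁻¹) * a⁻¹ := by group
      _ = _ := by rw [e, ← mul_assoc r, c1]; group
  have e2 : a * (w * v) * a⁻¹ = v := by rw [← e]; group
  have c4 : a * r * a⁻¹ * z = z * (a * r * a⁻¹) := L.Rz _ ((h1 a ha).2.2 r hr)
  rcases L.cjR hr yR with h | h
  · rw [e0, show r⁻¹ * v * r = v by rw [mul_assoc, ← cm_of_cj h]; group, e1, h, e2]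
  · have h' : r⁻¹ * v * r = v * z := by
      calc r⁻¹ * v * r = r⁻¹ * (v * z) * (z * r) := by
            rw [mul_assoc r⁻¹ (v * z), mul_assoc v, ← mul_assoc z, L.zz]; group
        _ = r⁻¹ * (r * v * r⁻¹) * (r * z) := by rw [h, c3]
        _ = _ := by group
    calc _ = a * r * a⁻¹ * v * (a * r * a⁻¹)⁻¹ * (a * r * a⁻¹ * z * (a * r * a⁻¹)⁻¹) := by
          rw [e0, h']; group
      _ = a * (w * v) * a⁻¹ * (a * z * a⁻¹) * z := by rw [e1, h, cj_of_cm c4]; group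
      _ = v := by rw [e2, cj_of_cm c2, mul_assoc, L.zz, mul_one]

end Loc
end H15.BF
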