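import Mathlib
import Cfsg.Agent.H15.BF1

/-!
# An involution `t` with `C(t, z)` of shape `(2 × 2^(1+2n)).X`: Sylow subgroups, inner conjugates
-/

set_option autoImplicit false
set_option linter.all false

namespace H15.BF
open Subgroup H22

variable {G : Type*} [Group G]

theorem mc {a g : G} : g ∈ centralizer ({a} : Set G) ↔ g * a = a * g :=
  mem_centralizer_singleton_iff
theorem cm_inv {a b : G} (h : a * b = b * a) : a⁻¹ * b = b * a⁻¹ := (Commute.inv_left h : Commute _ _)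
theorem cm_mul {a b c : G} (h : a * c = c * a) (k : b * c = c * b) : a * b * c = c * (a * b) :=
  (Commute.mul_left h k : Commute _ _)
theorem cjj {a g g' : G} (h : a * g * a⁻¹ = g') : IsConj g g' := isConj_iff.2 ⟨a, h⟩
theorem cj_inv {a g g' : G} (h : a * g * a⁻¹ = g') : a⁻¹ * g' * a = g := by rw [← h]; group

theorem ex_root {T : Subgroup G} (k : ℕ) : ∀ n : G, n ^ 2 ^ k ∈ T → n ∉ T →
    ∃ j : ℕ, n ^ j ∉ T ∧ n ^ j * n ^ j ∈ T := by
  induction k with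
  | zero => intro n h h'; exact (h' (by simpa using h)).elim
  | succ k ih =>
    intro n h h'
    by_cases h1 : n * n ∈ T
    · exact ⟨1, by simpa using h', by simpa using h1⟩
    · obtain ⟨j, a, b⟩ := ih (n * n) (by rwa [← _root_.sq, ← pow_mul, ← pow_succ']) h1
      rw [← _root_.sq n, ← pow_mul] at a b
      exact ⟨_, a, b⟩

namespace Loc
variable {t z y : G} {M R : Subgroup G} (L : Loc t z y M R) [Finite G]
include L

theorem nb {b : G} (h1 : ∀ r ∈ R, b * r * b⁻¹ * t = t * (b * r * b⁻¹) ∧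
      b * r * b⁻¹ * z = z * (b * r * b⁻¹) ∧ ∀ k ∈ R, b * r * b⁻¹ * k * (b * r * b⁻¹)⁻¹ ∈ R)
    (h2 : ∀ m ∈ M, m * z = z * m → ∀ r ∈ R, b⁻¹ * m * b * r * (b⁻¹ * m * b)⁻¹ ∈ R) :
    ∀ r ∈ R, b * r * b⁻¹ ∈ R :=
  cj_le_iff.1 (L.o2 (isPGroup_cj L.two b) (fun a ha => by
    have := h1 _ (mem_cj.1 ha)
    rwa [show b * (b⁻¹ * a * b) * b⁻¹ = a by group] at this) fun m hm k a ha => by
    have := h2 m hm k _ (mem_cj.1 ha)
    rwa [mem_cj, show b⁻¹ * (m * a * m⁻¹) * b = b⁻¹ * m * b * (b⁻¹ * a * b) * (b⁻¹ * m * b)⁻¹ by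
      group])

/-- `C(t, z)` normalises `R`. -/
theorem nD {g : G} (h1 : g * t = t * g) (h2 : g * z = z * g) : ∀ r ∈ R, g * r * g⁻¹ ∈ R :=
  L.nb (fun r hr => by
    have a := L.Mn g h1 r (L.RM hr)
    have b := cm_mul (cm_mul h2 (L.Rz r hr)) (cm_inv h2)
    exact ⟨L.Mt _ a, b, L.nR _ a b⟩) fun m hm k => L.nR _ (by
      simpa using L.Mn g⁻¹ (cm_inv h1) m hm) (cm_mul (cm_mul (cm_inv h2) k) h2)

/-- The normaliser of `⟨t, z⟩` fixes `z`. -/
theorem nW {b : G} (h1 : W t z (b * t * b⁻¹)) (h2 : W t z (b * z * b⁻¹)) : b * z * b⁻¹ = z := by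
  have h3 : cj b L.WS = L.WS := cj_eq_of_le (cj_le_iff.2 fun a ha => by
    rcases ha with h | h | h | h <;> rw [h]
    exacts [Or.inl (by group), h1, h2, by rw [← conj_mul]; exact L.W_mul h1 h2])
  have h4 : ∀ w, W t z w → W t z (b⁻¹ * w * b) := fun w hw =>
    L.mem_WS.1 (mem_cj.1 (h3.symm ▸ L.mem_WS.2 hw : w ∈ cj b L.WS))
  have h5 := L.nb (b := b) (fun r hr => by
    have k : ∀ w, W t z w → b * r * b⁻¹ * w = w * (b * r * b⁻¹) := fun w hw =>
      (cm_cj.1 (L.W_cm (h4 w hw) hr).symm).symm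
    have a := k t (Or.inr (Or.inl rfl))
    have c := k z (Or.inr (Or.inr (Or.inl rfl)))
    exact ⟨a, c, L.nD a c⟩) fun m hm k => L.nD (cm_cj.2 (h1.cm (L.Mt m hm) k))
      (cm_cj.2 (h2.cm (L.Mt m hm) k))
  obtain ⟨a, ha, c, hc, -, -, e⟩ := L.ex 1 R.one_mem
  have e1 := (L.cm a ha c hc).resolve_left e
  have e2 : b * a * b⁻¹ * (b * c * b⁻¹) = b * c * b⁻¹ * (b * a * b⁻¹) * (b * z * b⁻¹) := by
    rw [conj_mul, e1]; group
  rcases L.cm _ (h5 a ha) _ (h5 c hc) with h | h <;> rw [e2] at h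
  · exact (L.z1 (conj_eq_one_iff.1 (mul_eq_left.1 h))).elim
  · exact mul_left_cancel h

theorem R_le {T H : Subgroup G} (h : SylIn 2 T H) (h1 : R ≤ H)
    (h2 : ∀ g ∈ T, g * t = t * g ∧ g * z = z * g) : R ≤ T := by
  have n : T ≤ normalizer (R : Set G) := fun g hg =>
    mem_normalizer_of_conj_mem (L.nD (h2 g hg).1 (h2 g hg).2)
  exact h.2.2 _ (sup_le h.le h1) (isPGroup_sup_of_le_normalizer h.isPGroup L.two n) le_sup_left ▸
    le_sup_right

theorem cz (g : G) : (g * z * g⁻¹) ^ 2 ^ 1 = 1 := by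
  rw [conj_pow, pow_one, _root_.sq, L.zz]; group

theorem sylT : ∃ T : Subgroup G, SylIn 2 T (centralizer {t}) ∧ R ≤ T ∧ ∀ g ∈ T, g * z = z * g := by
  obtain ⟨S0, s0, -⟩ := exists_sylIn L.RM L.two
  obtain ⟨m, hm, h⟩ := L.syl S0 s0.le s0.isPGroup
  have s1 : SylIn 2 (cj m S0) M := by simpa only [cj_eq_of_mem hm] using s0.cj m
  have h1 : ∀ g ∈ cj m S0, g * z = z * g := fun g hg => by
    have := h _ (mem_cj.1 hg)
    rwa [show m * (m⁻¹ * g * m) * m⁻¹ = g by group] at this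
  generalize cj m S0 = S at *
  have h2 := L.R_le s1 L.RM fun g hg => ⟨L.Mt g (s1.le hg), h1 g hg⟩
  obtain ⟨T, s2, h3⟩ := exists_sylIn (H := centralizer {t}) (fun g hg => mc.2 (L.Mt g (s1.le hg)))
    s1.isPGroup
  have h4 : T ⊓ M = S := s1.2.2 _ inf_le_right s2.isPGroup.to_inf_left (le_inf h3 s1.le)
  refine ⟨T, s2, h2.trans h3, fun g hg => ?_⟩
  have gt := mc.1 (s2.le hg)
  refine cm_of_cj (L.nW (Or.inr (Or.inl (cj_of_cm gt))) (L.zT (L.cz g) fun r hr => ?_))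
  refine (cm_cj.1 (h1 _ (h4 ▸ ⟨T.mul_mem (T.mul_mem (T.inv_mem hg) (h3 (h2 hr))) hg, ?_⟩))).symm
  simpa using L.Mn g⁻¹ (cm_inv gt) r (L.RM hr)

/-- Fusion in `⟨t, z⟩` happens in `C(z)`. -/
theorem fusW {w : G} (hw : W t z w) (h : IsConj t w) :
    ∃ b, b * t * b⁻¹ = w ∧ b * z * b⁻¹ = z := by
  have : Fact (Nat.Prime 2) := ⟨Nat.prime_two⟩
  obtain ⟨g, rfl⟩ := isConj_iff.1 h
  obtain ⟨T, s, h1, h2⟩ := L.sylT
  have s1 := s.cj g
  rw [cj_centralizer_singleton] at s1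
  obtain ⟨c, hc, h3⟩ := s1.exists_cj_le (R := T)
    (fun a ha => mc.2 (hw.cm (mc.1 (s.le ha)) (h2 a ha))) s.isPGroup
  have e : c⁻¹ * g * t * (c⁻¹ * g)⁻¹ = g * t * g⁻¹ := by
    rw [← cj_inv (cj_of_cm (mc.1 hc))]; group
  refine ⟨c⁻¹ * g, e, L.nW (e ▸ hw) (L.zT (L.cz _) fun r hr => (cm_cj.1 (h2 _ ?_)).symm)⟩
  have := mem_cj.1 (h3 (conj_mem_cj (h1 hr)))
  rwa [show g⁻¹ * (c * r * c⁻¹) * g = (c⁻¹ * g)⁻¹ * r * (c⁻¹ * g) by group] at this

theorem ntz : ¬ IsConj t z := fun h => by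
  obtain ⟨b, h1, h2⟩ := L.fusW (Or.inr (Or.inr (Or.inl rfl))) h
  exact L.zt (mul_left_cancel (mul_right_cancel (h2.trans h1.symm)))

omit [Finite G] in
theorem cjz {d : G} (hd : d ∈ R) (hW : ¬ W t z d) : ∃ r ∈ R, r * d * r⁻¹ = d * z := by
  by_contra h
  exact hW (L.cen d hd fun r hr =>
    (cm_of_cj ((L.cjR hr hd).resolve_right fun k => h ⟨r, hr, k⟩)).symm)

omit [Finite G] in
theorem W3_cases {d g : G} (dd : d * d = 1) (h : W3 t z d g) : W t z g ∨ g = d ∨ g = t * d ∨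
    g = d * z ∨ g = t * (d * z) ∨ z * d ≠ d * z := by
  by_cases c : z * d = d * z
  swap
  · simp [c]
  rcases h with h | h
  · exact Or.inl h
  have e : g = g * d * d := by rw [mul_assoc, dd, mul_one]
  rcases h with h | h | h | h <;> rw [e, h]
  · simp
  · simp
  · simp [c]
  · simp [mul_assoc, c]

/-- The end of the inner case. -/
theorem inn2 (nc : ¬ IsConj t (t * z)) {d n : G} (hd : d ∈ R) (hW : ¬ W t z d) (ct : IsConj t d)
    {T : Subgroup G} (hT : IsPGroup 2 T) (h1 : ∀ g ∈ T, g * t = t * g ∧ g * z = z * g ∧ g * d = d * g)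
    (h2 : ∀ r ∈ R, r * d = d * r → r ∈ T) (h3 : n ∈ normalizer (T : Set G)) (nn : n * n ∈ T)
    (nd : n * d * n⁻¹ = d) (nt : n * t * n⁻¹ = d * z) (nz : n * z * n⁻¹ = t * d) : False := by
  have : Fact (Nat.Prime 2) := ⟨Nat.prime_two⟩
  have dd : d * d = 1 := by
    obtain ⟨g, rfl⟩ := isConj_iff.1 ct
    rw [conj_mul, L.tt]; group
  have dt := L.Rt hd
  have dz := L.Rz d hd
  have inv : ∀ {a b}, n * n * a = a * (n * n) → n * a * n⁻¹ = b → n⁻¹ * a * n = b := fun h k => by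
    rw [← k]
    nth_rewrite 1 [← cj_of_cm h]
    group
  have nt' := inv (h1 _ nn).1 nt
  have nz' := inv (h1 _ nn).2.1 nz
  have e0 : d * z * (t * d) = t * z := by
    rw [← dt, ← mul_assoc, mul_assoc d z, ← dz, ← mul_assoc, dd, one_mul, L.tz]
  obtain ⟨S, s1, s2, s3, s4⟩ := L.fixu
  obtain ⟨T0, s5, s6⟩ := exists_sylIn (H := centralizer {t} ⊓ centralizer {z})
    (fun a ha => ⟨mc.2 (L.Mt a (s1 ha)), mc.2 (s3 a ha)⟩) s2
  obtain ⟨h, hh, s7⟩ := s5.exists_cj_le (R := T) (fun a ha => ⟨mc.2 (h1 a ha).1, mc.2 (h1 a ha).2.1⟩) hT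
  have ht := mc.1 hh.1
  have hz := mc.1 hh.2
  have s8 := L.fixY s5.isPGroup s6 s4 fun a ha =>
    ⟨mc.1 (s5.le ha).1, mc.1 (s5.le ha).2, L.nD (mc.1 (s5.le ha).1) (mc.1 (s5.le ha).2)⟩
  obtain ⟨m, hm, my, -⟩ := L.yz
  obtain ⟨v, hv⟩ : ∃ v, v = h⁻¹ * y * h := ⟨_, rfl⟩
  have vR : v ∈ R := by simpa [hv] using L.nD (cm_inv ht) (cm_inv hz) y L.yR
  have hw : ∀ w, W t z (h * w * h⁻¹) → W t z w := fun w k => by
    rwa [← cj_inv (rfl : h * w * h⁻¹ = _), mul_assoc h⁻¹, ← k.cm ht hz, inv_mul_cancel_left]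
  have vW : ¬ W t z v := fun k => L.yW (by
    have := cj_of_cm (k.cm ht hz)
    rw [show h * v * h⁻¹ = y by rw [hv]; group] at this
    rwa [this])
  have v1 : ∀ a ∈ T, W t z (v * a * v⁻¹ * a⁻¹) := fun a ha => hw _ (by
    have := s8 _ (s7 (conj_mem_cj ha))
    rwa [show h * (v * a * v⁻¹ * a⁻¹) * h⁻¹ = y * (h * a * h⁻¹) * y⁻¹ * (h * a * h⁻¹)⁻¹ by
      rw [hv]; group])
  have vz : h⁻¹ * m * z * (h⁻¹ * m)⁻¹ = v := by rw [hv, ← my]; group
  have vt : ¬ IsConj t (t * v) := fun k => nc (k.trans (cjj (a := h⁻¹ * m) (by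
    rw [← conj_mul, vz, cj_of_cm (cm_mul (cm_inv ht) (L.Mt m hm))])).symm)
  have := L.key (r := n⁻¹ * v * n) hd dd (U := cj n⁻¹ L.WS) (k := 1) (fun u hu => ?_) ?_
    (by rw [← vz, show n⁻¹ * (h⁻¹ * m * z * (h⁻¹ * m)⁻¹) * n =
      n⁻¹ * h⁻¹ * m * z * (n⁻¹ * h⁻¹ * m)⁻¹ by group]; exact L.cz _) (fun a ha k => ?_) fun k => ?_
  · have e : v = n * (n⁻¹ * v * n) * n⁻¹ := by group
    obtain ⟨r, hr, e1⟩ := L.cjz hd hW
    have c1 : IsConj t (d * z) := ct.trans (cjj e1)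
    have c2 : IsConj z (n⁻¹ * v * n) := (cjj vz).trans (cjj (a := n⁻¹) (by rw [inv_inv]))
    rcases L.W3_cases dd this with (k | k | k | k) | k | k | k | k | k
    · exact L.z1 (isConj_one_left.1 (k ▸ c2))
    · exact L.ntz (k ▸ c2).symm
    · rw [k, nz] at e
      exact vt (by rwa [e, ← mul_assoc, L.tt, one_mul])
    · rw [k, ← conj_mul, nt, nz, e0] at e
      exact vW (Or.inr (Or.inr (Or.inr e)))
    · exact L.ntz (ct.trans (k ▸ c2).symm)
    · rw [k, ← conj_mul, nt, nd, mul_assoc, ← dz, ← mul_assoc, dd, one_mul] at e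
      exact vW (Or.inr (Or.inr (Or.inl e)))
    · exact L.ntz (c1.trans (k ▸ c2).symm)
    · rw [k, ← conj_mul, ← conj_mul, nt, nd, nz, ← mul_assoc d t, dt, mul_assoc t, dd, mul_one,
        mul_assoc, ← L.tz, ← mul_assoc, dt, mul_assoc] at e
      exact vt (by rwa [e, ← mul_assoc, L.tt, one_mul])
    · exact k dz.symm
  · rw [mem_cj, inv_inv, mem_WS] at hu
    have e : u = n⁻¹ * (n * u * n⁻¹) * n := by group
    rcases hu with k | k | k | k <;> rw [e, k]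
    · exact Or.inl (Or.inl (by group))
    · exact Or.inr (Or.inr (Or.inr (Or.inl (by rw [nt', dz, mul_assoc, dd, mul_one]))))
    · exact Or.inr (Or.inr (Or.inl (by rw [nz', mul_assoc, dd, mul_one])))
    · refine Or.inl (Or.inr (Or.inr (Or.inr ?_)))
      rw [show n⁻¹ * (t * z) * n = n⁻¹ * t * n * (n⁻¹ * z * n) by group, nt', nz', e0]
  · rw [mem_cj, inv_inv, mem_WS, nz]
    intro k
    have := L.W_mul (Or.inr (Or.inl rfl)) k
    exact hW (by rwa [← mul_assoc, L.tt, one_mul] at this)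
  · rw [mem_cj, inv_inv, mem_WS, show n * (n⁻¹ * v * n * a * (n⁻¹ * v * n)⁻¹ * a⁻¹) * n⁻¹ =
      v * (n * a * n⁻¹) * v⁻¹ * (n * a * n⁻¹)⁻¹ by group]
    exact v1 _ (conj_mem_of_mem_normalizer h3 (h2 a ha k))
  · have k1 := cm_cj.1 k
    rw [nz, ← mul_assoc, L.Rt vR, mul_assoc, mul_assoc] at k1
    have k2 := h1 _ (conj_mem_of_mem_normalizer' h3 (h2 v vR (mul_left_cancel k1)))
    exact ⟨k2.1, k2.2.2, L.nD k2.1 k⟩

/-- The inner case. -/
theorem inner (nc : ¬ IsConj t (t * z)) {d : G} (hd : d ∈ R) (ct : IsConj t d) : d = t := by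
  have : Fact (Nat.Prime 2) := ⟨Nat.prime_two⟩
  have n1 : ¬ IsConj t 1 := fun k => L.t1 (isConj_one_left.1 k)
  by_cases hW : W t z d
  · rcases hW with h | h | h | h
    exacts [(n1 (h ▸ ct)).elim, h, (L.ntz (h ▸ ct)).elim, (nc (h ▸ ct)).elim]
  exfalso
  obtain ⟨g, hg⟩ := isConj_iff.1 ct
  have dd : d * d = 1 := by rw [← hg, conj_mul, L.tt]; group
  have dt := L.Rt hd
  have dz := L.Rz d hd
  obtain ⟨T, s, s1⟩ := exists_sylIn (H := centralizer {t} ⊓ centralizer {z} ⊓ centralizer {d})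
    (R := R ⊓ centralizer {d}) (fun a ha => ⟨⟨mc.2 (L.Rt ha.1), mc.2 (L.Rz a ha.1)⟩, ha.2⟩)
    L.two.to_inf_left
  have h1 : ∀ g ∈ T, g * t = t * g ∧ g * z = z * g ∧ g * d = d * g := fun g hg =>
    ⟨mc.1 (s.le hg).1.1, mc.1 (s.le hg).1.2, mc.1 (s.le hg).2⟩
  have h2 : ∀ r ∈ R, r * d = d * r → r ∈ T := fun r a b => s1 ⟨a, mc.2 b⟩
  obtain ⟨S, s2, s3⟩ := exists_sylIn (s.le.trans inf_le_right) s.isPGroup
  rcases s3.eq_or_lt with e | e
  · obtain ⟨T0, s4, -⟩ := L.sylT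
    have s5 := s4.of_card_ge (R := T) (fun a ha => mc.2 (h1 a ha).1) s.isPGroup (by
      rw [← card_cj g, e]
      exact s2.card_le (by rw [← hg, ← cj_centralizer_singleton]; exact cj_mono s4.le)
        (isPGroup_cj s4.isPGroup g))
    exact hW (L.cen d hd fun r hr => (h1 r (L.R_le s5 (fun a ha => mc.2 (L.Rt ha))
      (fun a ha => ⟨(h1 a ha).1, (h1 a ha).2.1⟩) hr)).2.2.symm)
  obtain ⟨n0, a1, a2, a3⟩ := exists_mem_normalizer_not_mem s2.isPGroup e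
  obtain ⟨k, hk⟩ := isPGroup_iff_forall_mem.1 s2.isPGroup n0 a1
  obtain ⟨j, a4, nn⟩ := ex_root k n0 (hk ▸ T.one_mem) a3
  have a5 := S.pow_mem a1 j
  have a6 := Subgroup.pow_mem _ a2 j
  generalize n0 ^ j = n at *
  have nd := cj_of_cm (mc.1 (s2.le a5))
  have nH : n * t * n⁻¹ = t → n * z * n⁻¹ ≠ z := fun a b => a4
    (s.2.2 _ inf_le_left s2.isPGroup.to_inf_right (le_inf s.le s3) ▸
      ⟨⟨⟨mc.2 (cm_of_cj a), mc.2 (cm_of_cj b)⟩, s2.le a5⟩, a5⟩)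
  have z3 : ∀ w ∈ T, (∀ g ∈ T, g * w = w * g) → W3 t z d (n * w * n⁻¹) := fun w hw h => by
    have b1 := conj_mem_of_mem_normalizer a6 hw
    have b2 : ∀ r ∈ R, r * d = d * r → n * w * n⁻¹ * r = r * (n * w * n⁻¹) := fun r hr k =>
      (cm_cj.1 (h _ (conj_mem_of_mem_normalizer' a6 (h2 r hr k)))).symm
    obtain ⟨k, hk⟩ := isPGroup_iff_forall_mem.1 s.isPGroup _ b1
    obtain ⟨b3, b4, b5⟩ := h1 _ b1
    exact L.cen1 hd (L.sieg hd dd k _ (hk ▸ R.one_mem) b3 b4 b5 (L.nD b3 b4) fun r hr k =>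
      Or.inl (Or.inl (by rw [b2 r hr k]; group))) b2
  have ht := z3 t (h2 t L.tR dt.symm) fun g hg => (h1 g hg).1
  have hz := z3 z (h2 z L.zR dz.symm) fun g hg => (h1 g hg).2.1
  obtain ⟨r, hr, e1⟩ := L.cjz hd hW
  have c1 : IsConj t (d * z) := ct.trans (cjj e1)
  have c2 : IsConj (t * d) (t * (d * z)) := cjj (a := r) (by
    rw [← conj_mul, e1, cj_of_cm (L.Rt hr)])
  have p1 : IsConj t (n * t * n⁻¹) := cjj rfl
  have p2 : ¬ IsConj t (n * z * n⁻¹) := fun k => L.ntz (k.trans (cjj rfl).symm)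
  have p3 : ¬ IsConj t (n * t * n⁻¹ * (n * z * n⁻¹)) := fun k =>
    nc (k.trans (cjj (a := n) conj_mul.symm).symm)
  have p4 : n * z * n⁻¹ ≠ 1 := fun k => L.z1 (conj_eq_one_iff.1 k)
  have tt : ∀ a, t * (t * a) = a := fun a => by rw [← mul_assoc, L.tt, one_mul]
  have zz : ∀ a, z * (z * a) = a := fun a => by rw [← mul_assoc, L.zz, one_mul]
  have dd' : ∀ a, d * (d * a) = a := fun a => by rw [← mul_assoc, dd, one_mul]
  have dt' : ∀ a, d * (t * a) = t * (d * a) := fun a => by rw [← mul_assoc, dt, mul_assoc]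
  have zt' : ∀ a, z * (t * a) = t * (z * a) := fun a => by rw [← mul_assoc, ← L.tz, mul_assoc]
  have zd' : ∀ a, z * (d * a) = d * (z * a) := fun a => by rw [← mul_assoc, ← dz, mul_assoc]
  have z2 := L.zz
  have tz := L.tz.symm
  have zd := dz.symm
  have hz' : n * z * n⁻¹ = z ∨ n * z * n⁻¹ = t * z ∨ n * z * n⁻¹ = t * d ∨
      n * z * n⁻¹ = t * (d * z) := by
    rcases L.W3_cases dd hz with (k | k | k | k) | k | k | k | k | k
    exacts [(p4 k).elim, (p2 (k ▸ IsConj.refl t)).elim, .inl k, .inr (.inl k), (p2 (k ▸ ct)).elim,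
      .inr (.inr (.inl k)), (p2 (k ▸ c1)).elim, .inr (.inr (.inr k)), (k zd).elim]
  rcases L.W3_cases dd ht with (k | k | k | k) | k | k | k | k | k
  · exact n1 (k ▸ p1)
  · rcases hz' with l | l | l | l
    · exact nH k l
    · exact nH k (L.nW (Or.inr (Or.inl k)) (Or.inr (Or.inr (Or.inr l))))
    · exact p3 (by rwa [k, l, tt])
    · exact p3 (by rwa [k, l, tt])
  · exact L.ntz (k ▸ p1)
  · exact nc (k ▸ p1)
  · exact hW (Or.inr (Or.inl (mul_left_cancel (mul_right_cancel (nd.trans k.symm)))))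
  · rw [k] at p1
    rcases hz' with l | l | l | l
    · exact p3 (by rw [k, l, mul_assoc]; exact p1.trans c2)
    · exact p3 (by rwa [k, l, mul_assoc, dt', tt])
    · exact p2 (l ▸ p1)
    · exact p2 (l ▸ p1.trans c2)
  · rcases hz' with l | l | l | l
    · exact p3 (by rwa [k, l, mul_assoc, z2, mul_one])
    · have e2 : n * (n * z * n⁻¹) * n⁻¹ = z :=
        (by group : _ = n * n * z * (n * n)⁻¹).trans (cj_of_cm (h1 _ nn).2.1)
      rw [l, ← conj_mul, k, l, mul_assoc, zt', z2, mul_one, dt] at e2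
      exact hW (Or.inr (Or.inr (Or.inr (by rw [← e2, tt]))))
    · exact L.inn2 nc hd hW ct s.isPGroup h1 h2 a6 nn nd k l
    · exact p3 (by rw [k, l, mul_assoc, zt', zd', z2, mul_one, dt', dd, mul_one])
  · rw [k] at p1
    rcases hz' with l | l | l | l
    · exact p3 (by rw [k, l, mul_assoc, mul_assoc, z2, mul_one]; exact p1.trans c2.symm)
    · exact p3 (by rwa [k, l, mul_assoc, mul_assoc, zt', z2, mul_one, dt, tt])
    · exact p2 (l ▸ p1.trans c2.symm)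
    · exact p2 (l ▸ p1)
  · exact k zd

end Loc
end H15.BF
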