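import Mathlib
import Cfsg.Agent.H15.BF2
import Cfsg.Agent.H17.ZStar

/-!
# An involution `t` with `C(t, z)` of shape `(2 × 2^(1+2n)).X`: `t` is conjugate to `t z`
-/

set_option autoImplicit false
set_option linter.all false

namespace H15.BF
open Subgroup H22 Cfsg

variable {G : Type*} [Group G]

namespace Loc
variable {t z y : G} {M R : Subgroup G} (L : Loc t z y M R) [Finite G]
include L

/-- The outer case. -/
theorem outer (hM : ∀ a ∈ M, IsConj t a → a = t) {u : G} (ct : IsConj t u) (ut : u * t = t * u)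
    (uz : u * z = z * u) : u ∈ R := by
  by_contra uR
  obtain ⟨g, hg⟩ := isConj_iff.1 ct
  have uu : u * u = 1 := by rw [← hg, conj_mul, L.tt]; group
  have nu := L.nD ut uz
  obtain ⟨m, hm⟩ : ∃ m : G → G, ∀ r, m r = u * r * u⁻¹ * r⁻¹ := ⟨_, fun _ => rfl⟩
  have mR : ∀ r ∈ R, m r ∈ R := fun r hr => hm r ▸ R.mul_mem (nu r hr) (R.inv_mem hr)
  have mm : ∀ r r', m (r * r') = m r * (r * m r' * r⁻¹) := fun r r' => by simp only [hm]; group
  have mi : ∀ r, u * m r * u⁻¹ * m r = 1 := fun r => by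
    rw [hm, show u * (u * r * u⁻¹ * r⁻¹) * u⁻¹ * (u * r * u⁻¹ * r⁻¹) =
      u * u * r * (u⁻¹ * u⁻¹) * r⁻¹ by group, ← mul_inv_rev, uu]; group
  have Q : ∀ r, m r * u = u * m r → m r ≠ 1 → g⁻¹ * m r * g ∉ M := fun r _ h k => h (by
    have := hM _ (M.mul_mem (L.RM L.tR) k) (cjj (a := g⁻¹ * r * u⁻¹ * g) (by
      rw [hm, ← cj_inv hg, show g⁻¹ * u * g * (g⁻¹ * (u * r * u⁻¹ * r⁻¹) * g) =
        g⁻¹ * (u * u) * r * u⁻¹ * r⁻¹ * g by group, uu, inv_eq_of_mul_eq_one_right uu]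
      group))
    have := mul_eq_left.1 this
    rwa [show g⁻¹ * m r * g = g⁻¹ * m r * g⁻¹⁻¹ by group, conj_eq_one_iff] at this)
  have Fm : ∀ r ∈ R, ∀ r' ∈ R, (m r * u = u * m r ↔ m r' * u = u * m r') →
      m (r * r') * u = u * m (r * r') := fun r hr r' hr' h => by
    have k : ∀ r ∈ R, m r * u ≠ u * m r → u * m r * u⁻¹ = m r * z := fun r hr h => by
      have a := mi r
      rcases L.sq _ (mR r hr) with b | b
      · exact (h (cm_of_cj (mul_right_cancel (a.trans b.symm))).symm).elim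
      · rw [eq_inv_of_mul_eq_one_left a, eq_comm, ← b, ← mul_eq_one_iff_eq_inv, mul_assoc,
          mul_assoc, b, ← mul_assoc, b, L.zz]
    symm
    apply cm_of_cj
    have c := cj_of_cm uz
    by_cases h1 : m r * u = u * m r
    · rcases L.cjR hr (mR r' hr') with e | e <;> rw [mm, e]
      · rw [← conj_mul, cj_of_cm h1.symm, cj_of_cm (h.1 h1).symm]
      · rw [← conj_mul, ← conj_mul, cj_of_cm h1.symm, cj_of_cm (h.1 h1).symm, c]
    · have e0 : m r * z * (m r' * z) = m r * m r' := by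
        rw [L.Rz _ (mR r' hr'), mul_assoc, ← mul_assoc z, L.zz, one_mul]
      rcases L.cjR hr (mR r' hr') with e | e <;> rw [mm, e]
      · rw [← conj_mul, k r hr h1, k r' hr' (mt h.2 h1), e0]
      · rw [← mul_assoc (m r), ← conj_mul, ← conj_mul, k r hr h1, k r' hr' (mt h.2 h1), e0, c]
  have P : ∀ r ∈ R, ∀ r' ∈ R, m r * u = u * m r → m r' * u = u * m r' → m r ≠ 1 → m r' ≠ 1 →
      m (r * r') ≠ 1 → r * m r' ≠ m r' * r := fun r hr r' hr' a b c d e f =>
    Q _ (Fm r hr r' hr' (iff_of_true a b)) e (by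
      have := L.Mi _ _ (cm_cj.2 (hg ▸ a)) (cm_cj.2 (hg ▸ b)) (Q r a c) (Q r' b d)
      rwa [mm, cj_of_cm f, show g⁻¹ * (m r * m r') * g = g⁻¹ * m r * g * (g⁻¹ * m r' * g) by group])
  obtain ⟨r0, h0, h1⟩ : ∃ r0 ∈ R, ∀ r ∈ R, m r * u ≠ u * m r → m r0 * u ≠ u * m r0 := by
    by_cases h7 : ∃ r ∈ R, m r * u ≠ u * m r
    · obtain ⟨r, a, b⟩ := h7
      exact ⟨r, a, fun _ _ _ => b⟩
    · exact ⟨1, R.one_mem, fun r a b => absurd ⟨r, a, b⟩ h7⟩
  have km : ∀ K : Subgroup G, z ∈ K → ∀ r ∈ R, ∀ r' ∈ R, m r ∈ K → (m (r * r') ∈ K ↔ m r' ∈ K) :=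
    fun K kz r hr r' hr' h => by
      rw [mm, K.mul_mem_cancel_left h]
      rcases L.cjR hr (mR r' hr') with e | e <;> rw [e]
      exact K.mul_mem_cancel_right kz
  have km' : ∀ K : Subgroup G, z ∈ K → ∀ r ∈ R, ∀ r' ∈ R, m r' ∈ K → (m (r * r') ∈ K ↔ m r ∈ K) :=
    fun K kz r hr r' hr' h => by
      rw [mm]
      rcases L.cjR hr (mR r' hr') with e | e <;> rw [e]
      exacts [K.mul_mem_cancel_right h, K.mul_mem_cancel_right (K.mul_mem h kz)]
  have gen : ∀ e2 ∈ R, ∀ e3 ∈ R, ∃ r ∈ R, m r * u = u * m r ∧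
      m r ∉ closure ({z, m r0, e2, e3} : Set G) := fun e2 h2 e3 h3 => by
    by_contra h
    push Not at h
    refine uR (L.rk u ut uz (uu ▸ R.one_mem) _ (mR r0 h0) e2 h2 e3 h3 fun r hr => ?_)
    rw [← hm]
    by_cases k : m r * u = u * m r
    · exact h r hr k
    · exact (km _ (subset_closure (by simp)) r0 h0 r hr (subset_closure (by simp))).1
        (h _ (R.mul_mem h0 hr) (Fm r0 h0 r hr (iff_of_false (h1 r hr k) k)))
  obtain ⟨r1, a1, b1, c1⟩ := gen 1 R.one_mem 1 R.one_mem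
  obtain ⟨r2, a2, b2, c2⟩ := gen _ (mR r1 a1) 1 R.one_mem
  obtain ⟨r3, a3, b3, c3⟩ := gen _ (mR r1 a1) _ (mR r2 a2)
  have ne : ∀ {K : Subgroup G} {a : G}, a ∉ K → a ≠ 1 := fun h k => h (k ▸ one_mem _)
  have d2 := P r2 a2 r1 a1 b2 b1 (ne c2) (ne c1) (ne (mt (km' _ (subset_closure (by simp))
    r2 a2 r1 a1 (subset_closure (by simp))).1 c2))
  have d3 := P r3 a3 r1 a1 b3 b1 (ne c3) (ne c1) (ne (mt (km' _ (subset_closure (by simp))
    r3 a3 r1 a1 (subset_closure (by simp))).1 c3))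
  have a4 := R.mul_mem (R.inv_mem a2) a3
  have e4 : r2 * (r2⁻¹ * r3) = r3 := by group
  have b4 : m (r2⁻¹ * r3) * u = u * m (r2⁻¹ * r3) := by
    by_contra k
    have := Fm r2 a2 _ a4
    have k2 := Fm _ (R.inv_mem a2) r3 a3
    have k3 := Fm r2 a2 _ (R.inv_mem a2)
    by_cases k4 : m r2⁻¹ * u = u * m r2⁻¹
    · exact k (k2 (iff_of_true k4 b3))
    · have e := mm r2 r2⁻¹
      rw [mul_inv_cancel, show m 1 = 1 by rw [hm]; group] at e
      have e1 := cm_inv b2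
      rw [inv_eq_of_mul_eq_one_right e.symm] at e1
      rcases L.cjR a2 (mR _ (R.inv_mem a2)) with f | f <;> rw [f] at e1
      · exact k4 e1
      · rw [mul_assoc, ← uz, ← mul_assoc, ← mul_assoc] at e1
        exact k4 (mul_right_cancel e1)
  have c4 : m (r2⁻¹ * r3) ∉ closure ({z, m r0, m r1, m r2} : Set G) := fun k => c3 (e4 ▸
    (km _ (subset_closure (by simp)) r2 a2 _ a4 (subset_closure (by simp))).2 k)
  exact P _ a4 r1 a1 b4 b1 (ne c4) (ne c1) (ne (mt (km' _ (subset_closure (by simp))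
    _ a4 r1 a1 (subset_closure (by simp))).1 c4)) (L.cm2 a3 a2 (mR r1 a1) d3 d2)

/-- If `t` is not conjugate to `t z`, then `t` is isolated. -/
theorem isol (nc : ¬ IsConj t (t * z)) : IsIsolatedInvolution t := by
  have : Fact (Nat.Prime 2) := ⟨Nat.prime_two⟩
  refine ⟨orderOf_eq_prime (by rw [_root_.sq, L.tt]) L.t1, fun g hg => ?_⟩
  have hM : ∀ a ∈ M, IsConj t a → a = t := fun a ha k => by
    obtain ⟨m, hm, h⟩ := L.mf a ha (by
      obtain ⟨g, rfl⟩ := isConj_iff.1 k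
      rw [conj_mul, L.tt]; group)
    rw [← cj_inv (L.inner nc h (k.trans (cjj rfl))), mul_assoc, ← L.Mt m hm]; group
  obtain ⟨T, s, -, h2⟩ := L.sylT
  obtain ⟨c, hc, h⟩ := s.exists_cj_le (R := zpowers (g * t * g⁻¹))
    (zpowers_le.2 (mc.2 hg.eq.symm))
    (isPGroup_zpowers (k := 1) (by rw [conj_pow, pow_one, _root_.sq, L.tt]; group))
  have h1 := h (conj_mem_cj (mem_zpowers _))
  have h3 : IsConj t (c * (g * t * g⁻¹) * c⁻¹) := (cjj rfl).trans (cjj rfl)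
  rw [← cj_inv (hM _ (L.RM (L.outer hM h3 (mc.1 (s.le h1)) (h2 _ h1))) h3), mul_assoc, ← mc.1 hc]
  group

/-- `t` is conjugate to `t z` in `C(z)`. -/
theorem fuse [IsSimpleGroup G] : ∃ b, b * t * b⁻¹ = t * z ∧ b * z * b⁻¹ = z := by
  have : Fact (Nat.Prime 2) := ⟨Nat.prime_two⟩
  refine L.fusW (Or.inr (Or.inr (Or.inr rfl))) (by_contra fun nc => ?_)
  have h := L.isol nc
  have hO : pPrimeCore 2 G = ⊥ := (pPrimeCore_normal 2 G).eq_bot_or_eq_top.resolve_right fun k => by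
    have := H17.odd_card_pPrimeCore (G := G)
    rw [k, card_top] at this
    exact Nat.not_even_iff_odd.2 this (even_iff_two_dvd.2 (h.1 ▸ orderOf_dvd_natCard t))
  have h1 : t ∈ center G := mem_center_iff.2 fun g => (H17.zstar_central hO h g).eq.symm
  rcases (inferInstance : (center G).Normal).eq_bot_or_eq_top with k | k
  · exact L.t1 (mem_bot.1 (k ▸ h1))
  · obtain ⟨a, -, b, -, -, -, e⟩ := L.ex 1 R.one_mem
    exact e (mem_center_iff.1 (k ▸ mem_top b) a)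

end Loc
end H15.BF
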