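import Mathlib
import Cfsg.Agent.H15.KM

/-!
# Straight-line programs, graph subgroups and permutation models
-/

set_option autoImplicit false
set_option linter.unusedSectionVars false

namespace H15.KM

open H29 H24 Subgroup

section

variable {G : Type*} [Group G] {S : Type*} [Group S]

/-! ### Straight-line programs -/

/-- The letter `c` is a base letter if `defs[c] = [c]`, else it is the value of `defs[c]`. -/
noncomputable def slp (e : ℕ → G) (defs : List (List ℕ)) (c : ℕ) : G :=
  if nth [] defs c = [c] then e c else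
    ((nth [] defs c).map fun y => if _h : y < c then slp e defs y else 1).prod
termination_by c

noncomputable def chkSlp (defs : List (List ℕ)) : Bool :=
  allN (lenL defs) fun c => lit c fun c => or2 (eqL (nth [] defs c) [c])
    (allL (nth [] defs c) fun y => Nat.ble (Nat.succ y) c)

theorem slp_base (e : ℕ → G) {defs : List (List ℕ)} {c : ℕ} (h : nth [] defs c = [c]) :
    slp e defs c = e c := by rw [slp, if_pos h]

theorem chkSlp_spec {defs : List (List ℕ)} (h : chkSlp defs = true) (c : ℕ) :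
    nth [] defs c = [c] ∨ ∀ y ∈ nth [] defs c, y < c := by
  simp only [chkSlp, allN_true, lit_eq, or2_true, allL_true, ble_true, lenL_eq] at h
  by_cases hc : c < defs.length
  · exact (h c hc).imp eqL_true id
  · rw [nth_default _ (not_lt.1 hc)]; simp

/-- Every letter is the value of its defining word. -/
def Def (e : ℕ → G) (defs : List (List ℕ)) : Prop := ∀ c, e c = ev e (nth [] defs c)

theorem slp_def (e : ℕ → G) {defs : List (List ℕ)} (h : chkSlp defs = true) :
    Def (slp e defs) defs := fun c => by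
  by_cases h1 : nth [] defs c = [c]
  · rw [h1]; simp
  · rw [slp, if_neg h1, ev]
    exact congrArg List.prod (List.map_congr_left fun y hy =>
      dif_pos ((chkSlp_spec h c).resolve_left h1 y hy))

theorem Def.mem {e : ℕ → G} {defs : List (List ℕ)} (hd : Def e defs) (h : chkSlp defs = true)
    {K : Subgroup G} (hK : ∀ c, nth [] defs c = [c] → e c ∈ K) (c : ℕ) : e c ∈ K := by
  induction c using Nat.strong_induction_on with
  | _ c ih =>
    rcases chkSlp_spec h c with h1 | h1
    · exact hK c h1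
    · rw [hd c]; exact ev_mem fun y hy => ih y (h1 y hy)

/-! ### Pairs -/

/-- Letters paired with the letters of a model. -/
def pr (m : ℕ → S) (e : ℕ → G) (c : ℕ) : S × G := (m c, e c)

@[simp] theorem pr_fst (m : ℕ → S) (e : ℕ → G) (c : ℕ) : (pr m e c).1 = m c := rfl
@[simp] theorem pr_snd (m : ℕ → S) (e : ℕ → G) (c : ℕ) : (pr m e c).2 = e c := rfl

theorem ev_pr (m : ℕ → S) (e : ℕ → G) : ∀ w, ev (pr m e) w = (ev m w, ev e w)
  | [] => rfl
  | c :: w => by rw [ev_cons, ev_pr m e w]; rfl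

@[simp] theorem ev_pr_fst (m : ℕ → S) (e : ℕ → G) (w : List ℕ) : (ev (pr m e) w).1 = ev m w := by
  rw [ev_pr]
@[simp] theorem ev_pr_snd (m : ℕ → S) (e : ℕ → G) (w : List ℕ) : (ev (pr m e) w).2 = ev e w := by
  rw [ev_pr]

theorem Def.pair {m : ℕ → S} {e : ℕ → G} {defs : List (List ℕ)} (h1 : Def m defs) (h2 : Def e defs) :
    Def (pr m e) defs := fun c => by rw [ev_pr, ← h1 c, ← h2 c]; rfl

theorem ivOK_pr {m : ℕ → S} {e : ℕ → G} {iv : ℕ → ℕ} (h1 : IvOK m iv) (h2 : IvOK e iv) :
    IvOK (pr m e) iv := fun c => Prod.ext (h1 c) (h2 c)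

theorem fst_mem {m : ℕ → S} {e : ℕ → G} {l : List ℕ} {d : S × G} (h : d ∈ gen (pr m e) l) :
    d.1 ∈ gen m l := by
  have : gen (pr m e) l ≤ (gen m l).comap (MonoidHom.fst S G) := gen_le.2 fun c hc => mem_gen hc
  exact this h

theorem snd_mem {m : ℕ → S} {e : ℕ → G} {l : List ℕ} {d : S × G} (h : d ∈ gen (pr m e) l) :
    d.2 ∈ gen e l := by
  have : gen (pr m e) l ≤ (gen e l).comap (MonoidHom.snd S G) := gen_le.2 fun c hc => mem_gen hc
  exact this h

theorem map_fst (m : ℕ → S) (e : ℕ → G) (l : List ℕ) :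
    (gen (pr m e) l).map (MonoidHom.fst S G) = gen m l := map_gen _ _ _

theorem map_snd (m : ℕ → S) (e : ℕ → G) (l : List ℕ) :
    (gen (pr m e) l).map (MonoidHom.snd S G) = gen e l := map_gen _ _ _

theorem exists_fst {m : ℕ → S} {e : ℕ → G} {l : List ℕ} {g : G} (h : g ∈ gen e l) :
    ∃ a, (a, g) ∈ gen (pr m e) l := by
  rw [← map_snd m] at h
  obtain ⟨d, h1, rfl⟩ := h
  exact ⟨d.1, h1⟩

theorem exists_snd {m : ℕ → S} {e : ℕ → G} {l : List ℕ} {a : S} (h : a ∈ gen m l) :
    ∃ g, (a, g) ∈ gen (pr m e) l := by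
  rw [← map_fst m e] at h
  obtain ⟨d, h1, rfl⟩ := h
  exact ⟨d.2, h1⟩

/-- `D` is the graph of a homomorphism from the first projection. -/
def Gr (D : Subgroup (S × G)) : Prop := ∀ d ∈ D, d.1 = 1 → d.2 = 1

/-- `D` is the graph of a homomorphism from the second projection. -/
def CoGr (D : Subgroup (S × G)) : Prop := ∀ d ∈ D, d.2 = 1 → d.1 = 1

theorem Gr.eq {D : Subgroup (S × G)} (h : Gr D) {a b : S × G} (ha : a ∈ D) (hb : b ∈ D)
    (hab : a.1 = b.1) : a = b := by
  have := h _ (D.mul_mem ha (D.inv_mem hb)) (by simp [hab])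
  exact Prod.ext hab (by simpa [mul_inv_eq_one] using this)

theorem CoGr.eq {D : Subgroup (S × G)} (h : CoGr D) {a b : S × G} (ha : a ∈ D) (hb : b ∈ D)
    (hab : a.2 = b.2) : a = b := by
  have := h _ (D.mul_mem ha (D.inv_mem hb)) (by simp [hab])
  exact Prod.ext (by simpa [mul_inv_eq_one] using this) hab

theorem Gr.mono {D D' : Subgroup (S × G)} (h : Gr D) (h' : D' ≤ D) : Gr D' :=
  fun d hd => h d (h' hd)

theorem inj_of_card {X Y : Type*} [Group X] [Group Y] [Finite X] {D : Subgroup X} (f : X →* Y)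
    (h : Nat.card D ≤ Nat.card (D.map f)) {d : X} (hd : d ∈ D) (h1 : f d = 1) : d = 1 := by
  have hs : Function.Surjective (f.subgroupMap D) := f.subgroupMap_surjective D
  have := (hs.bijective_of_nat_card_le h).1 (a₁ := ⟨d, hd⟩) (a₂ := 1) (Subtype.ext (by simpa using h1))
  simpa using this

theorem gr_of_card [Finite S] [Finite G] {D : Subgroup (S × G)}
    (h : Nat.card D ≤ Nat.card (D.map (MonoidHom.fst S G))) : Gr D := fun d hd h1 => by
  rw [inj_of_card _ h hd h1]; rfl

theorem coGr_of_card [Finite S] [Finite G] {D : Subgroup (S × G)}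
    (h : Nat.card D ≤ Nat.card (D.map (MonoidHom.snd S G))) : CoGr D := fun d hd h1 => by
  rw [inj_of_card _ h hd h1]; rfl

theorem iso_of_gr {run : List ℕ → ℕ} {m : ℕ → S} {e : ℕ → G} (hm : Iso run m)
    {D : Subgroup (S × G)} (h1 : Gr D) (h2 : CoGr D) (h : ∀ c, pr m e c ∈ D) : Iso run e := by
  intro u v
  have hu : ev (pr m e) u ∈ D := ev_mem fun c _ => h c
  have hv : ev (pr m e) v ∈ D := ev_mem fun c _ => h c
  rw [hm]
  exact ⟨fun h3 => by simpa using congrArg Prod.snd (h1.eq hu hv (by simpa using h3)),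
    fun h3 => by simpa using congrArg Prod.fst (h2.eq hu hv (by simpa using h3))⟩

/-! ### One-sided transfer on a set of letters -/

noncomputable def bitL (L c : ℕ) : Bool := Nat.beq (Nat.land (Nat.shiftRight L c) 1) 1

theorem bitL_true {L c : ℕ} : bitL L c = true ↔ L.testBit c = true := by
  rw [bitL, H29.beq_true, land_eq, shr_eq, Nat.testBit, Nat.and_comm, Nat.one_and_eq_mod_two]
  simp

noncomputable def okW (L : ℕ) (w : List ℕ) : Bool := allL w (bitL L)

theorem okW_true {L : ℕ} {w : List ℕ} : okW L w = true ↔ ∀ c ∈ w, L.testBit c = true := by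
  simp [okW, allL_true, bitL_true]

/-- Identities of the model between words on the letters of `L` hold for `e`. -/
def TrM (run : List ℕ → ℕ) (L : ℕ) (e : ℕ → G) : Prop :=
  ∀ u v, okW L u = true → okW L v = true → run u = run v → ev e u = ev e v

noncomputable def chkE (run : List ℕ → ℕ) (L : ℕ) (u v : List ℕ) : Bool :=
  and2 (okW L u) (and2 (okW L v) (eqW run u v))

variable {run : List ℕ → ℕ} {L : ℕ} {m : ℕ → S} {e : ℕ → G}

theorem TrM.eq (h : TrM run L e) {u v : List ℕ} (hc : chkE run L u v = true) : ev e u = ev e v := by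
  simp only [chkE, and2_true, eqW, H29.beq_true] at hc
  exact h u v hc.1 hc.2.1 hc.2.2

theorem TrM.rels (h : TrM run L e) {R : List (List ℕ)}
    (hc : (allL R fun r => chkE run L r []) = true) : ∀ r ∈ R, ev e r = 1 :=
  fun r hr => h.eq (allL_true.1 hc r hr)

theorem TrM.pair (h : TrM run L e) (hm : Iso run m) : TrM run L (pr m e) := fun u v h1 h2 h3 => by
  rw [ev_pr, ev_pr, (hm u v).1 h3, h u v h1 h2 h3]

theorem trM_of_gr (hm : Iso run m) {D : Subgroup (S × G)} (h1 : Gr D)
    (h : ∀ c, L.testBit c = true → pr m e c ∈ D) : TrM run L e := fun u v hu hv huv => by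
  have a1 : ev (pr m e) u ∈ D := ev_mem fun c hc => h c (okW_true.1 hu c hc)
  have a2 : ev (pr m e) v ∈ D := ev_mem fun c hc => h c (okW_true.1 hv c hc)
  simpa using congrArg Prod.snd (h1.eq a1 a2 (by simpa using (hm u v).1 huv))

theorem TrM.gr (h : TrM run L e) (hm : Iso run m) {iv : ℕ → ℕ} {l : List ℕ}
    (hl : ∀ c ∈ l, L.testBit c = true ∧ iv c ∈ l ∧ pr m e c * pr m e (iv c) = 1) :
    Gr (gen (pr m e) l) := by
  have key : ∀ d ∈ gen (pr m e) l, ∃ w : List ℕ, (∀ c ∈ w, c ∈ l) ∧ ev (pr m e) w = d := by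
    intro d hd
    induction hd using Subgroup.closure_induction with
    | mem x hx => obtain ⟨c, hc, rfl⟩ := hx; exact ⟨[c], by simpa using hc, by simp⟩
    | one => exact ⟨[], by simp, rfl⟩
    | mul x y _ _ hx hy =>
      obtain ⟨u, hu, rfl⟩ := hx
      obtain ⟨v, hv, rfl⟩ := hy
      exact ⟨u ++ v, fun c hc => (List.mem_append.1 hc).elim (hu c) (hv c), by simp⟩
    | inv x h0 hx =>
      obtain ⟨u, hu, rfl⟩ := hx
      clear h0
      induction u with
      | nil => exact ⟨[], by simp, by simp⟩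
      | cons c u ih =>
        obtain ⟨w, a1, a2⟩ := ih fun y hy => hu y (List.mem_cons_of_mem _ hy)
        have a3 := hl c (hu c List.mem_cons_self)
        refine ⟨w ++ [iv c], fun y hy => (List.mem_append.1 hy).elim (a1 y) fun h => ?_, ?_⟩
        · rw [List.mem_singleton.1 h]; exact a3.2.1
        · simp [a2, eq_inv_of_mul_eq_one_right a3.2.2]
  intro d hd h1
  obtain ⟨w, a1, rfl⟩ := key d hd
  rw [ev_pr_snd]
  exact h w [] (okW_true.2 fun c hc => (hl c (a1 c hc)).1) rfl ((hm _ _).2 (by simpa using h1))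

/-- Enlarge the set `K` of letters by the letters given as words in it. -/
noncomputable def chkClo (src : ℕ → List ℕ → Bool) (l : List (ℕ × List ℕ)) (L : ℕ) : ℕ → Bool :=
  List.rec (motive := fun _ => ℕ → Bool) (fun K => sub L K)
    (fun a _ ih K => and2 (and2 (okW K a.2) (src a.1 a.2)) (lit (Nat.lor K (bit a.1)) ih)) l

theorem mem_of_clo {src : ℕ → List ℕ → Bool} (hs : ∀ c w, src c w = true → e c = ev e w)
    {D : Subgroup G} : ∀ (l : List (ℕ × List ℕ)) (K : ℕ), chkClo src l L K = true →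
      (∀ c, K.testBit c = true → e c ∈ D) → ∀ c, L.testBit c = true → e c ∈ D
  | [], _, h, hK => fun c hc => hK c (sub_true h hc)
  | a :: l, K, h, hK => by
    rw [show chkClo src (a :: l) L K = and2 (and2 (okW K a.2) (src a.1 a.2))
      (chkClo src l L (Nat.lor K (bit a.1))) from rfl] at h
    simp only [and2_true, okW_true] at h
    refine mem_of_clo hs l _ h.2 fun c hc => ?_
    rw [lor_eq, Nat.testBit_or, Bool.or_eq_true, testBit_bit, decide_eq_true_eq] at hc
    rcases hc with hc | rfl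
    · exact hK c hc
    · rw [hs _ _ h.1.2]; exact ev_mem fun y hy => hK y (h.1.1 y hy)

theorem testBit_bitsOf {c : ℕ} : ∀ {l : List ℕ}, (TCData.bitsOf l).testBit c = true → c ∈ l
  | [], h => by simp [TCData.bitsOf] at h
  | a :: l, h => by
    rw [show TCData.bitsOf (a :: l) = Nat.lor (bit a) (TCData.bitsOf l) from rfl, lor_eq,
      Nat.testBit_or, Bool.or_eq_true, testBit_bit, decide_eq_true_eq] at h
    rcases h with rfl | h
    · exact List.mem_cons_self
    · exact List.mem_cons_of_mem _ (testBit_bitsOf h)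

theorem mem_gen_of_clo {src : ℕ → List ℕ → Bool} (hs : ∀ c w, src c w = true → e c = ev e w)
    {l : List (ℕ × List ℕ)} {cols : List ℕ} (h : chkClo src l L (TCData.bitsOf cols) = true) :
    ∀ c, L.testBit c = true → e c ∈ gen e cols :=
  mem_of_clo hs l _ h fun _ hc => mem_gen (testBit_bitsOf hc)

/-- A word is the definition of the letter or equal to it in the model. -/
noncomputable def src (run : List ℕ → ℕ) (defs : List (List ℕ)) (L : ℕ) (c : ℕ) (w : List ℕ) :
    Bool := or2 (eqL (nth [] defs c) w) (chkE run L [c] w)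

theorem src_sound {defs : List (List ℕ)} (hd : Def e defs) (h : TrM run L e) (c : ℕ) (w : List ℕ)
    (hc : src run defs L c w = true) : e c = ev e w := by
  rcases or2_true.1 hc with h1 | h1
  · rw [← eqL_true h1]; exact hd c
  · simpa using h.eq h1

/-- Conjugation by a word, letter by letter. -/
noncomputable def chkCh (run : List ℕ → ℕ) (LL : ℕ → ℕ) (y : List ℕ) (ρ : List ℕ) :
    List ℕ → List (List ℕ) → Bool :=
  List.rec (motive := fun _ => List ℕ → List (List ℕ) → Bool) (fun a _ => eqL a y)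
    (fun c _ ih a r => List.rec (motive := fun _ => Bool) false
      (fun b r' _ => and2 (chkE run (LL c) (c :: b) (app a [c])) (ih b r')) r) ρ

theorem chkCh_sound {LL : ℕ → ℕ} (h : ∀ c, TrM run (LL c) e) {y : List ℕ} :
    ∀ (ρ a : List ℕ) (r : List (List ℕ)), chkCh run LL y ρ a r = true →
      ev e ρ * ev e y = ev e a * ev e ρ
  | [], a, _, hc => by rw [eqL_true (A := a) hc]; simp
  | _ :: _, _, [], hc => absurd hc (by simp [chkCh])
  | c :: ρ, a, b :: r, hc => by
    rw [show chkCh run LL y (c :: ρ) a (b :: r) = and2 (chkE run (LL c) (c :: b) (app a [c]))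
      (chkCh run LL y ρ b r) from rfl, and2_true] at hc
    have h1 := (h c).eq hc.1
    simp only [ev_cons, app_eq, ev_append, ev_nil, mul_one] at h1
    rw [ev_cons, mul_assoc, chkCh_sound h ρ b r hc.2, ← mul_assoc, h1, mul_assoc]

/-! ### Permutation models given by tables -/

noncomputable def look (T i : ℕ) : ℕ := Nat.land (Nat.shiftRight T (Nat.mul 11 i)) 2047

/-- `T` is the table of `g⁻¹`. -/
def TabOK (ρ : S →* Equiv.Perm ℕ) (N : ℕ) (g : S) (T : ℕ) : Prop := ∀ i < N, look T i = ρ g⁻¹ i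

noncomputable def run1 (tabs : ℕ → ℕ) (w : List ℕ) : ℕ → ℕ :=
  List.rec (motive := fun _ => ℕ → ℕ) (fun a => a) (fun c _ ih a => lit (look (tabs c) a) ih) w

noncomputable def run4 (tabs : ℕ → ℕ) (w : List ℕ) : ℕ → ℕ → ℕ → ℕ → ℕ :=
  List.rec (motive := fun _ => ℕ → ℕ → ℕ → ℕ → ℕ)
    (fun a b c d => Nat.add a (Nat.mul 2048 (Nat.add b (Nat.mul 2048 (Nat.add c (Nat.mul 2048 d))))))
    (fun y _ ih a b c d => lit (tabs y) fun T => lit (look T a) fun a => lit (look T b) fun b =>
      lit (look T c) fun c => lit (look T d) fun d => ih a b c d) w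

variable {ρ : S →* Equiv.Perm ℕ} {N : ℕ} {tabs : ℕ → ℕ}

theorem run1_spec (hl : ∀ g, ∀ i < N, ρ g i < N) : ∀ {w : List ℕ},
    (∀ c ∈ w, TabOK ρ N (m c) (tabs c)) → ∀ i < N, run1 tabs w i = ρ (ev m w)⁻¹ i
  | [], _, _, _ => by simp [run1]
  | c :: w, h, i, hi => by
    rw [show run1 tabs (c :: w) i = run1 tabs w (look (tabs c) i) from rfl,
      h c List.mem_cons_self i hi, run1_spec hl (fun y hy => h y (List.mem_cons_of_mem _ hy)) _
        (hl _ i hi)]
    simp

theorem run4_eq (tabs : ℕ → ℕ) : ∀ (w : List ℕ) (a b c d : ℕ), run4 tabs w a b c d =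
    run1 tabs w a + 2048 * (run1 tabs w b + 2048 * (run1 tabs w c + 2048 * run1 tabs w d))
  | [], _, _, _, _ => rfl
  | _ :: w, _, _, _, _ => run4_eq tabs w _ _ _ _

noncomputable def chkTab (N : ℕ) (tabs : ℕ → ℕ) (T : ℕ) (w : List ℕ) : Bool :=
  allN N fun i => lit i fun i => Nat.beq (look T i) (run1 tabs w i)

theorem tabOK_of_chk (hl : ∀ g, ∀ i < N, ρ g i < N) {w : List ℕ} {T : ℕ}
    (h : ∀ c ∈ w, TabOK ρ N (m c) (tabs c)) (hc : chkTab N tabs T w = true) :
    TabOK ρ N (ev m w) T := fun i hi => by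
  rw [← run1_spec hl h i hi]
  exact H29.beq_true.1 (allN_true.1 hc i hi)

theorem tabOK_slp (hl : ∀ g, ∀ i < N, ρ g i < N) {defs : List (List ℕ)} (hs : chkSlp defs = true)
    (hd : Def m defs) (h0 : ∀ c, nth [] defs c = [c] → TabOK ρ N (m c) (tabs c))
    (hc : ∀ c, nth [] defs c = [c] ∨ chkTab N tabs (tabs c) (nth [] defs c) = true) (c : ℕ) :
    TabOK ρ N (m c) (tabs c) := by
  induction c using Nat.strong_induction_on with
  | _ c ih =>
    by_cases h1 : nth [] defs c = [c]
    · exact h0 c h1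
    · rw [hd c]
      exact tabOK_of_chk hl (fun y hy => ih y ((chkSlp_spec hs c).resolve_left h1 y hy))
        ((hc c).resolve_left h1)

theorem iso_run4 (hl : ∀ g, ∀ i < N, ρ g i < N) (hN : N ≤ 2048) {a b c d : ℕ} (ha : a < N)
    (hb : b < N) (hc : c < N) (hd : d < N)
    (hf : ∀ g, ρ g a = a → ρ g b = b → ρ g c = c → ρ g d = d → g = 1)
    (h : ∀ c, TabOK ρ N (m c) (tabs c)) : Iso (fun w => run4 tabs w a b c d) m := by
  intro u v
  simp only [run4_eq, run1_spec hl (fun c _ => h c) _ ha, run1_spec hl (fun c _ => h c) _ hb,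
    run1_spec hl (fun c _ => h c) _ hc, run1_spec hl (fun c _ => h c) _ hd]
  refine ⟨fun h1 => ?_, fun h1 => by rw [h1]⟩
  have k : ∀ {i}, ρ (ev m u)⁻¹ i = ρ (ev m v)⁻¹ i → ρ (ev m v * (ev m u)⁻¹) i = i := fun h2 => by
    rw [map_mul, Equiv.Perm.mul_apply, h2, ← Equiv.Perm.mul_apply, ← map_mul]; simp
  have := hl (ev m u)⁻¹ a ha
  have := hl (ev m v)⁻¹ a ha
  have := hl (ev m u)⁻¹ b hb
  have := hl (ev m v)⁻¹ b hb
  have := hl (ev m u)⁻¹ c hc
  have := hl (ev m v)⁻¹ c hc
  exact (mul_inv_eq_one.1 (hf _ (k (by omega)) (k (by omega)) (k (by omega)) (k (by omega)))).symm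

theorem card_mul_le_chain [Finite S] {nets : ℕ → Net} {K k : ℕ} (hn : NetsOK K nets)
    (F : Subgroup S) : ∀ (ch : List (ℕ × ℕ × ℕ × List ℕ)) (L : List ℕ),
      (∀ c ∈ L, ρ (m c) = sg nets c) → (∀ a ∈ ch, F ≤ stab ρ a.1) → chkChain N k nets ch L = true →
      (ch.map fun a => a.2.2.1).prod * Nat.card F ≤ Nat.card ↥(gen m L ⊔ F)
  | [], L, _, _, _ => by simpa using Subgroup.card_le_of_le le_sup_right
  | a :: ch, L, hρ, hF, h => by
    rw [show chkChain N k nets (a :: ch) L = and2 (and2 (Nat.ble (Nat.succ a.1) N)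
      (Nat.ble a.2.2.1 (popc k (orb nets L a.2.1 (bit a.1)))))
      (and2 (allL a.2.2.2 fun c => and2 (memL c L) (sub (bit a.1) ((nets c).pull (bit a.1))))
        (chkChain N k nets ch a.2.2.2)) from rfl] at h
    simp only [and2_true, ble_true, allL_true, memL_true] at h
    obtain ⟨⟨h1, h2⟩, h3, h4⟩ := h
    have ih := card_mul_le_chain hn F ch a.2.2.2 (fun c hc => hρ c (h3 c hc).1)
      (fun b hb => hF b (List.mem_cons_of_mem _ hb)) h4
    rw [List.map_cons, List.prod_cons, mul_assoc]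
    refine (Nat.mul_le_mul_left _ ih).trans (card_mul_le_of_orbit (ρ := ρ) (b := a.1)
      (sup_le_sup_right (gen_mono fun c hc => (h3 c hc).1) _) ?_ (h2.trans ?_))
    · have : gen m a.2.2.2 ⊔ F ≤ stab ρ a.1 := by
        refine sup_le (gen_le.2 fun c hc => ?_) (hF a List.mem_cons_self)
        have := sub_true (h3 c hc).2 (i := a.1) (by simp [testBit_bit])
        rw [Net.testBit_pull (hn c), testBit_bit, decide_eq_true_eq] at this
        rw [mem_stab, hρ c (h3 c hc).1]
        exact this.symm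
      exact fun g hg => this hg
    · refine popc_le_ncard ?_ fun i hi => ?_
      · exact (Set.finite_range fun g : S => ρ g a.1).subset fun i ⟨g, _, hg⟩ => ⟨g, hg⟩
      · obtain ⟨g, hg, h5⟩ := ((Reach.refl nets L _).orb hn a.2.1).exists_bit hρ hi
        exact ⟨g, Subgroup.mem_sup_left hg, h5⟩

end

end H15.KM
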