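import Mathlib
import Cfsg.Agent.H15.KM2

/-!
# Graphs, lifts of automorphisms and computing modulo a central involution
-/

set_option autoImplicit false
set_option linter.unusedSectionVars false

namespace H15.KM

open H29 H24 Subgroup

section

variable {G : Type*} [Group G] {S : Type*} [Group S]

theorem derives_fin [Finite G] {iv : ℕ → ℕ} {R R' : List (List ℕ)} (hd : Derives iv R R')
    {e : ℕ → G} (hi : IvOK e iv) (h : ∀ r ∈ R, ev e r = 1) : ∀ r ∈ R', ev e r = 1 := by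
  let f : Shrink.{0} G ≃* G := Shrink.mulEquiv
  intro r hr
  have := hd (Shrink.{0} G) (fun c => f.symm.toMonoidHom (e c)) (fun c => by simp [hi c])
    (fun r hr => by rw [← map_ev, h r hr, map_one]) r hr
  rw [← map_ev] at this
  simpa using this

theorem sat_fin [Finite G] {e : ℕ → G} {T : TCData} (hT : T.OK)
    (hii : ∀ c, T.iv (T.iv c) = c) {R : List (List ℕ)} (hd : Derives T.iv R T.R)
    (h0 : (allL R fun r => allL r fun c => memL c T.cols) = true)
    (h1 : ∀ c ∈ T.cols, e c * e (T.iv c) = 1) (h2 : ∀ r ∈ R, ev e r = 1) : Sat T e := by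
  classical
  simp only [allL_true, memL_true] at h0
  have hi : IvOK (fun c => if c ∈ T.cols then e c else 1) T.iv := fun c => by
    by_cases hc : c ∈ T.cols
    · simp only [if_pos hc, if_pos (hT.col c hc).1]
      exact eq_inv_of_mul_eq_one_right (h1 c hc)
    · have : T.iv c ∉ T.cols := fun h => hc (hii c ▸ (hT.col _ h).1)
      simp only [if_neg hc, if_neg this, inv_one]
  refine ⟨hT, _, hi, derives_fin hd hi fun r hr => ?_, fun c hc => if_pos hc⟩
  rw [← h2 r hr]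
  exact ev_congr fun c hc => if_pos (h0 r hr c hc)

theorem slp_agree {defs : List (List ℕ)} (hs : chkSlp defs = true) {e b : ℕ → G} {n : ℕ}
    (hd : ∀ c < n, e c = ev e (nth [] defs c)) (hb : ∀ c < n, b c = e c) (c : ℕ) (hc : c < n) :
    slp b defs c = e c := by
  induction c using Nat.strong_induction_on with
  | _ c ih =>
    rcases chkSlp_spec hs c with h1 | h1
    · rw [slp_base _ h1, hb c hc]
    · rw [slp_def b hs c, hd c hc]
      exact ev_congr fun y hy => ih y (h1 y hy) ((h1 y hy).trans hc)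

variable {run : List ℕ → ℕ} {iv : ℕ → ℕ} {m : ℕ → S} {e : ℕ → G}

theorem Iso.ivOK (h : Iso run e) (hm : Iso run m) (hi : IvOK m iv) : IvOK e iv := fun c =>
  eq_inv_of_mul_eq_one_right (by
    simpa using (h [c, iv c] []).1 ((hm _ _).2 (by simp [hi c])))

theorem Iso.rels (h : Iso run e) {R : List (List ℕ)} (hc : (allL R fun r => KM.eqW run r []) = true) :
    ∀ r ∈ R, ev e r = 1 := fun r hr => h.eqW.1 (allL_true.1 hc r hr)

theorem Iso.sat [Finite G] (h : Iso run e) {T : TCData} (hi : IvOK e T.iv) (hT : T.OK)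
    (hc : (allL T.R fun r => KM.eqW run r []) = true) : Sat T e :=
  ⟨hT, e, hi, h.rels hc, fun _ _ => rfl⟩

theorem Iso.ne (h : Iso run e) {u v : List ℕ} (hc : not1 (KM.eqW run u v) = true) :
    ev e u ≠ ev e v := fun h1 => not1_true.1 hc (h.eqW.2 h1)

theorem Iso.trM (h : Iso run e) (L : ℕ) : TrM run L e := fun u v _ _ h1 => (h u v).1 h1

/-- The letters `cs` commute with the word `v`. -/
noncomputable def chkC (run : List ℕ → ℕ) (cs v : List ℕ) : Bool :=
  allL cs fun c => eqW run (c :: v) (app v [c])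

theorem Iso.cent (h : Iso run e) {cs v : List ℕ} (hc : chkC run cs v = true) :
    gen e cs ≤ C{ev e v} := gen_le.2 fun c h1 => mem_C1.2 (by
  simpa using h.eqW.1 (allL_true.1 hc c h1))

theorem Iso.le (h : Iso run e) {cs l : List ℕ}
    (hc : (frc (vals run l) fun V => allL cs fun c => inV run V [c]) = true) : gen e cs ≤ gen e l :=
  gen_le.2 fun c h1 => by
    rw [frc_eq] at hc
    simpa using h.mem (allL_true.1 hc c h1)

/-- The cosets `W[i] • gen l` cover the group of the letters `cs`. -/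
noncomputable def chkCov (run : List ℕ → ℕ) (iv : ℕ → ℕ) (cs l : List ℕ) (W : List (List ℕ))
    (D : ℕ → List ℕ) : Bool :=
  and2 (and2 (Nat.ble 1 (lenL W)) (eqL (nth [] W 0) [])) (allL cs fun c => and2 (memL (iv c) cs)
    (allN (lenL W) fun i => lit i fun i => lit (nth 0 (D c) i) fun d =>
      lit (Nat.mod d (lenL W)) fun j =>
        eqW run (c :: nth [] W i) (app (nth [] W j) (mw l (Nat.div d (lenL W))))))

theorem nth_mem {α : Type} (d : α) {l : List α} {i : ℕ} (h : i < l.length) : nth d l i ∈ l := by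
  rw [nth_eq, List.getD_eq_getElem _ _ h]; exact List.getElem_mem h

theorem Iso.cov (h : Iso run e) (hi : IvOK e iv) {cs l : List ℕ} {W : List (List ℕ)}
    {D : ℕ → List ℕ} (hc : chkCov run iv cs l W D = true) {g : G} (hg : g ∈ gen e cs) :
    ∃ w ∈ W, (ev e w)⁻¹ * g ∈ gen e l := by
  simp only [chkCov, and2_true, allL_true, allN_true, lit_eq, memL_true, lenL_eq, ble_true,
    h.eqW, app_eq, ev_append, ev_cons] at hc
  obtain ⟨u, hu, rfl⟩ := exists_word hi (fun c h1 => (hc.2 c h1).1) hg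
  clear hg
  suffices ∃ i < W.length, (ev e (nth [] W i))⁻¹ * ev e u ∈ gen e l by
    obtain ⟨i, h1, h2⟩ := this
    exact ⟨_, nth_mem _ h1, h2⟩
  induction u with
  | nil => exact ⟨0, hc.1.1, by simp [eqL_true hc.1.2]⟩
  | cons c u ih =>
    obtain ⟨i, h1, h2⟩ := ih fun y hy => hu y (List.mem_cons_of_mem _ hy)
    have h3 := (hc.2 c (hu c List.mem_cons_self)).2 i h1
    refine ⟨_, Nat.mod_lt (nth 0 (D c) i) hc.1.1, ?_⟩
    have := (gen e l).mul_mem (ev_mem_gen (mem_mw l (Nat.div (nth 0 (D c) i) W.length))) h2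
    rw [← inv_mul_eq_iff_eq_mul] at h3
    rw [← h3] at this
    rw [mul_assoc, mul_assoc, mul_inv_cancel_left] at this
    exact this

/-! ### Partial homomorphisms -/

theorem ev_ap {D : Subgroup G} (f : D →* S) : ∀ {w : List ℕ}, (∀ c ∈ w, e c ∈ D) →
    ev (fun c => ap f (e c)) w = ap f (ev e w)
  | [], _ => by simp
  | c :: w, h => by
    have h' := fun y hy => h y (List.mem_cons_of_mem _ hy)
    rw [ev_cons, ev_cons, ev_ap f h', ap_mul f (h c List.mem_cons_self) (ev_mem h')]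

theorem gen_ap {D : Subgroup G} (f : D →* S) {l : List ℕ} (h : ∀ c ∈ l, e c ∈ D) :
    gen (fun c => ap f (e c)) l = img f (gen e l) :=
  le_antisymm (gen_le.2 fun c hc => ap_mem_img f (mem_gen hc) (h c hc))
    (img_le_of_le_pre (gen_le.2 fun c hc => mem_pre.2 ⟨h c hc, mem_gen hc⟩))

theorem up_ap {D : Subgroup G} (f : D →* S) {a : G} (ha : a ∈ D) :
    up (fun c => ap f (e c)) (ap f a) = fun c => ap f (up e a c) := by
  funext c
  unfold up
  split_ifs
  · rfl
  · rw [ap_inv f ha]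
  · rfl

/-! ### Graphs -/

theorem exists_equiv {D : Subgroup (S × G)} (h1 : Gr D) (h2 : CoGr D) :
    ∃ φ : D.map (MonoidHom.fst S G) ≃* D.map (MonoidHom.snd S G),
      ∀ a b, φ a = b ↔ ((a : S), (b : G)) ∈ D := by
  let f1 := MulEquiv.ofBijective ((MonoidHom.fst S G).subgroupMap D)
    ⟨fun a b h => Subtype.ext (h1.eq a.2 b.2 (congrArg Subtype.val h)),
      MonoidHom.subgroupMap_surjective _ _⟩
  let f2 := MulEquiv.ofBijective ((MonoidHom.snd S G).subgroupMap D)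
    ⟨fun a b h => Subtype.ext (h2.eq a.2 b.2 (congrArg Subtype.val h)),
      MonoidHom.subgroupMap_surjective _ _⟩
  refine ⟨f1.symm.trans f2, fun a b => ⟨fun h => ?_, fun h => ?_⟩⟩
  · obtain ⟨d, rfl⟩ := f1.surjective a
    rw [MulEquiv.trans_apply, MulEquiv.symm_apply_apply] at h
    subst h
    exact d.2
  · rw [MulEquiv.trans_apply, show a = f1 ⟨_, h⟩ from rfl, MulEquiv.symm_apply_apply]; rfl

theorem lift_aut [Finite S] [Finite G] {D : Subgroup (S × G)} (h1 : Gr D) (h2 : CoGr D)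
    {H Q : Subgroup G} (hQ : D.map (MonoidHom.snd S G) = Q) {n : ℕ}
    (hl : ∀ α : MulAut Q, α ^ n = 1 → ∃ g ∈ H, g ^ n = 1 ∧ ∀ q : Q, (α q : G) = g * q * g⁻¹)
    {t : S} (ht : t ∈ N[D.map (MonoidHom.fst S G)]) (h3 : t ^ n = 1) :
    ∃ g ∈ H, g ^ n = 1 ∧ (t, g) ∈ N[D] := by
  subst hQ
  obtain ⟨φ, hφ⟩ := exists_equiv h1 h2
  obtain ⟨g, a1, a2, a3⟩ := hl (MulAut.congr φ (normalizerMonoidHom _ ⟨t, ht⟩)) (by
    rw [← map_pow, ← map_pow, show (⟨t, ht⟩ : N[D.map (MonoidHom.fst S G)]) ^ n = 1 from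
      Subtype.ext h3, map_one, map_one])
  refine ⟨g, a1, a2, mem_N_of_finite fun d hd => ?_⟩
  have b1 := (hφ ⟨d.1, mem_map_of_mem _ hd⟩ ⟨d.2, mem_map_of_mem _ hd⟩).2 hd
  have b2 := a3 ⟨d.2, mem_map_of_mem _ hd⟩
  have b3 := (hφ ⟨t * d.1 * t⁻¹, conj_mem ht (mem_map_of_mem _ hd)⟩ _).1 rfl
  rw [← b1, MulAut.congr_apply, MulEquiv.trans_apply, MulEquiv.trans_apply,
    MulEquiv.symm_apply_apply, b1] at b2
  exact (congrArg (fun y => (t * d.1 * t⁻¹, y) ∈ D) b2).mp b3

theorem Gr.cent {D : Subgroup (S × G)} (h : Gr D) {d : S × G} (hd : d ∈ N[D]) (h1 : d.1 = 1) :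
    d.2 ∈ C[D.map (MonoidHom.snd S G)] := mem_C'.2 (by
  rintro _ ⟨q, hq, rfl⟩
  exact mul_inv_eq_iff_eq_mul.1 (congrArg Prod.snd (h.eq (conj_mem hd hq) hq (by simp [h1]))))

theorem CoGr.cent {D : Subgroup (S × G)} (h : CoGr D) {d : S × G} (hd : d ∈ N[D]) (h1 : d.2 = 1) :
    d.1 ∈ C[D.map (MonoidHom.fst S G)] := mem_C'.2 (by
  rintro _ ⟨q, hq, rfl⟩
  exact mul_inv_eq_iff_eq_mul.1 (congrArg Prod.fst (h.eq (conj_mem hd hq) hq (by simp [h1]))))

theorem sq_mem_of {Q : Subgroup G} {a q : G} (ha : a ∈ N[Q]) (hq : q ∈ Q)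
    (h : q * a * (q * a) = 1) : a * a ∈ Q := by
  rw [← Q.mul_mem_cancel_left (Q.mul_mem hq (conj_mem ha hq)),
    show q * (a * q * a⁻¹) * (a * a) = q * a * (q * a) by group, h]
  exact Q.one_mem

/-! ### Modulo the central involution `0` -/

noncomputable def modZ (run : List ℕ → ℕ) (w : List ℕ) : ℕ :=
  lit (run w) fun a => lit (run (0 :: w)) fun b => Bool.rec b a (Nat.ble a b)

theorem modZ_eq (run : List ℕ → ℕ) (w : List ℕ) : modZ run w = min (run w) (run (0 :: w)) := by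
  simp only [modZ, lit_eq]
  by_cases h : run w ≤ run (0 :: w)
  · rw [ble_true.2 h, min_eq_left h]
  · rw [show Nat.ble (run w) (run (0 :: w)) = false by
      rw [← Bool.not_eq_true, ble_true]; exact h, min_eq_right (le_of_not_ge h)]

/-- the letters modulo the letter `0` -/
noncomputable abbrev bar (e : ℕ → G) (c : ℕ) : QN (zpowers (e 0)) := cs (zpowers (e 0)) (e c)

theorem mem_zp2 {z c : G} (h2 : z * z = 1) : c ∈ zpowers z ↔ c = 1 ∨ c = z := by
  refine ⟨?_, by rintro (rfl | rfl); exacts [one_mem _, mem_zpowers _]⟩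
  rintro ⟨n, rfl⟩
  change z ^ n = 1 ∨ z ^ n = z
  obtain ⟨k, rfl | rfl⟩ := Int.even_or_odd' n
  · left; rw [zpow_mul, zpow_two, h2, one_zpow]
  · right; rw [zpow_add, zpow_mul, zpow_two, h2, one_zpow, one_mul, zpow_one]

theorem C1_le_N (z : G) : C{z} ≤ N[zpowers z] := norm_zpowers_of_cent le_rfl

theorem ev_bar (hc : ∀ c, e c ∈ C{e 0}) (w : List ℕ) :
    ev (bar e) w = cs (zpowers (e 0)) (ev e w) := ev_ap _ fun c _ => C1_le_N _ (hc c)

theorem gen_bar (hc : ∀ c, e c ∈ C{e 0}) (l : List ℕ) :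
    gen (bar e) l = quo (gen e l) (zpowers (e 0)) := gen_ap _ fun c _ => C1_le_N _ (hc c)

theorem iso_modZ (hm : Iso run m) (h2 : m 0 * m 0 = 1)
    (hc : ∀ c, e c ∈ C{e 0}) {D : Subgroup (S × G)} (hD : ∀ c, pr m e c ∈ D)
    (h3 : ∀ d ∈ D, d.1 = 1 → d.2 ∈ zpowers (e 0)) (h4 : ∀ d ∈ D, d.2 = 1 → d.1 ∈ zpowers (m 0)) :
    Iso (modZ run) (bar e) := by
  intro u v
  have a1 : modZ run u = modZ run v ↔ ev m v * (ev m u)⁻¹ ∈ zpowers (m 0) := by
    have i0 : (m 0)⁻¹ = m 0 := inv_eq_of_mul_eq_one_right h2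
    rw [modZ_eq, modZ_eq, mem_zp2 h2, mul_inv_eq_one, mul_inv_eq_iff_eq_mul]
    constructor
    · intro h
      rcases min_choice (run u) (run (0 :: u)) with b | b <;>
        rcases min_choice (run v) (run (0 :: v)) with c | c <;> rw [b, c, hm] at h
      · exact .inl h.symm
      · exact .inr (by rw [h, ev_cons, ← mul_assoc, h2, one_mul])
      · exact .inr h.symm
      · exact .inl (mul_left_cancel h).symm
    · rintro (h | h)
      · rw [(hm u v).2 h.symm, (hm (0 :: u) (0 :: v)).2 (by simp [h])]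
      · rw [(hm (0 :: u) v).2 h.symm, (hm u (0 :: v)).2 (by rw [ev_cons, h, ← mul_assoc, h2, one_mul]),
          min_comm]
  have n1 : ∀ w, ev e w ∈ N[zpowers (e 0)] := fun w => C1_le_N _ (ev_mem fun c _ => hc c)
  have a2 : ev (pr m e) v * (ev (pr m e) u)⁻¹ ∈ D :=
    D.mul_mem (ev_mem fun c _ => hD c) (D.inv_mem (ev_mem fun c _ => hD c))
  rw [a1, ev_bar hc, ev_bar hc, cs_eq_cs (n1 u) (n1 v), ← conj_mem_iff (n1 u), mul_inv_cancel_left]
  constructor
  · rintro ⟨n, hn⟩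
    have := h3 _ (D.mul_mem (D.inv_mem (D.zpow_mem (hD 0) n)) a2) (by simp [← hn])
    simpa using (zpowers (e 0)).mul_mem (zpow_mem (mem_zpowers _) n) this
  · rintro ⟨n, hn⟩
    have := h4 _ (D.mul_mem (D.inv_mem (D.zpow_mem (hD 0) n)) a2) (by simp [← hn])
    simpa using (zpowers (m 0)).mul_mem (zpow_mem (mem_zpowers _) n) this

theorem iso_modZ_self (hm : Iso run e) (h2 : e 0 * e 0 = 1) (hc : ∀ c, e c ∈ C{e 0}) :
    Iso (modZ run) (bar e) :=
  iso_modZ hm h2 hc (D := (MonoidHom.fst G G).eqLocus (MonoidHom.snd G G)) (fun _ => rfl)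
    (fun d hd h => by rw [← show d.1 = d.2 from hd, h]; exact one_mem _)
    fun d hd h => by rw [show d.1 = d.2 from hd, h]; exact one_mem _

theorem mem_of_bar (hc : ∀ c, e c ∈ C{e 0}) {l : List ℕ} (h0 : e 0 ∈ gen e l) {g : G}
    (hg : g ∈ C{e 0}) (h : cs (zpowers (e 0)) g ∈ gen (bar e) l) : g ∈ gen e l := by
  rw [gen_bar hc] at h
  exact mem_of_cs_mem_quo ⟨zpowers_le.2 h0, (gen_le.2 fun c _ => hc c).trans (C1_le_N _)⟩
    (C1_le_N _ hg) h

theorem mem_of_bar' (hc : ∀ c, e c ∈ C{e 0}) {l : List ℕ} {g : G}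
    (hg : g ∈ C{e 0}) (h : cs (zpowers (e 0)) g ∈ gen (bar e) l) : g ∈ gen e (l ++ [0]) :=
  mem_of_bar hc (mem_gen (by simp)) hg (gen_mono (fun _ h => List.mem_append_left _ h) h)

theorem bar_mem (hc : ∀ c, e c ∈ C{e 0}) {l : List ℕ} {g : G} (h : g ∈ gen e (l ++ [0])) :
    cs (zpowers (e 0)) g ∈ gen (bar e) l := by
  have : cs (zpowers (e 0)) g ∈ gen (bar e) (l ++ [0]) :=
    gen_bar hc _ ▸ cs_mem_quo h (C1_le_N _ (gen_le.2 (fun c _ => hc c) h))
  refine gen_le.2 (fun c h1 => ?_) this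
  rcases List.mem_append.1 h1 with h1 | h1
  · exact mem_gen h1
  · rw [List.mem_singleton.1 h1, bar, cs_of_mem (mem_zpowers _)]; exact one_mem _

theorem card_bar (hc : ∀ c, e c ∈ C{e 0}) {l : List ℕ} (h0 : e 0 ∈ gen e l) :
    Nat.card (gen e l) = orderOf (e 0) * Nat.card (gen (bar e) l) := by
  rw [gen_bar hc, ← card_zpowers', Nml.card_quo
    ⟨zpowers_le.2 h0, (gen_le.2 fun c _ => hc c).trans (C1_le_N _)⟩]

end

end H15.KM
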