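import Mathlib
import Cfsg.Agent.H15.LX
import Cfsg.Agent.H15.KM3
import Cfsg.Agent.H17.ZStar
import Cfsg.Agent.H21.OddInv

/-!
# The last steps of a recognition by involution centralisers
-/

set_option autoImplicit false
set_option linter.unusedSectionVars false

namespace H15.XP

open Subgroup H24 KM

variable {G : Type*} [Group G] [Finite G]

theorem odd_eq_bot_of_four {O : Subgroup G} (hO : Odd (Nat.card O)) {a b : G} (ha : a * a = 1)
    (hb : b * b = 1) (na : a ∈ N[O]) (nb : b ∈ N[O])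
    (h : ∀ v ∈ [a, b, a * b], ∀ x ∈ O, x ∈ C{v} → x = 1) : O = ⊥ := by
  have k : ∀ t, t * t = 1 → t ∈ N[O] → t ∈ [a, b, a * b] → ∀ x ∈ O, t * x * t⁻¹ = x⁻¹ :=
    fun t h1 h2 h3 x hx => by
      obtain ⟨y, w, a1, a2, a3, rfl⟩ := H21.exists_cent_mul_inverted h1 hO (fun _ => conj_mem h2) hx
      rw [h t h3 y a1 (mem_C1.2 a2.symm), one_mul]; exact a3.2
  refine eq_bot_iff.2 fun x hx => h (a * b) (by simp) x hx (mem_C1_comm.1 (mem_C1_iff_conj.2 ?_))
  rw [show a * b * x * (a * b)⁻¹ = a * (b * x * b⁻¹) * a⁻¹ by group, k b hb nb (by simp) x hx,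
    k a ha na (by simp) _ (inv_mem hx), inv_inv]

/-- `Z*` with a Sylow subgroup and a four-group. -/
theorem central_of_isolated {P : Subgroup G} (hP : Syl 2 ⊤ P) {u a b : G} (hu : u ∈ P) (u1 : u ≠ 1)
    (u2 : u * u = 1) (hi : ∀ g, g * u * g⁻¹ ∈ P → g * u * g⁻¹ = u) (ha : a * a = 1) (hb : b * b = 1)
    (h : ∀ v ∈ [a, b, a * b], IsPi {2} C{v}) (g : G) : g * u * g⁻¹ = u := by
  have p2 := Nat.prime_two
  have hO : Cfsg.pPrimeCore 2 G = ⊥ := by
    have h1 := H17.odd_card_pPrimeCore (G := G)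
    have h2 : ∀ y, y ∈ N[Cfsg.pPrimeCore 2 G] := fun y => by rw [normalizer_eq_top]; trivial
    refine odd_eq_bot_of_four h1 ha hb (h2 a) (h2 b) fun v hv x hx hc => ?_
    refine ((h v hv).piElt hc).eq_one (IsPi.piElt ((isPi_compl_iff p2).2 ?_) hx)
    rwa [Nat.two_dvd_ne_zero, ← Nat.odd_iff]
  have e2 : ∀ y : G, y * y = 1 → IsPi {2} (zpowers y) := fun y hy =>
    (piElt_of_pow_eq_one (piNat_self p2) (by rwa [pow_two])).isPi
  refine mul_inv_eq_iff_eq_mul.2 (H17.zstar_central hO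
    ⟨orderOf_eq_prime (by rwa [pow_two]) u1, fun c hc => ?_⟩ g).eq.symm
  obtain ⟨d, -, a1⟩ := Sylow_Jsub p2 hP ((e2 u u2).sup (e2 (c * u * c⁻¹) (by rw [conj_mul, u2]; simp))
    (norm_of_cent (by rw [C_zpowers, zpowers_le]; exact mem_C1.2 hc.eq.symm))) le_top
  have a2 := hi d (a1 (conj_mem_cj d (mem_sup_left (mem_zpowers _))))
  have a3 := hi (d * c) (by
    simpa [mul_assoc] using a1 (conj_mem_cj d (mem_sup_right (mem_zpowers (c * u * c⁻¹)))))
  exact mul_left_cancel (a := d) (by simpa [← mul_assoc] using a3.trans a2.symm)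

/-- The same modulo a central involution. -/
theorem norm_of_isolated {P : Subgroup G} {t u a b : G} (hP : Syl 2 C{t} P) (hu : u ∈ P)
    (u1 : u ∉ zpowers t) (u2 : u * u = 1)
    (hi : ∀ g ∈ C{t}, g * u * g⁻¹ ∈ P → u⁻¹ * (g * u * g⁻¹) ∈ zpowers t) (t2 : t * t = 1)
    (ha : a * a = 1) (hb : b * b = 1) (ca : a ∈ C{t}) (cb : b ∈ C{t})
    (h : ∀ v ∈ [a, b, a * b], ∀ c ∈ C{t}, v⁻¹ * (c * v * c⁻¹) ∈ zpowers t → PiElt {2} c)
    {g : G} (hg : g ∈ C{t}) : u⁻¹ * (g * u * g⁻¹) ∈ zpowers t := by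
  have p2 := Nat.prime_two
  have hN : N[zpowers t] = C{t} := le_antisymm (fun x hx => mem_C1_iff_conj.2 (by
    rcases (mem_zp2 t2).1 (conj_mem hx (mem_zpowers t)) with a | a
    · rw [a, conj_eq_one_iff'.1 a]
    · exact a)) (C1_le_N t)
  have n := fun x (hx : x ∈ C{t}) => C1_le_N t hx
  have cu := hP.le hu
  have tP : zpowers t ≤ P := hP.nml_le
    (piElt_of_pow_eq_one (piNat_self p2) (by rwa [pow_two])).isPi ⟨zpowers_le_C1 t, C1_le_N t⟩
  have hP' := hP.quo (C1_le_N t)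
  rw [← hN, quo_N] at hP'
  have sq : ∀ y ∈ C{t}, y * y = 1 → cs (zpowers t) y * cs (zpowers t) y = 1 := fun y h1 h2 => by
    rw [cs, ← ap_mul _ (n y h1) (n y h1), h2, ap_one]
  have cj : ∀ x ∈ C{t}, ∀ y ∈ C{t}, cs (zpowers t) x * cs (zpowers t) y * (cs (zpowers t) x)⁻¹ =
      cs (zpowers t) y ↔ y⁻¹ * (x * y * x⁻¹) ∈ zpowers t := fun x hx y hy => by
    rw [cs, cs, ← ap_conj _ (n x hx) (n y hy), eq_comm]
    exact cs_eq_cs (n y hy) (n _ (mul_mem (mul_mem hx hy) (inv_mem hx)))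
  refine (cj g hg u cu).1 (central_of_isolated hP' (cs_mem_quo hu (n u cu))
    (fun a => u1 ((cs_eq_one (n u cu)).1 a)) (sq u cu u2) (fun x hx => ?_) (sq a ca ha) (sq b cb hb)
    (fun v hv => isPi_iff_piElt.2 fun x hx => ?_) _)
  · obtain ⟨y, hy, rfl⟩ := exists_cs x
    rw [hN] at hy
    refine (cj y hy u cu).2 (hi y hy ?_)
    rw [cs, cs, ← ap_conj _ (n y hy) (n u cu)] at hx
    exact mem_of_cs_mem_quo ⟨tP, hP.le.trans (C1_le_N t)⟩ (n _ (mul_mem (mul_mem hy cu) (inv_mem hy))) hx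
  · obtain ⟨y, hy, rfl⟩ := exists_cs x
    rw [hN] at hy
    obtain ⟨w, a1, a2, rfl⟩ : ∃ w ∈ [a, b, a * b], w ∈ C{t} ∧ cs (zpowers t) w = v := by
      simp only [List.mem_cons, List.not_mem_nil, or_false] at hv
      rcases hv with rfl | rfl | rfl
      exacts [⟨a, by simp, ca, rfl⟩, ⟨b, by simp, cb, rfl⟩,
        ⟨a * b, by simp, mul_mem ca cb, ap_mul _ (n a ca) (n b cb)⟩]
    exact (h w a1 y hy ((cj y hy w a2).1 (mem_C1_iff_conj.1 hx))).ap _ (n y hy)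

theorem LX.norm_le {z : G} {Q T : Subgroup G} (h : LX z Q) (hT : Syl 2 C{z} T) : N[T] ≤ C{z} := by
  intro g hg
  have := Fact.mk Nat.prime_two
  have a1 : Q ≤ T := hT.nml_le (isPi_of_isPGroup Nat.prime_two h.isX.1.1) ⟨h.le, h.norm⟩
  have a2 : g * z * g⁻¹ ∈ C[T] :=
    conj_mem (N_le_NC T hg) (mem_C_iff_le_C1.2 hT.le)
  exact mem_C1_iff_conj.2 ((h.eq_or (C_anti a1 a2)).resolve_left (by simpa using h.ne_one))

/-- A simple subgroup that contains enough involution centralisers is everything. -/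
theorem LX.eq_top {z t : G} {Q G₀ : Subgroup G} (h : LX z Q) [IsSimpleGroup G₀] (hz : C{z} ≤ G₀)
    (t2 : t * t = 1) (hn : ∀ g, g * z * g⁻¹ ≠ t)
    (hw : ∀ w ∈ C{t}, w * w = 1 → w ≠ 1 → C{w} ≤ G₀) : G₀ = ⊤ := by
  have p2 := Nat.prime_two
  have a1 : ∀ g, g * z * g⁻¹ ∈ G₀ := fun g => by
    have b1 : g * z * g⁻¹ * (g * z * g⁻¹) = 1 := by rw [conj_mul, h.sq]; simp
    obtain ⟨w, c1, c2, c3, c4, -⟩ := H21.exists_invol_comm_of_not_odd t2 b1 (isOfFinOrder_of_finite _)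
      fun ho => by
        obtain ⟨k, hk⟩ := H21.conj_of_odd_mul t2 b1 ho (pow_orderOf_eq_one _)
        exact hn ((t * (g * z * g⁻¹)) ^ k * g) (by simpa only [mul_assoc, mul_inv_rev] using hk)
    exact hw w (mem_C1.2 c3.eq) c2 c1 (mem_C1.2 c4.eq.symm)
  have a2 : normalClosure {z} ≤ G₀ := closure_le _ |>.2 fun x hx => by
    obtain ⟨y, rfl, hy⟩ := Group.mem_conjugatesOfSet_iff.1 hx
    obtain ⟨g, rfl⟩ := isConj_iff.1 hy
    exact a1 g
  have a3 : normalClosure {z} = G₀ := by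
    rcases IsSimpleGroup.eq_bot_or_eq_top_of_normal ((normalClosure {z}).subgroupOf G₀) inferInstance
      with a | a
    · exact absurd (congrArg Subtype.val (mem_bot.1 (a ▸ subset_normalClosure rfl :
        (⟨z, hz (self_mem_C1 z)⟩ : G₀) ∈ ⊥))) h.ne_one
    · exact le_antisymm a2 (subgroupOf_eq_top.1 a)
  obtain ⟨T, hT⟩ := Sylow_exists p2 C{z}
  have a4 := (Frattini_arg p2 (M := ⊤) (nml_top_iff.2 (a3 ▸ normalClosure_normal))
    (hT.of_norm_le p2 hz (inf_le_right.trans (h.norm_le hT)))).sup_eq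
  exact eq_top_iff.2 (a4.ge.trans (sup_le le_rfl (inf_le_right.trans ((h.norm_le hT).trans hz))))

end H15.XP
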