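import Mathlib
import Cfsg.Agent.H15.CIT1

/-!
# Failure of factorisation in a group without elements of order `2p`
-/

set_option autoImplicit false
set_option linter.unusedSectionVars false
set_option linter.style.haveILetI false

namespace H15.CIT

open H24 Cfsg Subgroup H12
open scoped commutatorElement

variable {G : Type*} [Group G]

/-- `O₂(P)`. -/
def QQ (P : Subgroup G) : Subgroup G := O[{2}, P]

/-- `Ω₁(Z(O₂(P)))`. -/
def VV (P : Subgroup G) : Subgroup G := OZ (QQ P)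

/-- the Thompson subgroup. -/
abbrev JJ (T : Subgroup G) : Subgroup G := thompsonSubgroupOf 2 T

variable [Finite G] {P T A A' W W' : Subgroup G}

theorem QQ_t2 (P : Subgroup G) : T2 (QQ P) := pcore_pi _ _
theorem QQ_nml (P : Subgroup G) : QQ P ⊴ P := pcore_nml _ _
theorem QQ_norm (P : Subgroup G) : P ≤ N[QQ P] := (QQ_nml P).norm
theorem VV_le (P : Subgroup G) : VV P ≤ QQ P := OZ_le _
theorem VV_le' (P : Subgroup G) : VV P ≤ P := (VV_le P).trans (QQ_nml P).le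
theorem VV_norm (P : Subgroup G) : P ≤ N[VV P] := norm_OZ (QQ_norm P)
theorem QQ_le_C (P : Subgroup G) : QQ P ≤ C[VV P] := le_C_OZ _
theorem ea_VV (P : Subgroup G) : EA (VV P) := ea_OZ _
theorem QQ_le (hT : Syl 2 P T) : QQ P ≤ T := pcore_le_Hall hT
theorem cj_QQ (g : G) (P : Subgroup G) : cj g (QQ P) = QQ (cj g P) := (pcore_cj _ _ _).symm
theorem cj_VV (g : G) (P : Subgroup G) : cj g (VV P) = VV (cj g P) := by
  rw [VV, cj_OZ, cj_QQ]; rfl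
theorem VV_ne_bot (h : QQ P ≠ ⊥) : VV P ≠ ⊥ := OZ_ne_bot (QQ_t2 P) h
theorem le_QQ {K : Subgroup G} (h : T2 K) (hn : K ⊴ P) : K ≤ QQ P := pcore_max h hn

theorem IsCIT.inf_C_le (hG : IsCIT G) {U : Subgroup G} (hU : T2 U) (h1 : U ≠ ⊥) (hn : P ≤ N[U]) :
    P ⊓ C[U] ≤ QQ P :=
  le_QQ ((hG.centS hU h1).inf_right _) (nml_inf_of_norm (norm_C hn))

theorem IsCIT.mem_QQ (hG : IsCIT G) (h : QQ P ≠ ⊥) {x : G} (hx : x ∈ P) (hc : x ∈ C[VV P]) :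
    x ∈ QQ P :=
  hG.inf_C_le (ea_VV P).t2 (VV_ne_bot h) (VV_norm P) ⟨hx, hc⟩

theorem IsCIT.OZ_le_VV (hG : IsCIT G) (hT : Syl 2 P T) (h : QQ P ≠ ⊥) : OZ T ≤ VV P := by
  intro x hx
  obtain ⟨h1, h2, h3⟩ := mem_OZ.1 hx
  have h4 : x ∈ C[QQ P] := C_anti (QQ_le hT) h2
  exact mem_OZ.2 ⟨hG.inf_C_le (QQ_t2 P) h (QQ_norm P) ⟨hT.le h1, h4⟩, h4, h3⟩

theorem conj_eq_of_QQ {u v : G} (hu : u ∈ QQ P) (hv : v ∈ VV P) : u * v * u⁻¹ = v :=
  conj_eq_of_mem_C (QQ_le_C P hu) hv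

/-- `A` acts on `V` as a full group of transvections with axis `W`. -/
structure Off (P A W : Subgroup G) : Prop where
  ne : QQ P ≠ ⊥
  le : A ≤ P
  t2 : T2 A
  Wle : W ≤ VV P
  cent : A ≤ C[W]
  card : Nat.card (VV P) = Nat.card W ^ 2
  comm : ∀ a ∈ A, ∀ v ∈ VV P, v⁻¹ * (a * v * a⁻¹) ∈ W
  fix : ∀ a ∈ A, a ∉ QQ P → VV P ⊓ C{a} = W
  orb : ∀ v ∈ VV P, v ∉ W → ∀ w ∈ W, ∃ a ∈ A, a * v * a⁻¹ = v * w
  ex : ∃ a ∈ A, a ∉ QQ P

namespace Off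

theorem cj (h : Off P A W) (g : G) : Off (cj g P) (cj g A) (cj g W) where
  ne := by rw [← cj_QQ]; simpa using h.ne
  le := cj_mono g h.le
  t2 := h.t2.cj g
  Wle := by rw [← cj_VV]; exact cj_mono g h.Wle
  cent := cent_cj h.cent g
  card := by rw [← cj_VV, card_cj, card_cj, h.card]
  comm := by
    intro a ha v hv
    rw [← cj_VV] at hv
    obtain ⟨a, ha', rfl⟩ := mem_cj'.1 ha
    obtain ⟨v, hv', rfl⟩ := mem_cj'.1 hv
    have := conj_mem_cj g (h.comm a ha' v hv')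
    convert this using 1; group
  fix := by
    intro a ha haQ
    obtain ⟨a, ha', rfl⟩ := mem_cj'.1 ha
    rw [← cj_QQ, conj_mem_cj_iff] at haQ
    rw [← cj_VV, ← cj_C1, ← cj_inf, h.fix a ha' haQ]
  orb := by
    intro v hv hvW w hw
    rw [← cj_VV] at hv
    obtain ⟨v, hv', rfl⟩ := mem_cj'.1 hv
    obtain ⟨w, hw', rfl⟩ := mem_cj'.1 hw
    rw [conj_mem_cj_iff] at hvW
    obtain ⟨a, ha, e⟩ := h.orb v hv' hvW w hw'
    refine ⟨_, conj_mem_cj g ha, ?_⟩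
    calc g * a * g⁻¹ * (g * v * g⁻¹) * (g * a * g⁻¹)⁻¹ = g * (a * v * a⁻¹) * g⁻¹ := by group
      _ = _ := by rw [e]; group
  ex := by
    obtain ⟨a, ha, haQ⟩ := h.ex
    exact ⟨_, conj_mem_cj g ha, by rwa [← cj_QQ, conj_mem_cj_iff]⟩

theorem cjP (h : Off P A W) {g : G} (hg : g ∈ P) : Off P (H24.cj g A) (H24.cj g W) := by
  have := h.cj g
  rwa [cj_of_mem hg] at this

theorem W_ne (h : Off P A W) : W ≠ ⊥ := by
  rintro rfl
  have := h.card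
  simp only [Subgroup.card_bot, one_pow] at this
  exact VV_ne_bot h.ne (card_eq_one'.1 this)

theorem two_le (h : Off P A W) : 2 ≤ Nat.card W := one_lt_card h.W_ne

theorem ea (h : Off P A W) : EA W := (ea_VV P).of_le h.Wle

theorem card_eq (h : Off P A W) (h' : Off P A' W') : Nat.card W = Nat.card W' :=
  Nat.pow_left_injective two_ne_zero (h.card.symm.trans h'.card)

theorem exists_not_mem (h : Off P A W) : ∃ v ∈ VV P, v ∉ W := by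
  by_contra hc
  push Not at hc
  have h1 : Nat.card (VV P) ≤ Nat.card W := card_le hc
  have := h.two_le
  rw [h.card] at h1
  nlinarith

theorem dich (hG : IsCIT G) (h : Off P A W) (h' : Off P A' W') : W = W' ∨ W ⊓ W' = ⊥ := by
  by_contra hc
  push Not at hc
  obtain ⟨w, hw, hw1⟩ := exists_ne_one hc.2
  have hR : T2 (A ⊔ A') := (hG.cent hw1 (h.ea.t2.piElt hw.1)).of_le
    (sup_le (h.cent.trans (C_le_C1 hw.1)) (h'.cent.trans (C_le_C1 hw.2)))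
  have hM : Nil (VV P ⊔ (A ⊔ A')) :=
    ((ea_VV P).t2.sup hR ((sup_le h.le h'.le).trans (VV_norm P))).nil p2
  have key : ∀ {A A' W W' : Subgroup G}, Off P A W → Off P A' W' → W ≠ W' →
      W ≤ ⁅W ⊔ W', A ⊔ A'⁆ := by
    intro A A' W W' h h' hne w hw
    have : ¬ W' ≤ W := fun hle => hne (eq_of_card_eq hle (h'.card_eq h)).symm
    obtain ⟨v, hv, hvW⟩ := SetLike.not_le_iff_exists.1 this
    obtain ⟨a, ha, e⟩ := h.orb v (h'.Wle hv) hvW w hw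
    have : w = ⁅v⁻¹, a⁆ := by
      rw [commutatorElement_def, inv_inv, mul_assoc, mul_assoc, ← mul_assoc a, e]; group
    rw [this]
    exact commutator_mem_commutator (mem_sup_right (W'.inv_mem hv)) (mem_sup_left ha)
  have h1 := key h h' hc.1
  have h2 := key h' h hc.1.symm
  rw [sup_comm W' W, sup_comm A' A] at h2
  have := hM.eq_bot_of_le_comm ((sup_le h.Wle h'.Wle).trans le_sup_left) le_sup_right
    (sup_le h1 h2)
  exact h.W_ne (eq_bot_of_le this le_sup_left)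

theorem sup_eq (h : Off P A W) (h' : Off P A' W') (hb : W ⊓ W' = ⊥) : W ⊔ W' = VV P := by
  refine eq_of_card_eq (sup_le h.Wle h'.Wle) ?_
  rw [card_sup_of_inf (norm_of_cent (cents_of_le (h'.Wle.trans (ea_VV P).le_C) h.Wle)) hb,
    h.card, ← h.card_eq h', pow_two]

theorem exists_mul (h : Off P A W) (h' : Off P A' W') (hb : W ⊓ W' = ⊥) {v : G} (hv : v ∈ VV P) :
    ∃ w ∈ W, ∃ w' ∈ W', v = w * w' := by
  rw [← h.sup_eq h' hb] at hv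
  exact (mem_sup_of_norm (norm_of_cent (cents_of_le (h'.Wle.trans (ea_VV P).le_C) h.Wle))).1 hv

theorem cover (h : Off P A W) (h' : Off P A' W') (hb : W ⊓ W' = ⊥) {v : G} (hv : v ∈ VV P)
    (hvW : v ∉ W) : ∃ a ∈ A, v ∈ H24.cj a W' := by
  obtain ⟨w, hw, w', hw', rfl⟩ := h.exists_mul h' hb hv
  have h1 : w' ∉ W := fun h1 => hvW (W.mul_mem hw h1)
  obtain ⟨a, ha, e⟩ := h.orb w' (h'.Wle hw') h1 w hw
  refine ⟨a, ha, ?_⟩
  rw [(ea_VV P).comm (h.Wle hw) (h'.Wle hw'), ← e]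
  exact conj_mem_cj a hw'

theorem trans (hG : IsCIT G) {A'' W'' : Subgroup G} (h : Off P A W) (h' : Off P A' W')
    (hb : W ⊓ W' = ⊥) (h'' : Off P A'' W'') (hne : W'' ≠ W) : ∃ a ∈ A, W'' = H24.cj a W' := by
  have : ¬ W'' ≤ W := fun hle => hne (eq_of_card_eq hle (h''.card_eq h))
  obtain ⟨v, hv, hvW⟩ := SetLike.not_le_iff_exists.1 this
  obtain ⟨a, ha, e⟩ := h.cover h' hb (h''.Wle hv) hvW
  refine ⟨a, ha, (h''.dich hG (h'.cjP (h.le ha))).resolve_right fun hb' => hvW ?_⟩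
  have : v = 1 := mem_bot.1 (hb' ▸ (⟨hv, e⟩ : v ∈ W'' ⊓ H24.cj a W'))
  rw [this]; exact W.one_mem

theorem mem_QQ (hG : IsCIT G) (h : Off P A W) {d c : G} (hd : d ∈ P) (hdW : d ∈ C[W])
    (hc : c ∈ VV P) (hcW : c ∉ W) (hdc : d ∈ C{c}) : d ∈ QQ P := by
  by_contra hQ
  obtain ⟨s, hs, hsQ, hs2⟩ := exists_sq_mem ((hG.centS h.ea.t2 h.W_ne).piElt hdW) hQ
  have h1 := (hG.half ((zpowers_le.2 hd) hs) hsQ (ea_VV P) (VV_norm P) (QQ_le_C P hs2)).1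
  have h2 : Nat.card ↥(VV P ⊓ C{s}) = Nat.card W :=
    Nat.pow_left_injective two_ne_zero (h1.symm.trans h.card)
  have h3 : W ≤ VV P ⊓ C{s} :=
    le_inf h.Wle (mem_C_iff_le_C1.1 ((zpowers_le.2 hdW) hs))
  rw [eq_of_card_eq h3 h2.symm] at hcW
  exact hcW ⟨hc, mem_C1_comm.1 ((zpowers_le.2 hdc) hs)⟩

theorem exists_cm (hG : IsCIT G) (h : Off P A W) {t c c' : G} (ht : t ∈ P) (htW : t ∈ N[W])
    (hc : c ∈ W) (hc1 : c ≠ 1) (htc : t ∈ C{c}) (hc' : c' ∈ VV P) (hcW : c' ∉ W)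
    (htc' : t ∈ C{c'}) : ∃ a ∈ A, a ∉ QQ P ∧ a ∈ cm (QQ P) t := by
  obtain ⟨a, ha, e⟩ := h.orb c' hc' hcW c hc
  have haP := h.le ha
  refine ⟨a, ha, fun haQ => hc1 ?_, (mem_cm (QQ_norm P ht)).2 ⟨QQ_norm P haP, ?_⟩⟩
  · rw [conj_eq_of_QQ haQ hc'] at e
    exact (mul_eq_left.1 e.symm)
  · have e1 := mem_C1_iff_conj.1 htc
    have e2 := mem_C1_iff_conj.1 htc'
    have e3 : t⁻¹ * c' * t = c' := by
      rw [mul_assoc, ← mem_C1.1 htc', inv_mul_cancel_left]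
    have hd : a⁻¹ * (t * a * t⁻¹) ∈ QQ P := by
      refine h.mem_QQ hG (P.mul_mem (P.inv_mem haP) (P.mul_mem (P.mul_mem ht haP) (P.inv_mem ht)))
        (C[W].mul_mem (C[W].inv_mem (h.cent ha)) (conj_mem (N_le_NC W htW) (h.cent ha))) hc' hcW
        (mem_C1_iff_conj.2 ?_)
      calc a⁻¹ * (t * a * t⁻¹) * c' * (a⁻¹ * (t * a * t⁻¹))⁻¹
          = a⁻¹ * (t * (a * (t⁻¹ * c' * t) * a⁻¹) * t⁻¹) * a := by group
        _ = a⁻¹ * ((t * c' * t⁻¹) * (t * c * t⁻¹)) * a := by rw [e3, e]; group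
        _ = c' := by rw [e1, e2, ← e]; group
    have := conj_mem (QQ_norm P (P.mul_mem (P.inv_mem ht) haP)) ((QQ P).inv_mem hd)
    convert this using 1; group

theorem stab (hG : IsCIT G) (h : Off P A W) (h' : Off P A' W') (hb : W ⊓ W' = ⊥) {t : G}
    (ht : t ∈ P) (ht2 : E2 t) (htW : t ∈ N[W]) (htW' : t ∈ N[W']) : t ∈ QQ P := by
  by_contra hQ
  obtain ⟨c, hc, hc1, htc⟩ := exists_fix ht2.isPi h.ea.t2 (zpowers_le.2 htW) h.W_ne
  obtain ⟨c', hc', hc1', htc'⟩ := exists_fix ht2.isPi h'.ea.t2 (zpowers_le.2 htW') h'.W_ne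
  rw [C_zpowers, mem_C1_comm] at htc htc'
  have n1 : c' ∉ W := fun h1 => hc1' (mem_bot.1 (hb ▸ (⟨h1, hc'⟩ : c' ∈ W ⊓ W')))
  have n2 : c ∉ W' := fun h1 => hc1 (mem_bot.1 (hb ▸ (⟨hc, h1⟩ : c ∈ W ⊓ W')))
  obtain ⟨a, ha, haQ, hac⟩ := h.exists_cm hG ht htW hc hc1 htc (h'.Wle hc') n1 htc'
  obtain ⟨a', ha', haQ', hac'⟩ := h'.exists_cm hG ht htW' hc' hc1' htc' (h.Wle hc) n2 htc
  have hX : T2 (cm (QQ P) t ⊓ P) := (hG.cm_t2 (QQ_t2 P) ht2 (QQ_norm P ht) hQ).inf_left _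
  obtain ⟨v, hv, hv1, hvc⟩ := exists_fix hX (ea_VV P).t2 (inf_le_right.trans (VV_norm P))
    (VV_ne_bot h.ne)
  have m1 : v ∈ W := h.fix a ha haQ ▸ ⟨hv, C_le_C1 (H := cm (QQ P) t ⊓ P) ⟨hac, h.le ha⟩ hvc⟩
  have m2 : v ∈ W' := h'.fix a' ha' haQ' ▸ ⟨hv, C_le_C1 (H := cm (QQ P) t ⊓ P) ⟨hac', h'.le ha'⟩ hvc⟩
  exact hv1 (mem_bot.1 (hb ▸ (⟨m1, m2⟩ : v ∈ W ⊓ W')))

theorem norm (hG : IsCIT G) (h : Off P A W) (hT : T2 T) (hTP : T ≤ P) (hAT : A ≤ T) :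
    T ≤ N[W] := by
  obtain ⟨c, hc, hc1, hcT⟩ := exists_fix hT (ea_VV P).t2 (hTP.trans (VV_norm P)) (VV_ne_bot h.ne)
  obtain ⟨a, ha, haQ⟩ := h.ex
  have hcW : c ∈ W := h.fix a ha haQ ▸ ⟨hc, C_le_C1 (hAT ha) hcT⟩
  intro t ht
  rw [mem_N_iff_cj]
  refine ((h.cjP (hTP ht)).dich hG h).resolve_right fun hb => hc1 ?_
  refine mem_bot.1 (hb ▸ (⟨?_, hcW⟩ : c ∈ H24.cj t W ⊓ W))
  have := conj_mem_cj t hcW
  rwa [mem_C1_iff_conj.1 (mem_C1_comm.1 (C_le_C1 ht hcT))] at this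

theorem exists_mul_QQ (hG : IsCIT G) (h : Off P A W) {x : G} (hx : x ∈ P)
    (hb : H24.cj x W ⊓ W = ⊥) (hT : T2 T) (hTP : T ≤ P) (hAT : A ≤ T) {t : G} (ht : t ∈ T) :
    ∃ a ∈ A, ∃ u ∈ QQ P, t = a * u := by
  have hn := h.norm hG hT hTP hAT
  have h1 := h.cjP hx
  rw [inf_comm] at hb
  have hne : H24.cj t (H24.cj x W) ≠ W := by
    intro e
    rw [cj_eq_iff, cj_of_mem_N (N[W].inv_mem (hn ht))] at e
    rw [e, inf_idem] at hb
    exact h.W_ne hb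
  obtain ⟨a, ha, e⟩ := h.trans hG h1 hb (h1.cjP (hTP ht)) hne
  have hm : a⁻¹ * t ∈ T := T.mul_mem (T.inv_mem (hAT ha)) ht
  exact ⟨a, ha, a⁻¹ * t, h.stab hG h1 hb (hTP hm) (hT.piElt hm) (hn hm) (cj_eq_cj_iff.1 e),
    by group⟩

end Off

/-- the structure of a group in which `J(T)` is not normal. -/
structure Str (P T : Subgroup G) : Prop where
  syl : Syl 2 P T
  off : Off P T (OZ T)
  ex : ∃ x ∈ P, cj x (OZ T) ⊓ OZ T = ⊥
  cardT : Nat.card T = Nat.card (QQ P) * Nat.card (OZ T)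
  ozj : OZ (JJ T) = OZ T

theorem IsCIT.off_of_quad (hG : IsCIT G) (hT : Syl 2 P T) (hne : QQ P ≠ ⊥) (hA : MaxEA 2 T A)
    (hq : ⁅⁅VV P, A⁆, A⁆ = ⊥) (hAQ : ¬ A ≤ QQ P) :
    Off P A (VV P ⊓ C[A]) ∧ (∃ x ∈ P, cj x (VV P ⊓ C[A]) ⊓ (VV P ⊓ C[A]) = ⊥) ∧
      Nat.card A = Nat.card ↥(A ⊓ QQ P) * Nat.card ↥(VV P ⊓ C[A]) ∧
      MaxEA 2 T ((A ⊓ QQ P) ⊔ VV P) := by
  have hAP : A ≤ P := hA.le.trans hT.le
  have hAe : EA A := ea_iff.1 hA.ea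
  have hV := ea_VV P
  have hcomm : ∀ a ∈ A, ∀ v ∈ VV P, v⁻¹ * (a * v * a⁻¹) ∈ VV P ⊓ C[A] := by
    intro a ha v hv
    refine ⟨(VV P).mul_mem ((VV P).inv_mem hv) (conj_mem (VV_norm P (hAP ha)) hv), ?_⟩
    have : v⁻¹ * (a * v * a⁻¹) = ⁅v⁻¹, a⁆ := by rw [commutatorElement_def]; group
    rw [this]
    exact comm_eq_bot.1 hq (commutator_mem_commutator ((VV P).inv_mem hv) ha)
  have hhalf := fun a (ha : a ∈ A) (haQ : a ∉ QQ P) =>
    hG.half (hAP ha) haQ hV (VV_norm P) (by rw [hAe a ha]; exact one_mem _)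
  have hfix : ∀ a ∈ A, a ∉ QQ P → VV P ⊓ C{a} = VV P ⊓ C[A] := by
    intro a ha haQ
    refine le_antisymm (fun c hc => ?_) (inf_le_inf_left _ (C_le_C1 ha))
    obtain ⟨u, hu, e⟩ := (hhalf a ha haQ).2.1 c hc
    have := hcomm a ha u hu
    rwa [e, inv_mul_cancel_left] at this
  obtain ⟨a, ha, haQ⟩ := SetLike.not_le_iff_exists.1 hAQ
  obtain ⟨hcard, -, hx⟩ := hhalf a ha haQ
  rw [hfix a ha haQ] at hcard hx
  set W := VV P ⊓ C[A] with hW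
  have hVT : VV P ≤ T := (VV_le P).trans (QQ_le hT)
  have hB : EA ((A ⊓ QQ P) ⊔ VV P) :=
    (hAe.of_le inf_le_left).sup hV (inf_le_right.trans (QQ_le_C P))
  have hBT : (A ⊓ QQ P) ⊔ VV P ≤ T := sup_le (inf_le_left.trans hA.le) hVT
  have hi : (A ⊓ QQ P) ⊓ VV P = W := by
    rw [hW, hA.inf_centralizer hVT (ea_iff.2 hV), inf_assoc, inf_eq_right.2 (VV_le P), inf_comm]
  have hcB : Nat.card ↥((A ⊓ QQ P) ⊔ VV P) = Nat.card ↥(A ⊓ QQ P) * Nat.card W := by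
    have := card_sup (A := A ⊓ QQ P) (B := VV P)
      (norm_of_cent (cents_symm (inf_le_right.trans (QQ_le_C P))))
    rw [hi, hcard, pow_two, ← mul_assoc] at this
    exact Nat.eq_of_mul_eq_mul_right (card_pos _) this
  have hle := hA.card_le hBT (ea_iff.2 hB)
  rw [hcB] at hle
  have hC : ∀ v ∈ VV P, v ∉ W → A ⊓ C{v} = A ⊓ QQ P := by
    intro v hv hvW
    refine le_antisymm (fun b hb => ⟨hb.1, ?_⟩) (inf_le_inf_left _ ((QQ_le_C P).trans (C_le_C1 hv)))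
    by_contra hbQ
    exact hvW (hfix b hb.1 hbQ ▸ ⟨hv, mem_C1_comm.1 hb.2⟩)
  have hoff : Off P A W :=
    { ne := hne, le := hAP, t2 := hAe.t2, Wle := inf_le_left, cent := cents_symm inf_le_right
      card := hcard, comm := hcomm, fix := hfix, ex := ⟨a, ha, haQ⟩
      orb := fun v hv hvW => exists_conj_of_card (fun b hb => hcomm b hb v hv)
        (by rw [hC v hv hvW]; exact hle) }
  obtain ⟨v, hv, hvW⟩ := hoff.exists_not_mem
  have hge := card_le_of_conj (fun b hb => hcomm b hb v hv)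
  rw [hC v hv hvW] at hge
  exact ⟨hoff, hx, le_antisymm hge hle, hA.of_card_le hBT (ea_iff.2 hB) (hcB ▸ hge)⟩

theorem IsCIT.str (hG : IsCIT G) (hT : Syl 2 P T) (hne : QQ P ≠ ⊥) (hJ : ¬ JJ T ≤ QQ P) :
    Str P T := by
  haveI : Fact (Nat.Prime 2) := ⟨p2⟩
  rw [J_le_iff] at hJ
  push Not at hJ
  obtain ⟨A₀, hA₀, hA₀Q⟩ := hJ
  have hVT : VV P ≤ T := (VV_le P).trans (QQ_le hT)
  have hnc : ∀ {A : Subgroup G}, A ≤ T → (⁅VV P, A⁆ ≠ ⊥ ↔ ¬ A ≤ QQ P) := by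
    intro A hA
    rw [ne_eq, comm_eq_bot']
    exact not_congr ⟨fun h x hx => hG.mem_QQ hne (hT.le (hA hx)) (h hx), fun h => h.trans (QQ_le_C P)⟩
  obtain ⟨hA, hq, hA1⟩ := hA₀.replace hVT (ea_iff.2 (ea_VV P))
    (hA₀.le.trans (hT.le.trans (VV_norm P)))
  generalize ⁅VV P, A₀⁆ ⊔ (A₀ ⊓ C[⁅VV P, A₀⁆]) = A at hA hq hA1
  have hAQ := (hnc hA.le).1 (hA1 ((hnc hA₀.le).2 hA₀Q))
  obtain ⟨hoff, ⟨x, hx, hb⟩, hcA, hB⟩ := hG.off_of_quad hT hne hA hq hAQ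
  set W := VV P ⊓ C[A] with hW
  have hmul := fun t (ht : t ∈ T) => hoff.exists_mul_QQ hG hx hb hT.pi hT.le hA.le ht
  have hcent : T ≤ C[W] := by
    intro t ht
    obtain ⟨a, ha, u, hu, rfl⟩ := hmul t ht
    exact C[W].mul_mem (hoff.cent ha) (C_anti hoff.Wle (QQ_le_C P hu))
  have hWT : W = OZ T := by
    refine le_antisymm (fun w hw => mem_OZ.2 ⟨hVT hw.1, cents_symm hcent hw, ea_VV P w hw.1⟩) ?_
    exact le_inf (hG.OZ_le_VV hT hne) ((OZ_le_C T).trans (C_anti hA.le))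
  have hconj : ∀ a u v : G, u ∈ QQ P → v ∈ VV P → a * u * v * (a * u)⁻¹ = a * v * a⁻¹ := by
    intro a u v hu hv
    calc a * u * v * (a * u)⁻¹ = a * (u * v * u⁻¹) * a⁻¹ := by group
      _ = _ := by rw [conj_eq_of_QQ hu hv]
  have hoffT : Off P T W :=
    { ne := hne, le := hT.le, t2 := hT.pi, Wle := hoff.Wle, cent := hcent, card := hoff.card
      comm := fun t ht v hv => by
        obtain ⟨a, ha, u, hu, rfl⟩ := hmul t ht
        rw [hconj a u v hu hv]; exact hoff.comm a ha v hv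
      fix := fun t ht htQ => by
        obtain ⟨a, ha, u, hu, rfl⟩ := hmul t ht
        rw [← hoff.fix a ha fun haQ => htQ ((QQ P).mul_mem haQ hu)]
        ext v
        refine and_congr_right fun hv => ?_
        change v ∈ C{a * u} ↔ v ∈ C{a}
        rw [mem_C1_comm, mem_C1_iff_conj, hconj a u v hu hv, mem_C1_comm (g := v), mem_C1_iff_conj]
      orb := fun v hv hvW w hw => by
        obtain ⟨a, ha, e⟩ := hoff.orb v hv hvW w hw
        exact ⟨a, hA.le ha, e⟩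
      ex := by
        obtain ⟨a, ha, haQ⟩ := hoff.ex
        exact ⟨a, hA.le ha, haQ⟩ }
  have hcT : Nat.card T = Nat.card (QQ P) * Nat.card W := by
    have e : A ⊔ QQ P = T := le_antisymm (sup_le hA.le (QQ_le hT)) fun t ht => by
      obtain ⟨a, ha, u, hu, rfl⟩ := hmul t ht
      exact mul_mem (mem_sup_left ha) (mem_sup_right hu)
    have := (isProd_sup' (A := A) (B := QQ P) (hoff.le.trans (QQ_norm P))).card
    rw [e, hcA] at this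
    refine Nat.eq_of_mul_eq_mul_right (card_pos (A ⊓ QQ P)) (this.trans ?_)
    ring
  have hoz : OZ (JJ T) ≤ W := by
    intro e he
    have he1 : e ∈ A := hA.omega_center_J_le he
    have hBQ : cj x ((A ⊓ QQ P) ⊔ VV P) ≤ QQ P :=
      cj_le_of_mem_N (sup_le inf_le_right (VV_le P)) (QQ_norm P hx)
    have hB' : MaxEA 2 T (cj x ((A ⊓ QQ P) ⊔ VV P)) :=
      hB.of_card_le (hBQ.trans (QQ_le hT)) (ea_iff.2 ((ea_iff.1 hB.ea).cj x)) (by rw [card_cj])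
    have he2 := hB'.omega_center_J_le he
    rw [cj_sup, cj_of_mem_N (VV_norm P hx)] at he2
    have hAe : EA A := ea_iff.1 hA.ea
    refine ⟨?_, hAe.le_C he1⟩
    by_contra heV
    have heN := VV_norm P (hoff.le he1)
    have h2 := hG.cm_t2 (ea_VV P).t2 (hAe.t2.piElt he1) heN heV
    have h1 := hoff.cjP hx
    have hcQ : cj x (A ⊓ QQ P) ≤ QQ P := cj_le_of_mem_N inf_le_right (QQ_norm P hx)
    obtain ⟨a', ha', v, hv, e1⟩ := (mem_sup_of_norm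
      (norm_of_cent (cents_symm (hcQ.trans (QQ_le_C P))))).1 he2
    have m1 : A ≤ cm (VV P) e := fun b hb => (mem_cm heN).2 ⟨VV_norm P (hoff.le hb), by
      rw [hAe.comm hb he1]; simp⟩
    have m2 : cj x A ≤ cm (VV P) e := fun b hb => (mem_cm heN).2 ⟨VV_norm P (h1.le hb), by
      have hc := (hAe.cj x).comm hb (cj_mono x inf_le_left ha')
      rw [e1, show (a' * v)⁻¹ * (b * (a' * v) * b⁻¹) = v⁻¹ * (a'⁻¹ * (b * a') * v * b⁻¹) by group,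
        hc, inv_mul_cancel_left]
      exact h1.Wle (h1.comm b hb v hv)⟩
    obtain ⟨c, hc, hc1, hcc⟩ := exists_fix (h2.of_le (sup_le m1 m2)) (ea_VV P).t2
      ((sup_le hoff.le h1.le).trans (VV_norm P)) (VV_ne_bot hne)
    obtain ⟨a, ha, haQ⟩ := h1.ex
    have n1 : c ∈ cj x W := h1.fix a ha haQ ▸ ⟨hc, C_le_C1 (mem_sup_right ha) hcc⟩
    exact hc1 (mem_bot.1 (hb ▸ (⟨n1, hc, C_anti le_sup_left hcc⟩ : c ∈ cj x W ⊓ W)))
  rw [hWT] at hoffT hb hcT hoz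
  exact ⟨hT, hoffT, ⟨x, hx, hb⟩, hcT, le_antisymm hoz (omega_center_le_omega_center_J T)⟩

end H15.CIT
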