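import Mathlib
import Cfsg.Agent.H15.CIT2

/-!
# The amalgam of two `2`-local subgroups
-/

set_option autoImplicit false
set_option linter.unusedSectionVars false
set_option linter.style.haveILetI false

namespace H15.CIT

open H24 Cfsg Subgroup H12

variable {G : Type*} [Group G] [Finite G] {P T A B R R' : Subgroup G}

theorem cj_JJ (g : G) (T : Subgroup G) : cj g (JJ T) = JJ (cj g T) := by
  rw [cj_eq_smul, cj_eq_smul, conj_J]

namespace Str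

theorem cj (h : Str P T) (g : G) : Str (cj g P) (cj g T) where
  syl := h.syl.cj g
  off := by rw [← cj_OZ]; exact h.off.cj g
  ex := by
    obtain ⟨x, hx, e⟩ := h.ex
    refine ⟨_, conj_mem_cj g hx, ?_⟩
    rw [← cj_OZ, ← cj_mul, inv_mul_cancel_right, cj_mul, ← cj_inf, e, cj_bot]
  cardT := by rw [← cj_OZ, ← cj_QQ, card_cj, card_cj, card_cj, h.cardT]
  ozj := by rw [← cj_JJ, ← cj_OZ, ← cj_OZ, h.ozj]

theorem le (h : Str P T) : T ≤ P := h.syl.le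
theorem Q_le (h : Str P T) : QQ P ≤ T := QQ_le h.syl
theorem V_le (h : Str P T) : VV P ≤ T := (VV_le P).trans h.Q_le

theorem inf_C (hG : IsCIT G) (h : Str P T) : P ⊓ C[OZ T] = T :=
  h.syl.eq_of_le ((hG.centS (ea_OZ T).t2 h.off.W_ne).inf_right _) (le_inf h.le (le_C_OZ T))
    inf_le_left

theorem normT (hG : IsCIT G) (h : Str P T) {x : G} (hx : x ∈ P) (hn : x ∈ N[OZ T]) : x ∈ N[T] := by
  have : zpowers x ≤ N[P ⊓ C[OZ T]] :=
    norm_inf (norm_of_le (zpowers_le.2 hx)) (norm_C (zpowers_le.2 hn))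
  rw [h.inf_C hG] at this
  exact this (mem_zpowers x)

theorem ti (hG : IsCIT G) (h : Str P T) {x : G} (hx : x ∈ P) :
    x ∈ N[T] ∨ H24.cj x (OZ T) ⊓ OZ T = ⊥ :=
  ((h.off.cjP hx).dich hG h.off).imp_left fun e => h.normT hG hx (mem_N_iff_cj.2 e)

theorem onto (hG : IsCIT G) (h : Str P T) {t : G} (ht : t ∈ T) (htQ : t ∉ QQ P) :
    ∀ w ∈ OZ T, ∃ v ∈ VV P, t * v * t⁻¹ = v * w := by
  have h2 : t * t ∈ C[VV P] := by
    refine mem_C'.2 fun v hv => ?_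
    have h1 := h.off.comm t ht v hv
    have h3 := conj_eq_of_mem_C (le_C_OZ T ht) h1
    have h4 := ea_OZ T _ h1
    generalize hw : v⁻¹ * (t * v * t⁻¹) = w at h3 h4
    have h5 : t * v * t⁻¹ = v * w := by rw [← hw]; group
    calc t * t * v = t * (t * v * t⁻¹) * t⁻¹ * (t * t) := by group
      _ = t * (v * w) * t⁻¹ * (t * t) := by rw [h5]
      _ = (t * v * t⁻¹) * (t * w * t⁻¹) * (t * t) := by group
      _ = v * (w * w) * (t * t) := by rw [h3, h5]; group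
      _ = v * (t * t) := by rw [h4, mul_one]
  have := (hG.half (h.le ht) htQ (ea_VV P) (VV_norm P) h2).2.1
  rwa [h.off.fix t ht htQ] at this

theorem transV (h : Str P T) {v v' : G} (hv : v ∈ VV P) (hv1 : v ≠ 1) (hv' : v' ∈ VV P)
    (hv1' : v' ≠ 1) : ∃ x ∈ P, x * v * x⁻¹ = v' := by
  obtain ⟨x, hx, hb⟩ := h.ex
  have h1 := h.off.cjP hx
  obtain ⟨w₀, hw₀, hw₀1⟩ := exists_ne_one h.off.W_ne
  have hb' := hb
  rw [inf_comm] at hb'
  have nm : ∀ {w}, w ∈ H24.cj x (OZ T) → w ≠ 1 → w ∉ OZ T := fun hw hw1 h2 =>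
    hw1 (mem_bot.1 (hb ▸ (⟨hw, h2⟩ : _ ∈ H24.cj x (OZ T) ⊓ OZ T)))
  have nm' : ∀ {w}, w ∈ OZ T → w ≠ 1 → w ∉ H24.cj x (OZ T) := fun hw hw1 h2 => nm h2 hw1 hw
  -- every non-identity element of `V` is conjugate to `w₀`
  have k1 : ∀ w' ∈ H24.cj x (OZ T), w' ≠ 1 → ∃ y ∈ P, y * w₀ * y⁻¹ = w' := by
    intro w' hw' hw1
    obtain ⟨a, ha, e⟩ := h.off.orb w' (h1.Wle hw') (nm hw' hw1) w₀ hw₀
    obtain ⟨b, hb, e'⟩ := h1.orb w₀ (h.off.Wle hw₀) (nm' hw₀ hw₀1) w' hw'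
    refine ⟨a⁻¹ * b, P.mul_mem (P.inv_mem (h.le ha)) (h1.le hb), ?_⟩
    calc a⁻¹ * b * w₀ * (a⁻¹ * b)⁻¹ = a⁻¹ * (b * w₀ * b⁻¹) * a := by group
      _ = w' := by rw [e', (ea_VV P).comm (h.off.Wle hw₀) (h1.Wle hw'), ← e]; group
  have k2 : ∀ v ∈ VV P, v ∉ OZ T → ∃ y ∈ P, y * w₀ * y⁻¹ = v := by
    intro v hv hvW
    obtain ⟨a, ha, e⟩ := h.off.cover h1 hb' hv hvW
    obtain ⟨w', hw', rfl⟩ := mem_cj'.1 e
    obtain ⟨y, hy, rfl⟩ := k1 w' hw' (by rintro rfl; exact hvW (by simp))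
    exact ⟨a * y, P.mul_mem (h.le ha) hy, by group⟩
  have k3 : ∀ v ∈ VV P, v ≠ 1 → ∃ y ∈ P, y * w₀ * y⁻¹ = v := by
    intro v hv hv1
    by_cases hvW : v ∈ OZ T
    · obtain ⟨y, hy, e⟩ := k1 _ (conj_mem_cj x hvW) (by rwa [ne_eq, conj_eq_one_iff'])
      exact ⟨x⁻¹ * y, P.mul_mem (P.inv_mem hx) hy, by
        rw [show x⁻¹ * y * w₀ * (x⁻¹ * y)⁻¹ = x⁻¹ * (y * w₀ * y⁻¹) * x by group, e]; group⟩
    · exact k2 v hv hvW
  obtain ⟨y, hy, rfl⟩ := k3 v hv hv1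
  obtain ⟨y', hy', rfl⟩ := k3 v' hv' hv1'
  exact ⟨y' * y⁻¹, P.mul_mem hy' (P.inv_mem hy), by group⟩

theorem transW (hG : IsCIT G) (h : Str P T) {w w' : G} (hw : w ∈ OZ T) (hw1 : w ≠ 1)
    (hw' : w' ∈ OZ T) (hw1' : w' ≠ 1) : ∃ x ∈ P, x ∈ N[T] ∧ x * w * x⁻¹ = w' := by
  obtain ⟨x, hx, e⟩ := h.transV (h.off.Wle hw) hw1 (h.off.Wle hw') hw1'
  refine ⟨x, hx, (h.ti hG hx).resolve_right fun hb => hw1' ?_, e⟩
  exact mem_bot.1 (hb ▸ (⟨e ▸ conj_mem_cj x hw, hw'⟩ : w' ∈ H24.cj x (OZ T) ⊓ OZ T))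

end Str

/-- `Str` together with `C_G(V) ≤ P`. -/
structure Good (P T : Subgroup G) : Prop extends Str P T where
  cV : C[VV P] ≤ P

theorem Good.cj (h : Good P T) (g : G) : Good (cj g P) (cj g T) :=
  ⟨h.toStr.cj g, by rw [← cj_VV, ← cj_C]; exact cj_mono g h.cV⟩

theorem Good.C_le (hG : IsCIT G) (h : Good P T) : C[VV P] ≤ QQ P :=
  fun _ hx => hG.mem_QQ h.off.ne (h.cV hx) hx

theorem Good.crit (hG : IsCIT G) (h : Good A R) (h' : Good B R') (h1 : VV B ≤ R) (h2 : VV A ≤ R')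
    (hn : ¬ VV B ≤ C[VV A]) : OZ R ≤ OZ R' := by
  obtain ⟨t, ht, htC⟩ := SetLike.not_le_iff_exists.1 hn
  intro w hw
  obtain ⟨v, hv, e⟩ := h.onto hG (h1 ht) (fun hQ => htC (QQ_le_C A hQ)) w hw
  have h3 := h'.off.comm v⁻¹ (R'.inv_mem (h2 hv)) t ht
  have h4 : v⁻¹ * t * v⁻¹⁻¹ ∈ VV B := conj_mem (VV_norm B (h'.le (R'.inv_mem (h2 hv)))) ht
  rw [(ea_VV B).comm ((VV B).inv_mem ht) h4] at h3
  convert h3 using 1
  rw [← inv_mul_cancel_left v w, ← e]; group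

/-- a symmetric, conjugation invariant family of edges. -/
structure Am (E : Subgroup G → Subgroup G → Subgroup G → Prop) : Prop where
  symm : ∀ {A B R}, E A B R → E B A R
  good : ∀ {A B R}, E A B R → Good A R
  ne : ∀ {A B R}, E A B R → VV A ≠ VV B
  cj : ∀ {A B R} (g : G), E A B R → E (cj g A) (cj g B) (cj g R)

/-- the groups `V` at the two ends of a path of length `n` commute. -/
def Near (E : Subgroup G → Subgroup G → Subgroup G → Prop) (n : ℕ) : Prop :=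
  ∀ A R : ℕ → Subgroup G, (∀ k < n, E (A k) (A (k + 1)) (R k)) → VV (A 0) ≤ C[VV (A n)]

variable {E : Subgroup G → Subgroup G → Subgroup G → Prop}

theorem Am.crit (hG : IsCIT G) (hE : Am E) {m : ℕ} (hm : Near E (m + 1)) (A R : ℕ → Subgroup G)
    (hp : ∀ k < m + 2, E (A k) (A (k + 1)) (R k)) (hn : ¬ VV (A 0) ≤ C[VV (A (m + 2))]) :
    VV (A (m + 2)) ≤ R 0 ∧ OZ (R 0) = OZ (R (m + 1)) := by
  have e0 := hp 0 (by omega)
  have e1 := hp (m + 1) (by omega)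
  have h1 : VV (A (m + 2)) ≤ R 0 := by
    have := hm (fun k => A (k + 1)) (fun k => R (k + 1)) fun k hk => hp (k + 1) (by omega)
    exact (cents_symm this).trans (((hE.good (hE.symm e0)).C_le hG).trans (hE.good (hE.symm e0)).Q_le)
  have h2 : VV (A 0) ≤ R (m + 1) := by
    have := hm A R fun k hk => hp k (by omega)
    exact this.trans (((hE.good e1).C_le hG).trans (hE.good e1).Q_le)
  exact ⟨h1, le_antisymm
    ((hE.good e0).crit hG (hE.good (hE.symm e1)) h1 h2 fun h => hn (cents_symm h))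
    ((hE.good (hE.symm e1)).crit hG (hE.good e0) h2 h1 hn)⟩

theorem Am.near_step (hG : IsCIT G) (hE : Am E) (h1 : Near E 1) {m : ℕ} (hm : Near E (m + 1)) :
    Near E (m + 2) := by
  intro A R hp
  by_contra hn
  obtain ⟨c1, c2⟩ := hE.crit hG hm A R hp hn
  have e0 := hp 0 (by omega)
  have e1 := hp (m + 1) (by omega)
  have em := hp m (by omega)
  have g0 := hE.good e0
  obtain ⟨x, hx, hb⟩ := g0.ex
  have e' : E (A 0) (H24.cj x (A 1)) (H24.cj x (R 0)) := by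
    have := hE.cj x e0
    rwa [cj_of_mem hx] at this
  have g0' := hE.good e'
  have g1' := hE.good (hE.symm e')
  rw [cj_OZ] at hb
  have hc : VV (H24.cj x (A 1)) ≤ C[VV (A (m + 1))] := by
    by_contra hn'
    let A' : ℕ → Subgroup G := fun k => Nat.casesOn k (H24.cj x (A 1)) A
    let R' : ℕ → Subgroup G := fun k => Nat.casesOn k (H24.cj x (R 0)) R
    have hp' : ∀ k < m + 2, E (A' k) (A' (k + 1)) (R' k) := fun k hk => by
      cases k with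
      | zero => exact hE.symm e'
      | succ k => exact hp k (by omega)
    have hn'' : ¬ VV (A' 0) ≤ C[VV (A' (m + 2))] := hn'
    have := (hE.crit hG hm A' R' hp' hn'').2
    have h2 : VV (A (m + 1)) ≤ C[VV (A (m + 2))] :=
      h1 (fun k => A (m + 1 + k)) (fun k => R (m + 1 + k)) (fun k hk => by
        obtain rfl : k = 0 := by omega
        exact e1)
    change OZ (H24.cj x (R 0)) = OZ (R m) at this
    apply hn
    rw [← g0'.off.sup_eq g0.off hb]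
    refine sup_le ?_ (cents_symm (c1.trans (le_C_OZ _)))
    exact (this.le.trans (hE.good (hE.symm em)).off.Wle).trans h2
  have hc' : VV (H24.cj x (A 1)) ≤ R (m + 1) :=
    hc.trans (((hE.good e1).C_le hG).trans (hE.good e1).Q_le)
  obtain ⟨t, ht, htC⟩ := SetLike.not_le_iff_exists.1 fun h => hn (cents_symm h)
  obtain ⟨t₀, ht₀, ht₀Q⟩ := g0'.off.ex
  refine hE.ne e' (eq_of_card_eq (fun u hu => ?_) (g1'.off.card.trans g0'.off.card.symm)).symm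
  by_contra huV
  have huN : u ∈ N[VV (A 0)] := VV_norm _ (g0'.le (g1'.V_le hu))
  have h2 := hG.cm_t2 (ea_VV (A 0)).t2 ((ea_VV _).t2.piElt hu) huN huV
  have m1 : t ∈ cm (VV (A 0)) u := by
    refine (mem_cm huN).2 ⟨VV_norm _ (g0.le (c1 ht)), ?_⟩
    have := (hE.good (hE.symm e1)).off.comm u (hc' hu) t ht
    rw [← c2] at this
    have h3 := (VV (A 0)).inv_mem (g0.off.Wle this)
    rw [(ea_VV _).inv ht, (ea_VV _).inv hu] at h3 ⊢
    simpa [mul_inv_rev, (ea_VV _).inv ht, (ea_VV _).inv hu, mul_assoc] using h3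
  have m2 : t₀ ∈ cm (VV (A 0)) u :=
    (mem_cm huN).2 ⟨VV_norm _ (g0'.le ht₀), g0'.off.Wle (g1'.off.comm t₀ ht₀ u hu)⟩
  obtain ⟨c, hc, hc1, hcc⟩ := exists_fix (h2.inf_left (A 0)) (ea_VV (A 0)).t2
    (inf_le_right.trans (VV_norm _)) (VV_ne_bot g0.off.ne)
  have n1 : c ∈ OZ (R 0) := g0.off.fix t (c1 ht) (fun hQ => htC (QQ_le_C _ hQ)) ▸
    ⟨hc, C_le_C1 (H := cm (VV (A 0)) u ⊓ A 0) ⟨m1, g0.le (c1 ht)⟩ hcc⟩
  have n2 : c ∈ OZ (H24.cj x (R 0)) := g0'.off.fix t₀ ht₀ ht₀Q ▸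
    ⟨hc, C_le_C1 (H := cm (VV (A 0)) u ⊓ A 0) ⟨m2, g0'.le ht₀⟩ hcc⟩
  exact hc1 (mem_bot.1 (hb ▸ (⟨n2, n1⟩ : c ∈ OZ (H24.cj x (R 0)) ⊓ OZ (R 0))))

theorem Am.near_all (hG : IsCIT G) (hE : Am E) (h1 : Near E 1) : ∀ n, Near E n
  | 0 => fun A _ _ => (ea_VV (A 0)).le_C
  | 1 => h1
  | m + 2 => hE.near_step hG h1 (hE.near_all hG h1 (m + 1))

theorem exists_path (h : Relation.ReflTransGen (fun A B => ∃ R, E A B R) A B) :
    ∃ (n : ℕ) (f R : ℕ → Subgroup G), f 0 = A ∧ f n = B ∧ ∀ k < n, E (f k) (f (k + 1)) (R k) := by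
  induction h with
  | refl => exact ⟨0, fun _ => A, fun _ => A, rfl, rfl, fun k hk => by omega⟩
  | @tail B C _ h ih =>
    obtain ⟨n, f, R, h0, hn, hp⟩ := ih
    obtain ⟨R', hR'⟩ := h
    refine ⟨n + 1, fun k => if k ≤ n then f k else C, fun k => if k < n then R k else R',
      by simpa using h0, by simp, fun k hk => ?_⟩
    by_cases h1 : k < n
    · simpa [h1, h1.le, Nat.succ_le_of_lt h1] using hp k h1
    · obtain rfl : k = n := by omega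
      simpa [hn] using hR'

variable {P₁ P₂ : Subgroup G}

theorem not_cents (hG : IsCIT G) (g1 : Good P₁ T) (g2 : Good P₂ T) (h : QQ (P₁ ⊔ P₂) = ⊥) :
    ¬ VV P₁ ≤ C[VV P₂] := by
  intro hc
  have hne : VV P₁ ≠ VV P₂ := fun e => VV_ne_bot g1.off.ne (eq_bot_of_le h
    (le_QQ (ea_VV P₁).t2 ⟨(VV_le' P₁).trans le_sup_left, sup_le (VV_norm P₁) (e ▸ VV_norm P₂)⟩))
  let E : Subgroup G → Subgroup G → Subgroup G → Prop := fun A B R =>
    ∃ g, R = cj g T ∧ (A = cj g P₁ ∧ B = cj g P₂ ∨ A = cj g P₂ ∧ B = cj g P₁)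
  have hE : Am E :=
    { symm := by
        rintro A B R ⟨g, h1, h2 | h2⟩
        exacts [⟨g, h1, .inr h2.symm⟩, ⟨g, h1, .inl h2.symm⟩]
      good := by
        rintro A B R ⟨g, rfl, ⟨rfl, rfl⟩ | ⟨rfl, rfl⟩⟩
        exacts [g1.cj g, g2.cj g]
      ne := by
        rintro A B R ⟨g, rfl, ⟨rfl, rfl⟩ | ⟨rfl, rfl⟩⟩ <;> rw [← cj_VV, ← cj_VV, ne_eq, cj_inj]
        exacts [hne, hne.symm]
      cj := by
        rintro A B R x ⟨g, rfl, ⟨rfl, rfl⟩ | ⟨rfl, rfl⟩⟩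
        exacts [⟨x * g, (cj_mul _ _ _).symm, .inl ⟨(cj_mul _ _ _).symm, (cj_mul _ _ _).symm⟩⟩,
          ⟨x * g, (cj_mul _ _ _).symm, .inr ⟨(cj_mul _ _ _).symm, (cj_mul _ _ _).symm⟩⟩] }
  have h1 : Near E 1 := by
    intro A R hp
    obtain ⟨g, -, ⟨e1, e2⟩ | ⟨e1, e2⟩⟩ := hp 0 (by omega) <;>
      rw [e1, e2, ← cj_VV, ← cj_VV]
    exacts [cent_cj hc g, cent_cj (cents_symm hc) g]
  let r := Relation.ReflTransGen (fun A B => ∃ R, E A B R)
  have rcj : ∀ (g : G) {A B}, r A B → r (cj g A) (cj g B) := fun g A B hr => by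
    induction hr with
    | refl => exact Relation.ReflTransGen.refl
    | tail _ h ih => exact ih.tail ⟨_, hE.cj g h.choose_spec⟩
  have rsymm : ∀ {A B}, r A B → r B A := fun hr => by
    induction hr with
    | refl => exact Relation.ReflTransGen.refl
    | tail _ h ih => exact Relation.ReflTransGen.head ⟨_, hE.symm h.choose_spec⟩ ih
  have e12 : E P₁ P₂ T := ⟨1, by simp, .inl ⟨by simp, by simp⟩⟩
  let X : Subgroup G :=
    { carrier := {g | r P₁ (cj g P₁)}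
      one_mem' := by simpa using Relation.ReflTransGen.refl
      mul_mem' := fun {a b} ha hb => by
        have := rcj a hb
        rw [← cj_mul] at this
        exact Relation.ReflTransGen.trans ha this
      inv_mem' := fun {a} ha => by
        have := rcj a⁻¹ ha
        rw [cj_inv_cj] at this
        exact rsymm this }
  have hX : P₁ ⊔ P₂ ≤ X := by
    refine sup_le (fun g hg => ?_) fun g hg => ?_
    · change r P₁ (cj g P₁)
      rw [cj_of_mem hg]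
    · have := hE.cj g (hE.symm e12)
      rw [cj_of_mem hg] at this
      exact (Relation.ReflTransGen.single ⟨_, e12⟩).tail ⟨_, this⟩
  have hk : ∀ g ∈ P₁ ⊔ P₂, cj g (VV P₁) ≤ QQ P₁ := by
    intro g hg
    obtain ⟨n, f, R, h0, hn, hp⟩ := exists_path (hX hg)
    have := hE.near_all hG h1 n f R hp
    rw [h0, hn, ← cj_VV] at this
    exact (cents_symm this).trans (g1.C_le hG)
  have hN : (⨆ g : ↥(P₁ ⊔ P₂), cj (g : G) (VV P₁)) ≤ QQ P₁ := iSup_le fun g => hk g g.2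
  refine VV_ne_bot g1.off.ne (eq_bot_of_le h (le_trans ?_ (le_QQ ((QQ_t2 P₁).of_le hN)
    ⟨hN.trans ((QQ_nml P₁).le.trans le_sup_left), fun x hx => mem_N_of_cj_le ?_⟩)))
  · exact le_iSup_of_le 1 (by simp)
  · rw [cj_le_iff]
    refine iSup_le fun g => ?_
    rw [← cj_le_iff, ← cj_mul]
    exact le_iSup_of_le (⟨x, hx⟩ * g) le_rfl

/-- two `2`-local subgroups as the parabolic subgroups of `L₃(q)`. -/
structure Two (P₁ P₂ T : Subgroup G) : Prop where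
  g1 : Good P₁ T
  g2 : Good P₂ T
  q1 : QQ P₁ = VV P₁
  q2 : QQ P₂ = VV P₂
  sup : VV P₁ ⊔ VV P₂ = T
  inf : VV P₁ ⊓ VV P₂ = OZ T

theorem Two.symm (h : Two P₁ P₂ T) : Two P₂ P₁ T :=
  ⟨h.g2, h.g1, h.q2, h.q1, by rw [sup_comm, h.sup], by rw [inf_comm, h.inf]⟩

theorem two_aux (g1 : Good P₁ T) (g2 : Good P₂ T) (h : ¬ VV P₁ ≤ C[VV P₂]) :
    VV P₂ ⊓ QQ P₁ = OZ T ∧ VV P₂ ⊔ QQ P₁ = T := by
  obtain ⟨v, hv, hvC⟩ := SetLike.not_le_iff_exists.1 h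
  have h1 : VV P₂ ⊓ QQ P₁ = OZ T := by
    refine le_antisymm ?_ (le_inf g2.off.Wle (g1.off.Wle.trans (VV_le _)))
    rw [← g2.off.fix v (g1.V_le hv) fun hQ => hvC (QQ_le_C _ hQ)]
    exact inf_le_inf_left _ ((QQ_le_C _).trans (C_le_C1 hv))
  refine ⟨h1, eq_of_card_eq (sup_le g2.V_le g1.Q_le) ?_⟩
  have := card_sup (A := VV P₂) (B := QQ P₁) (g1.Q_le.trans (g2.le.trans (VV_norm _)))
  rw [h1, g2.off.card] at this
  refine Nat.eq_of_mul_eq_mul_right (card_pos (OZ T)) (this.trans ?_)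
  rw [g1.cardT]; ring

theorem sq_aux (g1 : Good P₁ T) (h : VV P₁ ⊔ QQ P₂ = T) {x : G} (hx : x ∈ QQ P₁) :
    ∃ y ∈ QQ P₂, x * x = y * y := by
  have hx' := g1.Q_le hx
  rw [← h] at hx'
  obtain ⟨v, hv, y, hy, rfl⟩ := (mem_sup_of_norm (A := VV P₁) (B := QQ P₂)
    (le_trans (le_sup_right.trans h.le) (g1.le.trans (VV_norm _)))).1 hx'
  have hy1 : y ∈ QQ P₁ := by simpa using (QQ P₁).mul_mem ((QQ P₁).inv_mem (VV_le _ hv)) hx
  refine ⟨y, hy, ?_⟩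
  calc v * y * (v * y) = v * (y * v * y⁻¹) * (y * y) := by group
    _ = y * y := by rw [conj_eq_of_QQ hy1 hv, ea_VV _ v hv, one_mul]

theorem IsCIT.two (hG : IsCIT G) (g1 : Good P₁ T) (g2 : Good P₂ T) (h : QQ (P₁ ⊔ P₂) = ⊥) :
    Two P₁ P₂ T := by
  have hn := not_cents hG g1 g2 h
  obtain ⟨a1, a2⟩ := two_aux g1 g2 hn
  obtain ⟨b1, b2⟩ := two_aux g2 g1 fun h => hn (cents_symm h)
  have hs : {y | ∃ x ∈ QQ P₁, y = x * x} = {y | ∃ x ∈ QQ P₂, y = x * x} := by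
    ext y
    constructor
    · rintro ⟨x, hx, rfl⟩; exact sq_aux g1 b2 hx
    · rintro ⟨x, hx, rfl⟩; exact sq_aux g2 a2 hx
  have hN : ∀ P : Subgroup G, P ≤ N[closure {y | ∃ x ∈ QQ P, y = x * x}] := by
    intro P
    refine norm_closure ?_
    rintro a ha _ ⟨x, hx, rfl⟩
    exact subset_closure ⟨_, conj_mem (QQ_norm P ha) hx, by group⟩
  have hle : closure {y | ∃ x ∈ QQ P₁, y = x * x} ≤ QQ P₁ := (closure_le _).2 (by
    rintro _ ⟨x, hx, rfl⟩; exact (QQ P₁).mul_mem hx hx)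
  have hb : closure {y | ∃ x ∈ QQ P₁, y = x * x} = ⊥ := eq_bot_of_le h
    (le_QQ ((QQ_t2 _).of_le hle) ⟨hle.trans ((QQ_nml _).le.trans le_sup_left),
      sup_le (hN P₁) (hs ▸ hN P₂)⟩)
  have q1 : QQ P₁ = VV P₁ := (EA.OZ_eq fun x hx => mem_bot.1 (hb ▸ subset_closure ⟨x, hx, rfl⟩)).symm
  rw [hs] at hb
  have q2 : QQ P₂ = VV P₂ := (EA.OZ_eq fun x hx => mem_bot.1 (hb ▸ subset_closure ⟨x, hx, rfl⟩)).symm
  exact ⟨g1, g2, q1, q2, q2 ▸ b2, q2 ▸ b1⟩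

end H15.CIT
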