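import Mathlib
import Cfsg.Agent.H15.CIT3
import Cfsg.Agent.H6.OneFix
import Cfsg.Agent.S0111

/-!
# The local structure of a simple group without elements of order `2p`
-/

set_option autoImplicit false
set_option linter.unusedSectionVars false
set_option linter.style.haveILetI false

namespace H15.CIT

open H24 Cfsg Subgroup H12

variable {G : Type*} [Group G] [Finite G] {P P₁ P₂ T S B : Subgroup G}

theorem le_or_le {A B X : Subgroup G} (h : ∀ x ∈ X, x ∈ A ∨ x ∈ B) : X ≤ A ∨ X ≤ B := by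
  by_contra hc
  push Not at hc
  obtain ⟨a, ha, haA⟩ := SetLike.not_le_iff_exists.1 hc.1
  obtain ⟨b, hb, hbB⟩ := SetLike.not_le_iff_exists.1 hc.2
  have h1 := (h a ha).resolve_left haA
  have h2 := (h b hb).resolve_right hbB
  rcases h _ (X.mul_mem ha hb) with h3 | h3
  · exact haA ((A.mul_mem_cancel_right h2).1 h3)
  · exact hbB ((B.mul_mem_cancel_left h1).1 h3)

theorem mul_mem_of_two {A X : Subgroup G} (h : A.relIndex X = 2) {x y : G} (hx : x ∈ X) (hy : y ∈ X)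
    (hxA : x ∉ A) (hyA : y ∉ A) : x * y ∈ A := by
  have := (mul_mem_iff_of_index_two h (a := ⟨x, hx⟩) (b := ⟨y, hy⟩)).2
    (by simp [mem_subgroupOf, hxA, hyA])
  simpa [mem_subgroupOf] using this

theorem IsCIT.C1_eq (hG : IsCIT G) (hS : Syl 2 ⊤ S) {z : G} (hz : E2 z) (h1 : z ≠ 1)
    (h : S ≤ C{z}) : C{z} = S := hS.eq_of_le (hG.cent h1 hz) h le_top

theorem IsCIT.C1_OZ (hG : IsCIT G) (hS : Syl 2 ⊤ S) {z : G} (hz : z ∈ OZ S) (h1 : z ≠ 1) :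
    C{z} = S :=
  hG.C1_eq hS (e2_of_sq (ea_OZ S z hz)) h1 ((le_C_OZ S).trans (C_le_C1 hz))

namespace Two

theorem W_le1 (h : Two P₁ P₂ T) : OZ T ≤ VV P₁ := h.g1.off.Wle
theorem W_le2 (h : Two P₁ P₂ T) : OZ T ≤ VV P₂ := h.g2.off.Wle

theorem exists_mul (h : Two P₁ P₂ T) {t : G} (ht : t ∈ T) :
    ∃ a ∈ VV P₁, ∃ b ∈ VV P₂, t = a * b := by
  rw [← h.sup] at ht
  exact (mem_sup_of_norm (h.g2.V_le.trans (h.g1.le.trans (VV_norm _)))).1 ht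

theorem mem_W (h : Two P₁ P₂ T) {x : G} (h1 : x ∈ VV P₁) (h2 : x ∈ VV P₂) : x ∈ OZ T :=
  h.inf ▸ ⟨h1, h2⟩

theorem C_eq (hG : IsCIT G) (h : Two P₁ P₂ T) : C[VV P₁] = VV P₁ :=
  le_antisymm ((h.g1.C_le hG).trans h.q1.le) (ea_VV _).le_C

theorem invol (h : Two P₁ P₂ T) {t : G} (ht : t ∈ T) (h2 : t * t = 1) :
    t ∈ VV P₁ ∨ t ∈ VV P₂ := by
  obtain ⟨a, ha, b, hb, rfl⟩ := h.exists_mul ht
  by_cases hb1 : b ∈ VV P₁
  · exact .inl ((VV P₁).mul_mem ha hb1)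
  · refine .inr ((VV P₂).mul_mem (h.W_le2 ?_) hb)
    rw [← h.g1.off.fix b (h.g2.V_le hb) (h.q1 ▸ hb1)]
    refine ⟨ha, mem_C1.2 ?_⟩
    rw [← inv_eq_of_mul_eq_one_right h2, mul_inv_rev, (ea_VV _).inv ha, (ea_VV _).inv hb]

theorem ea_le (h : Two P₁ P₂ T) (hB : EA B) (hBT : B ≤ T) : B ≤ VV P₁ ∨ B ≤ VV P₂ :=
  le_or_le fun x hx => h.invol (hBT hx) (hB x hx)

theorem sq (h : Two P₁ P₂ T) {t : G} (ht : t ∈ T) : t * t ∈ OZ T := by
  obtain ⟨a, ha, b, hb, rfl⟩ := h.exists_mul ht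
  have := h.g1.off.comm b (h.g2.V_le hb) a ha
  rw [(ea_VV _).inv ha, (ea_VV _).inv hb] at this
  simpa [mul_assoc] using this

theorem card_eq (h : Two P₁ P₂ T) : Nat.card (VV P₁) = Nat.card (VV P₂) :=
  h.g1.off.card.trans h.g2.off.card.symm

theorem ne (h : Two P₁ P₂ T) : ¬ VV P₁ ≤ VV P₂ := by
  intro hle
  obtain ⟨v, hv, hvW⟩ := h.g1.off.exists_not_mem
  exact hvW (h.mem_W hv (hle hv))

theorem cj_eq (h : Two P₁ P₂ T) {g : G} (hg : g ∈ N[T]) :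
    cj g (VV P₁) = VV P₁ ∨ cj g (VV P₁) = VV P₂ :=
  (h.ea_le ((ea_VV _).cj g) (cj_le_of_mem_N h.g1.V_le hg)).imp
    (fun e => eq_of_card_eq e (card_cj _ _)) fun e => eq_of_card_eq e ((card_cj _ _).trans h.card_eq)

end Two

section Swap

variable (hG : IsCIT G) {s : G} (h : Two P (cj s P) T) (hS : Syl 2 ⊤ S) (hTS : T ≤ S) (hsS : s ∈ S)
  (hsN : s ∈ N[T]) (hsT : s ∉ T) (hs2 : s * s ∈ T) (hN : N[VV P] ≤ P) (hq : 2 < Nat.card (OZ T))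

include hG h hS hTS hsS hsN hsT hs2 hN

theorem swap_mem {g : G} (hg : g ∈ S ⊓ N[T]) : g ∈ T ∨ s⁻¹ * g ∈ T := by
  have key : ∀ g ∈ S ⊓ N[T], g ∈ N[VV P] → g ∈ T := fun g hg h1 =>
    h.g1.syl.le_of_norm (hS.pi.piElt hg.1).isPi (zpowers_le.2 (hN h1)) (zpowers_le.2 hg.2)
      (mem_zpowers g)
  rcases h.cj_eq hg.2 with e | e
  · exact .inl (key g hg (mem_N_iff_cj.2 e))
  · rw [← cj_VV, cj_eq_cj_iff] at e
    exact .inr (key _ ((S ⊓ N[T]).mul_mem ((S ⊓ N[T]).inv_mem ⟨hsS, hsN⟩) hg) e)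

theorem swap_index : T.relIndex (S ⊓ N[T]) = 2 := by
  refine relIndex_eq_two_iff_exists_notMem_and'.2 ⟨s⁻¹, (S ⊓ N[T]).inv_mem ⟨hsS, hsN⟩,
    by simpa using hsT, fun b hb => (swap_mem hG h hS hTS hsS hsN hsT hs2 hN hb).symm⟩

theorem swap_cj {b : G} (hb : b ∈ S ⊓ N[T]) (hbT : b ∉ T) :
    cj b (VV P) = VV (cj s P) ∧ cj b (VV (cj s P)) = VV P := by
  have h1 := (swap_mem hG h hS hTS hsS hsN hsT hs2 hN hb).resolve_left hbT
  have hT : T ≤ N[VV P] := h.g1.le.trans (VV_norm _)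
  constructor
  · rw [← cj_VV, cj_eq_cj_iff]; exact hT h1
  · rw [← cj_VV, ← cj_mul]
    refine cj_of_mem_N (hT ?_)
    rw [show b * s = (s * (s⁻¹ * b) * s⁻¹) * (s * s) by group]
    exact T.mul_mem (conj_mem hsN h1) hs2

include hq

theorem swap_ea (hB : EA B) (hc : Nat.card B = Nat.card (VV P)) (hBS : B ≤ S ⊓ N[T]) : B ≤ T := by
  by_contra hn
  obtain ⟨b, hb, hbT⟩ := SetLike.not_le_iff_exists.1 hn
  obtain ⟨e1, e2⟩ := swap_cj hG h hS hTS hsS hsN hsT hs2 hN (hBS hb) hbT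
  have hc1 : ∀ x ∈ B, b * x * b⁻¹ = x := fun x hx => by rw [hB.comm hb hx]; simp
  have h1 : T ⊓ B ≤ OZ T := by
    rcases h.ea_le (hB.of_le (inf_le_right (a := T))) inf_le_left with e | e
    · exact fun x hx => h.mem_W (e hx) (by rw [← e1, ← hc1 x hx.2]; exact conj_mem_cj b (e hx))
    · exact fun x hx => h.mem_W (by rw [← e2, ← hc1 x hx.2]; exact conj_mem_cj b (e hx)) (e hx)
  have h2 := relIndex_le_of_le_right (H := T) hBS (relIndex_ne_zero' _ _)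
  rw [swap_index hG h hS hTS hsS hsN hsT hs2 hN] at h2
  have h3 := card_inf_mul_relIndex T B
  have h4 := card_le h1
  rw [hc, h.g1.off.card] at h3
  have : Nat.card ↥(T ⊓ B) * T.relIndex B ≤ Nat.card (OZ T) * 2 := Nat.mul_le_mul h4 h2
  nlinarith

theorem swap_cj_le {g : G} (hg : cj g T ≤ S ⊓ N[T]) : cj g T ≤ T := by
  have h1 := swap_ea hG h hS hTS hsS hsN hsT hs2 hN hq ((ea_VV P).cj g) (card_cj _ _)
    ((cj_mono g h.g1.V_le).trans hg)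
  have h2 := swap_ea hG h hS hTS hsS hsN hsT hs2 hN hq ((ea_VV (cj s P)).cj g)
    ((card_cj _ _).trans h.card_eq.symm) ((cj_mono g h.g2.V_le).trans hg)
  have := sup_le h1 h2
  rwa [← cj_sup, h.sup] at this

theorem swap_norm : S ≤ N[T] := by
  have : S ⊓ N[T] = S := by
    refine (hS.pi.nil p2).eq_of_norm_le inf_le_left fun g hg => ⟨hg.1, mem_N_of_cj_le ?_⟩
    exact swap_cj_le hG h hS hTS hsS hsN hsT hs2 hN hq
      (cj_le_of_mem_N (le_inf hTS (norm_self T)) hg.2)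
  exact this.ge.trans inf_le_right

theorem swap_not_mem : s ∉ QQ N[T] := by
  intro hs
  have hSN := swap_norm hG h hS hTS hsS hsN hsT hs2 hN hq
  have hQS : QQ N[T] ≤ S := QQ_le (hS.of_le hSN le_top)
  obtain ⟨w, hw, hw1⟩ := exists_ne_one h.g1.off.W_ne
  have : ¬ OZ T ≤ zpowers w := fun hle => by
    have := card_le hle
    rw [card_zpowers', orderOf_eq_two hw1 (ea_OZ T w hw)] at this
    omega
  obtain ⟨w', hw', hw'1⟩ := SetLike.not_le_iff_exists.1 this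
  obtain ⟨k, hk, hkN, e⟩ := h.g1.transW hG hw hw1 hw' (by rintro rfl; exact hw'1 (one_mem _))
  have h1 : k * s * k⁻¹ ∈ QQ N[T] := conj_mem (QQ_norm _ hkN) hs
  have h2 : k ∈ cm T s := (mem_cm hsN).2 ⟨hkN, (swap_mem hG h hS hTS hsS hsN hsT hs2 hN
    ⟨hQS h1, hSN (hQS h1)⟩).resolve_left fun h3 => hsT ((conj_mem_iff hkN).1 h3)⟩
  have h3 := (hG.cm_t2 h.g1.syl.pi (hS.pi.piElt hsS) hsN hsT).piElt h2
  have h4 : k ∈ T := h.g1.syl.le_of_norm h3.isPi (zpowers_le.2 hk) (zpowers_le.2 hkN) (mem_zpowers k)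
  rw [conj_eq_of_mem_C (le_C_OZ T h4) hw] at e
  exact hw'1 (e ▸ mem_zpowers w)

end Swap

theorem swap_false (hG : IsCIT G) (h2 : ∀ M : Subgroup G, M.Normal → M.index ≠ 2) {s : G}
    (h : Two P (cj s P) T) (hS : Syl 2 ⊤ S) (hTS : T ≤ S) (hsS : s ∈ S)
    (hsN : s ∈ N[T]) (hsT : s ∉ T) (hs2 : s * s ∈ T) (hN : N[VV P] ≤ P)
    (hq : 2 < Nat.card (OZ T)) : False := by
  have hSN := swap_norm hG h hS hTS hsS hsN hsT hs2 hN hq
  have hi := swap_index hG h hS hTS hsS hsN hsT hs2 hN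
  have hSS : S ⊓ N[T] = S := inf_eq_left.2 hSN
  rw [hSS] at hi
  have hTQ : T ≤ QQ N[T] := le_QQ h.g1.syl.pi (nml_N T)
  have hQS : QQ N[T] ≤ S := QQ_le (hS.of_le hSN le_top)
  have hsQ := swap_not_mem hG h hS hTS hsS hsN hsT hs2 hN hq
  obtain ⟨u, hu, hr⟩ := hG.exists_invol hsN hsQ (hTQ hs2)
  have hrQ : u * s ∉ QQ N[T] := fun h1 => hsQ (((QQ N[T]).mul_mem_cancel_left hu).1 h1)
  have hrS : u * s ∈ S := S.mul_mem (hQS hu) hsS
  generalize u * s = r at hr hrQ hrS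
  have hrT : r ∉ T := fun h1 => hrQ (hTQ h1)
  have hr1 : r ≠ 1 := by rintro rfl; exact hrT T.one_mem
  have hri : r⁻¹ = r := inv_eq_of_mul_eq_one_right hr
  obtain ⟨e1, e2⟩ := swap_cj hG h hS hTS hsS hsN hsT hs2 hN ⟨hrS, hSN hrS⟩ hrT
  have hhalf := (hG.half (hSN hrS) hrQ (ea_OZ T) (norm_OZ le_rfl) (by rw [hr]; exact one_mem _)).2.1
  -- `r` is conjugate to a central involution
  obtain ⟨S₀, hS₀⟩ := hS.exists_sylow_top p2
  obtain ⟨g, hg⟩ := (Cfsg.Agent.S0111.result S₀ T (hS₀ ▸ hTS) (hS₀ ▸ hi) r (orderOf_eq_two hr1 hr)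
    (hS₀ ▸ hrS) hrT).resolve_left fun ⟨M, hM, hM2, _⟩ => h2 M hM hM2
  obtain ⟨z, hz, hz1⟩ := exists_ne_one (OZ_ne_bot hS.pi (ne_bot_of_mem hrS hr1))
  have hzW : z ∈ OZ T := by
    have h1 : z ∈ C[T] := C_anti hTS (OZ_le_C S hz)
    have h3 : z ∈ VV P := h.C_eq hG ▸ C_anti h.g1.V_le h1
    exact mem_OZ.2 ⟨h.g1.V_le h3, h1, ea_OZ S z hz⟩
  obtain ⟨y, hy⟩ : ∃ y, y * z * y⁻¹ = r := by
    have hg1 : g * r * g⁻¹ ≠ 1 := by rwa [ne_eq, conj_eq_one_iff']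
    have hg2 : g * r * g⁻¹ * (g * r * g⁻¹) = 1 := by
      rw [show g * r * g⁻¹ * (g * r * g⁻¹) = g * (r * r) * g⁻¹ by group, hr]; group
    obtain ⟨x, e⟩ : ∃ x, x * z * x⁻¹ = g * r * g⁻¹ := by
      rcases h.invol hg hg2 with h1 | h1
      · obtain ⟨x, -, e⟩ := h.g1.transV (h.W_le1 hzW) hz1 h1 hg1
        exact ⟨x, e⟩
      · obtain ⟨x, -, e⟩ := h.g2.transV (h.W_le2 hzW) hz1 h1 hg1
        exact ⟨x, e⟩
    exact ⟨g⁻¹ * x, by rw [show g⁻¹ * x * z * (g⁻¹ * x)⁻¹ = g⁻¹ * (x * z * x⁻¹) * g by group, e]; group⟩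
  have hCr : C{r} = cj y S := by rw [← hy, ← cj_C1, hG.C1_OZ hS hz hz1]
  have hi' : (cj y T).relIndex C{r} = 2 := by rw [hCr, relIndex_cj, hi]
  -- elements of order four centralised by `r`
  have hWc : ∀ w ∈ OZ T, ∀ t ∈ T, t * w = w * t := fun w hw t ht => mem_C.1 (OZ_le_C T hw) t ht
  have hv' : ∀ v ∈ VV P, r * v * r⁻¹ ∈ VV (cj s P) := fun v hv => e1 ▸ conj_mem_cj r hv
  have k1 : ∀ v ∈ VV P, ∃ w ∈ OZ T, v * (r * v * r⁻¹) * w ∈ C{r} := by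
    intro v hv
    have hx : v * (r * v * r⁻¹) ∈ T := T.mul_mem (h.g1.V_le hv) (h.g2.V_le (hv' v hv))
    have e3 : r * (v * (r * v * r⁻¹)) * r⁻¹ = (v * (r * v * r⁻¹))⁻¹ := by
      rw [mul_inv_rev, (ea_VV _).inv hv, (ea_VV _).inv (hv' v hv), hri]
      calc r * (v * (r * v * r)) * r = r * v * r * v * (r * r) := by group
        _ = _ := by rw [hr, mul_one]
    have hs := h.sq hx
    generalize v * (r * v * r⁻¹) = x at hx e3 hs
    obtain ⟨w, hw, e4⟩ := hhalf (x * x) ⟨hs, mem_C1_comm.1 (mem_C1_iff_conj.2 (by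
      rw [show r * (x * x) * r⁻¹ = (r * x * r⁻¹) * (r * x * r⁻¹) by group, e3, ← mul_inv_rev]
      exact (ea_OZ T).inv hs))⟩
    refine ⟨w, hw, mem_C1_comm.1 (mem_C1_iff_conj.2 ?_)⟩
    calc r * (x * w) * r⁻¹ = (r * x * r⁻¹) * (r * w * r⁻¹) := by group
      _ = x⁻¹ * (w * x) * x := by rw [e3, e4]; group
      _ = w * x := by rw [← hWc w hw x hx, inv_mul_cancel_left, hWc w hw x hx]
      _ = x * w := (hWc w hw x hx).symm
  have k2 : ∀ v ∈ VV P, v ∉ OZ T → ∀ w ∈ OZ T, v * (r * v * r⁻¹) * w ∈ C{r} →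
      v * (r * v * r⁻¹) * w ∉ cj y T := by
    intro v hv hvW w hw hc hy'
    have hx : v * (r * v * r⁻¹) * w ∈ T :=
      T.mul_mem (T.mul_mem (h.g1.V_le hv) (h.g2.V_le (hv' v hv))) (OZ_le T hw)
    have hx1 : v * (r * v * r⁻¹) * w * (v * (r * v * r⁻¹) * w) ≠ 1 := by
      intro h1
      rcases h.invol hx h1 with h3 | h3
      · rw [(VV P).mul_mem_cancel_right (h.W_le1 hw), (VV P).mul_mem_cancel_left hv] at h3
        exact hvW ((conj_mem_iff (norm_OZ hSN hrS)).1 (h.mem_W h3 (hv' v hv)))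
      · rw [(VV _).mul_mem_cancel_right (h.W_le2 hw), (VV _).mul_mem_cancel_right (hv' v hv)] at h3
        exact hvW (h.mem_W hv h3)
    generalize v * (r * v * r⁻¹) * w = x at hx hx1 hc hy'
    have h3 := h.sq hx
    have h4 : x * x ∈ cj y (OZ T) := by
      obtain ⟨x', hx', rfl⟩ := mem_cj'.1 hy'
      have := conj_mem_cj y (h.sq hx')
      convert this using 1; group
    have h5 : S ≤ C{x * x} := by
      intro t ht
      have hrc : r ∈ C{x * x} := mem_C1_comm.1 (C{r}.mul_mem hc hc)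
      by_cases htT : t ∈ T
      · exact C_le_C1 h3 (le_C_OZ T htT)
      · have := C_le_C1 h3 (le_C_OZ T (mul_mem_of_two hi ht hrS htT hrT))
        exact (C{x * x}.mul_mem_cancel_right hrc).1 this
    have h6 : cj y T ≤ S := by
      rw [← hG.C1_eq hS (e2_of_sq (ea_OZ T _ h3)) hx1 h5]
      exact (cent_cj (le_C_OZ T) y).trans (C_le_C1 h4)
    have h7 := swap_cj_le hG h hS hTS hsS hsN hsT hs2 hN hq (g := y) (hSS.symm ▸ h6)
    exact hrT (h7 (hy ▸ conj_mem_cj y (OZ_le T hzW)))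
  obtain ⟨v₁, hv₁, hv₁W⟩ := h.g1.off.exists_not_mem
  have hlt : ¬ VV P ≤ OZ T ⊔ zpowers v₁ := by
    intro hle
    have h1 := card_le hle
    have h3 := card_sup (A := OZ T) (B := zpowers v₁)
      (zpowers_le.2 (norm_OZ (norm_self T) (h.g1.V_le hv₁)))
    rw [card_zpowers', orderOf_eq_two (by rintro rfl; exact hv₁W (one_mem _)) (ea_VV P _ hv₁)] at h3
    have h4 := card_pos (OZ T ⊓ zpowers v₁)
    rw [h.g1.off.card] at h1
    nlinarith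
  obtain ⟨v₂, hv₂, hv₂W⟩ := SetLike.not_le_iff_exists.1 hlt
  obtain ⟨w₁, hw₁, c₁⟩ := k1 v₁ hv₁
  obtain ⟨w₂, hw₂, c₂⟩ := k1 v₂ hv₂
  have h3 := mul_mem_of_two hi' c₁ c₂ (k2 v₁ hv₁ hv₁W w₁ hw₁ c₁)
    (k2 v₂ hv₂ (fun h1 => hv₂W (mem_sup_left h1)) w₂ hw₂ c₂)
  have h4 := C{r}.mul_mem c₁ c₂
  have h5 := h.g1.off.comm _ (h.g2.V_le (hv' v₁ hv₁)) v₂ hv₂
  have e3 : v₁ * (r * v₁ * r⁻¹) * w₁ * (v₂ * (r * v₂ * r⁻¹) * w₂) =
      v₁ * v₂ * (r * (v₁ * v₂) * r⁻¹) *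
        (v₂⁻¹ * (r * v₁ * r⁻¹ * v₂ * (r * v₁ * r⁻¹)⁻¹) * (w₁ * w₂)) := by
    have a1 := hWc w₁ hw₁ _ (T.mul_mem (h.g1.V_le hv₂) (h.g2.V_le (hv' v₂ hv₂)))
    have a2 := hWc _ h5 _ (h.g2.V_le (hv' _ ((VV P).mul_mem hv₁ hv₂)))
    calc _ = v₁ * (r * v₁ * r⁻¹) * (w₁ * (v₂ * (r * v₂ * r⁻¹))) * w₂ := by group
      _ = v₁ * v₂ * (v₂⁻¹ * (r * v₁ * r⁻¹ * v₂ * (r * v₁ * r⁻¹)⁻¹) * (r * (v₁ * v₂) * r⁻¹)) *
          (w₁ * w₂) := by rw [← a1]; group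
      _ = _ := by rw [← a2]; group
  rw [e3] at h3 h4
  refine k2 _ ((VV P).mul_mem hv₁ hv₂) (fun h1 => hv₂W ?_) _
    ((OZ T).mul_mem h5 ((OZ T).mul_mem hw₁ hw₂)) h4 h3
  have := mul_mem (mem_sup_right (S := OZ T) (inv_mem (mem_zpowers v₁))) (mem_sup_left h1)
  simpa using this

end H15.CIT
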