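import Mathlib
import Cfsg.Agent.H15.CIT4

/-!
# The trichotomy for simple groups without elements of order `2p`
-/

set_option autoImplicit false
set_option linter.unusedSectionVars false
set_option linter.style.haveILetI false

namespace H15.CIT

open H24 Cfsg Subgroup H12

variable {G : Type*} [Group G] [Finite G] {P P₁ P₂ T S B M : Subgroup G}

/-- maximal among the subgroups with `O₂ ≠ 1`. -/
def MaxL (M : Subgroup G) : Prop := QQ M ≠ ⊥ ∧ ∀ H, QQ H ≠ ⊥ → M ≤ H → H = M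

theorem exists_maxL {H : Subgroup G} (h : QQ H ≠ ⊥) : ∃ M, H ≤ M ∧ MaxL M :=
  exists_max (P := fun H => QQ H ≠ ⊥) h

theorem QQ_N_ne {X : Subgroup G} (h : T2 X) (h1 : X ≠ ⊥) : QQ N[X] ≠ ⊥ :=
  ne_bot_of_le h1 (le_QQ h (nml_N X))

theorem MaxL.N_eq (h : MaxL M) {X : Subgroup G} (hX : T2 X) (h1 : X ≠ ⊥) (hn : M ≤ N[X]) :
    N[X] = M := h.2 _ (QQ_N_ne hX h1) hn

theorem MaxL.N_VV (h : MaxL M) : N[VV M] = M := h.N_eq (ea_VV M).t2 (VV_ne_bot h.1) (VV_norm M)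

theorem MaxL.good (h : MaxL M) (hs : Str M T) : Good M T :=
  ⟨hs, (C_le_N _).trans h.N_VV.le⟩

theorem norm_JJ (hT : Syl 2 P T) (h : JJ T ≤ QQ P) : P ≤ N[JJ T] := by
  rw [JJ, ← J_eq_of_le h (QQ_le hT)]
  exact (QQ_norm P).trans (normalizer_le_normalizer_J _)

theorem JJ_ne (h : T2 T) (h1 : T ≠ ⊥) : JJ T ≠ ⊥ :=
  haveI : Fact (Nat.Prime 2) := ⟨p2⟩
  J_ne_bot (h.isPGroup p2) h1

theorem IsCIT.N_OZ_le (hG : IsCIT G) (hS : Syl 2 ⊤ S) (h1 : S ≠ ⊥) : N[OZ S] ≤ N[S] := by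
  have : C[OZ S] = S :=
    hS.eq_of_le (hG.centS (ea_OZ S).t2 (OZ_ne_bot hS.pi h1)) (le_C_OZ S) le_top
  exact (N_le_NC _).trans (by rw [this])

theorem Str.N_le (hG : IsCIT G) (hS : Syl 2 ⊤ S) (h : Str P S) : N[S] ≤ P := by
  intro g hg
  obtain ⟨z, hz, hz1⟩ := exists_ne_one h.off.W_ne
  obtain ⟨k, hk, -, e⟩ := h.transW hG hz hz1 (conj_mem (norm_OZ le_rfl hg) hz)
    (by rwa [ne_eq, conj_eq_one_iff'])
  have : k⁻¹ * g ∈ C{z} := mem_C1_iff_conj.2 (by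
    rw [show k⁻¹ * g * z * (k⁻¹ * g)⁻¹ = k⁻¹ * (g * z * g⁻¹) * k by group, ← e]; group)
  rw [hG.C1_OZ hS hz hz1] at this
  exact (P.mul_mem_cancel_left (P.inv_mem hk)).1 (h.le this)

theorem Two.four (hG : IsCIT G) (h : Two P₁ P₂ T) (hq : ¬ 2 < Nat.card (OZ T)) :
    ∃ V : Subgroup G, EA V ∧ Nat.card V = 4 ∧ C[V] = V := by
  refine ⟨VV P₁, ea_VV _, ?_, h.C_eq hG⟩
  have := h.g1.off.two_le
  rw [h.g1.off.card, show Nat.card (OZ T) = 2 by omega]; rfl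

theorem IsCIT.eq_N_of_se (hG : IsCIT G) (hS : Syl 2 ⊤ S) (hSM : S ≤ M) (hQ : QQ M ≠ ⊥)
    (hM : IsStronglyEmbedded M) : M ≤ N[S] := by
  have hSM' : Syl 2 M S := hS.of_le hSM le_top
  have : S ≤ QQ M := by
    intro a ha
    by_contra haQ
    obtain ⟨b, hb, hbQ, hb2⟩ := exists_sq_mem (hS.pi.piElt ha) haQ
    have hbM := hSM ((zpowers_le.2 ha) hb)
    obtain ⟨u, hu, hr⟩ := hG.exists_invol hbM hbQ hb2
    obtain ⟨z, hz, hz1, hz2⟩ := CIT.exists_invol (QQ_t2 M) hQ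
    have hr1 : u * b ≠ 1 := fun e => hbQ (((QQ M).mul_mem_cancel_left hu).1 (e ▸ one_mem _))
    obtain ⟨g, hg⟩ := isConj_iff.1 (H6.isConj_of_isStronglyEmbedded hM (orderOf_eq_two hz1 hz2)
      (orderOf_eq_two hr1 hr))
    have hgM := (H6.isStronglyEmbedded_iff.1 hM).2.2 g z ((QQ_nml M).le hz) (orderOf_eq_two hz1 hz2)
      (hg ▸ M.mul_mem ((QQ_nml M).le hu) hbM)
    exact hbQ (((QQ M).mul_mem_cancel_left hu).1 (hg ▸ conj_mem (QQ_norm M hgM) hz))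
  rw [le_antisymm this (QQ_le hSM')]
  exact QQ_norm M

theorem IsCIT.pushing_up (hG : IsCIT G) (h2 : ∀ M : Subgroup G, M.Normal → M.index ≠ 2)
    (hS : Syl 2 ⊤ S) (hSM : S ≤ M) (hU : ∀ H, QQ H ≠ ⊥ → S ≤ H → H ≤ M)
    {X : Subgroup G} (hXM : X ≤ M) (hX : T2 X) (hX1 : X ≠ ⊥) (hN : ¬ N[X] ≤ M) :
    ∃ V : Subgroup G, EA V ∧ Nat.card V = 4 ∧ C[V] = V := by
  classical
  let Φ : ℕ → Prop := fun n => ∃ H T : Subgroup G, QQ H ≠ ⊥ ∧ ¬ H ≤ M ∧ T2 T ∧ T ≤ H ∧ T ≤ M ∧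
    Nat.card T = n
  have h0 : Φ (Nat.card X) := ⟨N[X], X, QQ_N_ne hX hX1, hN, hX, norm_self X, hXM, rfl⟩
  have hb : ∀ n, Φ n → n ≤ Nat.card G := by
    rintro n ⟨H, T, -, -, -, -, -, rfl⟩
    exact Subgroup.card_le_card_group T
  obtain ⟨H₀, T₀, a1, a2, a3, a4, a5, a6⟩ := Nat.findGreatest_spec (hb _ h0) h0
  have hmax : ∀ H T : Subgroup G, QQ H ≠ ⊥ → T2 T → T ≤ H → T ≤ M → Nat.card T₀ < Nat.card T →
      H ≤ M := fun H T b1 b2 b3 b4 b5 => by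
    by_contra b6
    have b7 : Φ (Nat.card T) := ⟨H, T, b1, b6, b2, b3, b4, rfl⟩
    have := Nat.le_findGreatest (hb _ b7) b7
    omega
  have hT₀ : T₀ ≠ ⊥ := by
    have := Nat.le_findGreatest (hb _ h0) h0
    have h3 := one_lt_card hX1
    rintro rfl
    simp at a6; omega
  obtain ⟨m, hm, hTS⟩ := Sylow_Jsub p2 (hS.of_le hSM le_top) a3 a5
  obtain ⟨P, hP, hPm⟩ := exists_maxL (H := cj m H₀) (by rw [← cj_QQ]; simpa using a1)
  have hPM : ¬ P ≤ M := fun h => a2 (by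
    have := hP.trans h
    rwa [cj_le_iff, cj_of_mem (M.inv_mem hm)] at this)
  have hTP : cj m T₀ ≤ P := (cj_mono m a4).trans hP
  have hT1 : cj m T₀ ≠ ⊥ := by simpa using hT₀
  have hT2 : T2 (cj m T₀) := a3.cj m
  rw [← card_cj m T₀] at hmax
  generalize cj m T₀ = T at hTS hTP hT1 hT2 hmax
  have hlt : T < S := lt_of_le_of_ne hTS fun e => hPM (hU P hPm.1 (e ▸ hTP))
  obtain ⟨s₀, hs₀, hs₀T⟩ := SetLike.exists_of_lt ((hS.pi.nil p2).proper_norm hlt)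
  obtain ⟨s, hs, hsT, hs2⟩ := exists_sq_mem (hS.pi.piElt hs₀.1) hs₀T
  have hs' := (zpowers_le.2 hs₀) hs
  have hNM : ∀ Y : Subgroup G, T2 Y → Y ≠ ⊥ → N[T] ≤ N[Y] → N[Y] ≤ M := fun Y b1 b2 b3 =>
    hmax _ (S ⊓ N[Y]) (QQ_N_ne b1 b2) (hS.pi.inf_left _) inf_le_right (inf_le_left.trans hSM)
      (card_lt (lt_of_le_of_ne (le_inf hTS ((norm_self T).trans b3)) fun e =>
        hsT (e ▸ (⟨hs'.1, b3 hs'.2⟩ : s ∈ S ⊓ N[Y]))))
  have hsyl : Syl 2 P T := by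
    by_contra hn
    obtain ⟨Q, b1, b2, b3, b4⟩ := exists_lt_norm_of_not_syl p2 hT2 hTP hn
    exact hPM (hmax P Q hPm.1 b1 b3 (b4.trans (hNM T hT2 hT1 le_rfl)) (card_lt b2))
  have g1 : Good P T := hPm.good (hG.str hsyl hPm.1 fun hJ => hPM ((norm_JJ hsyl hJ).trans
    (hNM _ (hT2.of_le (J_le T)) (JJ_ne hT2 hT1) (normalizer_le_normalizer_J T))))
  have g2 : Good (cj s P) T := by
    have := g1.cj s
    rwa [cj_of_mem_N hs'.2] at this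
  have hQ : QQ (P ⊔ cj s P) = ⊥ := by
    by_contra hn
    have h3 : cj s P ≤ P := le_sup_right.trans (hPm.2 _ hn le_sup_left).le
    have h4 : s ∈ P := hPm.N_eq (QQ_t2 P) hPm.1 (QQ_norm P) ▸
      N_le_N_pcore _ P (mem_N_of_cj_le h3)
    exact hsT (hsyl.le_of_norm (hS.pi.piElt hs'.1).isPi (zpowers_le.2 h4) (zpowers_le.2 hs'.2)
      (mem_zpowers s))
  have ht := hG.two g1 g2 hQ
  exact ht.four hG (swap_false hG h2 ht hS hTS hs'.1 hs'.2 hsT hs2 hPm.N_VV.le)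

theorem IsCIT.trichotomy (hG : IsCIT G) (h2 : ∀ M : Subgroup G, M.Normal → M.index ≠ 2)
    (hO : QQ (⊤ : Subgroup G) = ⊥) (hS : Syl 2 ⊤ S) (h1 : S ≠ ⊥) :
    IsStronglyEmbedded N[S] ∨ (∃ V : Subgroup G, EA V ∧ Nat.card V = 4 ∧ C[V] = V) ∨
      ∃ P₁ P₂, Two P₁ P₂ S ∧ 2 < Nat.card (OZ S) ∧ N[VV P₁] = P₁ ∧ N[VV P₂] = P₂ := by
  obtain ⟨M, hM, hMm⟩ := exists_maxL (QQ_N_ne (hS.pi.of_le (J_le S)) (JJ_ne hS.pi h1))
  have hNM : N[S] ≤ M := (normalizer_le_normalizer_J S).trans hM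
  have hSM : S ≤ M := (norm_self S).trans hNM
  by_cases hU : ∀ H, QQ H ≠ ⊥ → S ≤ H → H ≤ M
  · by_cases hX : ∀ X : Subgroup G, X ≤ M → IsPGroup 2 X → X ≠ ⊥ → N[X] ≤ M
    · left
      have hse := H6.isStronglyEmbedded_of_normalizer_le M (by rintro rfl; exact hMm.1 hO)
        (even_iff_two_dvd.2 ((hS.pi.dvd_card h1).trans (card_dvd hSM))) hX
      rwa [← le_antisymm (hG.eq_N_of_se hS hSM hMm.1 hse) hNM]
    · push Not at hX
      obtain ⟨X, a1, a2, a3, a4⟩ := hX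
      exact .inr (.inl (hG.pushing_up h2 hS hSM hU a1 (isPi_of_isPGroup p2 a2) a3 a4))
  · right
    push Not at hU
    obtain ⟨H, a1, a2, a3⟩ := hU
    obtain ⟨P, hP, hPm⟩ := exists_maxL a1
    have hne : M ≠ P := fun e => a3 (e ▸ hP)
    have hSP : Syl 2 P S := hS.of_le (a2.trans hP) le_top
    have s1 : Str P S := hG.str hSP hPm.1 fun hJ => hne (hPm.2 _ hMm.1 ((norm_JJ hSP hJ).trans hM))
    have hSM' : Syl 2 M S := hS.of_le hSM le_top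
    have s2 : Str M S := hG.str hSM' hMm.1 fun hJ => hne (hMm.2 _ hPm.1 (by
      have := norm_OZ (norm_JJ hSM' hJ)
      rw [s1.ozj] at this
      exact this.trans ((hG.N_OZ_le hS h1).trans (s1.N_le hG hS)))).symm
    have ht := hG.two (hPm.good s1) (hMm.good s2) (by
      by_contra hn
      exact hne ((hMm.2 _ hn le_sup_right).symm.trans (hPm.2 _ hn le_sup_left)))
    by_cases hq : 2 < Nat.card (OZ S)
    · exact .inr ⟨P, M, ht, hq, hPm.N_VV, hMm.N_VV⟩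
    · exact .inl (ht.four hG hq)

end H15.CIT
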