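import Mathlib
import Cfsg.Agent.H15.CIT5

/-!
# The configuration of `L₃(4)`: generators
-/

set_option autoImplicit false
set_option linter.unusedSectionVars false
set_option linter.style.haveILetI false

namespace H15.CIT

open H24 Cfsg Subgroup H12

variable {G : Type*} [Group G] [Finite G] {P P₁ P₂ T S B M : Subgroup G}

theorem IsCIT.adjust (hG : IsCIT G) {Q : Subgroup G} (hQ : T2 Q) {n y : G} (hn : n ∈ N[Q])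
    (hy : y ∈ N[Q]) (h2 : n * n ∈ Q) (h : y * (n * y * n⁻¹) ∈ Q) (hy2 : ¬ E2 y) :
    ∃ u ∈ Q, (u * n) * (u * n) = 1 ∧ (u * n) * y * (u * n)⁻¹ = y⁻¹ := by
  have hyi : ¬ E2 y⁻¹ := fun h' => hy2 (by simpa using h'.inv)
  obtain ⟨u, hu, e⟩ := hG.exists_conj hQ hyi (N[Q].inv_mem hy) _ h
  have e' : (u⁻¹ * n) * y * (u⁻¹ * n)⁻¹ = y⁻¹ := by
    calc (u⁻¹ * n) * y * (u⁻¹ * n)⁻¹ = u⁻¹ * (y⁻¹ * (y * (n * y * n⁻¹))) * u := by group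
      _ = y⁻¹ := by rw [← e]; group
  refine ⟨u⁻¹, Q.inv_mem hu, hG.eq_one_of_comm (hQ.piElt ?_) hy2 ?_, e'⟩
  · rw [show u⁻¹ * n * (u⁻¹ * n) = u⁻¹ * (n * u⁻¹ * n⁻¹) * (n * n) by group]
    exact Q.mul_mem (Q.mul_mem (Q.inv_mem hu) (conj_mem hn (Q.inv_mem hu))) h2
  · generalize u⁻¹ * n = m at e'
    have : m * y⁻¹ * m⁻¹ = y := by
      rw [show m * y⁻¹ * m⁻¹ = (m * y * m⁻¹)⁻¹ by group, e', inv_inv]
    calc y * (m * m) = (m * y⁻¹ * m⁻¹) * (m * m) := by rw [this]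
      _ = m * (m * y * m⁻¹) * m := by rw [e']; group
      _ = m * m * y := by group

theorem mem_of_odd_of_sq {H : Subgroup G} {x : G} (ho : Odd (orderOf x)) (h : x * x ∈ H) : x ∈ H := by
  obtain ⟨m, hm⟩ := ho
  rw [← H21.eq_pow_sq_of_odd (x := x) (m := m) (by rw [← hm, pow_orderOf_eq_one])]
  exact H.pow_mem h _

theorem mem_of_e2_of_cube {H : Subgroup G} {x : G} (h2 : E2 x) (h : x ^ 3 ∈ H) : x ∈ H := by
  have hc : (orderOf x).Coprime 3 :=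
    PiNat.coprime h2 ((piNat_compl_singleton p2).2 (by norm_num))
  obtain ⟨m, hm⟩ := exists_pow_eq_self_of_coprime hc.symm
  rw [← hm]; exact H.pow_mem h _

namespace Str

theorem cj_ne (h : Str P T) {x : G} (hb : H24.cj x (OZ T) ⊓ OZ T = ⊥) : H24.cj x (OZ T) ≠ OZ T := by
  intro e
  rw [e, inf_idem] at hb
  exact h.off.W_ne hb

theorem fix_uniq (hG : IsCIT G) (h : Str P T) {k x y : G} (hk : k ∈ P) (hkT : k ∈ N[T]) (hk2 : ¬ E2 k)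
    (hx : x ∈ P) (hy : y ∈ P) (h1 : H24.cj x (OZ T) ≠ OZ T) (h2 : H24.cj y (OZ T) ≠ OZ T)
    (n1 : k ∈ N[H24.cj x (OZ T)]) (n2 : k ∈ N[H24.cj y (OZ T)]) :
    H24.cj x (OZ T) = H24.cj y (OZ T) := by
  have o1 := h.off.cjP hx
  have hb := (h.off.dich hG o1).resolve_left h1.symm
  obtain ⟨t, ht, e⟩ := h.off.trans hG o1 hb (h.off.cjP hy) h2
  have h3 : k⁻¹ * t⁻¹ * k * t ∈ T := T.mul_mem (conj_mem' hkT (T.inv_mem ht)) ht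
  have h4 : k⁻¹ * t⁻¹ * k * t ∈ QQ P := by
    refine h.off.stab hG o1 hb (h.le h3) (h.syl.pi.piElt h3) (norm_OZ (norm_self T) h3) ?_
    rw [e, ← cj_N, mem_cj] at n2
    simpa [mul_assoc] using mul_mem (inv_mem n1) n2
  have h5 : t ∈ QQ P := by
    by_contra h5
    have htN := QQ_norm P (h.le ht)
    refine hk2 ((hG.cm_t2 (QQ_t2 P) (h.syl.pi.piElt ht) htN h5).piElt
      ((mem_cm htN).2 ⟨QQ_norm P hk, ?_⟩))
    have := conj_mem (QQ_norm P hk) h4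
    convert this using 1; group
  rw [e, cj_of_mem_C (C_anti o1.Wle (QQ_le_C P h5))]

theorem fix_ex (hG : IsCIT G) (h : Str P T) {k : G} (hk : k ∈ P) (hkT : k ∈ N[T]) (hk2 : ¬ E2 k) :
    ∃ x ∈ P, H24.cj x (OZ T) ⊓ OZ T = ⊥ ∧ k ∈ N[H24.cj x (OZ T)] := by
  obtain ⟨x, hx, hb⟩ := h.ex
  have o1 := h.off.cjP hx
  have hkW := norm_OZ le_rfl hkT
  obtain ⟨t, ht, e⟩ := h.off.trans hG o1 (by rwa [inf_comm]) (o1.cjP hk) fun e => h.cj_ne hb (by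
    rwa [cj_eq_iff, cj_of_mem_N (inv_mem hkW)] at e)
  rw [cj_eq_cj_iff] at e
  obtain ⟨a, ha, e'⟩ := hG.exists_conj h.syl.pi hk2 hkT _ (conj_mem' hkT (T.inv_mem ht))
  refine ⟨a⁻¹ * x, P.mul_mem (P.inv_mem (h.le ha)) hx, ?_, ?_⟩
  · have := congrArg (H24.cj a⁻¹) hb
    rwa [cj_inf, cj_bot, cj_of_mem_N (norm_OZ (norm_self T) (T.inv_mem ha)), ← cj_mul] at this
  · rw [cj_mul, ← cj_N, mem_cj, inv_inv, e']
    convert e using 1; group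

theorem swap (hG : IsCIT G) (h : Str P T) {k x b : G} (hk : k ∈ P) (hkT : k ∈ N[T]) (hk2 : ¬ E2 k)
    (hx : x ∈ P) (hb : H24.cj x (OZ T) ⊓ OZ T = ⊥) (hkx : k ∈ N[H24.cj x (OZ T)])
    (hbT : b ∈ T) (hbQ : b ∉ QQ P) :
    ∃ n ∈ P, n * n = 1 ∧ n * k * n⁻¹ = k⁻¹ ∧ H24.cj n (OZ T) = H24.cj x (OZ T) ∧ (n * b) ^ 3 = 1 ∧
      ∀ y ∈ H24.cj x (OZ T), b * y * b⁻¹ = y * (n * y * n⁻¹) := by
  have o := h.off
  have o1 := h.off.cjP hx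
  have hne := h.cj_ne hb
  generalize H24.cj x (OZ T) = W₁ at *
  have hV := ea_VV P
  have hb' : OZ T ⊓ W₁ = ⊥ := by rwa [inf_comm]
  obtain ⟨b', hb'T, e⟩ := o1.trans hG o hb (o1.cjP (h.le hbT)) fun e => hbQ
    (o.stab hG o1 hb' (h.le hbT) (h.syl.pi.piElt hbT) (norm_OZ (norm_self T) hbT) (mem_N_iff_cj.2 e))
  have cb : ∀ w ∈ OZ T, b * w * b⁻¹ = w := fun w hw => conj_eq_of_mem_C (le_C_OZ T hbT) hw
  have cb' : ∀ w ∈ W₁, b' * w * b'⁻¹ = w := fun w hw => conj_eq_of_mem_C (o1.cent hb'T) hw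
  have key : ∀ y ∈ W₁, ∃ f ∈ OZ T, b * y * b⁻¹ = y * f ∧
      (b * b' * b) * y * (b * b' * b)⁻¹ = f ∧ (b * b' * b) * f * (b * b' * b)⁻¹ = y := by
    intro y hy
    have h1 := o.comm b hbT y (o1.Wle hy)
    obtain ⟨w, hw, e1⟩ := mem_cj'.1 (e ▸ conj_mem_cj b hy)
    have h2 := o1.comm b' hb'T w (o.Wle hw)
    generalize hf : y⁻¹ * (b * y * b⁻¹) = f at h1
    generalize hg : w⁻¹ * (b' * w * b'⁻¹) = g at h2
    have e2 : b * y * b⁻¹ = y * f := by rw [← hf]; group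
    have e3 : b' * w * b'⁻¹ = w * g := by rw [← hg]; group
    have e4 : f * y = w * g := by rw [← hV.comm (o1.Wle hy) (o.Wle h1), ← e2, e1, e3]
    obtain ⟨rfl, rfl⟩ := mul_eq_mul_of_inf hb' h1 hw hy h2 e4
    have e5 := hV.comm (o1.Wle hy) (o.Wle h1)
    refine ⟨f, h1, e2, ?_, ?_⟩
    · calc b * b' * b * y * (b * b' * b)⁻¹ = b * (b' * (b * y * b⁻¹) * b'⁻¹) * b⁻¹ := by group
        _ = b * ((b' * y * b'⁻¹) * (b' * f * b'⁻¹)) * b⁻¹ := by rw [e2]; group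
        _ = b * (y * y * f) * b⁻¹ := by rw [cb' y hy, e3, ← e5, mul_assoc y y]
        _ = f := by rw [o1.ea y hy, one_mul, cb f h1]
    · calc b * b' * b * f * (b * b' * b)⁻¹ = b * (b' * (b * f * b⁻¹) * b'⁻¹) * b⁻¹ := by group
        _ = b * (f * y) * b⁻¹ := by rw [cb f h1, e3]
        _ = (b * f * b⁻¹) * (b * y * b⁻¹) := by group
        _ = f * f * y := by rw [cb f h1, e2, e5, mul_assoc]
        _ = y := by rw [o.ea f h1, one_mul]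
  have hnP : b * b' * b ∈ P := P.mul_mem (P.mul_mem (h.le hbT) (o1.le hb'T)) (h.le hbT)
  generalize b * b' * b = n at key hnP
  have c1 : H24.cj n W₁ = OZ T := by
    refine eq_of_card_eq (fun w hw => ?_) ((card_cj _ _).trans (o1.card_eq o))
    obtain ⟨y, hy, rfl⟩ := mem_cj'.1 hw
    obtain ⟨f, hf, -, e1, -⟩ := key y hy
    rwa [e1]
  have mQ : ∀ c ∈ P, (∀ y ∈ W₁, ∀ f ∈ OZ T, b * y * b⁻¹ = y * f → n * y * n⁻¹ = f →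
      n * f * n⁻¹ = y → c * y * c⁻¹ = y ∧ c * f * c⁻¹ = f) → c ∈ QQ P := by
    intro c hc hh
    refine hG.mem_QQ o.ne hc ?_
    rw [← o.sup_eq o1 hb', C_sup]
    refine ⟨mem_C'.2 fun w hw => ?_, mem_C'.2 fun y hy => ?_⟩
    · rw [← c1] at hw
      obtain ⟨y, hy, rfl⟩ := mem_cj'.1 hw
      obtain ⟨f, hf, e0, e1, e2⟩ := key y hy
      rw [e1]
      exact mul_inv_eq_iff_eq_mul.1 (hh y hy f hf e0 e1 e2).2
    · obtain ⟨f, hf, e0, e1, e2⟩ := key y hy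
      exact mul_inv_eq_iff_eq_mul.1 (hh y hy f hf e0 e1 e2).1
  have h2 : n * n ∈ QQ P := mQ _ (P.mul_mem hnP hnP) fun y _ f _ _ e1 e2 =>
    ⟨by rw [show n * n * y * (n * n)⁻¹ = n * (n * y * n⁻¹) * n⁻¹ by group, e1, e2],
     by rw [show n * n * f * (n * n)⁻¹ = n * (n * f * n⁻¹) * n⁻¹ by group, e2, e1]⟩
  have c2 : H24.cj n (OZ T) = W₁ := by
    rw [← c1, ← cj_mul, cj_of_mem_C (C_anti o1.Wle (QQ_le_C P h2))]
  have hkW := norm_OZ le_rfl hkT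
  have s1 : n * k * (n * k) ∈ N[OZ T] := by
    rw [mem_N_iff_cj, cj_mul, cj_mul, cj_mul, cj_of_mem_N hkW, c2, cj_of_mem_N hkx, c1]
  have s2 : n * k * (n * k) ∈ N[W₁] := by
    rw [mem_N_iff_cj, cj_mul, cj_mul, cj_mul, cj_of_mem_N hkx, c1, cj_of_mem_N hkW, c2]
  have s3 : E2 (n * k) := by
    by_contra hn
    have := mem_of_odd_of_sq (hG.odd hn) s1
    rw [mem_N_iff_cj, cj_mul, cj_of_mem_N hkW, c2] at this
    exact hne this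
  have hnk := P.mul_mem hnP hk
  have s4 : n * k * (n * k) ∈ QQ P := o.stab hG o1 hb' (P.mul_mem hnk hnk) (s3.mul s3 rfl) s1 s2
  obtain ⟨u, hu, a1, a2⟩ := hG.adjust (QQ_t2 P) (QQ_norm P hnP) (QQ_norm P hk) h2 (by
    have := (QQ P).mul_mem (conj_mem' (QQ_norm P hnP) s4) ((QQ P).inv_mem h2)
    convert this using 1; group) hk2
  have huP := (QQ_nml P).le hu
  have cu : ∀ v ∈ VV P, u * n * v * (u * n)⁻¹ = n * v * n⁻¹ := fun v hv => by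
    rw [show u * n * v * (u * n)⁻¹ = u * (n * v * n⁻¹) * u⁻¹ by group,
      conj_eq_of_QQ hu (conj_mem (VV_norm P hnP) hv)]
  have c3 : H24.cj (u * n) (OZ T) = W₁ := by
    rw [cj_mul, c2, cj_of_mem_C (C_anti o1.Wle (QQ_le_C P hu))]
  refine ⟨u * n, P.mul_mem huP hnP, a1, a2, c3, ?_, fun y hy => ?_⟩
  · have hc := P.mul_mem (P.mul_mem huP hnP) (h.le hbT)
    have h3 : (u * n * b) ^ 3 ∈ QQ P := by
      refine mQ _ (P.pow_mem hc 3) fun y hy f hf e0 e1 e2 => ?_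
      have e5 := hV.comm (o1.Wle hy) (o.Wle hf)
      have cc : ∀ v ∈ VV P, u * n * b * v * (u * n * b)⁻¹ = n * (b * v * b⁻¹) * n⁻¹ := fun v hv => by
        rw [← cu _ (conj_mem (VV_norm P (h.le hbT)) hv)]; group
      have d1 : u * n * b * y * (u * n * b)⁻¹ = f * y := by
        rw [cc y (o1.Wle hy), e0, show n * (y * f) * n⁻¹ = (n * y * n⁻¹) * (n * f * n⁻¹) by group,
          e1, e2]
      have d2 : u * n * b * f * (u * n * b)⁻¹ = y := by rw [cc f (o.Wle hf), cb f hf, e2]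
      generalize u * n * b = c at d1 d2
      have d3 : c * (f * y) * c⁻¹ = f := by
        rw [show c * (f * y) * c⁻¹ = (c * f * c⁻¹) * (c * y * c⁻¹) by group, d1, d2, ← e5,
          ← mul_assoc, o1.ea y hy, one_mul]
      have d4 : ∀ v, c ^ 3 * v * (c ^ 3)⁻¹ = c * (c * (c * v * c⁻¹) * c⁻¹) * c⁻¹ := fun v => by
        simp [pow_succ, mul_assoc]
      exact ⟨by rw [d4, d1, d3, d2], by rw [d4, d2, d1, d3]⟩
    by_cases h4 : E2 (u * n * b)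
    · have h5 := h.Q_le (mem_of_e2_of_cube h4 h3)
      rw [T.mul_mem_cancel_right hbT] at h5
      exact absurd (c3.symm.trans (cj_of_mem_N (norm_OZ (norm_self T) h5))) hne
    · exact e2_odd_eq_one ((QQ_t2 P).piElt h3) ((hG.odd h4).of_dvd_nat (orderOf_pow_dvd 3))
  · obtain ⟨f, -, e0, e1, -⟩ := key y hy
    rw [cu y (o1.Wle hy), e0, e1]

end Str

/-- generators of the configuration. -/
structure Gen (P₁ P₂ S : Subgroup G) (k z n₁ n₂ : G) : Prop where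
  z_mem : z ∈ OZ S
  z_ne : z ≠ 1
  m1 : n₁ ∈ P₁
  m2 : n₂ ∈ P₂
  s1 : n₁ * n₁ = 1
  s2 : n₂ * n₂ = 1
  k1 : n₁ * k * n₁⁻¹ = k⁻¹
  k2 : n₂ * k * n₂⁻¹ = k⁻¹
  b1 : cj n₁ (OZ S) ⊓ OZ S = ⊥
  b2 : cj n₂ (OZ S) ⊓ OZ S = ⊥
  c1 : (n₁ * (n₂ * z * n₂⁻¹)) ^ 3 = 1
  c2 : (n₂ * (n₁ * z * n₁⁻¹)) ^ 3 = 1
  r1 : ∀ y ∈ cj n₁ (OZ S), (n₂ * z * n₂⁻¹) * y * (n₂ * z * n₂⁻¹)⁻¹ = y * (n₁ * y * n₁⁻¹)
  r2 : ∀ y ∈ cj n₂ (OZ S), (n₁ * z * n₁⁻¹) * y * (n₁ * z * n₁⁻¹)⁻¹ = y * (n₂ * y * n₂⁻¹)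

theorem Gen.symm {k z n₁ n₂ : G} (h : Gen P₁ P₂ S k z n₁ n₂) : Gen P₂ P₁ S k z n₂ n₁ :=
  ⟨h.z_mem, h.z_ne, h.m2, h.m1, h.s2, h.s1, h.k2, h.k1, h.b2, h.b1, h.c2, h.c1, h.r2, h.r1⟩

theorem Two.gen (hG : IsCIT G) (hS : Syl 2 ⊤ S) (h : Two P₁ P₂ S) {k : G} (hk : k ∈ N[S])
    (hk2 : ¬ E2 k) : ∃ z n₁ n₂, Gen P₁ P₂ S k z n₁ n₂ := by
  have k1 := h.g1.N_le hG hS hk
  have k2 := h.g2.N_le hG hS hk
  obtain ⟨x₁, hx₁, b1, f1⟩ := h.g1.fix_ex hG k1 hk hk2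
  obtain ⟨x₂, hx₂, b2, f2⟩ := h.g2.fix_ex hG k2 hk hk2
  have o1 := h.g1.off.cjP hx₁
  have o2 := h.g2.off.cjP hx₂
  obtain ⟨a, ha, ha1⟩ := exists_ne_one o1.W_ne
  obtain ⟨b, hb, hb1⟩ := exists_ne_one o2.W_ne
  have ha2 : a ∉ QQ P₂ := fun h1 => ha1 (mem_bot.1 (b1 ▸
    (⟨ha, h.mem_W (o1.Wle ha) (h.q2 ▸ h1)⟩ : a ∈ cj x₁ (OZ S) ⊓ OZ S)))
  have hb2 : b ∉ QQ P₁ := fun h1 => hb1 (mem_bot.1 (b2 ▸
    (⟨hb, h.mem_W (h.q1 ▸ h1) (o2.Wle hb)⟩ : b ∈ cj x₂ (OZ S) ⊓ OZ S)))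
  obtain ⟨n₁, m1, s1, i1, c1, t1, r1⟩ := h.g1.swap hG k1 hk hk2 hx₁ b1 f1 (h.g2.V_le (o2.Wle hb)) hb2
  obtain ⟨n₂, m2, s2, i2, c2, t2, r2⟩ := h.g2.swap hG k2 hk hk2 hx₂ b2 f2 (h.g1.V_le (o1.Wle ha)) ha2
  have j1 : n₁⁻¹ = n₁ := inv_eq_of_mul_eq_one_right s1
  have j2 : n₂⁻¹ = n₂ := inv_eq_of_mul_eq_one_right s2
  have hz : n₁ * a * n₁⁻¹ ∈ OZ S := by
    have := ha
    rw [← c1, mem_cj, j1] at this
    rwa [j1]
  have e1 := r1 a ha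
  have e2 := r2 b hb
  have ia := o1.ea.inv ha
  have ib := o2.ea.inv hb
  have e3 : n₂ * b * n₂⁻¹ = n₁ * a * n₁⁻¹ := by
    have h1 : n₁ * a * n₁⁻¹ = a⁻¹ * (b * a * b⁻¹) := by rw [e1]; group
    have h2 : n₂ * b * n₂⁻¹ = b⁻¹ * (a * b * a⁻¹) := by rw [e2]; group
    rw [← (ea_OZ S).inv hz, h1, h2, ia, ib]
    simp [mul_inv_rev, ia, ib, mul_assoc]
  have d1 : n₁ * (n₁ * a * n₁⁻¹) * n₁⁻¹ = a := by
    rw [j1, show n₁ * (n₁ * a * n₁) * n₁ = n₁ * n₁ * a * (n₁ * n₁) by group, s1]; group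
  have d2 : n₂ * (n₁ * a * n₁⁻¹) * n₂⁻¹ = b := by
    rw [← e3, j2, show n₂ * (n₂ * b * n₂) * n₂ = n₂ * n₂ * b * (n₂ * n₂) by group, s2]; group
  refine ⟨n₁ * a * n₁⁻¹, n₁, n₂, hz, by rwa [ne_eq, conj_eq_one_iff'], m1, m2, s1, s2, i1, i2,
    c1 ▸ b1, c2 ▸ b2, by rw [d2]; exact t1, by rw [d1]; exact t2, ?_, ?_⟩
  · rw [d2, c1]; exact r1
  · rw [d1, c2]; exact r2

theorem Gen.cube (hG : IsCIT G) {k z n₁ n₂ : G} (h : Gen P₁ P₂ S k z n₁ n₂) (hk : k ∈ N[S])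
    (hk2 : ¬ E2 k) : k ^ 3 = 1 := by
  have hkZ := norm_OZ le_rfl hk
  have j1 : n₁⁻¹ = n₁ := inv_eq_of_mul_eq_one_right h.s1
  have j2 : n₂⁻¹ = n₂ := inv_eq_of_mul_eq_one_right h.s2
  have hz2 := ea_OZ S z h.z_mem
  have i1 : n₁ * k⁻¹ * n₁⁻¹ = k := by rw [← h.k1]; simp [j1, mul_assoc, ← mul_assoc n₁ n₁, h.s1]
  have i2 : n₂ * k⁻¹ * n₂⁻¹ = k := by rw [← h.k2]; simp [j2, mul_assoc, ← mul_assoc n₂ n₂, h.s2]
  have e1 := h.r1 _ (conj_mem_cj n₁ (conj_mem' hkZ h.z_mem))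
  have e2 := h.r2 _ (conj_mem_cj n₂ (conj_mem hkZ h.z_mem))
  have d1 : ∀ w, n₁ * (n₁ * w * n₁⁻¹) * n₁⁻¹ = w := fun w => by
    rw [j1, show n₁ * (n₁ * w * n₁) * n₁ = n₁ * n₁ * w * (n₁ * n₁) by group, h.s1]; group
  have d2 : ∀ w, n₂ * (n₂ * w * n₂⁻¹) * n₂⁻¹ = w := fun w => by
    rw [j2, show n₂ * (n₂ * w * n₂) * n₂ = n₂ * n₂ * w * (n₂ * n₂) by group, h.s2]; group
  rw [d1] at e1
  rw [d2] at e2
  have f1 : n₁ * (k⁻¹ * z * k) * n₁⁻¹ = k * (n₁ * z * n₁⁻¹) * k⁻¹ := by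
    calc n₁ * (k⁻¹ * z * k) * n₁⁻¹
        = (n₁ * k⁻¹ * n₁⁻¹) * (n₁ * z * n₁⁻¹) * (n₁ * k * n₁⁻¹) := by group
      _ = _ := by rw [i1, h.k1]
  have f2 : n₂ * (k * z * k⁻¹) * n₂⁻¹ = k⁻¹ * (n₂ * z * n₂⁻¹) * k := by
    calc n₂ * (k * z * k⁻¹) * n₂⁻¹
        = (n₂ * k * n₂⁻¹) * (n₂ * z * n₂⁻¹) * (n₂ * k⁻¹ * n₂⁻¹) := by group
      _ = _ := by rw [i2, h.k2]
  rw [f1] at e1
  rw [f2] at e2
  have ha : (n₁ * z * n₁⁻¹)⁻¹ = n₁ * z * n₁⁻¹ := by simp [mul_assoc, inv_eq_of_mul_eq_one_right hz2]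
  have hb : (n₂ * z * n₂⁻¹)⁻¹ = n₂ * z * n₂⁻¹ := by simp [mul_assoc, inv_eq_of_mul_eq_one_right hz2]
  generalize n₁ * z * n₁⁻¹ = a at e1 e2 ha
  generalize n₂ * z * n₂⁻¹ = b at e1 e2 hb
  have hz : z⁻¹ = z := inv_eq_of_mul_eq_one_right hz2
  have g1 : k⁻¹ * z * k = (k * a * k⁻¹)⁻¹ * (b * (k * a * k⁻¹) * b⁻¹) := by rw [e1]; group
  have g2 : k * z * k⁻¹ = (k⁻¹ * b * k)⁻¹ * (a * (k⁻¹ * b * k) * a⁻¹) := by rw [e2]; group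
  have g3 : k⁻¹ * (k⁻¹ * z * k) * k = (k * z * k⁻¹)⁻¹ := by
    rw [g1, g2]; simp [mul_assoc, ha, hb]
  refine hG.eq_one_of_odd (e2_of_sq hz2) h.z_ne ((hG.odd hk2).of_dvd_nat (orderOf_pow_dvd 3)) ?_
  calc k ^ 3 * z = k * k * (k * z * k⁻¹)⁻¹ * k := by simp [hz, pow_succ, mul_assoc]
    _ = z * k ^ 3 := by rw [← g3]; simp [pow_succ, mul_assoc]

theorem mem_of_e2 (hS : Syl 2 ⊤ S) {x : G} (hx : x ∈ N[S]) (h2 : E2 x) : x ∈ S :=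
  hS.le_of_norm h2.isPi le_top (zpowers_le.2 hx) (mem_zpowers x)

theorem Two.cube (hG : IsCIT G) (hS : Syl 2 ⊤ S) (h : Two P₁ P₂ S) {k : G} (hk : k ∈ N[S])
    (hk2 : k ∉ S) : k ^ 3 = 1 := by
  have := fun h2 => hk2 (mem_of_e2 hS hk h2)
  obtain ⟨z, n₁, n₂, hg⟩ := h.gen hG hS hk this
  exact hg.cube hG hk this

theorem Two.conj_inv (hG : IsCIT G) (hS : Syl 2 ⊤ S) (h : Two P₁ P₂ S) {k : G} (hk : k ∈ N[S])
    (hk2 : k ∉ S) {U : Subgroup G} (hU : EA U) (hkU : k ∈ N[U]) {w : G} (hw : w ∈ U) :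
    k⁻¹ * w * k = w * (k * w * k⁻¹) := by
  have h3 := h.cube hG hS hk hk2
  have a1 := conj_mem hkU hw
  have a2 := conj_mem' hkU hw
  have hk' : k⁻¹ = k * k := by rw [inv_eq_iff_mul_eq_one, ← h3]; simp [pow_succ, mul_assoc]
  have : w * (k * w * k⁻¹) * (k⁻¹ * w * k) = 1 := by
    refine hG.eq_one_of_comm (hU.t2.piElt (U.mul_mem (U.mul_mem hw a1) a2))
      (fun h2 => hk2 (mem_of_e2 hS hk h2)) (mul_inv_eq_iff_eq_mul.1 ?_)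
    calc k * (w * (k * w * k⁻¹) * (k⁻¹ * w * k)) * k⁻¹
        = (k * w * k⁻¹) * ((k * k) * w * (k * k)⁻¹) * w := by group
      _ = (k * w * k⁻¹) * (k⁻¹ * w * k) * w := by rw [← hk', inv_inv]
      _ = _ := by rw [hU.comm (U.mul_mem a1 a2) hw]; simp only [mul_assoc]
  rw [← hU.inv a2]
  exact (eq_inv_of_mul_eq_one_left this).symm

theorem Two.three (hG : IsCIT G) (hS : Syl 2 ⊤ S) (h : Two P₁ P₂ S) {k k' : G} (hk : k ∈ N[S])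
    (hk2 : k ∉ S) (hk' : k' ∈ N[S]) : k' ∈ S ∨ k * k' ∈ S ∨ k⁻¹ * k' ∈ S := by
  by_contra hc
  push Not at hc
  obtain ⟨c1, c2, c3⟩ := hc
  obtain ⟨z, hz, hz1⟩ := exists_ne_one h.g1.off.W_ne
  have I := fun {k : G} (hk : k ∈ N[S]) (hk2 : k ∉ S) {w : G} (hw : w ∈ OZ S) =>
    h.conj_inv hG hS hk hk2 (ea_OZ S) (norm_OZ le_rfl hk) hw
  have cm := fun {k : G} (hk : k ∈ N[S]) {w : G} (hw : w ∈ OZ S) => conj_mem (norm_OZ le_rfl hk) hw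
  have A : ∀ {k : G}, k ∈ N[S] → k ∉ S → k * k' ∉ S →
      k * (k' * z * k'⁻¹) * k⁻¹ =
        (k' * z * k'⁻¹) * ((k * z * k⁻¹) * (k' * (k * z * k⁻¹) * k'⁻¹)) := by
    intro k hk hk2 c2
    have e1 := I (N[S].mul_mem hk hk') c2 hz
    rw [show (k * k')⁻¹ * z * (k * k') = k'⁻¹ * (k⁻¹ * z * k) * k' by group, I hk hk2 hz,
      show k'⁻¹ * (z * (k * z * k⁻¹)) * k' = (k'⁻¹ * z * k') * (k'⁻¹ * (k * z * k⁻¹) * k') by group,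
      I hk' c1 hz, I hk' c1 (cm hk hz), mul_assoc z] at e1
    rw [mul_left_cancel e1]; group
  have A1 := A hk hk2 c2
  have A2 := A (N[S].inv_mem hk) (by simpa using hk2) c3
  rw [inv_inv, I hk hk2 hz, I hk hk2 (cm hk' hz), A1,
    show k' * (z * (k * z * k⁻¹)) * k'⁻¹ = (k' * z * k'⁻¹) * (k' * (k * z * k⁻¹) * k'⁻¹) by group]
    at A2
  have x1 := cm hk' hz
  have x2 := cm hk hz
  generalize k' * (k * z * k⁻¹) * k'⁻¹ = c at A2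
  generalize k' * z * k'⁻¹ = a at A2 x1
  generalize k * z * k⁻¹ = b at A2 x2
  have A3 := mul_left_cancel A2
  rw [← mul_assoc, ← mul_assoc, (ea_OZ S).comm x1 x2, mul_assoc z] at A3
  exact hz1 (by simpa using (mul_right_cancel A3).symm)

end H15.CIT
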