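import Mathlib
import Cfsg.Agent.H29.Ext

set_option autoImplicit false
set_option maxRecDepth 100000
set_option Elab.async false
set_option linter.all false

namespace H15.L34A

open H29

noncomputable def n0 : Net := ben 5 [(nat_lit 0x53300),
 (nat_lit 0xf4320),
 (nat_lit 0x1b980),
 (nat_lit 0x8f8),
 (nat_lit 0x8)]
noncomputable def t0 : List ℕ := [(nat_lit 0x114132),
 (nat_lit 0x16456c),
 (nat_lit 0x85040),
 (nat_lit 0x170000)]
noncomputable def d0 : ℕ := (nat_lit 0x2a80)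
noncomputable def n1 : Net := n0.rev
noncomputable def t1 : List ℕ := mapPull n1 t0
noncomputable def d1 : ℕ := (nat_lit 0x10000)
noncomputable def n2 : Net := ben 5 [(nat_lit 0xcc0),
 (nat_lit 0x770),
 (nat_lit 0x1ef04),
 (nat_lit 0x1f1f),
 (nat_lit 0x1f)]
noncomputable def t2 : List ℕ := [(nat_lit 0x100996),
 (nat_lit 0x77000),
 (nat_lit 0x887e8),
 (nat_lit 0x1ff980)]
noncomputable def d2 : ℕ := (nat_lit 0x0)
noncomputable def n3 : Net := ben 5 [(nat_lit 0x1cd0c),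
 (nat_lit 0x57052),
 (nat_lit 0x18c04),
 (nat_lit 0x80),
 (nat_lit 0x0)]
noncomputable def t3 : List ℕ := [(nat_lit 0x3e340),
 (nat_lit 0xe360),
 (nat_lit 0x87800),
 (nat_lit 0xb8000)]
noncomputable def d3 : ℕ := (nat_lit 0x100414)
noncomputable def n4 : Net := ben 5 [(nat_lit 0xcc711),
 (nat_lit 0x52a00),
 (nat_lit 0x1cd00),
 (nat_lit 0x484),
 (nat_lit 0x4)]
noncomputable def t4 : List ℕ := [(nat_lit 0x78c4c),
 (nat_lit 0x1f8c38),
 (nat_lit 0x1c0),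
 (nat_lit 0x1f8000)]
noncomputable def d4 : ℕ := (nat_lit 0x5002)
noncomputable def n5 : Net := ben 5 [(nat_lit 0xffcc0),
 (nat_lit 0x22522),
 (nat_lit 0xee00),
 (nat_lit 0x1f5f),
 (nat_lit 0x1f)]
noncomputable def t5 : List ℕ := [(nat_lit 0x18a000),
 (nat_lit 0x88004),
 (nat_lit 0x610),
 (nat_lit 0x1df600)]
noncomputable def d5 : ℕ := (nat_lit 0x20148)
noncomputable def n6 : Net := ben 5 [(nat_lit 0x4d7f0),
 (nat_lit 0x23170),
 (nat_lit 0x1a704),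
 (nat_lit 0xe0e),
 (nat_lit 0xe)]
noncomputable def t6 : List ℕ := [(nat_lit 0xda),
 (nat_lit 0x134058),
 (nat_lit 0x1980),
 (nat_lit 0x134180)]
noncomputable def d6 : ℕ := (nat_lit 0xc8020)
def ivl : List ℕ := [1, 0, 2, 3, 4, 5, 6]
def cols : List ℕ := [0, 1, 2, 3, 4, 5, 6]
def hcols : List ℕ := [0, 1, 2, 3, 5, 6]
def G0 : List (List ℕ) := [[0, 0, 0],
 [5, 3, 2, 3],
 [6, 4, 2, 4],
 [3, 0, 3, 0],
 [4, 0, 4, 0],
 [5, 0, 5, 0, 5, 0],
 [6, 0, 6, 0, 6, 0],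
 [6, 5, 6, 3, 5, 3, 5],
 [6, 1, 5, 0, 6, 3, 1, 5, 0, 3, 1, 5, 0],
 [3, 6, 3, 6, 3, 6],
 [3, 4, 3, 4, 3, 4]]
def R0 : List (List ℕ) := G0
theorem hii : ∀ c, ivOf ivl (ivOf ivl c) = c := ivOf_ivOf (by decide +kernel)
theorem der : Derives (ivOf ivl) R0 R0 := Derives.refl _ _
noncomputable def nl : List Net := [n0, n1, n2, n3, n4, n5, n6]
noncomputable def T : TCData := ⟨21, 21, 5, 4, nth Net.nil nl, ivOf ivl, cols, hcols, R0,
  nth [] [t0, t1, t2, t3, t4, t5, t6], nth 0 [d0, d1, d2, d3, d4, d5, d6]⟩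
theorem hn : NetsOK 21 (nth Net.nil nl) := netsOK_of_all (by decide +kernel)
theorem hiv : IvOK (sg (nth Net.nil nl)) (ivOf ivl) :=
  ivOK_of_chk (k := 5) hn (by decide) (n := 7) (by decide) (by decide) (allN_true.1 (by decide +kernel))
theorem hb : T.Basic := TCData.basic_of_chk hn hiv (by decide +kernel)
theorem hG0 : ∀ r ∈ G0, ev (sg (nth Net.nil nl)) r = 1 :=
  rels_of_chk (k := 5) hn (by decide) hiv (allN_true.1 (by decide +kernel))
noncomputable def s0 : List TCData.Step := []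
noncomputable def s1 : List TCData.Step := [.all 0 0 0,
 .pts 3 1 0 1 [10],
 .pts 3 1 0 2 [2],
 .all 4 1 0,
 .pts 5 1 0 2 [8],
 .pts 5 1 0 9 [17],
 .pts 5 1 0 10 [20],
 .pts 6 1 0 4 [18],
 .pts 6 1 0 11 [19]]
noncomputable def s2 : List TCData.Step := [.all 1 2 0,
 .all 2 2 0]
noncomputable def s3 : List TCData.Step := [.all 3 0 0,
 .pts 7 5 0 3 [6],
 .pts 7 5 0 9 [16],
 .pts 9 0 0 2 [5]]
noncomputable def s4 : List TCData.Step := [.all 2 1 0,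
 .all 4 0 0,
 .pts 10 1 0 1 [2],
 .pts 10 1 0 3 [3]]
noncomputable def s5 : List TCData.Step := [.pts 1 0 0 2 [2],
 .pts 5 0 0 11 [19],
 .pts 7 6 0 4 [4],
 .pts 7 6 0 9 [20],
 .pts 7 6 0 12 [9, 10],
 .pts 8 2 0 8 [12, 16]]
noncomputable def s6 : List TCData.Step := [.pts 2 0 0 1 [1],
 .pts 6 0 0 4 [11],
 .pts 7 0 0 3 [3],
 .pts 7 2 0 3 [6],
 .pts 7 2 0 10 [17, 20],
 .pts 9 1 0 12 [8],
 .pts 9 1 0 13 [7]]
theorem hR0 : ∀ r ∈ R0, ev (sg (nth Net.nil nl)) r = 1 := hG0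
theorem col0 : T.ColOK 0 := TCData.colOK_of_chk (U := (T.stepsMask 0 s0 (T.mask0 0))) (V := (T.stepsMask 1 s1 (T.mask0 1))) hb (TCData.cov_stepsMask hb (by decide) s0 _ (T.cov_mask0 0)) (TCData.cov_stepsMask hb (by decide) s1 _ (T.cov_mask0 1)) (by decide +kernel)
theorem col1 : T.ColOK 1 := TCData.colOK_of_chk (U := (T.stepsMask 1 s1 (T.mask0 1))) (V := (T.stepsMask 0 s0 (T.mask0 0))) hb (TCData.cov_stepsMask hb (by decide) s1 _ (T.cov_mask0 1)) (TCData.cov_stepsMask hb (by decide) s0 _ (T.cov_mask0 0)) (by decide +kernel)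
theorem col2 : T.ColOK 2 := TCData.colOK_of_chk (U := (T.stepsMask 2 s2 (T.mask0 2))) (V := (T.stepsMask 2 s2 (T.mask0 2))) hb (TCData.cov_stepsMask hb (by decide) s2 _ (T.cov_mask0 2)) (TCData.cov_stepsMask hb (by decide) s2 _ (T.cov_mask0 2)) (by decide +kernel)
theorem col3 : T.ColOK 3 := TCData.colOK_of_chk (U := (T.stepsMask 3 s3 (T.mask0 3))) (V := (T.stepsMask 3 s3 (T.mask0 3))) hb (TCData.cov_stepsMask hb (by decide) s3 _ (T.cov_mask0 3)) (TCData.cov_stepsMask hb (by decide) s3 _ (T.cov_mask0 3)) (by decide +kernel)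
theorem col4 : T.ColOK 4 := TCData.colOK_of_chk (U := (T.stepsMask 4 s4 (T.mask0 4))) (V := (T.stepsMask 4 s4 (T.mask0 4))) hb (TCData.cov_stepsMask hb (by decide) s4 _ (T.cov_mask0 4)) (TCData.cov_stepsMask hb (by decide) s4 _ (T.cov_mask0 4)) (by decide +kernel)
theorem col5 : T.ColOK 5 := TCData.colOK_of_chk (U := (T.stepsMask 5 s5 (T.mask0 5))) (V := (T.stepsMask 5 s5 (T.mask0 5))) hb (TCData.cov_stepsMask hb (by decide) s5 _ (T.cov_mask0 5)) (TCData.cov_stepsMask hb (by decide) s5 _ (T.cov_mask0 5)) (by decide +kernel)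
theorem col6 : T.ColOK 6 := TCData.colOK_of_chk (U := (T.stepsMask 6 s6 (T.mask0 6))) (V := (T.stepsMask 6 s6 (T.mask0 6))) hb (TCData.cov_stepsMask hb (by decide) s6 _ (T.cov_mask0 6)) (TCData.cov_stepsMask hb (by decide) s6 _ (T.cov_mask0 6)) (by decide +kernel)
theorem ok : T.OK := ⟨hb, TCData.treeOK_of_chk hn (by decide +kernel), (List.forall_mem_cons.2 ⟨col0, (List.forall_mem_cons.2 ⟨col1, (List.forall_mem_cons.2 ⟨col2, (List.forall_mem_cons.2 ⟨col3, (List.forall_mem_cons.2 ⟨col4, (List.forall_mem_cons.2 ⟨col5, (List.forall_mem_cons.2 ⟨col6, (fun _ h => absurd h List.not_mem_nil)⟩)⟩)⟩)⟩)⟩)⟩)⟩), der _ _ hiv hR0⟩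
theorem bd {G : Type} [Group G] {e : ℕ → G} (h1 : IvOK e (ivOf ivl)) (h2 : ∀ r ∈ R0, ev e r = 1)
    {m : ℕ} (h : Bd (gen e hcols) m) : Bd (gen e cols) (21 * m) := ok.bd h1 (der G e h1 h2) h
theorem cm {G : Type} [Group G] {e : ℕ → G} (h1 : IvOK e (ivOf ivl)) (h2 : ∀ r ∈ R0, ev e r = 1)
    (h3 : gen e cols = ⊤) {ρ : G →* Equiv.Perm ℕ} (h4 : ∀ c, ρ (e c) = sg (nth Net.nil nl) c) :
    CosetModel ρ (gen e hcols) 21 := ok.cosetModel h1 (der G e h1 h2) h3 fun c _ => h4 c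

end H15.L34A
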