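import Mathlib
import Cfsg.Agent.H15.L34A
import Cfsg.Agent.H15.L34B
import Cfsg.Agent.H9.CG2

set_option autoImplicit false
set_option maxRecDepth 100000
set_option Elab.async false
set_option linter.all false

namespace H15.L34P

open H29

open H9 H9.MX

theorem ubd : UBd (ivOf L34A.ivl) L34A.R0 L34A.cols 20160 := fun _ _ _ hi hR =>
  L34A.bd hi hR (L34B.bd hi (rels_sub hR (by decide +kernel)) (bd_nil _))
theorem hL : ∀ c ∈ L34A.cols, ivOf L34A.ivl c ∈ L34A.cols := by decide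
def P : Par := ⟨3, 4, 2, 1, 1, 1, 12, 1, 1, 0xf00f00f, 0xfff, 0x777777777, 0x111111111, 0x100010001⟩
def l : List MM := [⟨0x100000001, 0x100010000⟩,
  ⟨0x10001, 0x100010000⟩,
  ⟨0x100010101, 0x0⟩,
  ⟨0x100001010, 0x0⟩,
  ⟨0x10100001, 0x0⟩,
  ⟨0x100110001, 0x0⟩,
  ⟨0x100010011, 0x0⟩]
def lt : List MM := [⟨0x100010001, 0x0⟩,
  ⟨0x100010001, 0x0⟩,
  ⟨0x100010001, 0x0⟩,
  ⟨0x100010001, 0x0⟩,
  ⟨0x100010001, 0x0⟩,
  ⟨0x100010011, 0x0⟩,
  ⟨0x100010001, 0x10⟩,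
  ⟨0x100010011, 0x10⟩,
  ⟨0x100010001, 0x0⟩,
  ⟨0x100010101, 0x0⟩,
  ⟨0x100010001, 0x100⟩,
  ⟨0x100010101, 0x100⟩,
  ⟨0x100010001, 0x0⟩,
  ⟨0x100011001, 0x0⟩,
  ⟨0x100010001, 0x1000⟩,
  ⟨0x100011001, 0x1000⟩,
  ⟨0x100010001, 0x0⟩,
  ⟨0x100010001, 0x0⟩,
  ⟨0x100010001, 0x0⟩,
  ⟨0x100010001, 0x0⟩,
  ⟨0x100010001, 0x0⟩,
  ⟨0x100110001, 0x0⟩,
  ⟨0x100010001, 0x100000⟩,
  ⟨0x100110001, 0x100000⟩,
  ⟨0x100010001, 0x0⟩,
  ⟨0x101010001, 0x0⟩,
  ⟨0x100010001, 0x1000000⟩,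
  ⟨0x101010001, 0x1000000⟩,
  ⟨0x100010001, 0x0⟩,
  ⟨0x110010001, 0x0⟩,
  ⟨0x100010001, 0x10000000⟩,
  ⟨0x110010001, 0x10000000⟩,
  ⟨0x100010001, 0x0⟩,
  ⟨0x100010001, 0x0⟩,
  ⟨0x100010001, 0x0⟩,
  ⟨0x100010001, 0x0⟩]
def wl : List (List ℕ) := [[], [], [], [], [], [6], [1, 6, 0], [0, 6, 1], [], [2], [0, 2, 1], [1, 2, 0], [], [3, 6, 3], [0, 3, 6, 3, 1], [1, 3, 6, 3, 0], [], [], [], [], [], [5], [1, 5, 0], [0, 5, 1], [], [2, 3, 4, 3, 2], [1, 2, 3, 4, 3, 2, 0], [0, 2, 3, 4, 3, 2, 1], [], [4, 5, 4], [0, 4, 5, 0, 4], [1, 4, 5, 1, 4], [], [], [], []]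
def I : Interp P F4 (Fin 3) := interp4 (Equiv.refl _) (Par.ok_of (by decide +kernel)) ⟨rfl, rfl, rfl⟩
theorem base : ∀ (i j : Fin 3) (c : F4), i ≠ j →
    I.mat (P.lets lt (12 * i.val + 4 * j.val + c.val)) = Matrix.transvection i j c := by
  decide +kernel
theorem det1 (c : ℕ) : (I.mat (P.lets l c)).det = 1 := by
  by_cases hc : c < 7
  · rw [Matrix.det_fin_three]
    revert c
    decide +kernel
  · rw [P.lets_default (show l.length ≤ c from not_lt.1 hc), I.mat_one, Matrix.det_one]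
theorem wl_mem : ∀ c < 36, ∀ y ∈ nth [] wl c, y ∈ L34A.cols := by decide +kernel

/-- Recognition of `PSL₃(4)` by a presentation. -/
theorem recog {G : Type} [Group G] {e : ℕ → G} (h1 : IvOK e (ivOf L34A.ivl))
    (h2 : ∀ r ∈ L34A.R0, ev e r = 1) (h3 : e 2 ≠ 1) (h4 : gen e L34A.cols = ⊤) :
    Nonempty (G ≃* Matrix.ProjectiveSpecialLinearGroup (Fin 3) F4) := by
  have hs : allL l P.sm2 = true := by decide +kernel
  obtain ⟨f, hf⟩ := exists_SL I hs det1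
  have hw := hf.words (wl := wl) (l' := lt) (by decide +kernel)
  have t1 : gen f L34A.cols = ⊤ := by
    refine H7.sl_eq_top_of_transvection_mem _ fun i j hij c => ?_
    have : Matrix.SpecialLinearGroup.transvection hij c = wE f wl (12 * i.val + 4 * j.val + c.val) :=
      hw.inj (by rw [hw.eq, base i j c hij]; rfl)
    rw [this]
    refine ev_mem_gen (wl_mem _ ?_)
    have := i.2
    have := j.2
    have : c.val < 4 := Fin.isLt c
    omega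
  have t2 : gen (fun c => QuotientGroup.mk' (Subgroup.center _) (f c)) L34A.cols = ⊤ := by
    rw [← map_gen, t1, ← MonoidHom.range_eq_map, QuotientGroup.range_mk']
  have i1 := ivOK_map (QuotientGroup.mk' (Subgroup.center _)) (hf.ivOK (ivl := L34A.ivl) (by decide +kernel))
  have := H7.psl_simple (ι := Fin 3) (F := F4) (by simp)
  have hc := H7.card_psl F4.card 3 (by norm_num)
  rw [show ∏ i : Fin 3, (4 ^ 3 - 4 ^ (i : ℕ)) = 181440 by decide,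
    show Nat.gcd 3 (4 - 1) = 3 by decide] at hc
  obtain ⟨g⟩ := equiv_of_simple (S := Matrix.ProjectiveSpecialLinearGroup (Fin 3) F4)
    (tr_of_bd ubd hL i1 h1 (hf.rels_quot (by decide +kernel)) h2 (by
      rw [t2, Subgroup.card_top]
      change 20160 ≤ Nat.card (Matrix.ProjectiveSpecialLinearGroup (Fin 3) F4)
      omega)) i1 h1 hL t2 ⟨[2], by decide, by simpa using h3⟩
  exact ⟨(g.trans ((MulEquiv.subgroupCongr h4).trans Subgroup.topEquiv)).symm⟩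

end H15.L34P
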