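import Mathlib
import Cfsg.Agent.H15.CIT6
import Cfsg.Agent.H15.L34P

/-!
# The projective plane of order four
-/

set_option autoImplicit false
set_option linter.unusedSectionVars false
set_option linter.style.haveILetI false

namespace H15.CIT

open H24 Cfsg Subgroup H12

variable {G : Type*} [Group G] [Finite G] {P P₁ P₂ T S p p' l l' : Subgroup G}

/-- the configuration in the third case of the trichotomy. -/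
structure Geo (P₁ P₂ S : Subgroup G) : Prop extends Two P₁ P₂ S where
  cit : IsCIT G
  syl : Syl 2 ⊤ S
  n1 : N[VV P₁] = P₁
  n2 : N[VV P₂] = P₂
  big : 2 < Nat.card (OZ S)

/-- conjugates of `V(P)`. -/
def Pt (P p : Subgroup G) : Prop := ∃ g, p = cj g (VV P)

theorem Pt.base (P : Subgroup G) : Pt P (VV P) := ⟨1, by simp⟩

theorem Pt.cj (h : Pt P p) (g : G) : Pt P (cj g p) := by
  obtain ⟨x, rfl⟩ := h
  exact ⟨g * x, (cj_mul _ _ _).symm⟩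

theorem Pt.cj' (h : Pt P p) (g : G) : Pt (H24.cj g P) p := by
  obtain ⟨x, rfl⟩ := h
  exact ⟨x * g⁻¹, by rw [← cj_VV, ← cj_mul, inv_mul_cancel_right]⟩

theorem Pt.of_cj {g : G} (h : Pt (H24.cj g P) p) : Pt P p := by
  have := h.cj' g⁻¹
  rwa [cj_inv_cj] at this

theorem Pt.ea (h : Pt P p) : EA p := by
  obtain ⟨x, rfl⟩ := h
  exact (ea_VV P).cj x

theorem inf_ne_bot {A B : Subgroup G} {x : G} (hA : x ∈ A) (hB : x ∈ B) (h1 : x ≠ 1) :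
    A ⊓ B ≠ ⊥ := ne_bot_of_mem (H := A ⊓ B) ⟨hA, hB⟩ h1

theorem cj_inf_ne {A B : Subgroup G} (h : A ⊓ B ≠ ⊥) (g : G) : cj g A ⊓ cj g B ≠ ⊥ := by
  rwa [← cj_inf, ne_eq, cj_eq_bot]

namespace Geo

theorem symm (h : Geo P₁ P₂ S) : Geo P₂ P₁ S := ⟨h.toTwo.symm, h.cit, h.syl, h.n2, h.n1, h.big⟩

theorem cj (h : Geo P₁ P₂ S) (g : G) : Geo (cj g P₁) (cj g P₂) (cj g S) where
  g1 := h.g1.cj g
  g2 := h.g2.cj g
  q1 := by rw [← cj_QQ, ← cj_VV, h.q1]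
  q2 := by rw [← cj_QQ, ← cj_VV, h.q2]
  sup := by rw [← cj_VV, ← cj_VV, ← cj_sup, h.sup]
  inf := by rw [← cj_VV, ← cj_VV, ← cj_inf, h.inf, cj_OZ]
  cit := h.cit
  syl := by simpa using h.syl.cj g
  n1 := by rw [← cj_VV, ← cj_N, h.n1]
  n2 := by rw [← cj_VV, ← cj_N, h.n2]
  big := by rw [← cj_OZ, card_cj]; exact h.big

variable (h : Geo P₁ P₂ S)
include h

theorem N_le : N[S] ≤ P₁ := h.g1.N_le h.cit h.syl

theorem NZ_le : N[OZ S] ≤ N[S] := h.cit.N_OZ_le h.syl (ne_bot_of_le h.g1.off.W_ne (OZ_le S))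

theorem inf_le {x : G} (h1 : x ∈ P₁) (h2 : x ∈ P₂) : x ∈ N[S] := by
  have := norm_sup (inf_le_left.trans (VV_norm P₁)) (inf_le_right.trans (VV_norm P₂))
  rw [h.sup] at this
  exact this ⟨h1, h2⟩

theorem inc : VV P₁ ⊓ VV P₂ ≠ ⊥ := h.inf ▸ h.g1.off.W_ne

theorem mem_of_conj {v g : G} (hv : v ∈ VV P₁) (h1 : v ≠ 1) (hg : g * v * g⁻¹ ∈ VV P₁) :
    g ∈ P₁ := by
  obtain ⟨z, hz, hz1⟩ := exists_ne_one h.g1.off.W_ne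
  obtain ⟨x, hx, rfl⟩ := h.g1.transV (h.W_le1 hz) hz1 hv h1
  obtain ⟨y, hy, e⟩ := h.g1.transV (h.W_le1 hz) hz1 hg (by rwa [ne_eq, conj_eq_one_iff'])
  have : y⁻¹ * g * x ∈ C{z} := mem_C1_iff_conj.2 (by
    rw [show y⁻¹ * g * x * z * (y⁻¹ * g * x)⁻¹ = y⁻¹ * (g * (x * z * x⁻¹) * g⁻¹) * y by group, ← e]
    group)
  rw [h.cit.C1_OZ h.syl hz hz1] at this
  have := h.g1.le this
  rwa [P₁.mul_mem_cancel_right hx, P₁.mul_mem_cancel_left (P₁.inv_mem hy)] at this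

theorem ti (hp : Pt P₁ p) (hp' : Pt P₁ p') (hi : p ⊓ p' ≠ ⊥) : p = p' := by
  obtain ⟨g, rfl⟩ := hp
  obtain ⟨g', rfl⟩ := hp'
  obtain ⟨t, ⟨h1, h2⟩, h3⟩ := exists_ne_one hi
  obtain ⟨v, hv, rfl⟩ := mem_cj'.1 h1
  rw [cj_eq_cj_iff]
  refine VV_norm _ (h.mem_of_conj hv (by rintro rfl; simp at h3) ?_)
  have := mem_cj.1 h2
  convert this using 1; group

theorem norm_of_comm (hp : Pt P₁ p) {u a : G} (hu : u ∈ p) (h1 : u ≠ 1) (ha : a * u = u * a) :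
    a ∈ N[p] :=
  mem_N_iff_cj.2 (h.ti (hp.cj a) hp (inf_ne_bot (by
    have := conj_mem_cj a hu
    rwa [ha, mul_inv_cancel_right] at this) hu h1))

theorem flag (hp : Pt P₁ p) (hl : Pt P₂ l) (hi : p ⊓ l ≠ ⊥) :
    ∃ y, p = H24.cj y (VV P₁) ∧ l = H24.cj y (VV P₂) := by
  obtain ⟨g, rfl⟩ := hp
  obtain ⟨t, ⟨h1, h2⟩, h3⟩ := exists_ne_one hi
  obtain ⟨v, hv, rfl⟩ := mem_cj'.1 h1
  obtain ⟨z, hz, hz1⟩ := exists_ne_one h.g1.off.W_ne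
  obtain ⟨x, hx, rfl⟩ := h.g1.transV (h.W_le1 hz) hz1 hv (by rintro rfl; simp at h3)
  refine ⟨g * x, by rw [cj_mul, cj_of_mem_N (VV_norm _ hx)],
    h.symm.ti hl ((Pt.base _).cj _) (inf_ne_bot h2 ?_ h3)⟩
  rw [cj_mul]
  exact conj_mem_cj g (conj_mem_cj x (h.W_le2 hz))

theorem line (hl : Pt P₂ l) (hi : VV P₁ ⊓ l ≠ ⊥) : ∃ x ∈ P₁, l = H24.cj x (VV P₂) := by
  obtain ⟨y, e1, e2⟩ := h.flag (Pt.base _) hl hi
  exact ⟨y, h.n1 ▸ mem_N_iff_cj.2 e1.symm, e2⟩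

theorem inf_cj {x : G} (hx : x ∈ P₁) : VV P₁ ⊓ H24.cj x (VV P₂) = H24.cj x (OZ S) := by
  rw [← h.inf, cj_inf, cj_of_mem_N (VV_norm _ hx)]

theorem invol_line0 {t : G} (ht : t * t = 1) (h1 : t ≠ 1) (hN : t ∈ P₁) :
    ∃ l, Pt P₂ l ∧ t ∈ l ∧ VV P₁ ⊓ l ≠ ⊥ := by
  have key : ∀ x ∈ P₁, VV P₁ ⊓ H24.cj x (VV P₂) ≠ ⊥ := fun x hx => by
    rw [h.inf_cj hx]; simpa using h.g1.off.W_ne
  obtain ⟨x, hx, e⟩ := Sylow_Jsub p2 h.g1.syl (e2_of_sq ht).isPi (zpowers_le.2 hN)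
  have e1 := e (conj_mem_cj x (mem_zpowers t))
  rcases h.invol e1 (by
    rw [show x * t * x⁻¹ * (x * t * x⁻¹) = x * (t * t) * x⁻¹ by group, ht]; group) with e2 | e2
  · obtain ⟨z, hz, hz1⟩ := exists_ne_one h.g1.off.W_ne
    obtain ⟨y, hy, rfl⟩ := h.g1.transV (h.W_le1 hz) hz1 ((conj_mem_iff (VV_norm _ hx)).1 e2) h1
    exact ⟨_, (Pt.base _).cj y, conj_mem_cj y (h.W_le2 hz), key y hy⟩
  · exact ⟨_, (Pt.base _).cj x⁻¹, mem_cj.2 (by simpa using e2), key _ (P₁.inv_mem hx)⟩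

theorem invol_line (hp : Pt P₁ p) {t : G} (ht : t * t = 1) (h1 : t ≠ 1) (hN : t ∈ N[p]) :
    ∃ l, Pt P₂ l ∧ t ∈ l ∧ p ⊓ l ≠ ⊥ := by
  obtain ⟨g, rfl⟩ := hp
  rw [cj_VV] at hN ⊢
  obtain ⟨l, a1, a2⟩ := (h.cj g).invol_line0 ht h1 ((h.cj g).n1 ▸ hN)
  exact ⟨l, a1.of_cj, a2⟩

theorem uniq0 (hp : Pt P₁ p) (hl : Pt P₂ l) (h1 : VV P₁ ⊓ l ≠ ⊥) (h2 : p ⊓ VV P₂ ≠ ⊥)
    (h3 : p ⊓ l ≠ ⊥) : VV P₁ = p ∨ VV P₂ = l := by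
  obtain ⟨x, hx, rfl⟩ := h.line hl h1
  obtain ⟨y, hy, rfl⟩ := h.symm.line hp (by rwa [inf_comm])
  by_contra hc
  push Not at hc
  have b1 := (h.g1.ti h.cit hx).resolve_left fun e =>
    hc.2 (cj_of_mem_N (VV_norm _ (h.symm.N_le e))).symm
  have b2 := (h.g2.ti h.cit hy).resolve_left fun e => hc.1 (cj_of_mem_N (VV_norm _ (h.N_le e))).symm
  obtain ⟨a, ha, ha1⟩ := exists_ne_one (h.g1.off.cjP hx).W_ne
  have ha' := (h.inf_cj hx).ge ha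
  obtain ⟨u, hu, hu1⟩ := exists_ne_one h3
  have a1 := h.norm_of_comm hp hu.1 hu1 (hl.ea.comm ha'.2 hu.2)
  have a2 := h.g1.V_le ha'.1
  have a3 := norm_inf (zpowers_le.2 (VV_norm _ (h.g2.le a2))) (zpowers_le.2 a1) (mem_zpowers a)
  rw [h.symm.inf_cj hy] at a3
  have a4 := h.g2.off.stab h.cit (h.g2.off.cjP hy) (by rwa [inf_comm]) (h.g2.le a2)
    (h.syl.pi.piElt a2) (norm_OZ (norm_self S) a2) a3
  exact inf_ne_bot ha (h.mem_W ha'.1 (h.q2 ▸ a4)) ha1 b1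

theorem uniq (hp : Pt P₁ p) (hp' : Pt P₁ p') (hl : Pt P₂ l) (hl' : Pt P₂ l') (h0 : p ⊓ l ≠ ⊥)
    (h1 : p ⊓ l' ≠ ⊥) (h2 : p' ⊓ l ≠ ⊥) (h3 : p' ⊓ l' ≠ ⊥) : p = p' ∨ l = l' := by
  obtain ⟨y, rfl, rfl⟩ := h.flag hp hl h0
  rw [cj_VV] at h1 h2 ⊢
  rw [cj_VV]
  exact (h.cj y).uniq0 (hp'.cj' y) (hl'.cj' y) h1 h2 h3

theorem exists_ne {z : G} (hz1 : z ≠ 1) (hz : z ∈ OZ S) : ∃ z' ∈ OZ S, z' ≠ 1 ∧ z' ≠ z := by
  have : ¬ OZ S ≤ zpowers z := fun hle => by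
    have h1 := card_le hle
    have h2 := h.big
    rw [card_zpowers', orderOf_eq_two hz1 (ea_OZ S z hz)] at h1
    omega
  obtain ⟨z', hz', h1⟩ := SetLike.not_le_iff_exists.1 this
  exact ⟨z', hz', by rintro rfl; exact h1 (one_mem _), by rintro rfl; exact h1 (mem_zpowers _)⟩

theorem collinear0 (hp : Pt P₁ p) : ∃ l, Pt P₂ l ∧ VV P₁ ⊓ l ≠ ⊥ ∧ p ⊓ l ≠ ⊥ := by
  by_contra hc
  have hG := h.cit
  have noinv : ∀ t ∈ P₁ ⊓ N[p], t * t = 1 → t = 1 := by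
    intro t ht h2
    by_contra h1
    obtain ⟨l, a1, a2, a3⟩ := h.invol_line0 h2 h1 ht.1
    obtain ⟨l', b1, b2, b3⟩ := h.invol_line hp h2 h1 ht.2
    obtain rfl := h.symm.ti a1 b1 (inf_ne_bot a2 b2 h1)
    exact hc ⟨l, a1, a3, b3⟩
  have odd : ∀ d ∈ P₁ ⊓ N[p], Odd (orderOf d) := by
    intro d hd
    by_contra hn
    obtain ⟨m, a1, a2⟩ := H21.exists_invol_pow_of_not_odd (isOfFinOrder_of_finite d) hn
    exact a1 (noinv _ (pow_mem hd m) a2)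
  obtain ⟨u', hu', hu1'⟩ : ∃ u' ∈ p, u' ≠ 1 := by
    obtain ⟨g, rfl⟩ := hp
    exact exists_ne_one (by simpa using VV_ne_bot h.g1.off.ne)
  have k1 : ∀ u ∈ VV P₁, u ≠ 1 → ∃ r, r * u * r⁻¹ = u' ∧ H24.cj r (VV P₁) = p ∧
      H24.cj r p = VV P₁ := by
    intro u hu hu1
    by_cases ho : Odd (orderOf (u * u'))
    · obtain ⟨r, -, r2, e⟩ := H6.exists_invol_conj_of_odd (ea_VV _ u hu) (hp.ea u' hu') ho
      have e1 := h.ti ((Pt.base _).cj r) hp (inf_ne_bot (e ▸ conj_mem_cj r hu) hu' hu1')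
      exact ⟨r, e, e1, by rw [← e1, ← cj_mul, r2, cj_one]⟩
    · obtain ⟨w, w1, w2, c1, c2, -⟩ := H21.exists_invol_comm_of_not_odd (ea_VV _ u hu)
        (hp.ea u' hu') (isOfFinOrder_of_finite _) ho
      exact absurd (noinv w ⟨h.n1 ▸ h.norm_of_comm (Pt.base _) hu hu1 c1.eq,
        h.norm_of_comm hp hu' hu1' c2.eq⟩ w2) w1
  have k2 : ∀ u ∈ VV P₁, u ≠ 1 → ∀ v ∈ VV P₁, v ≠ 1 → ∃ d ∈ P₁ ⊓ N[p], d * u * d⁻¹ = v := by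
    intro u hu hu1 v hv hv1
    obtain ⟨r, a1, a2, a3⟩ := k1 u hu hu1
    obtain ⟨s, b1, b2, b3⟩ := k1 v hv hv1
    refine ⟨s⁻¹ * r, ⟨h.n1 ▸ cj_eq_cj_iff.1 (a2.trans b2.symm), cj_eq_cj_iff.1 (a3.trans b3.symm)⟩, ?_⟩
    rw [show s⁻¹ * r * u * (s⁻¹ * r)⁻¹ = s⁻¹ * (r * u * r⁻¹) * s by group, a1, ← b1]; group
  obtain ⟨z, hz, hz1⟩ := exists_ne_one h.g1.off.W_ne
  obtain ⟨z', hz', hz1', hne⟩ := h.exists_ne hz1 hz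
  obtain ⟨d, hd, e⟩ := k2 z (h.W_le1 hz) hz1 z' (h.W_le1 hz') hz1'
  have hdN := (h.g1.ti hG hd.1).resolve_right (inf_ne_bot (e ▸ conj_mem_cj d hz) hz' hz1')
  have hdS : d ∉ S := fun h1 => hne (by rw [← e, conj_eq_of_mem_C (le_C_OZ S h1) hz])
  have hd2 : ¬ E2 d := fun h1 => hdS (mem_of_e2 h.syl hdN h1)
  obtain ⟨x, hx, hb, hdx⟩ := h.g1.fix_ex hG hd.1 hdN hd2
  have o1 := h.g1.off.cjP hx
  have hy1 : x * z * x⁻¹ ≠ 1 := by rwa [ne_eq, conj_eq_one_iff']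
  obtain ⟨c, hc', e'⟩ := k2 z (h.W_le1 hz) hz1 _ (o1.Wle (conj_mem_cj x hz)) hy1
  have e1 : H24.cj c (OZ S) = H24.cj x (OZ S) :=
    ((h.g1.off.cjP hc'.1).dich hG o1).resolve_right
      (inf_ne_bot (e' ▸ conj_mem_cj c hz) (conj_mem_cj x hz) hy1)
  have n1 := h.g1.cj_ne hb
  have d1 : c⁻¹ * d * c ∈ N[S] := by
    rw [← e1, ← cj_N, mem_cj] at hdx
    exact h.NZ_le hdx
  have d2 : c⁻¹ * d * c ∈ P₁ ⊓ N[p] := mul_mem (mul_mem (inv_mem hc') hd) hc'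
  have d3 : c⁻¹ * d * c ∈ N[H24.cj c⁻¹ (OZ S)] := by
    rw [← cj_N]
    simpa using conj_mem_cj c⁻¹ (norm_OZ le_rfl hdN)
  have triv : ∀ y ∈ P₁ ⊓ N[p], y ∈ S → y = 1 := fun y a1 a2 =>
    e2_odd_eq_one (h.syl.pi.piElt a2) (odd y a1)
  have d4 : d ∈ N[H24.cj c⁻¹ (OZ S)] := by
    rcases h.toTwo.three hG h.syl hdN hdS d1 with a | a | a
    · have := triv _ d2 a
      rw [show c⁻¹ * d * c = c⁻¹ * d * c⁻¹⁻¹ by group, conj_eq_one_iff'] at this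
      exact absurd (this ▸ S.one_mem) hdS
    · rw [eq_inv_of_mul_eq_one_left (triv _ (mul_mem hd d2) a)]
      exact inv_mem d3
    · rw [inv_mul_eq_one.1 (triv _ (mul_mem (inv_mem hd) d2) a)]
      exact d3
  have e2 := h.g1.fix_uniq hG hd.1 hdN hd2 hx (P₁.inv_mem hc'.1) n1 (fun e3 => n1 (by
    rw [← e1, ← e3, cj_cj_inv, e3])) hdx d4
  rw [← e1, cj_eq_cj_iff, inv_inv] at e2
  exact n1 (e1 ▸ cj_of_mem_N (mem_of_odd_of_sq (odd c hc') e2))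

theorem collinear (hp : Pt P₁ p) (hp' : Pt P₁ p') : ∃ l, Pt P₂ l ∧ p ⊓ l ≠ ⊥ ∧ p' ⊓ l ≠ ⊥ := by
  obtain ⟨g, rfl⟩ := hp
  obtain ⟨l, a1, a2⟩ := (h.cj g).collinear0 (hp'.cj' g)
  exact ⟨l, a1.of_cj, by rwa [cj_VV]⟩

theorem eq_top {H : Subgroup G} (h1 : P₁ ≤ H) (h2 : P₂ ≤ H) : H = ⊤ := by
  rw [eq_top_iff]
  intro g _
  obtain ⟨l, a1, a2, a3⟩ := h.collinear0 ((Pt.base _).cj g)
  obtain ⟨x, hx, rfl⟩ := h.line a1 a2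
  obtain ⟨y, e1, e2⟩ := h.flag ((Pt.base _).cj g) a1 a3
  rw [cj_eq_cj_iff, h.n1] at e1
  rw [cj_eq_cj_iff, h.n2] at e2
  have := H.mul_mem (H.mul_mem (h1 hx) (H.inv_mem (h2 e2))) (h1 e1)
  simpa using this

end Geo

end H15.CIT
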