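import Mathlib
import Cfsg.Agent.H15.CIT7

/-!
# Identification of `L₃(4)`
-/

set_option autoImplicit false
set_option linter.unusedSectionVars false
set_option linter.style.haveILetI false

namespace H15.CIT

open H24 Cfsg Subgroup H12

theorem recog_psl34 {G : Type*} [Group G] [Finite G] {k z n m a b : G} (hz1 : z ≠ 1)
    (hz : z * z = 1) (hn : n * n = 1) (hm : m * m = 1) (ha : a * a = 1) (hb : b * b = 1)
    (r1 : k * k * k = 1) (r2 : a * n * z * n = 1) (r3 : b * m * z * m = 1) (r4 : n * k * n * k = 1)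
    (r5 : m * k * m * k = 1) (r6 : a * k * a * k * a * k = 1) (r7 : b * k * b * k * b * k = 1)
    (r8 : b * a * b * n * a * n * a = 1)
    (r9 : b * k⁻¹ * a * k * b * n * k⁻¹ * a * k * n * k⁻¹ * a * k = 1)
    (r10 : n * b * n * b * n * b = 1) (r11 : n * m * n * m * n * m = 1)
    (top : ∀ H : Subgroup G, k ∈ H → z ∈ H → n ∈ H → m ∈ H → H = ⊤) :
    Nonempty (G ≃* Matrix.ProjectiveSpecialLinearGroup (Fin 3) H9.F4) := by
  let f : Shrink.{0} G ≃* G := Shrink.mulEquiv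
  let e : ℕ → G := fun c => [k, k⁻¹, z, n, m, a, b].getD c 1
  have hi : H29.IvOK e (H29.ivOf L34A.ivl) := by
    intro c
    rcases c with _ | _ | _ | _ | _ | _ | _ | c
    · rfl
    · exact (inv_inv k).symm
    · exact eq_inv_of_mul_eq_one_left hz
    · exact eq_inv_of_mul_eq_one_left hn
    · exact eq_inv_of_mul_eq_one_left hm
    · exact eq_inv_of_mul_eq_one_left ha
    · exact eq_inv_of_mul_eq_one_left hb
    · exact inv_one.symm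
  have hR : ∀ r ∈ L34A.R0, H29.ev e r = 1 := by
    simp only [L34A.R0, L34A.G0, List.forall_mem_cons, H29.ev_cons, H29.ev_nil, mul_one, ← mul_assoc]
    exact ⟨r1, r2, r3, r4, r5, r6, r7, r8, r9, r10, r11, by simp⟩
  have ht : H29.gen e L34A.cols = ⊤ :=
    top _ (H29.mem_gen (c := 0) (by decide)) (H29.mem_gen (c := 2) (by decide))
      (H29.mem_gen (c := 3) (by decide)) (H29.mem_gen (c := 4) (by decide))
  obtain ⟨g⟩ := L34P.recog (H9.MX.ivOK_map f.symm.toMonoidHom hi)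
    (H9.MX.rels_map f.symm.toMonoidHom fun r hr => by rw [hR r hr]; exact one_mem _)
    (by simpa [e] using hz1) (by
      rw [← H29.map_gen, ht, ← MonoidHom.range_eq_map, MonoidHom.range_eq_top]
      exact f.symm.surjective)
  exact ⟨f.symm.trans g⟩

variable {G : Type*} [Group G] [Finite G] {P P₁ P₂ T S p p' l l' : Subgroup G} {k z n₁ n₂ : G}

namespace Geo

variable (h : Geo P₁ P₂ S)
include h

theorem fixline (hk : k ∈ N[S]) (hkS : k ∉ S) (hg : Gen P₁ P₂ S k z n₁ n₂) (hl : Pt P₂ l)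
    (hi : VV P₁ ⊓ l ≠ ⊥) (hkl : k ∈ N[l]) : l = VV P₂ ∨ l = H24.cj n₁ (VV P₂) := by
  obtain ⟨x, hx, rfl⟩ := h.line hl hi
  have hk1 := h.N_le hk
  have a1 := norm_inf (zpowers_le.2 (VV_norm _ hk1)) (zpowers_le.2 hkl) (mem_zpowers k)
  rw [h.inf_cj hx] at a1
  by_cases e : H24.cj x (OZ S) = OZ S
  · exact .inl (cj_of_mem_N (VV_norm _ (h.symm.N_le (h.NZ_le (mem_N_iff_cj.2 e)))))
  · have a2 : k ∈ N[H24.cj n₁ (OZ S)] := by
      rw [← cj_N, ← inv_mem_iff, ← hg.k1]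
      exact conj_mem_cj n₁ (norm_OZ le_rfl hk)
    have := h.g1.fix_uniq h.cit hk1 hk (fun h2 => hkS (mem_of_e2 h.syl hk h2)) hx hg.m1 e
      (h.g1.cj_ne hg.b1) a1 a2
    rw [cj_eq_cj_iff] at this
    exact .inr (cj_eq_cj_iff.2 (VV_norm _ (h.symm.N_le (h.NZ_le this))))

theorem ne_line (hg : Gen P₁ P₂ S k z n₁ n₂) : VV P₂ ≠ H24.cj n₁ (VV P₂) := fun e =>
  h.g1.cj_ne hg.b1 (cj_of_mem_N (norm_OZ le_rfl (h.inf_le hg.m1 (h.n2 ▸ mem_N_iff_cj.2 e.symm))))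

theorem inc_far (hk : k ∈ N[S]) (hkS : k ∉ S) (hg : Gen P₁ P₂ S k z n₁ n₂) :
    H24.cj (n₁ * n₂) (VV P₁) ⊓ H24.cj (n₂ * n₁) (VV P₂) ≠ ⊥ := by
  have j1 : n₁⁻¹ = n₁ := inv_eq_of_mul_eq_one_right hg.s1
  have j2 : n₂⁻¹ = n₂ := inv_eq_of_mul_eq_one_right hg.s2
  have c1 : H24.cj n₁ (VV P₁) = VV P₁ := cj_of_mem_N (VV_norm _ hg.m1)
  have c2 : H24.cj n₂ (VV P₂) = VV P₂ := cj_of_mem_N (VV_norm _ hg.m2)
  have q0 := Pt.base P₁
  have q1 := q0.cj n₂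
  have q2 := q0.cj (n₁ * n₂)
  -- the far point is not on the base line
  have i01 : VV P₁ ⊓ H24.cj n₁ (VV P₂) ≠ ⊥ := by simpa only [c1] using cj_inf_ne h.inc n₁
  have i10 : H24.cj n₂ (VV P₁) ⊓ VV P₂ ≠ ⊥ := by simpa only [c2] using cj_inf_ne h.inc n₂
  have i21 : H24.cj (n₁ * n₂) (VV P₁) ⊓ H24.cj n₁ (VV P₂) ≠ ⊥ := by
    rw [cj_mul]; exact cj_inf_ne i10 n₁
  have n20 : ¬ H24.cj (n₁ * n₂) (VV P₁) ⊓ VV P₂ ≠ ⊥ := fun i20 => by
    rcases h.uniq q0 q2 (Pt.base _) ((Pt.base _).cj n₁) h.inc i01 i20 i21 with e | e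
    · rw [cj_mul, eq_comm, cj_eq_iff, j1, c1] at e
      exact h.symm.ne_line hg.symm e.symm
    · exact h.ne_line hg e
  obtain ⟨l, a1, a2, a3⟩ := h.collinear q1 q2
  have kk : ∀ {n : G} {X : Subgroup G}, n * k * n⁻¹ = k⁻¹ → k ∈ N[X] → k ∈ N[H24.cj n X] := by
    intro n X e hX
    rw [← cj_N, ← inv_mem_iff, ← e]
    exact conj_mem_cj n hX
  have k1 := kk hg.k2 (VV_norm _ (h.N_le hk))
  have k2 := kk hg.k1 k1
  rw [← cj_mul] at k2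
  have hkl : k ∈ N[l] := by
    refine mem_N_iff_cj.2 ((h.uniq q1 q2 (a1.cj k) a1 ?_ a2 ?_ a3).resolve_left fun e =>
      n20 (e ▸ i10))
    · simpa only [cj_of_mem_N k1] using cj_inf_ne a2 k
    · simpa only [cj_of_mem_N k2] using cj_inf_ne a3 k
  have := h.fixline hk hkS hg (a1.cj n₂) (by
    have := cj_inf_ne a2 n₂
    rwa [← cj_mul, hg.s2, cj_one] at this) (kk hg.k2 hkl)
  rw [cj_eq_iff, cj_eq_iff, j2, c2, ← cj_mul] at this
  rcases this with rfl | rfl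
  · exact absurd a3 n20
  · exact a3

theorem braid_mem (hk : k ∈ N[S]) (hkS : k ∉ S) (hg : Gen P₁ P₂ S k z n₁ n₂) :
    n₁ * n₂ * n₁ * n₂ * n₁ * n₂ ∈ P₁ := by
  have j1 : n₁⁻¹ = n₁ := inv_eq_of_mul_eq_one_right hg.s1
  have j2 : n₂⁻¹ = n₂ := inv_eq_of_mul_eq_one_right hg.s2
  have c1 : H24.cj n₁ (VV P₁) = VV P₁ := cj_of_mem_N (VV_norm _ hg.m1)
  have c2 : H24.cj n₂ (VV P₂) = VV P₂ := cj_of_mem_N (VV_norm _ hg.m2)
  have i01 : VV P₁ ⊓ H24.cj n₁ (VV P₂) ≠ ⊥ := by simpa only [c1] using cj_inf_ne h.inc n₁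
  have i10 : H24.cj n₂ (VV P₁) ⊓ VV P₂ ≠ ⊥ := by simpa only [c2] using cj_inf_ne h.inc n₂
  have i21 : H24.cj (n₁ * n₂) (VV P₁) ⊓ H24.cj n₁ (VV P₂) ≠ ⊥ := by
    rw [cj_mul]; exact cj_inf_ne i10 n₁
  have i22 := h.inc_far hk hkS hg
  have q2 := (Pt.base P₁).cj (n₁ * n₂)
  have a1 := cj_inf_ne i21 n₂
  have a2 := cj_inf_ne i22 n₂
  rw [← cj_mul n₂ n₁] at a1
  rw [← cj_mul n₂ (n₂ * n₁), ← mul_assoc, hg.s2, one_mul] at a2
  rcases h.uniq q2 (q2.cj n₂) ((Pt.base _).cj n₁) ((Pt.base _).cj (n₂ * n₁)) i21 i22 a2 a1 with e | e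
  · rw [← cj_mul, eq_comm, cj_eq_cj_iff, h.n1] at e
    have := P₁.mul_mem hg.m1 e
    rw [mul_inv_rev, j1, j2] at this
    simpa only [mul_assoc] using this
  · have a3 := cj_inf_ne i01 n₂
    rw [← cj_mul, ← e] at a3
    rcases h.uniq (Pt.base _) ((Pt.base _).cj n₂) (Pt.base _) ((Pt.base _).cj n₁) h.inc i01 i10 a3
      with e | e
    · exact absurd e (h.symm.ne_line hg.symm)
    · exact absurd e (h.ne_line hg)

theorem braid (hk : k ∈ N[S]) (hkS : k ∉ S) (hg : Gen P₁ P₂ S k z n₁ n₂) :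
    n₁ * n₂ * n₁ * n₂ * n₁ * n₂ = 1 := by
  have hG := h.cit
  have j1 : n₁⁻¹ = n₁ := inv_eq_of_mul_eq_one_right hg.s1
  have j2 : n₂⁻¹ = n₂ := inv_eq_of_mul_eq_one_right hg.s2
  have hk2 : ¬ E2 k := fun h2 => hkS (mem_of_e2 h.syl hk h2)
  have a1 := h.braid_mem hk hkS hg
  have a2 := P₂.inv_mem (h.symm.braid_mem hk hkS hg.symm)
  simp only [mul_inv_rev, j1, j2, ← mul_assoc] at a2
  have hc := h.inf_le a1 a2
  have i2 : n₂ * k⁻¹ * n₂⁻¹ = k := by rw [← hg.k2]; simp [j2, mul_assoc, ← mul_assoc n₂ n₂, hg.s2]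
  have hck : n₁ * n₂ * k = k * (n₁ * n₂) := by
    have : n₁ * (n₂ * k⁻¹ * n₂⁻¹) * n₁⁻¹ = k⁻¹ := by rw [i2, hg.k1]
    calc n₁ * n₂ * k = k * (n₁ * (n₂ * k⁻¹ * n₂⁻¹) * n₁⁻¹) * (n₁ * n₂) * k := by rw [this]; group
      _ = _ := by group
  have hck' : Commute k (n₁ * n₂ * n₁ * n₂ * n₁ * n₂) := by
    have : Commute k (n₁ * n₂) := hck.symm
    simpa only [mul_assoc] using (this.mul_right this).mul_right this
  generalize hκ : n₁ * n₂ * n₁ * n₂ * n₁ * n₂ = κ at hc hck' a1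
  have triv : ∀ y ∈ S, Commute k y → y = 1 := fun y hy hc =>
    hG.eq_one_of_comm (h.syl.pi.piElt hy) hk2 hc.eq
  by_contra hκ1
  have hκS : κ ∉ S := fun h1 => hκ1 (triv _ h1 hck')
  have hκW : κ ∈ N[H24.cj n₁ (OZ S)] := by
    have : k ∈ N[H24.cj n₁ (OZ S)] := by
      rw [← cj_N, ← inv_mem_iff, ← hg.k1]
      exact conj_mem_cj n₁ (norm_OZ le_rfl hk)
    rcases h.toTwo.three hG h.syl hk hkS hc with a | a | a
    · exact absurd a hκS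
    · rw [eq_inv_of_mul_eq_one_right (triv _ a ((Commute.refl k).mul_right hck'))]
      exact inv_mem this
    · rw [← inv_mul_eq_one.1 (triv _ a ((Commute.refl k).inv_right.mul_right hck'))]
      exact this
  -- both `n₁` and `n₁ κ` fix the point `b • W`
  have hbV : n₂ * z * n₂⁻¹ ∈ VV P₂ := conj_mem (VV_norm _ hg.m2) (h.W_le2 hg.z_mem)
  have hbS := h.g2.V_le hbV
  have hb2 := ea_VV _ _ hbV
  have c1 := hg.c1
  have c2 : (n₁ * κ * (n₂ * z * n₂⁻¹)) ^ 3 = 1 := by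
    have := hg.c2
    rw [show n₁ * κ * (n₂ * z * n₂⁻¹) = (n₂ * n₁) * (n₂ * (n₁ * z * n₁⁻¹)) * (n₂ * n₁)⁻¹ by
      rw [← hκ]; simp [j1, j2, mul_assoc, ← mul_assoc n₁ n₁, ← mul_assoc n₂ n₂, hg.s1, hg.s2],
      conj_pow, this]
    simp
  have hbW : n₂ * z * n₂⁻¹ ∉ OZ S := fun h1 =>
    inf_ne_bot (conj_mem_cj n₂ hg.z_mem) h1 (by rw [ne_eq, conj_eq_one_iff']; exact hg.z_ne) hg.b2
  generalize n₂ * z * n₂⁻¹ = b at hbV hbS hb2 c1 c2 hbW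
  have hbZ := norm_OZ (norm_self S) hbS
  have key : ∀ n : G, (n * b) ^ 3 = 1 → H24.cj n (OZ S) = H24.cj n₁ (OZ S) →
      H24.cj n (H24.cj n₁ (OZ S)) = OZ S → n ∈ N[H24.cj (b * n₁) (OZ S)] := by
    intro n e1 e2 e3
    have e4 : n * b = b * n⁻¹ * b * n⁻¹ := by
      have hb : b⁻¹ = b := inv_eq_of_mul_eq_one_right hb2
      calc n * b = (n * b) ^ 3 * (b⁻¹ * n⁻¹ * b⁻¹ * n⁻¹) := by simp [pow_succ, mul_assoc]
        _ = _ := by rw [e1, one_mul, hb]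
    rw [mem_N_iff_cj, cj_mul, ← cj_mul n b, e4, cj_mul, cj_mul, cj_mul, ← e2, cj_inv_cj,
      cj_of_mem_N hbZ, ← e3, cj_inv_cj, e3, e2]
  have f1 := key n₁ c1 rfl (by rw [← cj_mul, hg.s1, cj_one])
  have f2 := key (n₁ * κ) c2 (by rw [cj_mul, cj_of_mem_N (norm_OZ le_rfl hc)])
    (by rw [cj_mul, cj_of_mem_N hκW, ← cj_mul, hg.s1, cj_one])
  have n1 := h.g1.cj_ne hg.b1
  have e := h.g1.fix_uniq hG a1 hc (fun h2 => hκS (mem_of_e2 h.syl hc h2))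
    (P₁.mul_mem (h.g1.le hbS) hg.m1) hg.m1 (fun e => n1 (by
      rwa [cj_mul, cj_eq_iff, cj_of_mem_N (inv_mem hbZ)] at e)) n1
    ((mul_mem_cancel_left f1).1 f2) hκW
  rw [cj_mul, ← mem_N_iff_cj] at e
  have := h.g1.off.stab hG (h.g1.off.cjP hg.m1) (by rw [inf_comm]; exact hg.b1) (h.g1.le hbS)
    (h.syl.pi.piElt hbS) hbZ e
  exact hbW (h.mem_W (h.q1 ▸ this) hbV)

theorem le_of_mem (hk : k ∈ N[S]) (hkS : k ∉ S) (hg : Gen P₁ P₂ S k z n₁ n₂) {H : Subgroup G}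
    (h1 : k ∈ H) (h2 : z ∈ H) (h3 : n₁ ∈ H) (h4 : n₂ ∈ H) : P₁ ≤ H := by
  have hG := h.cit
  have hZ : OZ S ≤ H := by
    intro w hw
    by_cases hw1 : w = 1
    · rw [hw1]; exact H.one_mem
    obtain ⟨x, -, hx, rfl⟩ := h.g1.transW hG hg.z_mem hg.z_ne hw hw1
    have c := fun s (hs : s ∈ S) => conj_eq_of_mem_C (le_C_OZ S hs) hg.z_mem
    rcases h.toTwo.three hG h.syl hk hkS hx with a | a | a
    · rwa [c _ a]
    · rw [show x * z * x⁻¹ = k⁻¹ * (k * x * z * (k * x)⁻¹) * k by group, c _ a]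
      exact H.mul_mem (H.mul_mem (H.inv_mem h1) h2) h1
    · rw [show x * z * x⁻¹ = k * (k⁻¹ * x * z * (k⁻¹ * x)⁻¹) * k⁻¹ by group, c _ a]
      exact H.mul_mem (H.mul_mem h1 h2) (H.inv_mem h1)
  have b1 : OZ S ⊓ H24.cj n₁ (OZ S) = ⊥ := by rw [inf_comm]; exact hg.b1
  have b2 : OZ S ⊓ H24.cj n₂ (OZ S) = ⊥ := by rw [inf_comm]; exact hg.b2
  have hS : S ≤ H := by
    rw [← h.sup, ← h.g1.off.sup_eq (h.g1.off.cjP hg.m1) b1, ← h.g2.off.sup_eq (h.g2.off.cjP hg.m2) b2]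
    exact sup_le (sup_le hZ (cj_le_of_mem_N hZ (norm_self H h3)))
      (sup_le hZ (cj_le_of_mem_N hZ (norm_self H h4)))
  have hN : N[S] ≤ H := by
    intro x hx
    rcases h.toTwo.three hG h.syl hk hkS hx with a | a | a
    · exact hS a
    · exact (H.mul_mem_cancel_left h1).1 (hS a)
    · exact (H.mul_mem_cancel_left (H.inv_mem h1)).1 (hS a)
  intro x hx
  rcases h.g1.ti hG hx with a | a
  · exact hN a
  · obtain ⟨s, hs, e⟩ := h.g1.off.trans hG (h.g1.off.cjP hg.m1) b1 (h.g1.off.cjP hx) (h.g1.cj_ne a)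
    rw [← cj_mul, cj_eq_cj_iff] at e
    exact (H.mul_mem_cancel_left (H.inv_mem (H.mul_mem (hS hs) h3))).1 (hN (h.NZ_le e))

theorem psl34 : Nonempty (G ≃* Matrix.ProjectiveSpecialLinearGroup (Fin 3) H9.F4) := by
  have hG := h.cit
  obtain ⟨z₀, hz₀, hz₀1⟩ := exists_ne_one h.g1.off.W_ne
  obtain ⟨z', hz', hz1', hne⟩ := h.exists_ne hz₀1 hz₀
  obtain ⟨k, -, hk, e⟩ := h.g1.transW hG hz₀ hz₀1 hz' hz1'
  have hkS : k ∉ S := fun h1 => hne (by rw [← e, conj_eq_of_mem_C (le_C_OZ S h1) hz₀])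
  obtain ⟨z, n₁, n₂, hg⟩ := h.toTwo.gen hG h.syl hk fun h2 => hkS (mem_of_e2 h.syl hk h2)
  have j1 : n₁⁻¹ = n₁ := inv_eq_of_mul_eq_one_right hg.s1
  have j2 : n₂⁻¹ = n₂ := inv_eq_of_mul_eq_one_right hg.s2
  have hz := ea_OZ S z hg.z_mem
  have k3 : k * k * k = 1 := by rw [← h.toTwo.cube hG h.syl hk hkS]; simp [pow_succ]
  have ha := conj_mem_cj n₁ hg.z_mem
  have haV := (h.g1.off.cjP hg.m1).Wle ha
  have hbV := (h.g2.off.cjP hg.m2).Wle (conj_mem_cj n₂ hg.z_mem)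
  have cube : ∀ {U : Subgroup G}, EA U → k ∈ N[U] → ∀ w ∈ U, w * k * w * k * w * k = 1 := by
    intro U hU hkU w hw
    have e := h.toTwo.conj_inv hG h.syl hk hkS hU hkU hw
    calc w * k * w * k * w * k = (w * (k * w * k⁻¹)) * (k * k * k) * (k⁻¹ * w * k) := by group
      _ = 1 := by rw [k3, mul_one, ← e]; exact hU _ (conj_mem' hkU hw)
  have hkW : k ∈ N[H24.cj n₁ (OZ S)] := by
    rw [← cj_N, ← inv_mem_iff, ← hg.k1]
    exact conj_mem_cj n₁ (norm_OZ le_rfl hk)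
  have rel : ∀ y ∈ H24.cj n₁ (OZ S), n₂ * z * n₂⁻¹ * y * (n₂ * z * n₂⁻¹) * (n₁ * y * n₁) * y = 1 := by
    intro y hy
    have e := hg.r1 y hy
    have hyV := (h.g1.off.cjP hg.m1).Wle hy
    rw [(ea_VV _).inv hbV] at e
    have e' := ea_VV _ _ (conj_mem (VV_norm _ hg.m1) hyV)
    rw [j1] at e e'
    rw [e, mul_assoc y, e', mul_one, ea_VV _ _ hyV]
  refine recog_psl34 (k := k) (z := z) (n := n₁) (m := n₂) (a := n₁ * z * n₁⁻¹) (b := n₂ * z * n₂⁻¹)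
    hg.z_ne hz hg.s1 hg.s2 (ea_VV _ _ haV) (ea_VV _ _ hbV) k3 ?_ ?_ ?_ ?_
    (cube (ea_VV _) (VV_norm _ (h.N_le hk)) _ haV)
    (cube (ea_VV _) (VV_norm _ (h.symm.N_le hk)) _ hbV) ?_ ?_ ?_ (h.braid hk hkS hg)
    fun H h1 h2 h3 h4 => h.eq_top (h.le_of_mem hk hkS hg h1 h2 h3 h4)
      (h.symm.le_of_mem hk hkS hg.symm h1 h2 h4 h3)
  · simp [mul_assoc, hz, hg.s1]
  · simp [mul_assoc, hz, hg.s2]
  · rw [← inv_mul_cancel k, ← hg.k1, j1]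
  · rw [← inv_mul_cancel k, ← hg.k2, j2]
  · simpa only [mul_assoc] using rel _ ha
  · simpa only [mul_assoc] using rel _ (conj_mem' hkW ha)
  · rw [← hg.c1]; simp only [pow_succ, pow_zero, one_mul, mul_assoc]

end Geo

end H15.CIT
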