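import Mathlib
import Cfsg.Agent.H15.CIT8

/-!
# The plane of order four from an involution centraliser
-/

set_option autoImplicit false
set_option linter.unusedSectionVars false

namespace H15.CIT

open H24 Cfsg Subgroup

variable {X : Type*} [Group X] [Finite X] {S W₁ W₂ : Subgroup X} {z n : X}

theorem geoX (hC : C{z} = S) (hT : T2 S) (z1 : z ≠ 1) (z2 : z * z = 1)
    (cls : ∀ y ∈ S, y * y = 1 → y ≠ 1 → ∃ g, g * z * g⁻¹ = y)
    (inv : ∀ y ∈ S, y * y = 1 → y ∈ W₁ ∨ y ∈ W₂) (e1 : EA W₁) (e2 : EA W₂) (hsup : W₁ ⊔ W₂ = S)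
    (nc : ¬ W₁ ≤ C[W₂]) (c1 : 4 < Nat.card W₁) (c2 : 4 < Nat.card W₂) (sq : ∃ y, y * y = z)
    (n2 : n * n = 1) (n1 : n * z * n⁻¹ ∈ S) (nn : n ∉ S) :
    ∃ P₁ P₂, Geo P₁ P₂ S ∧ VV P₁ = W₁ ∧ VV P₂ = W₂ := by
  have zS : z ∈ S := hC ▸ self_mem_C1 z
  have S1 : S ≠ ⊥ := ne_bot_of_mem zS z1
  have l1 : W₁ ≤ S := hsup ▸ le_sup_left
  have l2 : W₂ ≤ S := hsup ▸ le_sup_right
  have hS : Syl 2 ⊤ S := by
    by_contra hn
    obtain ⟨Q, a1, a2, -, a3⟩ := exists_lt_norm_of_not_syl p2 hT le_top hn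
    obtain ⟨v, b1, b2, b3⟩ := exists_fix a1 (ea_OZ S).t2 (norm_OZ a3) (OZ_ne_bot hT S1)
    obtain ⟨g, rfl⟩ := cls v (OZ_le _ b1) (ea_OZ S v b1) b2
    have := card_le_of_le (mem_C_iff_le_C1.1 b3)
    rw [← cj_C1, card_cj, hC] at this
    exact absurd (card_lt a2) (not_lt.2 this)
  have all : ∀ y : X, y * y = 1 → y ≠ 1 → ∃ g, g * z * g⁻¹ = y := fun y h1 h2 => by
    obtain ⟨g, -, a⟩ := Sylow_Jsub p2 hS (e2_of_sq h1).isPi le_top
    obtain ⟨g', b⟩ := cls _ (a (conj_mem_cj g (mem_zpowers y))) (by rw [conj_mul, h1]; simp)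
      (by simpa using h2)
    exact ⟨g⁻¹ * g', by rw [mul_inv_rev, mul_assoc g⁻¹, mul_assoc, ← mul_assoc _ g'⁻¹, b]; group⟩
  have hG : IsCIT X := cit_of fun t ht => by
    obtain ⟨g, rfl⟩ := all t (sq_of_orderOf ht) (ne_one_of_orderOf ht)
    rw [← isPi_iff_isPGroup p2, ← cj_C1, hC]; exact hT.cj g
  have nml : ∀ M : Subgroup X, M.Normal → z ∈ M → ∀ y : X, y * y = 1 → y ∈ M := fun M hM hz y h1 => by
    by_cases h2 : y = 1
    · rw [h2]; exact one_mem _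
    obtain ⟨g, rfl⟩ := all y h1 h2
    exact hM.conj_mem z hz g
  have h2 : ∀ M : Subgroup X, M.Normal → M.index ≠ 2 := fun M hM hi => by
    obtain ⟨y, rfl⟩ := sq
    have a1 := nml M hM (mul_self_mem_of_index_two hi y)
    have a2 : S ≤ M := hsup ▸ sup_le (fun y hy => a1 y (e1 y hy)) fun y hy => a1 y (e2 y hy)
    refine hS.not_dvd p2 ?_
    rw [relIndex_top_right, ← hi]
    exact index_dvd_of_le a2
  have hO : QQ (⊤ : Subgroup X) = ⊥ := by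
    by_contra hn
    obtain ⟨s, a1, a2, a3⟩ := exists_invol (QQ_t2 _) hn
    obtain ⟨g, rfl⟩ := all s a3 a2
    have N := nml_top_iff.1 (QQ_nml (⊤ : Subgroup X))
    exact nn (QQ_le hS (nml _ N (by simpa [mul_assoc] using N.conj_mem _ a1 g⁻¹) n n2))
  rcases hG.trichotomy h2 hO hS S1 with h | ⟨V, a1, a2, a3⟩ | ⟨P₁, P₂, a1, a2, a3, a4⟩
  · exact absurd (mem_of_e2 hS ((H6.isStronglyEmbedded_iff.1 h).2.2 n z (norm_self S zS)
      (orderOf_eq_two z1 z2) (norm_self S n1)) (e2_of_sq n2)) nn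
  · exfalso
    have : Fact (Nat.Prime 2) := ⟨p2⟩
    obtain ⟨v, b1, b2⟩ := exists_ne_one (H := V) (by rintro rfl; simp at a2)
    obtain ⟨g, rfl⟩ := all v (a1 v b1) b2
    have b3 : cj g⁻¹ V ≤ S := by
      rw [← hC, ← cj_le_cj (g := g), cj_cj_inv, cj_C1]
      exact a1.le_C.trans (C_le_C1 b1)
    have b4 := a1.cj g⁻¹
    have b5 : C[cj g⁻¹ V] = cj g⁻¹ V := by rw [← cj_C, a3]
    have b6 : Nat.card (cj g⁻¹ V) = 4 := by rw [card_cj, a2]
    rcases le_or_le fun y hy => inv y (b3 hy) (b4 y hy) with a | a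
    · have := card_le_of_le (b5 ▸ e1.le_C.trans (C_anti a))
      omega
    · have := card_le_of_le (b5 ▸ e2.le_C.trans (C_anti a))
      omega
  · have nc' : ¬ W₂ ≤ C[W₁] := fun a => nc (cents_symm a)
    have key : ∀ {P₁ P₂ : Subgroup X}, Two P₁ P₂ S → W₁ ≤ VV P₁ → VV P₁ = W₁ ∧ VV P₂ = W₂ := by
      intro P₁ P₂ t b
      have d1 : VV P₁ = W₁ := le_antisymm ((le_or_le fun y hy =>
        inv y (t.g1.V_le hy) (ea_VV _ y hy)).resolve_right fun a =>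
          nc ((b.trans a).trans e2.le_C)) b
      refine ⟨d1, le_antisymm ((le_or_le fun y hy =>
        inv y (t.g2.V_le hy) (ea_VV _ y hy)).resolve_left fun a => t.symm.ne (d1 ▸ a)) ?_⟩
      exact (t.ea_le e2 l2).resolve_left fun a => nc' ((d1 ▸ a).trans e1.le_C)
    rcases a1.ea_le e1 l1 with a | a
    · exact ⟨P₁, P₂, ⟨a1, hG, hS, a3, a4, a2⟩, key a1 a⟩
    · exact ⟨P₂, P₁, ⟨a1.symm, hG, hS, a4, a3, a2⟩, key a1.symm a⟩

theorem simple34 {k z n m a b : X} (hz1 : z ≠ 1)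
    (hz : z * z = 1) (hn : n * n = 1) (hm : m * m = 1) (ha : a * a = 1) (hb : b * b = 1)
    (r1 : k * k * k = 1) (r2 : a * n * z * n = 1) (r3 : b * m * z * m = 1) (r4 : n * k * n * k = 1)
    (r5 : m * k * m * k = 1) (r6 : a * k * a * k * a * k = 1) (r7 : b * k * b * k * b * k = 1)
    (r8 : b * a * b * n * a * n * a = 1)
    (r9 : b * k⁻¹ * a * k * b * n * k⁻¹ * a * k * n * k⁻¹ * a * k = 1)
    (r10 : n * b * n * b * n * b = 1) (r11 : n * m * n * m * n * m = 1) {L : Subgroup X}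
    (hL : L = zpowers k ⊔ (zpowers z ⊔ (zpowers n ⊔ zpowers m))) : IsSimpleGroup L := by
  have h1 : k ∈ L := hL ▸ mem_sup_left (mem_zpowers _)
  have h2 : z ∈ L := hL ▸ mem_sup_right (mem_sup_left (mem_zpowers _))
  have h3 : n ∈ L := hL ▸ mem_sup_right (mem_sup_right (mem_sup_left (mem_zpowers _)))
  have h4 : m ∈ L := hL ▸ mem_sup_right (mem_sup_right (mem_sup_right (mem_zpowers _)))
  have h5 : a ∈ L := by
    rw [mul_assoc, mul_assoc] at r2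
    exact (eq_inv_of_mul_eq_one_left r2) ▸ inv_mem (mul_mem h3 (mul_mem h2 h3))
  have h6 : b ∈ L := by
    rw [mul_assoc, mul_assoc] at r3
    exact (eq_inv_of_mul_eq_one_left r3) ▸ inv_mem (mul_mem h4 (mul_mem h2 h4))
  obtain ⟨f⟩ := recog_psl34 (G := L) (k := ⟨k, h1⟩) (z := ⟨z, h2⟩) (n := ⟨n, h3⟩) (m := ⟨m, h4⟩)
    (a := ⟨a, h5⟩) (b := ⟨b, h6⟩) (fun h => hz1 (congrArg Subtype.val h)) (Subtype.ext hz)
    (Subtype.ext hn) (Subtype.ext hm) (Subtype.ext ha) (Subtype.ext hb) (Subtype.ext r1)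
    (Subtype.ext r2) (Subtype.ext r3) (Subtype.ext r4) (Subtype.ext r5) (Subtype.ext r6)
    (Subtype.ext r7) (Subtype.ext r8) (Subtype.ext r9) (Subtype.ext r10) (Subtype.ext r11)
    fun H c1 c2 c3 c4 => eq_top_iff.2 fun x _ => by
      have : L ≤ H.map L.subtype := hL.le.trans (sup_le (zpowers_le.2 ⟨_, c1, rfl⟩)
        (sup_le (zpowers_le.2 ⟨_, c2, rfl⟩) (sup_le (zpowers_le.2 ⟨_, c3, rfl⟩)
          (zpowers_le.2 ⟨_, c4, rfl⟩))))
      obtain ⟨y, a1, a2⟩ := this x.2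
      exact Subtype.ext a2 ▸ a1
  have := H7.psl_simple (ι := Fin 3) (F := H9.F4) (by simp)
  exact f.isSimpleGroup

end H15.CIT
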