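import Mathlib
import Cfsg.Agent.H29.Ext

set_option autoImplicit false
set_option maxRecDepth 100000
set_option Elab.async false
set_option linter.all false

namespace H15.SzD

open H29

noncomputable def n0 : Net := ben 6 [(nat_lit 0x0),
 (nat_lit 0x0),
 (nat_lit 0x0),
 (nat_lit 0x0),
 (nat_lit 0x0),
 (nat_lit 0x0)]
noncomputable def t0 : List ℕ := [(nat_lit 0xad43abd22e2),
 (nat_lit 0x10e387c200fc),
 (nat_lit 0xc7ffffff00),
 (nat_lit 0x1f3800000000),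
 (nat_lit 0x0)]
noncomputable def d0 : ℕ := (nat_lit 0x0)
noncomputable def n1 : Net := ben 6 [(nat_lit 0x0),
 (nat_lit 0x0),
 (nat_lit 0x0),
 (nat_lit 0x0),
 (nat_lit 0x0),
 (nat_lit 0x0)]
noncomputable def t1 : List ℕ := [(nat_lit 0x11f0719e2cb2),
 (nat_lit 0x9c78ee30cbc),
 (nat_lit 0x1c7fffff340),
 (nat_lit 0x1e3800000000),
 (nat_lit 0x0)]
noncomputable def d1 : ℕ := (nat_lit 0x0)
noncomputable def n2 : Net := ben 6 [(nat_lit 0x73110ddf13c),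
 (nat_lit 0xa00105fa52),
 (nat_lit 0x6e08190604),
 (nat_lit 0x250500080),
 (nat_lit 0x401040),
 (nat_lit 0x40)]
noncomputable def t2 : List ℕ := [(nat_lit 0x13dc703013c0),
 (nat_lit 0x1da300000050),
 (nat_lit 0x1bf75302700),
 (nat_lit 0x3802800000),
 (nat_lit 0x1e4000000000)]
noncomputable def d2 : ℕ := (nat_lit 0x804a4024)
noncomputable def n3 : Net := ben 6 [(nat_lit 0x0),
 (nat_lit 0x0),
 (nat_lit 0x0),
 (nat_lit 0x0),
 (nat_lit 0x0),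
 (nat_lit 0x0)]
noncomputable def t3 : List ℕ := [(nat_lit 0x2d43a9d22e2),
 (nat_lit 0x10e387c200fc),
 (nat_lit 0xc7ffffff00),
 (nat_lit 0x1f3800000000),
 (nat_lit 0x0)]
noncomputable def d3 : ℕ := (nat_lit 0x0)
noncomputable def n4 : Net := ben 6 [(nat_lit 0x14d5015d500),
 (nat_lit 0xf0aab00a3b0),
 (nat_lit 0xdd008b0908),
 (nat_lit 0x121ec0c80020),
 (nat_lit 0x12805280),
 (nat_lit 0x1280)]
noncomputable def t4 : List ℕ := [(nat_lit 0x1a4ad7cc8052),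
 (nat_lit 0x14152fb3007c),
 (nat_lit 0x27ffffde80),
 (nat_lit 0x3800000000),
 (nat_lit 0x1fc000000000)]
noncomputable def d4 : ℕ := (nat_lit 0x2000)
noncomputable def n9 : Net := ben 6 [(nat_lit 0x0),
 (nat_lit 0x0),
 (nat_lit 0x0),
 (nat_lit 0x0),
 (nat_lit 0x0),
 (nat_lit 0x0)]
noncomputable def t9 : List ℕ := [(nat_lit 0xeb5299d2ce2),
 (nat_lit 0xfc286c20cfc),
 (nat_lit 0xfc7fffff300),
 (nat_lit 0x103800000000),
 (nat_lit 0x0)]
noncomputable def d9 : ℕ := (nat_lit 0x0)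
noncomputable def n10 : Net := n9.rev
noncomputable def t10 : List ℕ := mapPull n10 t9
noncomputable def d10 : ℕ := (nat_lit 0x0)
noncomputable def n19 : Net := ben 6 [(nat_lit 0x0),
 (nat_lit 0x0),
 (nat_lit 0x0),
 (nat_lit 0x0),
 (nat_lit 0x0),
 (nat_lit 0x0)]
noncomputable def t19 : List ℕ := [(nat_lit 0x19f0539e26b2),
 (nat_lit 0x9c7aee304bc),
 (nat_lit 0x9c7fffffb40),
 (nat_lit 0x1e3800000000),
 (nat_lit 0x0)]
noncomputable def d19 : ℕ := (nat_lit 0x0)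
noncomputable def n20 : Net := ben 6 [(nat_lit 0x0),
 (nat_lit 0x0),
 (nat_lit 0x0),
 (nat_lit 0x0),
 (nat_lit 0x0),
 (nat_lit 0x0)]
noncomputable def t20 : List ℕ := [(nat_lit 0xad0509e2ab2),
 (nat_lit 0x18e7ade300bc),
 (nat_lit 0x8c7fdffff40),
 (nat_lit 0x1f3802000000),
 (nat_lit 0x0)]
noncomputable def d20 : ℕ := (nat_lit 0x0)
noncomputable def n21 : Net := ben 6 [(nat_lit 0x0),
 (nat_lit 0x0),
 (nat_lit 0x0),
 (nat_lit 0x0),
 (nat_lit 0x0),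
 (nat_lit 0x0)]
noncomputable def t21 : List ℕ := [(nat_lit 0xad0409e2ab2),
 (nat_lit 0x18e7ade300bc),
 (nat_lit 0x8c7fdffff40),
 (nat_lit 0x1f3802000000),
 (nat_lit 0x0)]
noncomputable def d21 : ℕ := (nat_lit 0x0)
noncomputable def n22 : Net := ben 6 [(nat_lit 0x0),
 (nat_lit 0x0),
 (nat_lit 0x0),
 (nat_lit 0x0),
 (nat_lit 0x0),
 (nat_lit 0x0)]
noncomputable def t22 : List ℕ := [(nat_lit 0x1df1439e26b2),
 (nat_lit 0xdc6aee304bc),
 (nat_lit 0xdc7fffffb40),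
 (nat_lit 0x1a3800000000),
 (nat_lit 0x0)]
noncomputable def d22 : ℕ := (nat_lit 0x0)
noncomputable def n23 : Net := ben 6 [(nat_lit 0x0),
 (nat_lit 0x0),
 (nat_lit 0x0),
 (nat_lit 0x0),
 (nat_lit 0x0),
 (nat_lit 0x0)]
noncomputable def t23 : List ℕ := [(nat_lit 0x19f0719e2cb2),
 (nat_lit 0x9c78ee30cbc),
 (nat_lit 0x1c7fffff340),
 (nat_lit 0x1e3800000000),
 (nat_lit 0x0)]
noncomputable def d23 : ℕ := (nat_lit 0x0)
noncomputable def n24 : Net := ben 6 [(nat_lit 0x14333333f30),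
 (nat_lit 0x1b1b1b1b0),
 (nat_lit 0x2a082a08),
 (nat_lit 0x2220020),
 (nat_lit 0x20202),
 (nat_lit 0x2)]
noncomputable def t24 : List ℕ := [(nat_lit 0x10181e01f462),
 (nat_lit 0x1c3f87fe147c),
 (nat_lit 0x7ffffea00),
 (nat_lit 0x3800000000),
 (nat_lit 0x1c0000000000)]
noncomputable def d24 : ℕ := (nat_lit 0x28000000100)
noncomputable def n25 : Net := ben 6 [(nat_lit 0x0),
 (nat_lit 0x0),
 (nat_lit 0x0),
 (nat_lit 0x0),
 (nat_lit 0x0),
 (nat_lit 0x0)]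
noncomputable def t25 : List ℕ := [(nat_lit 0x11b4199d2de2),
 (nat_lit 0x1c3a6c20cfc),
 (nat_lit 0x1c7fffff300),
 (nat_lit 0x1e3800000000),
 (nat_lit 0x0)]
noncomputable def d25 : ℕ := (nat_lit 0x0)
noncomputable def n26 : Net := ben 6 [(nat_lit 0x0),
 (nat_lit 0x0),
 (nat_lit 0x0),
 (nat_lit 0x0),
 (nat_lit 0x0),
 (nat_lit 0x0)]
noncomputable def t26 : List ℕ := [(nat_lit 0x19f0d3be27b2),
 (nat_lit 0x1c7aec304bc),
 (nat_lit 0x1c7fffffb40),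
 (nat_lit 0x1e3800000000),
 (nat_lit 0x0)]
noncomputable def d26 : ℕ := (nat_lit 0x0)
noncomputable def n31 : Net := ben 6 [(nat_lit 0xd48d3452b14),
 (nat_lit 0x1514b614042),
 (nat_lit 0xbfa6bd0d06),
 (nat_lit 0x1018857ba020),
 (nat_lit 0xe4cfc4),
 (nat_lit 0x10e4)]
noncomputable def t31 : List ℕ := [(nat_lit 0x184112c968d0),
 (nat_lit 0x108088020060),
 (nat_lit 0x108bc80800),
 (nat_lit 0x1007800000),
 (nat_lit 0x1ae000000000)]
noncomputable def d31 : ℕ := (nat_lit 0x40e60048008)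
noncomputable def n32 : Net := n31.rev
noncomputable def t32 : List ℕ := mapPull n32 t31
noncomputable def d32 : ℕ := (nat_lit 0x80118310050)
noncomputable def n37 : Net := ben 6 [(nat_lit 0x7df237d1d01),
 (nat_lit 0x5b3fafa0111),
 (nat_lit 0x114ce061508),
 (nat_lit 0x1012a0610078),
 (nat_lit 0x14209420),
 (nat_lit 0x1420)]
noncomputable def t37 : List ℕ := [(nat_lit 0x110a2886e209),
 (nat_lit 0x198628bec004),
 (nat_lit 0x198628ae3b00),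
 (nat_lit 0x19060a000000),
 (nat_lit 0x200d0000000)]
noncomputable def d37 : ℕ := (nat_lit 0x7005000482)
noncomputable def n38 : Net := n37.rev
noncomputable def t38 : List ℕ := mapPull n38 t37
noncomputable def d38 : ℕ := (nat_lit 0x110002801a00)
def ivl : List ℕ := [0, 1, 2, 3, 4, 6, 5, 8, 7, 10, 9, 12, 11, 14, 13, 16, 15, 18, 17, 19, 20, 21, 22, 23, 24, 25, 26, 28, 27, 29, 30, 32, 31, 33, 34, 35, 36, 38, 37, 40, 39, 41, 42, 43, 44, 45, 46, 47, 48]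
def cols : List ℕ := [0, 1, 2, 3, 4, 9, 10, 19, 20, 21, 22, 23, 24, 25, 26, 31, 32, 37, 38]
def hcols : List ℕ := [0, 1, 2, 3, 4, 9, 10, 19, 20, 21, 22, 23, 24, 25, 26, 31, 32]
def G0 : List (List ℕ) := [[25, 26, 25, 26],
 [25, 2, 25, 2],
 [25, 21, 25, 1, 23, 3, 21],
 [25, 22, 25, 0, 1, 3, 22],
 [25, 19, 25, 0, 1, 23, 19],
 [25, 20, 25, 1, 3, 20],
 [25, 3, 25, 3],
 [25, 23, 25, 23],
 [25, 4, 25, 1, 4, 3, 20, 22],
 [25, 24, 25, 0, 1, 24, 23, 19, 22, 21],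
 [25, 1, 25, 1],
 [25, 0, 25, 0],
 [26, 2, 26, 2],
 [26, 21, 26, 0, 23, 21],
 [26, 22, 26, 1, 23, 3, 22],
 [26, 19, 26, 0, 23, 3, 19],
 [26, 20, 26, 0, 1, 23, 20],
 [26, 3, 26, 3],
 [26, 23, 26, 23],
 [26, 4, 26, 1, 4, 3, 20, 19, 22, 21],
 [26, 24, 26, 0, 1, 24, 23, 20, 21],
 [26, 1, 26, 1],
 [26, 0, 26, 0],
 [2, 21, 2, 19],
 [2, 22, 2, 20],
 [2, 19, 2, 21],
 [2, 20, 2, 22],
 [2, 3, 2, 3],
 [2, 23, 2, 23, 3],
 [2, 4, 2, 4],
 [2, 24, 2, 24, 4],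
 [2, 1, 2, 0, 1],
 [2, 0, 2, 0],
 [21, 22, 21, 22],
 [21, 19, 21, 0, 19],
 [21, 20, 21, 1, 20],
 [21, 3, 21, 3],
 [21, 23, 21, 23],
 [21, 4, 21, 4],
 [21, 24, 21, 24],
 [21, 1, 21, 1],
 [21, 0, 21, 0],
 [22, 19, 22, 0, 1, 19],
 [22, 20, 22, 0, 20],
 [22, 3, 22, 3],
 [22, 23, 22, 23],
 [22, 4, 22, 4],
 [22, 24, 22, 24],
 [22, 1, 22, 1],
 [22, 0, 22, 0],
 [19, 20, 19, 20],
 [19, 3, 19, 3],
 [19, 23, 19, 23],
 [19, 4, 19, 4],
 [19, 24, 19, 24],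
 [19, 1, 19, 1],
 [19, 0, 19, 0],
 [20, 3, 20, 3],
 [20, 23, 20, 23],
 [20, 4, 20, 4],
 [20, 24, 20, 24],
 [20, 1, 20, 1],
 [20, 0, 20, 0],
 [3, 23, 3, 23],
 [3, 4, 3, 0, 4],
 [3, 24, 3, 0, 1, 24],
 [3, 1, 3, 1],
 [3, 0, 3, 0],
 [23, 4, 23, 0, 1, 4],
 [23, 24, 23, 1, 24],
 [23, 1, 23, 1],
 [23, 0, 23, 0],
 [4, 24, 4, 24],
 [4, 1, 4, 1],
 [4, 0, 4, 0],
 [24, 1, 24, 1],
 [24, 0, 24, 0],
 [1, 0, 1, 0],
 [9, 25, 10, 26, 25],
 [9, 26, 10, 25],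
 [9, 2, 10, 2],
 [9, 21, 10, 22, 21],
 [9, 22, 10, 21],
 [9, 19, 10, 20, 19],
 [9, 20, 10, 19],
 [9, 3, 10, 3],
 [9, 23, 10, 23],
 [9, 4, 10, 4],
 [9, 24, 10, 24],
 [9, 1, 10, 1],
 [9, 0, 10, 0],
 [9, 9, 9],
 [31, 31, 31],
 [31, 9, 32, 10],
 [31, 25, 32, 0, 1, 23, 19, 22, 21, 25],
 [31, 26, 32, 0, 1, 23, 20, 21, 26],
 [31, 21, 32, 26, 25],
 [31, 22, 32, 25],
 [31, 19, 32, 1, 3, 19, 21, 26, 25],
 [31, 20, 32, 1, 3, 20, 22, 25],
 [31, 3, 32, 0, 1, 3],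
 [31, 23, 32, 0, 1, 23],
 [31, 1, 32, 3],
 [31, 0, 32, 0],
 [31, 2, 32, 0, 4, 2],
 [31, 4, 32, 2],
 [24, 31, 24, 31, 0, 3],
 [37, 25, 38, 25],
 [37, 26, 38, 26],
 [37, 21, 38, 22],
 [37, 22, 38, 22, 21],
 [37, 19, 38, 20, 19],
 [37, 20, 38, 19],
 [37, 3, 38, 23],
 [37, 23, 38, 23, 3],
 [37, 4, 38, 24],
 [37, 24, 38, 24, 4],
 [37, 1, 38, 0, 1],
 [37, 0, 38, 1],
 [37, 37, 37],
 [2, 37, 2, 37],
 [37, 9, 38, 10],
 [37, 31, 37, 31, 37, 31, 37, 31, 37, 31]]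
def R0 : List (List ℕ) := G0
def w0 : List ℕ := [4, 0, 31, 2, 4, 32]
def R1 : List (List ℕ) := R0 ++ [w0]
theorem hii : ∀ c, ivOf ivl (ivOf ivl c) = c := ivOf_ivOf (by decide +kernel)
noncomputable def pr0 : List (ℕ × ℕ) := [(21, (nat_lit 0x700000400000100000700000000010000001000000a00000200000900001200000700034500000700010000000700000100010000002000000700034d))]
theorem p0 : chkProg 6 (ivOf ivl) R0 pr0 [(0, w0)] = true := by decide +kernel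
theorem der : Derives (ivOf ivl) R0 R1 := (Derives.refl _ _).prog hii p0
noncomputable def nl : List Net := [n0, n1, n2, n3, n4, Net.nil, Net.nil, Net.nil, Net.nil, n9, n10, Net.nil, Net.nil, Net.nil, Net.nil, Net.nil, Net.nil, Net.nil, Net.nil, n19, n20, n21, n22, n23, n24, n25, n26, Net.nil, Net.nil, Net.nil, Net.nil, n31, n32, Net.nil, Net.nil, Net.nil, Net.nil, n37, n38]
noncomputable def T : TCData := ⟨45, 45, 6, 5, nth Net.nil nl, ivOf ivl, cols, hcols, R1,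
  nth [] [t0, t1, t2, t3, t4, [], [], [], [], t9, t10, [], [], [], [], [], [], [], [], t19, t20, t21, t22, t23, t24, t25, t26, [], [], [], [], t31, t32, [], [], [], [], t37, t38], nth 0 [d0, d1, d2, d3, d4, 0, 0, 0, 0, d9, d10, 0, 0, 0, 0, 0, 0, 0, 0, d19, d20, d21, d22, d23, d24, d25, d26, 0, 0, 0, 0, d31, d32, 0, 0, 0, 0, d37, d38]⟩
theorem hn : NetsOK 45 (nth Net.nil nl) := netsOK_of_all (by decide +kernel)
theorem hiv : IvOK (sg (nth Net.nil nl)) (ivOf ivl) :=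
  ivOK_of_chk (k := 6) hn (by decide) (n := 49) (by decide) (by decide) (allN_true.1 (by decide +kernel))
theorem hb : T.Basic := TCData.basic_of_chk hn hiv (by decide +kernel)
theorem hG0 : ∀ r ∈ G0, ev (sg (nth Net.nil nl)) r = 1 :=
  rels_of_chk (k := 6) hn (by decide) hiv (allN_true.1 (by decide +kernel))
noncomputable def s0 : List TCData.Step := [.pts 4 3 0 8 [40],
 .all 32 1 0,
 .pts 42 3 0 4 [10],
 .pts 42 3 0 6 [24],
 .pts 42 3 0 10 [37, 44],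
 .pts 74 1 0 5 [13],
 .pts 76 1 0 4 [8],
 .pts 76 1 0 7 [23],
 .pts 76 1 0 9 [41],
 .all 103 1 0,
 .all 103 3 0,
 .pts 117 3 0 4 [11],
 .pts 117 3 0 5 [9],
 .pts 117 3 0 7 [25],
 .all 118 1 0]
noncomputable def s1 : List TCData.Step := [.pts 8 3 0 4 [6],
 .pts 8 3 0 7 [17],
 .all 31 1 0,
 .pts 73 1 0 5 [13],
 .pts 73 1 0 6 [31],
 .pts 75 1 0 4 [8],
 .pts 75 1 0 8 [41],
 .pts 100 4 0 5 [30],
 .pts 100 4 0 6 [16, 21, 27],
 .pts 100 4 0 10 [43],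
 .all 102 1 0,
 .all 117 1 0,
 .all 118 3 0]
noncomputable def s2 : List TCData.Step := [.pts 30 0 0 4 [13],
 .pts 30 2 0 8 [25],
 .pts 30 2 0 17 [41],
 .pts 104 1 0 5 [28],
 .pts 104 1 0 6 [33],
 .pts 104 5 0 13 [35],
 .pts 105 3 0 2 [4],
 .pts 105 3 0 3 [6],
 .pts 105 3 0 5 [20, 30],
 .all 120 0 0,
 .pts 123 3 0 18 [42]]
noncomputable def s3 : List TCData.Step := [.all 27 1 0,
 .pts 64 0 0 5 [13],
 .pts 64 0 0 6 [31],
 .pts 65 0 0 4 [8],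
 .pts 65 0 0 5 [9],
 .pts 65 0 0 7 [23],
 .pts 65 0 0 9 [41],
 .all 100 1 0,
 .all 102 3 0,
 .all 113 1 0,
 .all 114 4 0]
noncomputable def s4 : List TCData.Step := [.pts 29 1 0 2 [2],
 .pts 104 4 0 5 [30],
 .pts 104 4 0 6 [20],
 .all 105 1 0,
 .all 115 1 0,
 .all 116 4 0,
 .pts 123 0 0 3 [6],
 .pts 123 0 0 6 [16, 34],
 .pts 123 0 0 10 [36],
 .pts 123 0 0 17 [43],
 .pts 123 4 0 2 [5],
 .pts 123 4 0 5 [19, 22]]
noncomputable def s9 : List TCData.Step := [.all 93 3 0,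
 .all 121 3 0]
noncomputable def s10 : List TCData.Step := [.pts 80 0 0 5 [19],
 .pts 87 0 0 6 [31],
 .pts 88 0 0 4 [8],
 .pts 88 0 0 5 [29],
 .pts 88 0 0 7 [39, 41],
 .all 93 1 0,
 .all 121 1 0]
noncomputable def s19 : List TCData.Step := [.all 23 3 0,
 .pts 53 0 0 5 [13],
 .pts 53 0 0 6 [31],
 .pts 54 0 0 4 [6, 8],
 .pts 54 0 0 6 [16, 27],
 .all 98 1 0,
 .all 111 1 0,
 .all 112 3 0]
noncomputable def s20 : List TCData.Step := [.all 24 3 0,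
 .pts 59 0 0 5 [9, 13],
 .pts 59 0 0 6 [31],
 .all 60 0 0,
 .pts 83 3 0 5 [11],
 .pts 83 3 0 8 [40],
 .pts 83 3 0 10 [44],
 .pts 84 1 0 9 [41],
 .all 99 1 0,
 .pts 111 3 0 4 [10],
 .pts 111 3 0 6 [24],
 .pts 111 3 0 10 [37],
 .all 112 1 0]
noncomputable def s21 : List TCData.Step := [.all 23 1 0,
 .pts 38 0 0 5 [9, 13],
 .pts 38 0 0 6 [31],
 .all 39 0 0,
 .pts 82 3 0 5 [11],
 .pts 82 3 0 8 [40],
 .pts 82 3 0 10 [44],
 .all 96 1 0,
 .all 109 1 0,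
 .pts 110 4 0 4 [10],
 .pts 110 4 0 6 [24],
 .pts 110 4 0 10 [37]]
noncomputable def s22 : List TCData.Step := [.all 24 1 0,
 .pts 46 0 0 5 [13],
 .pts 46 0 0 6 [31],
 .pts 47 0 0 4 [6, 8],
 .pts 47 0 0 6 [16, 27],
 .pts 47 0 0 8 [41],
 .all 97 1 0,
 .all 109 3 0,
 .all 110 1 0]
noncomputable def s23 : List TCData.Step := [.pts 28 1 0 2 [2],
 .pts 28 1 0 3 [5],
 .pts 28 1 0 5 [19],
 .pts 28 3 0 6 [34],
 .pts 68 0 0 5 [13],
 .pts 68 0 0 6 [31],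
 .pts 69 0 0 4 [6, 8],
 .pts 69 0 0 6 [27],
 .pts 69 0 0 8 [41],
 .all 101 1 0,
 .pts 101 5 0 11 [43],
 .all 113 3 0,
 .all 114 1 0]
noncomputable def s24 : List TCData.Step := [.pts 30 1 0 2 [2],
 .pts 30 3 0 6 [17, 34],
 .pts 72 1 0 5 [13],
 .pts 106 0 0 6 [19],
 .pts 106 0 0 18 [43],
 .all 106 2 0,
 .all 115 3 0,
 .pts 116 1 0 1 [1],
 .pts 116 3 0 11 [36]]
noncomputable def s25 : List TCData.Step := [.all 1 0 0,
 .pts 9 0 0 5 [8],
 .all 94 1 0,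
 .all 97 3 0,
 .all 107 1 0,
 .all 107 3 0]
noncomputable def s26 : List TCData.Step := [.all 12 0 0,
 .pts 20 0 0 5 [8],
 .all 95 1 0,
 .all 96 3 0,
 .all 108 1 0,
 .all 108 3 0]
noncomputable def s31 : List TCData.Step := []
noncomputable def s32 : List TCData.Step := [.all 92 0 0,
 .pts 104 0 0 2 [2],
 .pts 104 0 0 5 [11, 12],
 .pts 105 0 0 1 [17],
 .pts 105 0 0 5 [31],
 .pts 105 0 0 6 [19],
 .pts 106 3 0 12 [25, 35],
 .pts 122 1 0 8 [36],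
 .pts 122 1 0 16 [37, 40],
 .pts 122 1 0 17 [39],
 .pts 122 1 0 19 [44]]
noncomputable def s37 : List TCData.Step := [.pts 116 2 0 4 [8],
 .pts 116 2 0 8 [25]]
noncomputable def s38 : List TCData.Step := [.pts 115 0 0 5 [5],
 .pts 115 0 0 7 [16, 22, 41],
 .pts 115 0 0 15 [31],
 .all 116 0 0,
 .all 119 0 0,
 .pts 120 1 0 1 [2],
 .pts 120 1 0 3 [4],
 .pts 120 1 0 6 [21, 26],
 .pts 122 0 0 2 [15],
 .pts 122 0 0 14 [32, 42]]
theorem hR0 : ∀ r ∈ R0, ev (sg (nth Net.nil nl)) r = 1 := hG0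
theorem col0 : T.ColOK 0 := TCData.colOK_of_chk (U := (T.stepsMask 0 s0 (T.mask0 0))) (V := (T.stepsMask 0 s0 (T.mask0 0))) hb (TCData.cov_stepsMask hb (by decide) s0 _ (T.cov_mask0 0)) (TCData.cov_stepsMask hb (by decide) s0 _ (T.cov_mask0 0)) (by decide +kernel)
theorem col1 : T.ColOK 1 := TCData.colOK_of_chk (U := (T.stepsMask 1 s1 (T.mask0 1))) (V := (T.stepsMask 1 s1 (T.mask0 1))) hb (TCData.cov_stepsMask hb (by decide) s1 _ (T.cov_mask0 1)) (TCData.cov_stepsMask hb (by decide) s1 _ (T.cov_mask0 1)) (by decide +kernel)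
theorem col2 : T.ColOK 2 := TCData.colOK_of_chk (U := (T.stepsMask 2 s2 (T.mask0 2))) (V := (T.stepsMask 2 s2 (T.mask0 2))) hb (TCData.cov_stepsMask hb (by decide) s2 _ (T.cov_mask0 2)) (TCData.cov_stepsMask hb (by decide) s2 _ (T.cov_mask0 2)) (by decide +kernel)
theorem col3 : T.ColOK 3 := TCData.colOK_of_chk (U := (T.stepsMask 3 s3 (T.mask0 3))) (V := (T.stepsMask 3 s3 (T.mask0 3))) hb (TCData.cov_stepsMask hb (by decide) s3 _ (T.cov_mask0 3)) (TCData.cov_stepsMask hb (by decide) s3 _ (T.cov_mask0 3)) (by decide +kernel)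
theorem col4 : T.ColOK 4 := TCData.colOK_of_chk (U := (T.stepsMask 4 s4 (T.mask0 4))) (V := (T.stepsMask 4 s4 (T.mask0 4))) hb (TCData.cov_stepsMask hb (by decide) s4 _ (T.cov_mask0 4)) (TCData.cov_stepsMask hb (by decide) s4 _ (T.cov_mask0 4)) (by decide +kernel)
theorem col9 : T.ColOK 9 := TCData.colOK_of_chk (U := (T.stepsMask 9 s9 (T.mask0 9))) (V := (T.stepsMask 10 s10 (T.mask0 10))) hb (TCData.cov_stepsMask hb (by decide) s9 _ (T.cov_mask0 9)) (TCData.cov_stepsMask hb (by decide) s10 _ (T.cov_mask0 10)) (by decide +kernel)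
theorem col10 : T.ColOK 10 := TCData.colOK_of_chk (U := (T.stepsMask 10 s10 (T.mask0 10))) (V := (T.stepsMask 9 s9 (T.mask0 9))) hb (TCData.cov_stepsMask hb (by decide) s10 _ (T.cov_mask0 10)) (TCData.cov_stepsMask hb (by decide) s9 _ (T.cov_mask0 9)) (by decide +kernel)
theorem col19 : T.ColOK 19 := TCData.colOK_of_chk (U := (T.stepsMask 19 s19 (T.mask0 19))) (V := (T.stepsMask 19 s19 (T.mask0 19))) hb (TCData.cov_stepsMask hb (by decide) s19 _ (T.cov_mask0 19)) (TCData.cov_stepsMask hb (by decide) s19 _ (T.cov_mask0 19)) (by decide +kernel)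
theorem col20 : T.ColOK 20 := TCData.colOK_of_chk (U := (T.stepsMask 20 s20 (T.mask0 20))) (V := (T.stepsMask 20 s20 (T.mask0 20))) hb (TCData.cov_stepsMask hb (by decide) s20 _ (T.cov_mask0 20)) (TCData.cov_stepsMask hb (by decide) s20 _ (T.cov_mask0 20)) (by decide +kernel)
theorem col21 : T.ColOK 21 := TCData.colOK_of_chk (U := (T.stepsMask 21 s21 (T.mask0 21))) (V := (T.stepsMask 21 s21 (T.mask0 21))) hb (TCData.cov_stepsMask hb (by decide) s21 _ (T.cov_mask0 21)) (TCData.cov_stepsMask hb (by decide) s21 _ (T.cov_mask0 21)) (by decide +kernel)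
theorem col22 : T.ColOK 22 := TCData.colOK_of_chk (U := (T.stepsMask 22 s22 (T.mask0 22))) (V := (T.stepsMask 22 s22 (T.mask0 22))) hb (TCData.cov_stepsMask hb (by decide) s22 _ (T.cov_mask0 22)) (TCData.cov_stepsMask hb (by decide) s22 _ (T.cov_mask0 22)) (by decide +kernel)
theorem col23 : T.ColOK 23 := TCData.colOK_of_chk (U := (T.stepsMask 23 s23 (T.mask0 23))) (V := (T.stepsMask 23 s23 (T.mask0 23))) hb (TCData.cov_stepsMask hb (by decide) s23 _ (T.cov_mask0 23)) (TCData.cov_stepsMask hb (by decide) s23 _ (T.cov_mask0 23)) (by decide +kernel)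
theorem col24 : T.ColOK 24 := TCData.colOK_of_chk (U := (T.stepsMask 24 s24 (T.mask0 24))) (V := (T.stepsMask 24 s24 (T.mask0 24))) hb (TCData.cov_stepsMask hb (by decide) s24 _ (T.cov_mask0 24)) (TCData.cov_stepsMask hb (by decide) s24 _ (T.cov_mask0 24)) (by decide +kernel)
theorem col25 : T.ColOK 25 := TCData.colOK_of_chk (U := (T.stepsMask 25 s25 (T.mask0 25))) (V := (T.stepsMask 25 s25 (T.mask0 25))) hb (TCData.cov_stepsMask hb (by decide) s25 _ (T.cov_mask0 25)) (TCData.cov_stepsMask hb (by decide) s25 _ (T.cov_mask0 25)) (by decide +kernel)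
theorem col26 : T.ColOK 26 := TCData.colOK_of_chk (U := (T.stepsMask 26 s26 (T.mask0 26))) (V := (T.stepsMask 26 s26 (T.mask0 26))) hb (TCData.cov_stepsMask hb (by decide) s26 _ (T.cov_mask0 26)) (TCData.cov_stepsMask hb (by decide) s26 _ (T.cov_mask0 26)) (by decide +kernel)
theorem col31 : T.ColOK 31 := TCData.colOK_of_chk (U := (T.stepsMask 31 s31 (T.mask0 31))) (V := (T.stepsMask 32 s32 (T.mask0 32))) hb (TCData.cov_stepsMask hb (by decide) s31 _ (T.cov_mask0 31)) (TCData.cov_stepsMask hb (by decide) s32 _ (T.cov_mask0 32)) (by decide +kernel)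
theorem col32 : T.ColOK 32 := TCData.colOK_of_chk (U := (T.stepsMask 32 s32 (T.mask0 32))) (V := (T.stepsMask 31 s31 (T.mask0 31))) hb (TCData.cov_stepsMask hb (by decide) s32 _ (T.cov_mask0 32)) (TCData.cov_stepsMask hb (by decide) s31 _ (T.cov_mask0 31)) (by decide +kernel)
theorem col37 : T.ColOK 37 := TCData.colOK_of_chk (U := (T.stepsMask 37 s37 (T.mask0 37))) (V := (T.stepsMask 38 s38 (T.mask0 38))) hb (TCData.cov_stepsMask hb (by decide) s37 _ (T.cov_mask0 37)) (TCData.cov_stepsMask hb (by decide) s38 _ (T.cov_mask0 38)) (by decide +kernel)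
theorem col38 : T.ColOK 38 := TCData.colOK_of_chk (U := (T.stepsMask 38 s38 (T.mask0 38))) (V := (T.stepsMask 37 s37 (T.mask0 37))) hb (TCData.cov_stepsMask hb (by decide) s38 _ (T.cov_mask0 38)) (TCData.cov_stepsMask hb (by decide) s37 _ (T.cov_mask0 37)) (by decide +kernel)
theorem ok : T.OK := ⟨hb, TCData.treeOK_of_chk hn (by decide +kernel), (List.forall_mem_cons.2 ⟨col0, (List.forall_mem_cons.2 ⟨col1, (List.forall_mem_cons.2 ⟨col2, (List.forall_mem_cons.2 ⟨col3, (List.forall_mem_cons.2 ⟨col4, (List.forall_mem_cons.2 ⟨col9, (List.forall_mem_cons.2 ⟨col10, (List.forall_mem_cons.2 ⟨col19, (List.forall_mem_cons.2 ⟨col20, (List.forall_mem_cons.2 ⟨col21, (List.forall_mem_cons.2 ⟨col22, (List.forall_mem_cons.2 ⟨col23, (List.forall_mem_cons.2 ⟨col24, (List.forall_mem_cons.2 ⟨col25, (List.forall_mem_cons.2 ⟨col26, (List.forall_mem_cons.2 ⟨col31, (List.forall_mem_cons.2 ⟨col32,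 (List.forall_mem_cons.2 ⟨col37, (List.forall_mem_cons.2 ⟨col38, (fun _ h => absurd h List.not_mem_nil)⟩)⟩)⟩)⟩)⟩)⟩)⟩)⟩)⟩)⟩)⟩)⟩)⟩)⟩)⟩)⟩)⟩)⟩)⟩), der _ _ hiv hR0⟩
theorem bd {G : Type} [Group G] {e : ℕ → G} (h1 : IvOK e (ivOf ivl)) (h2 : ∀ r ∈ R0, ev e r = 1)
    {m : ℕ} (h : Bd (gen e hcols) m) : Bd (gen e cols) (45 * m) := ok.bd h1 (der G e h1 h2) h
theorem cm {G : Type} [Group G] {e : ℕ → G} (h1 : IvOK e (ivOf ivl)) (h2 : ∀ r ∈ R0, ev e r = 1)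
    (h3 : gen e cols = ⊤) {ρ : G →* Equiv.Perm ℕ} (h4 : ∀ c, ρ (e c) = sg (nth Net.nil nl) c) :
    CosetModel ρ (gen e hcols) 45 := ok.cosetModel h1 (der G e h1 h2) h3 fun c _ => h4 c

end H15.SzD
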