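import Mathlib
import Cfsg.Agent.H15.KM3

/-!
# Transfer along several overlapping sets of letters
-/

set_option autoImplicit false
set_option linter.unusedSectionVars false

namespace H15.KM

open H29 H24 Subgroup

section

variable {G : Type*} [Group G] {S : Type*} [Group S]
variable {run : List ℕ → ℕ} {iv : ℕ → ℕ} {m : ℕ → S} {e : ℕ → G} {L : ℕ}

theorem gr_of_sat {T : TCData} (h : Sat T (pr m e)) {reps : List (List ℕ)}
    (hc : chkReps T reps = true) {K : Subgroup S} (h1 : gen m T.hcols ≤ K)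
    (hg : Gr (gen (pr m e) T.hcols)) (h2 : ∀ i < T.N, i ≠ 0 → ev m (nth [] reps i) ∈ K →
      ev (pr m e) (nth [] reps i) ∈ gen (pr m e) T.hcols) : Gr (gen (pr m e) T.cols) :=
  fun d hd h3 => hg d (h.tight hc (K := K.comap (MonoidHom.fst S G)) (fun _ hx => h1 (fst_mem hx))
    (fun i a1 a2 a3 => h2 i a1 a2 (by simpa using a3)) hd (by simp [h3])) h3

theorem exists_ev (hi : IvOK e iv) {l : List ℕ} {g : G} (hg : g ∈ gen e l) : ∃ w, ev e w = g := by
  induction hg using Subgroup.closure_induction with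
  | mem x hx => obtain ⟨c, -, rfl⟩ := hx; exact ⟨[c], by simp⟩
  | one => exact ⟨[], rfl⟩
  | mul x y _ _ hx hy =>
    obtain ⟨u, rfl⟩ := hx
    obtain ⟨v, rfl⟩ := hy
    exact ⟨u ++ v, by simp⟩
  | inv x _ hx => obtain ⟨u, rfl⟩ := hx; exact ⟨_, ev_invW hi u⟩

theorem Iso.gr (h1 : Iso run m) (h2 : Iso run e) (hi : IvOK m iv) (l : List ℕ) :
    Gr (gen (pr m e) l) ∧ CoGr (gen (pr m e) l) := by
  constructor <;> intro d hd h3 <;> obtain ⟨w, rfl⟩ := exists_ev (ivOK_pr hi (h2.ivOK h1 hi)) hd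
  · simpa using (h2 w []).1 ((h1 w []).2 (by simpa using h3))
  · simpa using (h1 w []).1 ((h2 w []).2 (by simpa using h3))

theorem Iso.trM' {run' : List ℕ → ℕ} {m' : ℕ → S} {e' : ℕ → G} (hm : Iso run m) (hm' : Iso run' m')
    (he : Iso run' e') (h : ∀ c, L.testBit c = true → m' c = m c ∧ e' c = e c) : TrM run L e := by
  intro u v hu hv h1
  rw [okW_true] at hu hv
  rw [← ev_congr fun c hc => (h c (hu c hc)).2, ← ev_congr fun c hc => (h c (hv c hc)).2, ← he, hm',
    ev_congr fun c hc => (h c (hu c hc)).1, ev_congr fun c hc => (h c (hv c hc)).1, ← hm, h1]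

theorem TrM.mem (h : TrM run L e) {l w : List ℕ} (h1 : okW L l = true) (h2 : okW L w = true)
    (h3 : inP run l w = true) : ev e w ∈ gen e l := by
  obtain ⟨n, -, h4⟩ := inP_true.1 h3
  rw [← h _ _ (okW_true.2 fun c hc => okW_true.1 h1 c (mem_mw l n c hc)) h2 h4]
  exact ev_mem_gen (mem_mw l n)

noncomputable def chkM (run : List ℕ → ℕ) (L : ℕ) (l w : List ℕ) : Bool :=
  and2 (okW L l) (and2 (okW L w) (inP run l w))

theorem TrM.mem' (h : TrM run L e) {l w : List ℕ} (hc : chkM run L l w = true) :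
    ev e w ∈ gen e l := by
  simp only [chkM, and2_true] at hc
  exact h.mem hc.1 hc.2.1 hc.2.2

/-- The letters `cs` normalise the group of the list `l`. -/
noncomputable def chkNL (run : List ℕ → ℕ) (L : ℕ) (iv : ℕ → ℕ) (cs l : List ℕ) : Bool :=
  and2 (okW L l) (and2 (allL cs fun c => chkE run L [c, iv c] []) (chkN run iv cs l))

theorem TrM.norm [Finite G] (h : TrM run L e) {cs l : List ℕ} (hc : chkNL run L iv cs l = true) :
    gen e cs ≤ N[gen e l] := by
  simp only [chkNL, chkN, frc_eq, inV_vals, allL_true, and2_true] at hc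
  refine gen_le.2 fun c h1 => mem_N_of_finite fun x hx => conj_mem_gen (fun d hd => ?_) hx
  have a1 := h.eq (hc.2.1 c h1)
  have a2 := hc.2.1 c h1
  simp only [chkE, and2_true, okW_true, List.forall_mem_cons] at a2
  have := h.mem hc.1 (okW_true.2 (by
    simpa using ⟨a2.1.1, okW_true.1 hc.1 d hd, a2.1.2.1⟩)) (hc.2.2 c h1 d hd)
  rwa [ev_cons, ev_cons, ev_cons, ev_nil, mul_one, ← mul_assoc,
    show e (iv c) = (e c)⁻¹ from eq_inv_of_mul_eq_one_right (by simpa using a1)] at this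

/-- The letters `cs` commute with the word `v`. -/
noncomputable def chkCL (run : List ℕ → ℕ) (L : ℕ) (cs v : List ℕ) : Bool :=
  allL cs fun c => chkE run L (c :: v) (app v [c])

theorem TrM.cent (h : TrM run L e) {cs v : List ℕ} (hc : chkCL run L cs v = true) :
    gen e cs ≤ C{ev e v} := gen_le.2 fun c h1 => mem_C1.2 (by
  simpa using h.eq (allL_true.1 hc c h1))

theorem TrM.cent1 (h : TrM run L e) {c d : ℕ} (hc : chkE run L [c, d] [d, c] = true) :
    e c ∈ C{e d} := mem_C1.2 (by simpa using h.eq hc)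

theorem TrM.inv (h : TrM run L e) {c d : ℕ} (hc : chkE run L [c, d] [] = true) : e d = (e c)⁻¹ :=
  eq_inv_of_mul_eq_one_right (by simpa using h.eq hc)

theorem Iso.cent1 (h : Iso run e) {c d : ℕ} (hc : KM.eqW run [c, d] [d, c] = true) :
    e c ∈ C{e d} := mem_C1.2 (by simpa using h.eqW.1 hc)

/-- An element acting without fixed points in the model does so in `G`. -/
theorem kill {D : Subgroup (S × G)} (h1 : Gr D) (h2 : CoGr D) {w : S × G} (hw : w ∈ N[D])
    (h0 : ∀ a ∈ D.map (MonoidHom.fst S G), a ∈ C{w.1} → a = 1) {y : G}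
    (hy : y ∈ D.map (MonoidHom.snd S G)) (hc : y ∈ C{w.2}) : y = 1 := by
  obtain ⟨d, hd, rfl⟩ := hy
  have a1 := h2.eq (conj_mem hw hd) hd (mem_C1_iff_conj.1 (mem_C1_comm.1 hc))
  exact h1 d hd (h0 _ (mem_map_of_mem _ hd)
    (mem_C1_comm.1 (mem_C1_iff_conj.2 (congrArg Prod.fst a1))))

theorem Iso.fpf (h : Iso run e) (hi : IvOK e iv) {l w : List ℕ} (hl : chkPC run iv l = true)
    (hc : allP iv l (fun x _ => imp2 (KM.eqW run (app x w) (app w x)) (KM.eqW run x [])) = true)
    {a : G} (ha : a ∈ gen e l) (h1 : a ∈ C{ev e w}) : a = 1 := by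
  obtain ⟨x, -, a0, -, -, a2⟩ := (h.pc hi hl).allP hi hc ha
  simp only [imp2_true, h.eqW, app_eq, ev_append, a0, ev_nil] at a2
  exact a2 (mem_C1.1 h1)

theorem PC.congr {e' : ℕ → G} : ∀ {l : List ℕ}, PC e l → (∀ c ∈ l, e c = e' c) → PC e' l
  | [], _, _ => trivial
  | c :: l, h, h1 => by
    have h2 := fun d hd => h1 d (List.mem_cons_of_mem _ hd)
    refine ⟨h.1.congr h2, ?_⟩
    rw [← gen_congr h2, ← h1 c List.mem_cons_self]
    exact ⟨h.2.1, h.2.2.1, fun d hd => h2 d hd ▸ h.2.2.2 d hd⟩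

/-- All members of the group of the list `l` pass a test. -/
noncomputable def allQ (l : List ℕ) (f : List ℕ → Bool) : Bool :=
  allN (Nat.pow 2 (lenL l)) fun n => lit n fun n => frc (mw l n) f

theorem PC.allQ {l : List ℕ} (hl : PC e l) {f : List ℕ → Bool} (hc : allQ l f = true) {g : G}
    (hg : g ∈ gen e l) : ∃ x, ev e x = g ∧ f x = true := by
  obtain ⟨n, h1, rfl⟩ := hl.cover hg
  have := allN_true.1 hc n (by rwa [lenL_eq])
  simp only [lit_eq, frc_eq] at this
  exact ⟨_, rfl, this⟩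

theorem TrM.ap {D : Subgroup G} (f : D →* S) (h : TrM run L e) {L' : ℕ} (h1 : sub L' L = true)
    (h2 : ∀ c, L'.testBit c = true → e c ∈ D) : TrM run L' fun c => ap f (e c) := by
  intro u v hu hv huv
  rw [okW_true] at hu hv
  rw [ev_ap f fun c hc => h2 c (hu c hc), ev_ap f fun c hc => h2 c (hv c hc),
    h u v (okW_true.2 fun c hc => sub_true h1 (hu c hc)) (okW_true.2 fun c hc => sub_true h1 (hv c hc))
      huv]

/-- Transport of the identities along conjugation by `t`. -/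
theorem TrM.conj (h : TrM run L e) (hm : Iso run m) (t : S × G) {L' : ℕ} (σ : ℕ → List ℕ)
    (hσ : ∀ c, L'.testBit c = true → okW L (σ c) = true ∧ pr m e c = t * ev (pr m e) (σ c) * t⁻¹) :
    TrM run L' e := by
  have key : ∀ w : List ℕ, (∀ c ∈ w, L'.testBit c = true) → okW L (w.flatMap σ) = true ∧
      ev (pr m e) w = t * ev (pr m e) (w.flatMap σ) * t⁻¹ := fun w hw => by
    induction w with
    | nil => simp [okW_true]
    | cons c w ih =>
      obtain ⟨a1, a2⟩ := ih fun y hy => hw y (List.mem_cons_of_mem _ hy)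
      obtain ⟨a3, a4⟩ := hσ c (hw c List.mem_cons_self)
      rw [List.flatMap_cons, ev_cons, ev_append, a2, a4, okW_true, List.forall_mem_append]
      exact ⟨⟨okW_true.1 a3, okW_true.1 a1⟩, by group⟩
  intro u v hu hv huv
  obtain ⟨a1, a2⟩ := key u (okW_true.1 hu)
  obtain ⟨a3, a4⟩ := key v (okW_true.1 hv)
  have b1 := congrArg Prod.fst a2
  have b2 := congrArg Prod.fst a4
  have b3 := congrArg Prod.snd a2
  have b4 := congrArg Prod.snd a4
  simp only [ev_pr_fst, ev_pr_snd, Prod.fst_mul, Prod.snd_mul, Prod.fst_inv, Prod.snd_inv]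
    at b1 b2 b3 b4
  rw [b3, b4, h _ _ a1 a3 ((hm _ _).2 (by simpa [b1, b2] using (hm u v).1 huv))]

/-- A simple subgroup of a product meets both factors trivially. -/
theorem gr_of_simple {D : Subgroup (S × G)} [IsSimpleGroup D] {d : S × G} (hd : d ∈ D)
    (h1 : d.1 ≠ 1) (h2 : d.2 ≠ 1) : Gr D ∧ CoGr D := by
  constructor <;> intro x hx h
  · rcases IsSimpleGroup.eq_bot_or_eq_top_of_normal
      ((MonoidHom.fst S G).comp D.subtype).ker inferInstance with a | a
    · simpa using congrArg (fun y : D => y.1.2) (mem_bot.1 (a ▸ h : (⟨x, hx⟩ : D) ∈ ⊥))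
    · exact absurd (show (⟨d, hd⟩ : D) ∈ ((MonoidHom.fst S G).comp D.subtype).ker from
        a ▸ mem_top _) h1
  · rcases IsSimpleGroup.eq_bot_or_eq_top_of_normal
      ((MonoidHom.snd S G).comp D.subtype).ker inferInstance with a | a
    · simpa using congrArg (fun y : D => y.1.1) (mem_bot.1 (a ▸ h : (⟨x, hx⟩ : D) ∈ ⊥))
    · exact absurd (show (⟨d, hd⟩ : D) ∈ ((MonoidHom.snd S G).comp D.subtype).ker from
        a ▸ mem_top _) h2

end

end H15.KM
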