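import Mathlib
import Cfsg.Agent.H15.KM2
import Cfsg.Agent.H15.SzT
import Cfsg.Agent.H29.Suz

/-!
# The permutation model of the Suzuki group
-/

set_option autoImplicit false
set_option maxRecDepth 100000
set_option Elab.async false

namespace H15.Sz

open H29 H24 Subgroup KM

abbrev S : Type := H29.Suz.P.G

instance : Finite S := H29.Suz.bd.1

noncomputable def M : ℕ → S := slp Suz.P.e defs0
theorem hs0 : chkSlp defs0 = true := by decide +kernel
noncomputable def tabs0 : ℕ → ℕ := nth idT tl0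

theorem lt0 : ∀ g, ∀ i < 1782, Suz.ρ g i < 1782 := Suz.cm.lt

theorem tab_id : chkTab 1782 tabs0 idT [] = true := by decide +kernel

theorem tab_gen : (allN 7 fun c => lit c fun c => lit (tabs0 c) fun T => allN 1782 fun i =>
    lit i fun i => chkPt (nth Net.nil Suz1.nl) [c] i (look T i)) = true := by decide +kernel

theorem tab_der : (allN 50 fun c => lit c fun c => or2 (eqL (nth [] defs0 c) [c])
    (chkTab 1782 tabs0 (tabs0 c) (nth [] defs0 c))) = true := by decide +kernel

theorem base_lt (c : ℕ) (h : nth [] defs0 c = [c]) : c < 7 := by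
  by_cases hc : c < 50
  · exact (by decide +kernel : ∀ c < 50, nth [] defs0 c = [c] → c < 7) c hc h
  · rw [nth_default _ (show defs0.length ≤ c from not_lt.1 hc)] at h; simp at h

theorem tab0 (c : ℕ) : TabOK Suz.ρ 1782 (M c) (tabs0 c) := by
  refine tabOK_slp lt0 hs0 (slp_def _ hs0) (fun c h i hi => ?_) (fun c => ?_) c
  · have := tab_gen
    simp only [allN_true, lit_eq] at this
    rw [slp_base _ h, ← Suz.hiv0 c, show ivOf [] c = c from rfl, Suz.hρ,
      ← pt_of_chk Suz1.hn (this c (base_lt c h) i hi)]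
    simp
  · by_cases hc : c < 50
    · have := tab_der
      simp only [allN_true, lit_eq, or2_true] at this
      exact (this c hc).imp eqL_true id
    · rw [nth_default _ (show defs0.length ≤ c from not_lt.1 hc), tabs0,
        nth_default _ (show tl0.length ≤ c from not_lt.1 hc)]
      exact .inr tab_id

theorem tab_one : TabOK Suz.ρ 1782 1 idT := tabOK_of_chk (m := M) lt0 (by simp) tab_id

theorem base (g : S) (h0 : Suz.ρ g 0 = 0) (h1 : Suz.ρ g 1 = 1) (h2 : Suz.ρ g 1711 = 1711)
    (h3 : Suz.ρ g 1544 = 1544) : g = 1 := by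
  let F := stab Suz.ρ 0 ⊓ stab Suz.ρ 1 ⊓ stab Suz.ρ 1711 ⊓ stab Suz.ρ 1544
  have := card_mul_le_chain SuzX.hn F _ _ (fun c _ => SuzX.map Suz.hρ c) (by
    simp only [List.forall_mem_cons]
    exact ⟨fun _ h => h.1.1.1, fun _ h => h.1.1.2, fun _ h => h.1.2, fun _ h => h.2, by simp⟩) SuzX.ch
  have h4 := this.trans ((Subgroup.card_le_card_group _).trans Suz.card.1.le)
  have h5 : Nat.card F ≤ 1 := by
    simp only [List.map_cons, List.map_nil, List.prod_cons, List.prod_nil] at h4
    omega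
  exact mem_bot.1 (Subgroup.eq_bot_of_card_le F h5 ▸ (⟨⟨⟨h0, h1⟩, h2⟩, h3⟩ : g ∈ F))

/-- the letters of the model -/
noncomputable def m (c : ℕ) : S := M (nth 99 pl c)

/-- only the letters in the centraliser -/
noncomputable def tr {G : Type*} [Group G] (e : ℕ → G) (c : ℕ) : G := if c < 37 then e c else 1

theorem tr_lt {G : Type*} [Group G] (e : ℕ → G) {c : ℕ} (h : c < 37) : tr e c = e c := if_pos h
theorem tr_ge {G : Type*} [Group G] (e : ℕ → G) {c : ℕ} (h : 37 ≤ c) : tr e c = 1 :=
  if_neg (not_lt.2 h)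

noncomputable def run (w : List ℕ) : ℕ := run4 (nth idT tl) w 0 1 1711 1544
noncomputable def runH (w : List ℕ) : ℕ := run4 (nth idT tlH) w 0 1 1711 1544

theorem M_99 : M 99 = 1 := slp_def _ hs0 99

theorem m_ge {c : ℕ} (h : 49 ≤ c) : m c = 1 := by
  rw [m, nth_default _ (show pl.length ≤ c from h), M_99]

theorem tab1 (c : ℕ) : TabOK Suz.ρ 1782 (m c) (nth idT tl c) := by
  by_cases hc : c < 49
  · have : (allN 49 fun c => Nat.beq (nth idT tl c) (tabs0 (nth 99 pl c))) = true := by
      decide +kernel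
    rw [H29.beq_true.1 (allN_true.1 this c hc)]
    exact tab0 _
  · rw [m_ge (not_lt.1 hc), nth_default _ (show tl.length ≤ c from not_lt.1 hc)]
    exact tab_one

theorem tabH (c : ℕ) : TabOK Suz.ρ 1782 (tr m c) (nth idT tlH c) := by
  by_cases hc : c < 37
  · have : (allN 37 fun c => Nat.beq (nth idT tlH c) (nth idT tl c)) = true := by decide +kernel
    rw [H29.beq_true.1 (allN_true.1 this c hc), tr_lt _ hc]
    exact tab1 _
  · rw [tr_ge _ (not_lt.1 hc), nth_default _ (show tlH.length ≤ c from not_lt.1 hc)]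
    exact tab_one

theorem iso : Iso run m :=
  iso_run4 lt0 (by norm_num) (by norm_num) (by norm_num) (by norm_num) (by norm_num) base tab1

theorem isoH : Iso runH (tr m) :=
  iso_run4 lt0 (by norm_num) (by norm_num) (by norm_num) (by norm_num) (by norm_num) base tabH

def ivl : List ℕ := [0, 1, 2, 3, 4, 6, 5, 8, 7, 10, 9, 12, 11, 14, 13, 16, 15, 18, 17, 19, 20, 21, 22, 23, 24, 25, 26, 28, 27, 29, 30, 32, 31, 33, 34, 35, 36, 38, 37, 40, 39, 41, 42, 43, 44, 45, 46, 47, 48]
noncomputable abbrev iv : ℕ → ℕ := ivOf ivl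
def defs : List (List ℕ) := [[0], [1], [2], [3], [4], [5], [6], [7], [8], [9], [10], [11], [12], [13], [14], [15], [16], [17], [18], [12, 13, 15, 12, 14, 5], [10, 19, 9], [2, 19, 2], [2, 20, 2], [9, 12, 9, 14, 16, 10, 13, 12, 15, 13], [9, 12, 9, 14, 16, 10, 13, 12, 16], [9, 11], [11, 9], [9, 13, 9, 13, 9, 13, 9, 13, 9, 13, 9, 13], [14, 10, 14, 10, 14, 10, 14, 10, 14, 10, 14, 10], [2, 11, 13], [16, 10, 13, 12, 16, 18, 12, 16, 9, 18, 15, 0], [12, 14, 9, 16, 17, 14, 9, 16, 9, 17, 15, 7], [8, 16, 18, 10, 15, 10, 13, 18, 15, 10, 13, 11], [3, 1], [4, 1], [11, 15, 3, 4], [11, 15, 1, 0], [37], [38], [37, 10], [9, 38], [32, 38, 32, 24, 2, 3, 23], [29, 41, 29], [40, 41, 34, 39, 41, 34], [39, 41, 34, 40, 41, 34], [29, 44, 29], [37, 2, 1, 0], [38, 2, 23, 24, 0], [40, 41, 42, 41]]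
theorem hs : chkSlp defs = true := by decide +kernel

theorem ivm : IvOK m iv := fun c => by
  by_cases hc : c < 49
  · have : (allN 49 fun c => eqW run [c, iv c] []) = true := by decide +kernel
    have := iso.eqW.1 (allN_true.1 this c hc)
    exact eq_inv_of_mul_eq_one_right (by simpa using this)
  · rw [iv, ivOf, nth_default _ (show ivl.length ≤ c from not_lt.1 hc), m_ge (not_lt.1 hc), inv_one]

theorem iv_lt (c : ℕ) : iv c < 37 ↔ c < 37 := by
  by_cases hc : c < 49
  · revert c; decide +kernel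
  · rw [iv, ivOf, nth_default _ (show ivl.length ≤ c from not_lt.1 hc)]

theorem ivH : IvOK (tr m) iv := fun c => by
  by_cases hc : c < 37
  · rw [tr_lt _ hc, tr_lt _ ((iv_lt c).2 hc), ivm]
  · rw [tr_ge _ (not_lt.1 hc), tr_ge _ (not_lt.1 fun h => hc ((iv_lt c).1 h)), inv_one]

theorem defm : Def m defs := fun c => by
  by_cases hc : c < 49
  · have : (allN 49 fun c => eqW run [c] (nth [] defs c)) = true := by decide +kernel
    simpa using iso.eqW.1 (allN_true.1 this c hc)
  · rw [nth_default _ (show defs.length ≤ c from not_lt.1 hc), m_ge (not_lt.1 hc)]; rfl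

/-- the generators of the presentation -/
def gl : List ℕ := [0, 48, 1, 30, 19, 3, 4]

theorem m_gl (c : ℕ) (h : c < 7) : m (nth 99 gl c) = Suz.P.e c := by
  have : nth 99 pl (nth 99 gl c) = c ∧ nth [] defs0 c = [c] := by revert c; decide +kernel
  rw [m, this.1, M, slp_base _ this.2]

end H15.Sz
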