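import Mathlib
import Cfsg.Agent.H29.Ext

set_option autoImplicit false
set_option maxRecDepth 100000
set_option Elab.async false
set_option linter.all false

namespace H15.SzH

open H29

noncomputable def n0 : Net := ben 5 [(nat_lit 0x0),
 (nat_lit 0x0),
 (nat_lit 0x0),
 (nat_lit 0x0),
 (nat_lit 0x0)]
noncomputable def t0 : List ℕ := [(nat_lit 0x1c55d4a),
 (nat_lit 0x3a9e04c),
 (nat_lit 0x481ffb0),
 (nat_lit 0x77e0000),
 (nat_lit 0x0),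
 (nat_lit 0x0)]
noncomputable def d0 : ℕ := (nat_lit 0x0)
noncomputable def n1 : Net := ben 5 [(nat_lit 0x0),
 (nat_lit 0x0),
 (nat_lit 0x0),
 (nat_lit 0x0),
 (nat_lit 0x0)]
noncomputable def t1 : List ℕ := [(nat_lit 0x1c55d4a),
 (nat_lit 0x686e04c),
 (nat_lit 0x7f8ffb0),
 (nat_lit 0x77f0000),
 (nat_lit 0x0),
 (nat_lit 0x0)]
noncomputable def d1 : ℕ := (nat_lit 0x0)
noncomputable def n2 : Net := ben 5 [(nat_lit 0x0),
 (nat_lit 0x0),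
 (nat_lit 0x0),
 (nat_lit 0x0),
 (nat_lit 0x0)]
noncomputable def t2 : List ℕ := [(nat_lit 0x1455872),
 (nat_lit 0x616e044),
 (nat_lit 0x248bab8),
 (nat_lit 0x2df4500),
 (nat_lit 0x5200000),
 (nat_lit 0x0)]
noncomputable def d2 : ℕ := (nat_lit 0x0)
noncomputable def n3 : Net := ben 5 [(nat_lit 0x0),
 (nat_lit 0x0),
 (nat_lit 0x0),
 (nat_lit 0x0),
 (nat_lit 0x0)]
noncomputable def t3 : List ℕ := [(nat_lit 0x612a872),
 (nat_lit 0x7c39544),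
 (nat_lit 0x7549fb8),
 (nat_lit 0x7d76000),
 (nat_lit 0x280000),
 (nat_lit 0x0)]
noncomputable def d3 : ℕ := (nat_lit 0x0)
noncomputable def n4 : Net := ben 5 [(nat_lit 0x0),
 (nat_lit 0x0),
 (nat_lit 0x0),
 (nat_lit 0x0),
 (nat_lit 0x0)]
noncomputable def t4 : List ℕ := [(nat_lit 0x13e15f2),
 (nat_lit 0x6c4e5c4),
 (nat_lit 0x64b7b8),
 (nat_lit 0xf74800),
 (nat_lit 0x7080000),
 (nat_lit 0x0)]
noncomputable def d4 : ℕ := (nat_lit 0x0)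
noncomputable def n5 : Net := ben 5 [(nat_lit 0x0),
 (nat_lit 0x0),
 (nat_lit 0x0),
 (nat_lit 0x0),
 (nat_lit 0x0)]
noncomputable def t5 : List ℕ := [(nat_lit 0x514a2fa),
 (nat_lit 0x16abd4c),
 (nat_lit 0x12cbfb0),
 (nat_lit 0x1ff4000),
 (nat_lit 0x6000000),
 (nat_lit 0x0)]
noncomputable def d5 : ℕ := (nat_lit 0x0)
noncomputable def n6 : Net := n5.rev
noncomputable def t6 : List ℕ := mapPull n6 t5
noncomputable def d6 : ℕ := (nat_lit 0x0)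
noncomputable def n7 : Net := ben 5 [(nat_lit 0x0),
 (nat_lit 0x0),
 (nat_lit 0x0),
 (nat_lit 0x0),
 (nat_lit 0x0)]
noncomputable def t7 : List ℕ := [(nat_lit 0x22acd52),
 (nat_lit 0xf49dc4),
 (nat_lit 0x649fb8),
 (nat_lit 0xf76000),
 (nat_lit 0x7080000),
 (nat_lit 0x0)]
noncomputable def d7 : ℕ := (nat_lit 0x0)
noncomputable def n8 : Net := n7.rev
noncomputable def t8 : List ℕ := mapPull n8 t7
noncomputable def d8 : ℕ := (nat_lit 0x0)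
noncomputable def n9 : Net := ben 5 [(nat_lit 0x10d1760),
 (nat_lit 0x10227a0),
 (nat_lit 0x4408),
 (nat_lit 0x40),
 (nat_lit 0x0)]
noncomputable def t9 : List ℕ := [(nat_lit 0x23c648e),
 (nat_lit 0x4327582),
 (nat_lit 0x6467084),
 (nat_lit 0x6787f00),
 (nat_lit 0x6fe0000),
 (nat_lit 0x0)]
noncomputable def d9 : ℕ := (nat_lit 0x8030)
noncomputable def n10 : Net := n9.rev
noncomputable def t10 : List ℕ := mapPull n10 t9
noncomputable def d10 : ℕ := (nat_lit 0x4020200)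
noncomputable def n11 : Net := ben 5 [(nat_lit 0x104d744),
 (nat_lit 0x5022b50),
 (nat_lit 0x448804),
 (nat_lit 0x40080),
 (nat_lit 0x0)]
noncomputable def t11 : List ℕ := [(nat_lit 0x5884510),
 (nat_lit 0x5b82916),
 (nat_lit 0x689711c),
 (nat_lit 0x7b47ca0),
 (nat_lit 0x73d8000),
 (nat_lit 0x0)]
noncomputable def d11 : ℕ := (nat_lit 0x0)
noncomputable def n12 : Net := n11.rev
noncomputable def t12 : List ℕ := mapPull n12 t11
noncomputable def d12 : ℕ := (nat_lit 0x2040880)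
noncomputable def n13 : Net := ben 5 [(nat_lit 0x341b08),
 (nat_lit 0xb06302),
 (nat_lit 0x190e00),
 (nat_lit 0x10080),
 (nat_lit 0x0)]
noncomputable def t13 : List ℕ := [(nat_lit 0x3094562),
 (nat_lit 0x1c30602),
 (nat_lit 0x2824848),
 (nat_lit 0x3d84eb0),
 (nat_lit 0x35b8100),
 (nat_lit 0x4000000)]
noncomputable def d13 : ℕ := (nat_lit 0x3004)
noncomputable def n14 : Net := n13.rev
noncomputable def t14 : List ℕ := mapPull n14 t13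
noncomputable def d14 : ℕ := (nat_lit 0x1080000)
noncomputable def n15 : Net := ben 5 [(nat_lit 0x4ccc4),
 (nat_lit 0x1a2210),
 (nat_lit 0x133308),
 (nat_lit 0x180b0),
 (nat_lit 0x80)]
noncomputable def t15 : List ℕ := [(nat_lit 0x218cb40),
 (nat_lit 0x1020c02),
 (nat_lit 0x2031000),
 (nat_lit 0x31c1f80),
 (nat_lit 0x31f8000),
 (nat_lit 0x4000000)]
noncomputable def d15 : ℕ := (nat_lit 0xe00000)
noncomputable def n16 : Net := n15.rev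
noncomputable def t16 : List ℕ := mapPull n16 t15
noncomputable def d16 : ℕ := (nat_lit 0x4548)
noncomputable def n17 : Net := ben 5 [(nat_lit 0x854401),
 (nat_lit 0x7a3001),
 (nat_lit 0xfb0d00),
 (nat_lit 0xf0f0),
 (nat_lit 0xf0)]
noncomputable def t17 : List ℕ := [(nat_lit 0x4ee0b99),
 (nat_lit 0x2d51264),
 (nat_lit 0x3061c48),
 (nat_lit 0x3f82eb0),
 (nat_lit 0x3ff3100),
 (nat_lit 0x4000000)]
noncomputable def d17 : ℕ := (nat_lit 0x2)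
noncomputable def n18 : Net := n17.rev
noncomputable def t18 : List ℕ := mapPull n18 t17
noncomputable def d18 : ℕ := (nat_lit 0x110000)
def ivl : List ℕ := [0, 1, 2, 3, 4, 6, 5, 8, 7, 10, 9, 12, 11, 14, 13, 16, 15, 18, 17, 19, 20, 21, 22, 23, 24, 25, 26, 28, 27, 29, 30, 32, 31, 33, 34, 35, 36, 38, 37, 40, 39, 41, 42, 43, 44, 45, 46, 47, 48]
def cols : List ℕ := [0, 1, 2, 3, 4, 5, 6, 7, 8, 9, 10, 11, 12, 13, 14, 15, 16, 17, 18]
def hcols : List ℕ := [0, 1, 2, 3, 4, 5, 6, 7, 8, 9, 10, 11, 12, 13, 14, 15, 16]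
def G0 : List (List ℕ) := [[5, 5, 0],
 [7, 7, 0],
 [1, 2, 1, 2, 0],
 [3, 4, 3, 4, 0],
 [5, 7, 6, 8, 0],
 [0, 1, 0, 1],
 [1, 3, 1, 3],
 [1, 4, 1, 4],
 [1, 5, 1, 6],
 [1, 7, 1, 8],
 [0, 2, 0, 2],
 [2, 3, 2, 3],
 [2, 4, 2, 4],
 [2, 5, 2, 6],
 [2, 7, 2, 8],
 [0, 3, 0, 3],
 [3, 5, 3, 6],
 [3, 7, 3, 8],
 [0, 4, 0, 4],
 [4, 5, 4, 6],
 [4, 7, 4, 8],
 [0, 5, 0, 6],
 [0, 7, 0, 8],
 [9, 9, 9],
 [9, 0, 10, 0],
 [9, 1, 10, 1],
 [9, 2, 10, 2],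
 [9, 3, 10, 3],
 [9, 4, 10, 4],
 [9, 5, 10, 8],
 [9, 7, 10, 7, 6],
 [11, 11, 11],
 [11, 0, 12, 0],
 [11, 1, 12, 1],
 [11, 2, 12, 2],
 [11, 3, 12, 3],
 [11, 4, 12, 8, 6, 4, 3],
 [11, 5, 12, 8, 6],
 [11, 7, 12, 5, 3],
 [13, 13, 13],
 [13, 0, 14, 0],
 [13, 1, 14, 1],
 [13, 2, 14, 2],
 [13, 3, 14, 6, 4, 3],
 [13, 4, 14, 0, 3],
 [13, 5, 14, 6],
 [13, 7, 14, 8, 6, 3],
 [15, 15, 15],
 [15, 0, 16, 0],
 [15, 1, 16, 1],
 [15, 2, 16, 6, 4, 2, 1],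
 [15, 3, 16, 5, 4, 3, 1],
 [15, 4, 16, 3, 1],
 [15, 5, 16, 6],
 [15, 7, 16, 8, 6, 3],
 [17, 17, 17],
 [17, 0, 18, 0],
 [17, 1, 18, 4, 2],
 [17, 2, 18, 0, 4, 1],
 [17, 3, 18, 4],
 [17, 4, 18, 0, 4, 3, 2, 1],
 [17, 5, 18, 6],
 [17, 7, 18, 8],
 [9, 11, 9, 11],
 [9, 11, 13, 9, 11, 13],
 [9, 11, 15, 9, 11, 15],
 [9, 11, 13, 17, 9, 11, 13, 17],
 [11, 13, 11, 13],
 [11, 15, 11, 15],
 [11, 13, 17, 11, 13, 17],
 [13, 17, 13, 17],
 [14, 15, 14, 15, 1],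
 [16, 13, 17, 16, 13, 17, 0, 4, 3, 1]]
def R0 : List (List ℕ) := G0
theorem hii : ∀ c, ivOf ivl (ivOf ivl c) = c := ivOf_ivOf (by decide +kernel)
theorem der : Derives (ivOf ivl) R0 R0 := Derives.refl _ _
noncomputable def nl : List Net := [n0, n1, n2, n3, n4, n5, n6, n7, n8, n9, n10, n11, n12, n13, n14, n15, n16, n17, n18]
noncomputable def T : TCData := ⟨27, 27, 5, 6, nth Net.nil nl, ivOf ivl, cols, hcols, R0,
  nth [] [t0, t1, t2, t3, t4, t5, t6, t7, t8, t9, t10, t11, t12, t13, t14, t15, t16, t17, t18], nth 0 [d0, d1, d2, d3, d4, d5, d6, d7, d8, d9, d10, d11, d12, d13, d14, d15, d16, d17, d18]⟩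
theorem hn : NetsOK 27 (nth Net.nil nl) := netsOK_of_all (by decide +kernel)
theorem hiv : IvOK (sg (nth Net.nil nl)) (ivOf ivl) :=
  ivOK_of_chk (k := 5) hn (by decide) (n := 49) (by decide) (by decide) (allN_true.1 (by decide +kernel))
theorem hb : T.Basic := TCData.basic_of_chk hn hiv (by decide +kernel)
theorem hG0 : ∀ r ∈ G0, ev (sg (nth Net.nil nl)) r = 1 :=
  rels_of_chk (k := 5) hn (by decide) hiv (allN_true.1 (by decide +kernel))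
noncomputable def s0 : List TCData.Step := [.pts 24 1 0 4 [4],
 .pts 24 1 0 6 [15],
 .pts 24 3 0 4 [5, 9],
 .pts 24 3 0 8 [17],
 .pts 24 3 0 12 [26],
 .pts 32 3 0 4 [7],
 .pts 32 3 0 5 [11],
 .pts 32 3 0 9 [18],
 .pts 32 3 0 10 [25],
 .pts 40 1 0 2 [2],
 .pts 40 1 0 5 [12],
 .pts 40 1 0 6 [13],
 .pts 40 3 0 10 [19],
 .pts 40 3 0 11 [24],
 .pts 48 1 0 3 [6],
 .pts 48 1 0 7 [23],
 .pts 48 1 0 9 [22],
 .pts 48 1 0 10 [21],
 .pts 48 3 0 3 [3],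
 .pts 48 3 0 5 [8, 10],
 .pts 48 3 0 7 [14],
 .pts 56 1 0 1 [1],
 .pts 56 3 0 7 [16],
 .pts 56 3 0 8 [20]]
noncomputable def s1 : List TCData.Step := [.pts 25 1 0 4 [4],
 .pts 25 1 0 6 [15],
 .pts 25 3 0 4 [5, 9],
 .pts 25 3 0 10 [17],
 .pts 25 3 0 14 [26],
 .pts 33 3 0 4 [7],
 .pts 33 3 0 5 [11],
 .pts 33 3 0 11 [18],
 .pts 33 3 0 14 [25],
 .pts 41 1 0 2 [2],
 .pts 41 1 0 5 [12],
 .pts 41 1 0 6 [13],
 .pts 41 3 0 12 [19],
 .pts 41 3 0 13 [24],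
 .pts 49 1 0 3 [6],
 .pts 49 1 0 7 [23],
 .pts 49 1 0 12 [21],
 .pts 49 1 0 13 [22],
 .pts 49 3 0 3 [3],
 .pts 49 3 0 5 [8, 10],
 .pts 49 3 0 7 [14],
 .pts 57 1 0 1 [1],
 .pts 58 5 0 9 [16],
 .pts 58 5 0 12 [20]]
noncomputable def s2 : List TCData.Step := [.pts 26 1 0 5 [4],
 .pts 26 1 0 6 [15],
 .pts 26 3 0 4 [9],
 .pts 26 3 0 5 [5],
 .pts 26 3 0 10 [17],
 .pts 26 3 0 18 [26],
 .pts 34 1 0 8 [8],
 .pts 34 3 0 4 [7],
 .pts 34 3 0 5 [11],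
 .pts 34 3 0 11 [18],
 .pts 34 3 0 14 [25],
 .pts 42 1 0 2 [2],
 .pts 42 1 0 5 [12],
 .pts 42 1 0 6 [13],
 .pts 42 3 0 4 [3],
 .pts 42 3 0 12 [19],
 .pts 42 3 0 17 [24],
 .pts 50 1 0 3 [6],
 .pts 50 1 0 8 [23],
 .pts 50 1 0 13 [22],
 .pts 50 1 0 16 [21],
 .pts 50 5 0 8 [10],
 .pts 50 5 0 11 [14],
 .pts 57 4 0 9 [16],
 .pts 57 4 0 10 [20],
 .pts 58 1 0 1 [1]]
noncomputable def s3 : List TCData.Step := [.pts 27 1 0 5 [4],
 .pts 27 1 0 7 [15],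
 .pts 27 3 0 4 [9],
 .pts 27 3 0 5 [5],
 .pts 27 3 0 11 [17],
 .pts 27 3 0 15 [26],
 .pts 35 3 0 4 [7],
 .pts 35 3 0 5 [11],
 .pts 35 3 0 12 [18],
 .pts 35 3 0 15 [25],
 .pts 43 1 0 2 [2],
 .pts 43 1 0 6 [12],
 .pts 43 1 0 9 [13],
 .pts 44 4 0 4 [3],
 .pts 44 4 0 14 [24],
 .pts 44 4 0 16 [19],
 .pts 51 1 0 3 [6],
 .pts 51 1 0 10 [23],
 .pts 51 1 0 14 [22],
 .pts 51 1 0 16 [21],
 .pts 52 3 0 6 [8, 10],
 .pts 52 3 0 8 [14],
 .pts 59 1 0 1 [1],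
 .pts 60 5 0 10 [16],
 .pts 60 5 0 13 [20]]
noncomputable def s4 : List TCData.Step := [.pts 28 1 0 5 [4],
 .pts 28 1 0 6 [15],
 .pts 28 3 0 4 [9],
 .pts 28 3 0 5 [5],
 .pts 28 3 0 9 [17],
 .pts 28 3 0 18 [26],
 .pts 36 5 0 7 [7],
 .pts 36 5 0 8 [11],
 .pts 36 5 0 15 [18],
 .pts 36 5 0 18 [25],
 .pts 43 4 0 17 [19, 24],
 .pts 44 1 0 2 [2],
 .pts 44 1 0 5 [12],
 .pts 44 1 0 6 [13],
 .pts 51 4 0 7 [8, 10],
 .pts 51 4 0 10 [14],
 .all 52 1 0,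
 .pts 59 3 0 8 [16],
 .pts 59 3 0 9 [20],
 .pts 60 1 0 1 [1]]
noncomputable def s5 : List TCData.Step := [.pts 30 4 0 5 [5, 9],
 .pts 30 4 0 10 [17],
 .pts 30 4 0 17 [26],
 .pts 45 3 0 14 [19],
 .pts 45 3 0 15 [24],
 .pts 53 3 0 3 [3],
 .pts 53 3 0 6 [8, 10],
 .pts 53 3 0 8 [14],
 .pts 61 3 0 8 [16],
 .pts 61 3 0 9 [20]]
noncomputable def s6 : List TCData.Step := [.pts 29 1 0 5 [4],
 .pts 29 1 0 7 [15],
 .pts 38 3 0 5 [7],
 .pts 38 3 0 6 [11],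
 .pts 38 3 0 13 [18],
 .pts 38 3 0 16 [25],
 .pts 45 1 0 2 [2],
 .pts 45 1 0 6 [12],
 .pts 45 1 0 7 [13],
 .pts 53 1 0 3 [6],
 .pts 53 1 0 8 [23],
 .pts 53 1 0 10 [22],
 .pts 53 1 0 14 [21],
 .pts 61 1 0 1 [1]]
noncomputable def s7 : List TCData.Step := [.pts 29 3 0 4 [5, 9],
 .pts 29 3 0 9 [17],
 .pts 29 3 0 16 [26],
 .pts 37 3 0 6 [7],
 .pts 37 3 0 7 [11],
 .pts 37 3 0 14 [18],
 .pts 37 3 0 17 [25],
 .pts 46 3 0 16 [24],
 .pts 46 3 0 17 [19],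
 .pts 54 3 0 7 [8, 10],
 .pts 54 3 0 9 [14],
 .pts 62 3 0 8 [16],
 .pts 62 3 0 10 [20]]
noncomputable def s8 : List TCData.Step := [.pts 30 1 0 5 [4],
 .pts 30 1 0 7 [15],
 .pts 46 1 0 2 [2],
 .pts 46 1 0 6 [12],
 .pts 46 1 0 8 [13],
 .all 54 1 0,
 .pts 62 1 0 1 [1]]
noncomputable def s9 : List TCData.Step := []
noncomputable def s10 : List TCData.Step := [.all 23 0 0,
 .all 63 0 0,
 .pts 64 0 0 5 [2],
 .pts 64 0 0 14 [13],
 .pts 64 0 0 27 [20],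
 .pts 65 0 0 7 [6],
 .pts 65 0 0 16 [23],
 .pts 65 0 0 27 [21],
 .pts 65 0 0 28 [22],
 .pts 66 0 0 3 [1]]
noncomputable def s11 : List TCData.Step := []
noncomputable def s12 : List TCData.Step := [.all 31 0 0,
 .pts 63 1 0 6 [4],
 .pts 63 1 0 8 [5],
 .pts 63 1 0 16 [15],
 .pts 63 1 0 31 [26],
 .pts 65 1 0 9 [9],
 .all 67 0 0,
 .pts 68 0 0 7 [6],
 .pts 68 0 0 13 [12],
 .pts 68 0 0 15 [23],
 .pts 68 0 0 26 [21],
 .pts 69 0 0 2 [1],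
 .pts 69 0 0 20 [16]]
noncomputable def s13 : List TCData.Step := [.all 71 0 0]
noncomputable def s14 : List TCData.Step := [.all 39 0 0,
 .pts 64 2 0 9 [5],
 .pts 64 2 0 16 [7],
 .pts 64 2 0 22 [17],
 .pts 64 2 0 32 [26],
 .pts 67 1 0 8 [4, 8],
 .pts 67 1 0 17 [15],
 .pts 67 1 0 29 [25],
 .pts 70 0 0 19 [16],
 .pts 70 0 0 24 [18]]
noncomputable def s15 : List TCData.Step := [.pts 72 0 0 2 [1],
 .pts 72 3 0 20 [16]]
noncomputable def s16 : List TCData.Step := [.all 47 0 0,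
 .pts 65 2 0 9 [5],
 .pts 65 2 0 17 [15],
 .pts 65 2 0 22 [17],
 .pts 65 2 0 32 [26],
 .pts 68 1 0 8 [4],
 .pts 68 1 0 11 [11],
 .pts 68 1 0 24 [19],
 .pts 68 1 0 29 [25],
 .pts 71 1 0 25 [24],
 .pts 71 3 0 12 [12]]
noncomputable def s17 : List TCData.Step := []
noncomputable def s18 : List TCData.Step := [.all 55 0 0,
 .pts 66 3 0 10 [5],
 .pts 66 3 0 21 [10],
 .pts 66 3 0 33 [26],
 .all 69 2 0,
 .all 70 1 0,
 .pts 72 2 0 25 [23],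
 .pts 72 2 0 27 [21],
 .pts 72 5 0 6 [6],
 .pts 72 5 0 11 [9],
 .pts 72 5 0 27 [22]]
theorem hR0 : ∀ r ∈ R0, ev (sg (nth Net.nil nl)) r = 1 := hG0
theorem col0 : T.ColOK 0 := TCData.colOK_of_chk (U := (T.stepsMask 0 s0 (T.mask0 0))) (V := (T.stepsMask 0 s0 (T.mask0 0))) hb (TCData.cov_stepsMask hb (by decide) s0 _ (T.cov_mask0 0)) (TCData.cov_stepsMask hb (by decide) s0 _ (T.cov_mask0 0)) (by decide +kernel)
theorem col1 : T.ColOK 1 := TCData.colOK_of_chk (U := (T.stepsMask 1 s1 (T.mask0 1))) (V := (T.stepsMask 1 s1 (T.mask0 1))) hb (TCData.cov_stepsMask hb (by decide) s1 _ (T.cov_mask0 1)) (TCData.cov_stepsMask hb (by decide) s1 _ (T.cov_mask0 1)) (by decide +kernel)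
theorem col2 : T.ColOK 2 := TCData.colOK_of_chk (U := (T.stepsMask 2 s2 (T.mask0 2))) (V := (T.stepsMask 2 s2 (T.mask0 2))) hb (TCData.cov_stepsMask hb (by decide) s2 _ (T.cov_mask0 2)) (TCData.cov_stepsMask hb (by decide) s2 _ (T.cov_mask0 2)) (by decide +kernel)
theorem col3 : T.ColOK 3 := TCData.colOK_of_chk (U := (T.stepsMask 3 s3 (T.mask0 3))) (V := (T.stepsMask 3 s3 (T.mask0 3))) hb (TCData.cov_stepsMask hb (by decide) s3 _ (T.cov_mask0 3)) (TCData.cov_stepsMask hb (by decide) s3 _ (T.cov_mask0 3)) (by decide +kernel)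
theorem col4 : T.ColOK 4 := TCData.colOK_of_chk (U := (T.stepsMask 4 s4 (T.mask0 4))) (V := (T.stepsMask 4 s4 (T.mask0 4))) hb (TCData.cov_stepsMask hb (by decide) s4 _ (T.cov_mask0 4)) (TCData.cov_stepsMask hb (by decide) s4 _ (T.cov_mask0 4)) (by decide +kernel)
theorem col5 : T.ColOK 5 := TCData.colOK_of_chk (U := (T.stepsMask 5 s5 (T.mask0 5))) (V := (T.stepsMask 6 s6 (T.mask0 6))) hb (TCData.cov_stepsMask hb (by decide) s5 _ (T.cov_mask0 5)) (TCData.cov_stepsMask hb (by decide) s6 _ (T.cov_mask0 6)) (by decide +kernel)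
theorem col6 : T.ColOK 6 := TCData.colOK_of_chk (U := (T.stepsMask 6 s6 (T.mask0 6))) (V := (T.stepsMask 5 s5 (T.mask0 5))) hb (TCData.cov_stepsMask hb (by decide) s6 _ (T.cov_mask0 6)) (TCData.cov_stepsMask hb (by decide) s5 _ (T.cov_mask0 5)) (by decide +kernel)
theorem col7 : T.ColOK 7 := TCData.colOK_of_chk (U := (T.stepsMask 7 s7 (T.mask0 7))) (V := (T.stepsMask 8 s8 (T.mask0 8))) hb (TCData.cov_stepsMask hb (by decide) s7 _ (T.cov_mask0 7)) (TCData.cov_stepsMask hb (by decide) s8 _ (T.cov_mask0 8)) (by decide +kernel)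
theorem col8 : T.ColOK 8 := TCData.colOK_of_chk (U := (T.stepsMask 8 s8 (T.mask0 8))) (V := (T.stepsMask 7 s7 (T.mask0 7))) hb (TCData.cov_stepsMask hb (by decide) s8 _ (T.cov_mask0 8)) (TCData.cov_stepsMask hb (by decide) s7 _ (T.cov_mask0 7)) (by decide +kernel)
theorem col9 : T.ColOK 9 := TCData.colOK_of_chk (U := (T.stepsMask 9 s9 (T.mask0 9))) (V := (T.stepsMask 10 s10 (T.mask0 10))) hb (TCData.cov_stepsMask hb (by decide) s9 _ (T.cov_mask0 9)) (TCData.cov_stepsMask hb (by decide) s10 _ (T.cov_mask0 10)) (by decide +kernel)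
theorem col10 : T.ColOK 10 := TCData.colOK_of_chk (U := (T.stepsMask 10 s10 (T.mask0 10))) (V := (T.stepsMask 9 s9 (T.mask0 9))) hb (TCData.cov_stepsMask hb (by decide) s10 _ (T.cov_mask0 10)) (TCData.cov_stepsMask hb (by decide) s9 _ (T.cov_mask0 9)) (by decide +kernel)
theorem col11 : T.ColOK 11 := TCData.colOK_of_chk (U := (T.stepsMask 11 s11 (T.mask0 11))) (V := (T.stepsMask 12 s12 (T.mask0 12))) hb (TCData.cov_stepsMask hb (by decide) s11 _ (T.cov_mask0 11)) (TCData.cov_stepsMask hb (by decide) s12 _ (T.cov_mask0 12)) (by decide +kernel)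
theorem col12 : T.ColOK 12 := TCData.colOK_of_chk (U := (T.stepsMask 12 s12 (T.mask0 12))) (V := (T.stepsMask 11 s11 (T.mask0 11))) hb (TCData.cov_stepsMask hb (by decide) s12 _ (T.cov_mask0 12)) (TCData.cov_stepsMask hb (by decide) s11 _ (T.cov_mask0 11)) (by decide +kernel)
theorem col13 : T.ColOK 13 := TCData.colOK_of_chk (U := (T.stepsMask 13 s13 (T.mask0 13))) (V := (T.stepsMask 14 s14 (T.mask0 14))) hb (TCData.cov_stepsMask hb (by decide) s13 _ (T.cov_mask0 13)) (TCData.cov_stepsMask hb (by decide) s14 _ (T.cov_mask0 14)) (by decide +kernel)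
theorem col14 : T.ColOK 14 := TCData.colOK_of_chk (U := (T.stepsMask 14 s14 (T.mask0 14))) (V := (T.stepsMask 13 s13 (T.mask0 13))) hb (TCData.cov_stepsMask hb (by decide) s14 _ (T.cov_mask0 14)) (TCData.cov_stepsMask hb (by decide) s13 _ (T.cov_mask0 13)) (by decide +kernel)
theorem col15 : T.ColOK 15 := TCData.colOK_of_chk (U := (T.stepsMask 15 s15 (T.mask0 15))) (V := (T.stepsMask 16 s16 (T.mask0 16))) hb (TCData.cov_stepsMask hb (by decide) s15 _ (T.cov_mask0 15)) (TCData.cov_stepsMask hb (by decide) s16 _ (T.cov_mask0 16)) (by decide +kernel)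
theorem col16 : T.ColOK 16 := TCData.colOK_of_chk (U := (T.stepsMask 16 s16 (T.mask0 16))) (V := (T.stepsMask 15 s15 (T.mask0 15))) hb (TCData.cov_stepsMask hb (by decide) s16 _ (T.cov_mask0 16)) (TCData.cov_stepsMask hb (by decide) s15 _ (T.cov_mask0 15)) (by decide +kernel)
theorem col17 : T.ColOK 17 := TCData.colOK_of_chk (U := (T.stepsMask 17 s17 (T.mask0 17))) (V := (T.stepsMask 18 s18 (T.mask0 18))) hb (TCData.cov_stepsMask hb (by decide) s17 _ (T.cov_mask0 17)) (TCData.cov_stepsMask hb (by decide) s18 _ (T.cov_mask0 18)) (by decide +kernel)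
theorem col18 : T.ColOK 18 := TCData.colOK_of_chk (U := (T.stepsMask 18 s18 (T.mask0 18))) (V := (T.stepsMask 17 s17 (T.mask0 17))) hb (TCData.cov_stepsMask hb (by decide) s18 _ (T.cov_mask0 18)) (TCData.cov_stepsMask hb (by decide) s17 _ (T.cov_mask0 17)) (by decide +kernel)
theorem ok : T.OK := ⟨hb, TCData.treeOK_of_chk hn (by decide +kernel), (List.forall_mem_cons.2 ⟨col0, (List.forall_mem_cons.2 ⟨col1, (List.forall_mem_cons.2 ⟨col2, (List.forall_mem_cons.2 ⟨col3, (List.forall_mem_cons.2 ⟨col4, (List.forall_mem_cons.2 ⟨col5, (List.forall_mem_cons.2 ⟨col6, (List.forall_mem_cons.2 ⟨col7, (List.forall_mem_cons.2 ⟨col8, (List.forall_mem_cons.2 ⟨col9, (List.forall_mem_cons.2 ⟨col10, (List.forall_mem_cons.2 ⟨col11, (List.forall_mem_cons.2 ⟨col12, (List.forall_mem_cons.2 ⟨col13, (List.forall_mem_cons.2 ⟨col14, (List.forall_mem_cons.2 ⟨col15, (List.forall_mem_cons.2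 ⟨col16, (List.forall_mem_cons.2 ⟨col17, (List.forall_mem_cons.2 ⟨col18, (fun _ h => absurd h List.not_mem_nil)⟩)⟩)⟩)⟩)⟩)⟩)⟩)⟩)⟩)⟩)⟩)⟩)⟩)⟩)⟩)⟩)⟩)⟩)⟩), der _ _ hiv hR0⟩
theorem bd {G : Type} [Group G] {e : ℕ → G} (h1 : IvOK e (ivOf ivl)) (h2 : ∀ r ∈ R0, ev e r = 1)
    {m : ℕ} (h : Bd (gen e hcols) m) : Bd (gen e cols) (27 * m) := ok.bd h1 (der G e h1 h2) h
theorem cm {G : Type} [Group G] {e : ℕ → G} (h1 : IvOK e (ivOf ivl)) (h2 : ∀ r ∈ R0, ev e r = 1)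
    (h3 : gen e cols = ⊤) {ρ : G →* Equiv.Perm ℕ} (h4 : ∀ c, ρ (e c) = sg (nth Net.nil nl) c) :
    CosetModel ρ (gen e hcols) 27 := ok.cosetModel h1 (der G e h1 h2) h3 fun c _ => h4 c

end H15.SzH
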