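import Mathlib
import Cfsg.Agent.H29.Ext

set_option autoImplicit false
set_option maxRecDepth 100000
set_option Elab.async false
set_option linter.all false

namespace H15.SzQ

open H29

noncomputable def n0 : Net := ben 7 [(nat_lit 0x5500000000500000005000505005),
 (nat_lit 0x33330000330033033300330333030330),
 (nat_lit 0xf000f0000000f000000000000),
 (nat_lit 0x0),
 (nat_lit 0x0),
 (nat_lit 0x0),
 (nat_lit 0x0)]
noncomputable def t0 : List ℕ := [(nat_lit 0xa50ffcc00ff00fffa885fc500ffc5ac),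
 (nat_lit 0xf5ff0022a0eeff005f3305c0ff00c050),
 (nat_lit 0x50000088ff1100000588fa3000003000)]
noncomputable def d0 : ℕ := (nat_lit 0x10000000000040000800000802)
noncomputable def n1 : Net := ben 7 [(nat_lit 0x555506a56655555cc55555c555550cc0),
 (nat_lit 0xf011100099f0220110d2101121302222),
 (nat_lit 0xc009f09350c0006900c09090f000000),
 (nat_lit 0x96ff000f0069006900f00069000000ff),
 (nat_lit 0xff00000096690000ffff00000000),
 (nat_lit 0xffffffff0000000000000000),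
 (nat_lit 0x0)]
noncomputable def t1 : List ℕ := [(nat_lit 0x55f063458aaaf0c345c41a4a5afce0e0),
 (nat_lit 0xaaf05055a055f0c94044004a5af0aa6c),
 (nat_lit 0xff0f8f11faff0f04bf91bfb0a5000000)]
noncomputable def d1 : ℕ := (nat_lit 0xaa00000000002a000000021500)
noncomputable def n2 : Net := ben 7 [(nat_lit 0x555555556955556955555955c00ccc00),
 (nat_lit 0x12123300f0c333902100021010821702),
 (nat_lit 0xf0f0f00060c03090f000f0f9f0cf906),
 (nat_lit 0xff000000ff00ff000000ff00f00096),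
 (nat_lit 0xffff000000000000ffff),
 (nat_lit 0x0),
 (nat_lit 0x0)]
noncomputable def t2 : List ℕ := [(nat_lit 0x5a5ae7005f11a0cfa50080045af2ceac),
 (nat_lit 0xa0052400ff440aff0033c44c5530ca50),
 (nat_lit 0xffffdbffa011a030ffcc3183a0003000)]
noncomputable def d2 : ℕ := (nat_lit 0xaa000000000a00000d0000)
noncomputable def n3 : Net := ben 7 [(nat_lit 0x5555555555555555c50fc50c55f3ccc0),
 (nat_lit 0x212133332133213011aa002220501022),
 (nat_lit 0xf0f00000f090f00f03c0f00f0960f00),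
 (nat_lit 0xf00f00000ff00000),
 (nat_lit 0xff000000ff00),
 (nat_lit 0xffffffff),
 (nat_lit 0x0)]
noncomputable def t3 : List ℕ := [(nat_lit 0xa55a609921185afc4fe2e2e0f1554de0),
 (nat_lit 0xff006f0084005af06e00e2aad145606c),
 (nat_lit 0xffff9fffffffa5009108180024a09000)]
noncomputable def d3 : ℕ := (nat_lit 0x20015051500000000)
noncomputable def n4 : Net := ben 7 [(nat_lit 0x555c95955955c00c556555cc5569c900),
 (nat_lit 0x12115aaa13c3108221552a17235c1302),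
 (nat_lit 0x3f3f1b6dc0039f0cf30d0cf9f3950c06),
 (nat_lit 0x69ffcc96aaf000f0f0aaff690f550096),
 (nat_lit 0x3c3cf0f00000000000ff966900000000),
 (nat_lit 0xffff000000000096696996),
 (nat_lit 0xffffffffffffffff)]
noncomputable def t4 : List ℕ := [(nat_lit 0xa17498983aa85af2e80b61ce553544ac),
 (nat_lit 0xfb26ff008a8855304d3310caf50f6550),
 (nat_lit 0xf6d903baf522a000b34cf530f0fa9000)]
noncomputable def d4 : ℕ := (nat_lit 0x450055000d0000000000000000)
noncomputable def n5 : Net := ben 7 [(nat_lit 0x9cc9d8e1555569cc555555c969ccc99c),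
 (nat_lit 0x2121d130d2d2f09353f01112f0931221),
 (nat_lit 0xfa0a99030309060906090f0f06090f0f),
 (nat_lit 0x69006900ff00ff00ff000000ff0000),
 (nat_lit 0xffff000000000000000000000000),
 (nat_lit 0x0),
 (nat_lit 0x0)]
noncomputable def t5 : List ℕ := [(nat_lit 0x500011000000005455103900003903),
 (nat_lit 0x55553344001155355111009d55359d50),
 (nat_lit 0x50000000555500000500550000000000)]
noncomputable def d5 : ℕ := (nat_lit 0xaaaa0000aa00aa00aa00a040aa0040a0)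
noncomputable def n6 : Net := n5.rev
noncomputable def t6 : List ℕ := mapPull n6 t5
noncomputable def d6 : ℕ := (nat_lit 0x55550000550055005500502055002050)
noncomputable def n7 : Net := ben 7 [(nat_lit 0x555555f05555555c55555515555c1554),
 (nat_lit 0x1111c333110011111133123211113213),
 (nat_lit 0x609000a000f000c0000000f0000),
 (nat_lit 0xff000000000000000000000000),
 (nat_lit 0x0),
 (nat_lit 0x0),
 (nat_lit 0x0)]
noncomputable def t7 : List ℕ := [(nat_lit 0xda5f14018023ff0010ad3418ff0018a5),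
 (nat_lit 0xdf5f51a4f010ff5913e60456ff5956f0),
 (nat_lit 0xe0a00180ffff0000ef09fb8000008000)]
noncomputable def d7 : ℕ := (nat_lit 0xaa00000000a00000000000a00008)
noncomputable def n8 : Net := n7.rev
noncomputable def t8 : List ℕ := mapPull n8 t7
noncomputable def d8 : ℕ := (nat_lit 0x5500000000500080008200508204)
def ivl : List ℕ := [0, 1, 2, 3, 4, 6, 5, 8, 7, 10, 9, 12, 11, 14, 13, 16, 15, 18, 17, 19, 20, 21, 22, 23, 24, 25, 26, 28, 27, 29, 30, 32, 31, 33, 34, 35, 36, 38, 37, 40, 39, 41, 42, 43, 44, 45, 46, 47, 48]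
def cols : List ℕ := [0, 1, 2, 3, 4, 5, 6, 7, 8]
def hcols : List ℕ := []
def G0 : List (List ℕ) := [[5, 5, 0],
 [7, 7, 0],
 [1, 2, 1, 2, 0],
 [3, 4, 3, 4, 0],
 [5, 7, 6, 8, 0],
 [0, 1, 0, 1],
 [1, 3, 1, 3],
 [1, 4, 1, 4],
 [1, 5, 1, 6],
 [1, 7, 1, 8],
 [0, 2, 0, 2],
 [2, 3, 2, 3],
 [2, 4, 2, 4],
 [2, 5, 2, 6],
 [2, 7, 2, 8],
 [0, 3, 0, 3],
 [3, 5, 3, 6],
 [3, 7, 3, 8],
 [0, 4, 0, 4],
 [4, 5, 4, 6],
 [4, 7, 4, 8],
 [0, 5, 0, 6],
 [0, 7, 0, 8]]
def R0 : List (List ℕ) := G0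
theorem hii : ∀ c, ivOf ivl (ivOf ivl c) = c := ivOf_ivOf (by decide +kernel)
theorem der : Derives (ivOf ivl) R0 R0 := Derives.refl _ _
noncomputable def nl : List Net := [n0, n1, n2, n3, n4, n5, n6, n7, n8]
noncomputable def T : TCData := ⟨128, 128, 7, 3, nth Net.nil nl, ivOf ivl, cols, hcols, R0,
  nth [] [t0, t1, t2, t3, t4, t5, t6, t7, t8], nth 0 [d0, d1, d2, d3, d4, d5, d6, d7, d8]⟩
theorem hn : NetsOK 128 (nth Net.nil nl) := netsOK_of_all (by decide +kernel)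
theorem hiv : IvOK (sg (nth Net.nil nl)) (ivOf ivl) :=
  ivOK_of_chk (k := 7) hn (by decide) (n := 49) (by decide) (by decide) (allN_true.1 (by decide +kernel))
theorem hb : T.Basic := TCData.basic_of_chk hn hiv (by decide +kernel)
theorem hG0 : ∀ r ∈ G0, ev (sg (nth Net.nil nl)) r = 1 :=
  rels_of_chk (k := 7) hn (by decide) hiv (allN_true.1 (by decide +kernel))
noncomputable def s0 : List TCData.Step := [.all 1 2 0,
 .all 2 4 0,
 .pts 3 4 0 1 [67],
 .pts 3 4 0 5 [84],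
 .pts 4 4 0 5 [46],
 .pts 5 0 0 1 [8],
 .pts 5 0 0 2 [97],
 .all 10 0 0,
 .all 15 0 0,
 .pts 18 0 0 1 [64, 98],
 .pts 18 0 0 3 [82],
 .all 21 0 0,
 .all 21 2 0,
 .pts 22 2 0 5 [41]]
noncomputable def s1 : List TCData.Step := [.pts 2 0 0 4 [107],
 .all 2 2 0,
 .pts 5 1 0 2 [67],
 .pts 5 1 0 4 [39],
 .all 6 0 0,
 .all 7 0 0,
 .all 8 0 0,
 .all 8 2 0,
 .all 9 0 0,
 .all 9 2 0]
noncomputable def s2 : List TCData.Step := [.pts 2 1 0 1 [10],
 .pts 2 1 0 4 [98, 102],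
 .pts 2 3 0 4 [51],
 .pts 10 1 0 4 [39, 107],
 .all 11 0 0,
 .all 12 0 0,
 .all 13 0 0,
 .all 13 2 0,
 .all 14 0 0,
 .all 14 2 0]
noncomputable def s3 : List TCData.Step := [.pts 3 0 0 4 [87, 108, 112],
 .pts 3 0 0 5 [83],
 .pts 3 2 0 1 [67],
 .pts 3 2 0 3 [110],
 .pts 6 1 0 1 [8, 10],
 .pts 6 1 0 4 [21, 101],
 .all 11 1 0,
 .pts 15 1 0 1 [11],
 .pts 15 1 0 4 [15],
 .all 16 0 0,
 .all 16 2 0,
 .all 17 0 0,
 .all 17 2 0]
noncomputable def s4 : List TCData.Step := [.pts 3 1 0 1 [34],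
 .all 7 1 0,
 .all 12 1 0,
 .all 18 1 0,
 .all 19 0 0,
 .all 19 2 0,
 .all 20 0 0,
 .all 20 2 0]
noncomputable def s5 : List TCData.Step := []
noncomputable def s6 : List TCData.Step := [.all 0 0 0,
 .all 0 1 0,
 .pts 4 0 0 2 [10, 34],
 .pts 4 0 0 6 [103],
 .pts 8 1 0 3 [9, 12],
 .pts 13 1 0 4 [41, 87],
 .pts 13 1 0 6 [99],
 .all 16 1 0,
 .pts 19 1 0 4 [91]]
noncomputable def s7 : List TCData.Step := [.all 4 3 0]
noncomputable def s8 : List TCData.Step := [.all 1 0 0,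
 .all 1 1 0,
 .all 4 1 0,
 .all 9 1 0,
 .all 14 1 0,
 .all 17 1 0,
 .all 20 1 0,
 .pts 22 1 0 2 [10, 19, 21, 23, 34, 67, 69, 71, 98, 111],
 .pts 22 1 0 6 [103, 105]]
theorem hR0 : ∀ r ∈ R0, ev (sg (nth Net.nil nl)) r = 1 := hG0
theorem col0 : T.ColOK 0 := TCData.colOK_of_chk (U := (T.stepsMask 0 s0 (T.mask0 0))) (V := (T.stepsMask 0 s0 (T.mask0 0))) hb (TCData.cov_stepsMask hb (by decide) s0 _ (T.cov_mask0 0)) (TCData.cov_stepsMask hb (by decide) s0 _ (T.cov_mask0 0)) (by decide +kernel)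
theorem col1 : T.ColOK 1 := TCData.colOK_of_chk (U := (T.stepsMask 1 s1 (T.mask0 1))) (V := (T.stepsMask 1 s1 (T.mask0 1))) hb (TCData.cov_stepsMask hb (by decide) s1 _ (T.cov_mask0 1)) (TCData.cov_stepsMask hb (by decide) s1 _ (T.cov_mask0 1)) (by decide +kernel)
theorem col2 : T.ColOK 2 := TCData.colOK_of_chk (U := (T.stepsMask 2 s2 (T.mask0 2))) (V := (T.stepsMask 2 s2 (T.mask0 2))) hb (TCData.cov_stepsMask hb (by decide) s2 _ (T.cov_mask0 2)) (TCData.cov_stepsMask hb (by decide) s2 _ (T.cov_mask0 2)) (by decide +kernel)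
theorem col3 : T.ColOK 3 := TCData.colOK_of_chk (U := (T.stepsMask 3 s3 (T.mask0 3))) (V := (T.stepsMask 3 s3 (T.mask0 3))) hb (TCData.cov_stepsMask hb (by decide) s3 _ (T.cov_mask0 3)) (TCData.cov_stepsMask hb (by decide) s3 _ (T.cov_mask0 3)) (by decide +kernel)
theorem col4 : T.ColOK 4 := TCData.colOK_of_chk (U := (T.stepsMask 4 s4 (T.mask0 4))) (V := (T.stepsMask 4 s4 (T.mask0 4))) hb (TCData.cov_stepsMask hb (by decide) s4 _ (T.cov_mask0 4)) (TCData.cov_stepsMask hb (by decide) s4 _ (T.cov_mask0 4)) (by decide +kernel)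
theorem col5 : T.ColOK 5 := TCData.colOK_of_chk (U := (T.stepsMask 5 s5 (T.mask0 5))) (V := (T.stepsMask 6 s6 (T.mask0 6))) hb (TCData.cov_stepsMask hb (by decide) s5 _ (T.cov_mask0 5)) (TCData.cov_stepsMask hb (by decide) s6 _ (T.cov_mask0 6)) (by decide +kernel)
theorem col6 : T.ColOK 6 := TCData.colOK_of_chk (U := (T.stepsMask 6 s6 (T.mask0 6))) (V := (T.stepsMask 5 s5 (T.mask0 5))) hb (TCData.cov_stepsMask hb (by decide) s6 _ (T.cov_mask0 6)) (TCData.cov_stepsMask hb (by decide) s5 _ (T.cov_mask0 5)) (by decide +kernel)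
theorem col7 : T.ColOK 7 := TCData.colOK_of_chk (U := (T.stepsMask 7 s7 (T.mask0 7))) (V := (T.stepsMask 8 s8 (T.mask0 8))) hb (TCData.cov_stepsMask hb (by decide) s7 _ (T.cov_mask0 7)) (TCData.cov_stepsMask hb (by decide) s8 _ (T.cov_mask0 8)) (by decide +kernel)
theorem col8 : T.ColOK 8 := TCData.colOK_of_chk (U := (T.stepsMask 8 s8 (T.mask0 8))) (V := (T.stepsMask 7 s7 (T.mask0 7))) hb (TCData.cov_stepsMask hb (by decide) s8 _ (T.cov_mask0 8)) (TCData.cov_stepsMask hb (by decide) s7 _ (T.cov_mask0 7)) (by decide +kernel)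
theorem ok : T.OK := ⟨hb, TCData.treeOK_of_chk hn (by decide +kernel), (List.forall_mem_cons.2 ⟨col0, (List.forall_mem_cons.2 ⟨col1, (List.forall_mem_cons.2 ⟨col2, (List.forall_mem_cons.2 ⟨col3, (List.forall_mem_cons.2 ⟨col4, (List.forall_mem_cons.2 ⟨col5, (List.forall_mem_cons.2 ⟨col6, (List.forall_mem_cons.2 ⟨col7, (List.forall_mem_cons.2 ⟨col8, (fun _ h => absurd h List.not_mem_nil)⟩)⟩)⟩)⟩)⟩)⟩)⟩)⟩)⟩), der _ _ hiv hR0⟩
theorem bd {G : Type} [Group G] {e : ℕ → G} (h1 : IvOK e (ivOf ivl)) (h2 : ∀ r ∈ R0, ev e r = 1)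
    {m : ℕ} (h : Bd (gen e hcols) m) : Bd (gen e cols) (128 * m) := ok.bd h1 (der G e h1 h2) h
theorem cm {G : Type} [Group G] {e : ℕ → G} (h1 : IvOK e (ivOf ivl)) (h2 : ∀ r ∈ R0, ev e r = 1)
    (h3 : gen e cols = ⊤) {ρ : G →* Equiv.Perm ℕ} (h4 : ∀ c, ρ (e c) = sg (nth Net.nil nl) c) :
    CosetModel ρ (gen e hcols) 128 := ok.cosetModel h1 (der G e h1 h2) h3 fun c _ => h4 c

end H15.SzQ
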