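import Mathlib
import Cfsg.Agent.H15.KM3
import Cfsg.Agent.H15.SzE
import Cfsg.Agent.H15.SzD0
import Cfsg.Agent.H15.SzQ
import Cfsg.Agent.H15.SzB
import Cfsg.Agent.H15.SzH

/-!
# The centraliser modulo its centre
-/

set_option autoImplicit false
set_option maxRecDepth 100000
set_option Elab.async false
set_option linter.unusedSectionVars false

namespace H15.Sz

open H29 H24 Subgroup KM

noncomputable def runZ : List ℕ → ℕ := modZ runH

abbrev Qc : List ℕ := SzQ.cols
abbrev Bc : List ℕ := SzB.cols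
abbrev HL : List ℕ := SzH.cols
/-- `O₂(B)` modulo `z` -/
def OZ : List ℕ := [2, 21, 22, 19, 20, 3, 23, 4, 24, 1]
def QZ : List ℕ := [1, 2, 3, 4, 5, 7]
def defsH : List (List ℕ) := defs.take 37
theorem hsH : chkSlp defsH = true := by decide +kernel

noncomputable abbrev mH : ℕ → S := tr m
/-- the letters in `B` -/
def LB : ℕ := 129922367487

theorem mH_cent (c : ℕ) : mH c ∈ C{mH 0} := by
  by_cases hc : c < 37
  · exact isoH.cent (cs := List.range 37) (v := [0]) (by decide +kernel) |>.trans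
      (by simp) (mem_gen (List.mem_range.2 hc))
  · rw [mH, tr_ge _ (not_lt.1 hc)]; exact one_mem _

theorem mH_sq : mH 0 * mH 0 = 1 := by simpa using isoH.eqW.1 (by decide +kernel : eqW runH [0, 0] [] = true)
theorem mH_ne : mH 0 ≠ 1 := by
  simpa using isoH.ne (by decide +kernel : not1 (eqW runH [0] []) = true)
theorem mH_ord : orderOf (mH 0) = 2 := orderOf_eq_prime (by rw [pow_two, mH_sq]) mH_ne

theorem defH : Def mH defsH := fun c => by
  by_cases hc : c < 37
  · have : (allN 37 fun c => eqW runH [c] (nth [] defsH c)) = true := by decide +kernel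
    simpa using isoH.eqW.1 (allN_true.1 this c hc)
  · rw [nth_default _ (show defsH.length ≤ c from not_lt.1 hc), mH, tr_ge _ (not_lt.1 hc)]; rfl

theorem isoZ0 : Iso runZ (bar mH) := iso_modZ_self isoH mH_sq mH_cent

theorem ivZ0 : IvOK (bar mH) iv := fun c => by
  rw [bar, show mH (iv c) = _ from ivH c, cs, ap_inv _ (C1_le_N _ (mH_cent c))]

theorem zH : (allL SzH.T.R fun r => eqW runZ r []) = true := by decide +kernel
theorem zB : (allL SzB.T.R fun r => eqW runZ r []) = true := by decide +kernel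
theorem tH : chkTight runZ iv SzH.T repsH [[1]] = true := by decide +kernel
theorem tB : chkTight runZ iv SzB.T repsB [[1], [2], [3], [4], [5], [7]] = true := by decide +kernel
theorem covJ : chkCov runZ iv Bc OZ WJ (nth [] DJ) = true := by decide +kernel
theorem pcOZ : chkPC runZ iv OZ = true := by decide +kernel
theorem nOZ : chkN runZ iv Bc OZ = true := by decide +kernel

section

variable {G : Type*} [Group G] [Finite G] {e : ℕ → G}

theorem gen_bar0 (l : List ℕ) : gen (bar e) (l ++ [0]) = gen (bar e) l := by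
  refine le_antisymm (gen_le.2 fun c h1 => ?_) (gen_mono fun _ h => List.mem_append_left _ h)
  rcases List.mem_append.1 h1 with h1 | h1
  · exact mem_gen h1
  · rw [List.mem_singleton.1 h1, bar, cs_of_mem (mem_zpowers _)]; exact one_mem _

/-- the letters agree with the model modulo `z` -/
structure MZ (e : ℕ → G) : Prop where
  iso : Iso runZ (bar e)
  cen : ∀ c, e c ∈ C{e 0}
  ord : orderOf (e 0) = 2

theorem mz0 : MZ mH := ⟨isoZ0, mH_cent, mH_ord⟩

namespace MZ

variable (h : MZ e)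
include h

theorem iv : IvOK (bar e) iv := h.iso.ivOK isoZ0 ivZ0
theorem sq : e 0 * e 0 = 1 := by rw [← pow_two, ← h.ord, pow_orderOf_eq_one]

theorem genQ : gen (bar e) Qc = gen (bar e) QZ :=
  le_antisymm (h.iso.le (by decide +kernel)) (gen_sub (by decide +kernel))

theorem card : Nat.card (gen e HL) = 3317760 := by
  rw [card_bar h.cen (mem_gen (by decide)), h.ord]
  have h1 := (h.iso.tight h.iv (h.iso.sat h.iv SzH.ok zH) tH).1
  have h2 := (h.iso.tight h.iv (h.iso.sat h.iv SzB.ok zB) tB).1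
  have h3 := (h.iso.pc h.iv (l := QZ) (by decide +kernel)).card
  rw [← h.genQ] at h3
  change Nat.card (gen (bar e) HL) = 27 * Nat.card (gen (bar e) Bc) at h1
  change Nat.card (gen (bar e) Bc) = 960 * Nat.card (gen (bar e) Qc) at h2
  rw [h1, h2, h3]; rfl

theorem cardB : Nat.card (gen e Bc) = 122880 := by
  rw [card_bar h.cen (mem_gen (by decide)), h.ord]
  have h2 := (h.iso.tight h.iv (h.iso.sat h.iv SzB.ok zB) tB).1
  have h3 := (h.iso.pc h.iv (l := QZ) (by decide +kernel)).card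
  rw [← h.genQ] at h3
  change Nat.card (gen (bar e) Bc) = 960 * Nat.card (gen (bar e) Qc) at h2
  rw [h2, h3]; rfl

theorem cardQ : Nat.card (gen e Qc) = 128 := by
  rw [card_bar h.cen (mem_gen (by decide)), h.ord, h.genQ,
    (h.iso.pc h.iv (l := QZ) (by decide +kernel)).card]; rfl

theorem le (l : List ℕ) : gen e l ≤ C{e 0} := gen_le.2 fun c _ => h.cen c

theorem mem_N {l : List ℕ} {y : G} (hy : y ∈ C{e 0}) (h1 : y ∈ N[gen e (l ++ [0])]) :
    cs (zpowers (e 0)) y ∈ N[gen (bar e) l] := by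
  rw [← gen_bar0, gen_bar h.cen]; exact ap_mem_N _ h1 (C1_le_N _ hy)

theorem bar_mem {l : List ℕ} {y : G} (hy : y ∈ gen e l) : cs (zpowers (e 0)) y ∈ gen (bar e) l :=
  gen_bar h.cen l ▸ cs_mem_quo hy (C1_le_N _ (h.le l hy))

theorem memB {y : G} (hy : y ∈ gen e HL) (h1 : y ∈ N[gen e [1, 0]]) : y ∈ gen e Bc :=
  mem_of_bar h.cen (mem_gen (by decide)) (h.le _ hy)
    ((h.iso.tight h.iv (h.iso.sat h.iv SzH.ok zH) tH).2 _ (h.bar_mem hy)
      (mem_NV.2 (by simpa using h.mem_N (l := [1]) (h.le _ hy) h1)))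

theorem memQ {y : G} (hy : y ∈ gen e HL) (h1 : y ∈ C[gen e Qc]) : y ∈ gen e Qc := by
  have k : ∀ c ∈ Qc, y ∈ N[gen e ([c] ++ [0])] := fun c hc =>
    C_le_N _ (C_anti (gen_mono (by simpa using ⟨hc, by decide⟩)) h1)
  refine mem_of_bar h.cen (mem_gen (by decide)) (h.le _ hy)
    ((h.iso.tight h.iv (h.iso.sat h.iv SzB.ok zB) tB).2 _ (h.bar_mem (h.memB hy (k 1 (by decide))))
      (mem_NV.2 fun V hV => ?_))
  simp only [List.mem_cons, List.not_mem_nil, or_false] at hV
  rcases hV with rfl | rfl | rfl | rfl | rfl | rfl <;>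
    exact h.mem_N (h.le _ hy) (k _ (by decide))

theorem eq {u v : List ℕ} (hc : eqW runZ u v = true) : (ev e u)⁻¹ * ev e v ∈ zpowers (e 0) := by
  have := h.iso.eqW.1 hc
  rwa [ev_bar h.cen, ev_bar h.cen, cs_eq_cs (C1_le_N _ (ev_mem fun c _ => h.cen c))
    (C1_le_N _ (ev_mem fun c _ => h.cen c))] at this

theorem sq_eq {u v : List ℕ} (hc : eqW runZ u v = true) : ev e u * ev e u = ev e v * ev e v := by
  have h1 : ev e u * e 0 = e 0 * ev e u := mem_C1.1 (ev_mem fun c _ => h.cen c)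
  rcases (mem_zp2 h.sq).1 (h.eq hc) with a | a
  · rw [inv_mul_eq_one.1 a]
  · rw [inv_mul_eq_iff_eq_mul.1 a, mul_assoc, ← mul_assoc (e 0), ← h1, mul_assoc, h.sq, mul_one]

theorem inB' {c : ℕ} (hc : bitL LB c = true) : bar e c ∈ gen (bar e) Bc :=
  mem_gen_of_clo (src := fun c w => eqW runZ [c] w) (fun c w h1 => by simpa using h.iso.eqW.1 h1)
    (l := [19, 20, 21, 22, 23, 24, 25, 26, 27, 28, 29, 33, 34, 35, 36].map fun c => (c, nth [] defs c))
    (by decide +kernel) c (bitL_true.1 hc)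

theorem inB {c : ℕ} (hc : bitL LB c = true) : e c ∈ gen e Bc :=
  mem_of_bar h.cen (mem_gen (by decide)) (h.cen c) (h.inB' hc)

theorem leB {l : List ℕ} (hc : okW LB l = true) : gen e l ≤ gen e Bc :=
  gen_le.2 fun c h1 => h.inB (allL_true.1 hc c h1)

theorem normO : gen e Bc ≤ N[gen e (OZ ++ [0])] := fun y hy => mem_N_of_finite fun x hx => by
  have a1 := h.le _ hy
  have a2 := h.le _ hx
  refine mem_of_bar' h.cen (mul_mem (mul_mem a1 a2) (inv_mem a1)) ?_
  rw [cs, ap_conj _ (C1_le_N _ a1) (C1_le_N _ a2)]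
  exact conj_mem (h.iso.norm h.iv nOZ (h.bar_mem hy)) (KM.bar_mem h.cen hx)

theorem ev_up {y : G} (hy : y ∈ C{e 0}) (w : List ℕ) :
    ev (up (bar e) (cs (zpowers (e 0)) y)) w = cs (zpowers (e 0)) (ev (up e y) w) := by
  rw [up_ap _ (C1_le_N _ hy), ev_ap _ fun c _ => C1_le_N _ ?_]
  unfold up
  split_ifs
  exacts [hy, inv_mem hy, h.cen c]

/-- filter modulo `O₂(B)` -/
theorem filt {ws : List (List ℕ)} (hw : (allL ws fun w => allL w fun c =>
      or2 (Nat.beq c 200) (or2 (Nat.beq c 201) (bitL LB c))) = true)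
    (hc : (frc (vals runZ OZ) fun V => allL WJ fun j => and2 (allL j fun c => memL c Bc)
      (imp2 (allL ws fun w => inV runZ V (sb w j (invW Sz.iv j))) (inV runZ V j))) = true)
    {y : G} (hy : y ∈ gen e Bc) (h1 : ∀ w ∈ ws, ev (up e y) w ∈ gen e (OZ ++ [0])) :
    y ∈ gen e (OZ ++ [0]) := by
  have pc := h.iso.pc h.iv pcOZ
  have hn := h.iso.norm h.iv nOZ
  obtain ⟨j, a1, a2⟩ := h.iso.cov h.iv covJ (h.bar_mem hy)
  simp only [frc_eq, allL_true, and2_true, imp2_true, inV_vals, h.iso.inP pc, memL_true,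
    ev_sb (ev_invW h.iv _), or2_true, H29.beq_true] at hc hw
  have a3 := ev_mem_gen (e := bar e) (hc j a1).1
  refine mem_of_bar' h.cen (h.le _ hy) ?_
  have a4 := (hc j a1).2 fun w a5 => ev_up_mem_iff hn (h.bar_mem hy) a3
    (by simpa [mul_assoc] using conj_mem (hn a3) a2)
    (fun c a6 => (hw w a5 c a6).imp_right (Or.imp_right h.inB'))
    (by rw [h.ev_up (h.le _ hy)]; exact KM.bar_mem h.cen (h1 w a5))
  simpa using (gen (bar e) OZ).mul_mem a4 a2

/-- squares in `O₂(B)` -/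
theorem filt4 {y : G} (hy : y ∈ gen e Bc) (h1 : y * y ∈ gen e (OZ ++ [0]))
    (h2 : y * (e 27 * y * (e 27)⁻¹) * (y * (e 27 * y * (e 27)⁻¹)) ∈ gen e (OZ ++ [0]))
    (hi : e 28 = (e 27)⁻¹) : y ∈ gen e (OZ ++ [0]) :=
  h.filt (ws := [[200, 200], [200, 27, 200, 28, 200, 27, 200, 28]]) (by decide +kernel)
    (by decide +kernel) hy (by simpa [up, hi, mul_assoc] using ⟨h1, by simpa [mul_assoc] using h2⟩)

theorem filt7 {y : G} (hy : y ∈ gen e Bc) (h1 : y ∈ C{e 9}) (h2 : y ∈ C{e 27})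
    (hi : e 10 = (e 9)⁻¹) (hi' : e 28 = (e 27)⁻¹) : y ∈ gen e (OZ ++ [0]) :=
  h.filt (ws := [[200, 9, 201, 10], [200, 27, 201, 28]]) (by decide +kernel)
    (by decide +kernel) hy (by
      simp [up, hi, hi', ← mul_assoc, mem_C1.1 h1, mem_C1.1 h2])

theorem delta {o : G} (ho : o ∈ gen e (OZ ++ [0])) (h1 : (o * e 9) ^ 3 ∈ gen e [1, 0])
    (h2 : (o * e 9 * e 27 * e 27) ^ 2 ∈ gen e [1, 0]) : o ∈ gen e [1, 0] := by
  obtain ⟨x, y, -, -, a1, a2⟩ := (h.iso.pc h.iv pcOZ).allP h.iv (f := fun x y =>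
    imp2 (inP runZ [1] (sb (pw 3 [200, 9]) x y)) (imp2 (inP runZ [1] (sb (pw 2 [200, 9, 27, 27]) x y))
      (inP runZ [1] (sb [200] x y)))) (by decide +kernel) (KM.bar_mem h.cen ho)
  have pc := h.iso.pc h.iv (l := [1]) (by decide +kernel)
  simp only [imp2_true, h.iso.inP pc, a1, h.ev_up (h.le _ ho)] at a2
  refine mem_of_bar' (l := [1]) h.cen (h.le _ ho) ?_
  simpa using a2 (KM.bar_mem h.cen (by simpa [up] using h1))
    (KM.bar_mem h.cen (by simpa [up, mul_assoc] using h2))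

theorem cardTK : 2 ^ 12 ∣ Nat.card (gen e [25, 26, 21, 22, 19, 20, 3, 23, 4, 24, 1, 0]) := by
  rw [card_bar h.cen (mem_gen (by decide)), h.ord,
    show [25, 26, 21, 22, 19, 20, 3, 23, 4, 24, 1, 0] = [25, 26, 21, 22, 19, 20, 3, 23, 4, 24, 1] ++ [0]
      from rfl, gen_bar0, (h.iso.pc h.iv (by decide +kernel)).card]
  rfl

end MZ

end

/-! ### Exact facts on `Q` in the model -/

def Ql : List ℕ := [1, 2, 3, 4, 5, 7, 0]
theorem pcQ : PC mH Ql := isoH.pc ivH (by decide +kernel)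
theorem genQ0 : gen mH Qc = gen mH Ql :=
  le_antisymm (isoH.le (by decide +kernel)) (gen_sub (by decide +kernel))
theorem normQ0 : gen mH HL ≤ N[gen mH Qc] := genQ0 ▸ isoH.norm ivH (by decide +kernel)

theorem centQ0 {y : S} (hy : y ∈ gen mH HL) (h1 : y ∈ C[gen mH Qc]) : y ∈ zpowers (mH 0) := by
  obtain ⟨x, -, a0, -, -, a2⟩ := pcQ.allP ivH (f := fun x _ =>
    imp2 (chkC runH Ql x) (or2 (eqW runH x []) (eqW runH x [0]))) (by decide +kernel)
    (genQ0 ▸ mz0.memQ hy h1)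
  simp only [imp2_true, chkC, allL_true, isoH.eqW, or2_true, ev_cons, app_eq, ev_append, a0, ev_nil,
    mul_one] at a2
  exact (mem_zp2 mH_sq).2 (a2 fun c hc => mem_C.1 h1 _ (genQ0 ▸ mem_gen hc))

theorem invQ0 {y : S} (hy : y ∈ gen mH Qc) (h1 : y * y = 1) :
    y = 1 ∨ y = mH 0 ∨ ∃ g ∈ gen mH HL, g * mH 1 * g⁻¹ = y := by
  obtain ⟨x, -, a0, -, -, a2⟩ := pcQ.allP ivH (f := fun x _ =>
    imp2 (eqW runH (app x x) []) (or2 (eqW runH x []) (or2 (eqW runH x [0])
      (anyL WS fun w => and2 (allL w fun c => memL c HL) (eqW runH (app w [1]) (app x w))))))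
    (by decide +kernel) (genQ0 ▸ hy)
  simp only [imp2_true, allL_true, isoH.eqW, or2_true, ev_cons, app_eq, ev_append, a0, ev_nil,
    mul_one, anyL_true, and2_true, memL_true] at a2
  refine (a2 h1).imp_right (Or.imp_right ?_)
  rintro ⟨w, -, a3, a4⟩
  exact ⟨_, ev_mem_gen a3, mul_inv_eq_iff_eq_mul.2 a4⟩

end H15.Sz
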