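import Mathlib
import Cfsg.Agent.H15.SzZ
import Cfsg.Agent.H15.LX

/-!
# Identification of the centraliser
-/

set_option autoImplicit false
set_option maxRecDepth 100000
set_option linter.unusedSectionVars false

namespace H15.Sz

open H29 H24 Subgroup KM XP
open scoped commutatorElement

variable {G : Type*} [Group G] [Finite G] {e : ℕ → G}

theorem mem_four {a b x : G} (ha : a * a = 1) (hb : b * b = 1) (hab : a * b = b * a)
    (h : x ∈ zpowers a ⊔ zpowers b) : x = 1 ∨ x = a ∨ x = b ∨ x = a * b := by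
  obtain ⟨u, h1, v, h2, rfl⟩ := (mem_sup_of_norm (norm_zpowers_of_cent
    (zpowers_le.2 (mem_C1.2 hab.symm)))).1 h
  rcases (mem_zp2 ha).1 h1 with rfl | rfl <;> rcases (mem_zp2 hb).1 h2 with rfl | rfl <;> simp

theorem gen_two (e : ℕ → G) (a b : ℕ) : gen e [a, b] = zpowers (e a) ⊔ zpowers (e b) := by
  rw [gen_cons, gen_cons, gen_nil, sup_bot_eq]

/-- letters for the centraliser, with the action on `Q` of the model -/
structure Pre (e : ℕ → G) : Prop where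
  lx : LX (e 0) (gen e Qc)
  df : Def e defsH
  inv : ∀ c < 19, e (iv c) = (e c)⁻¹
  gr : Gr (gen (pr mH e) Qc)
  cogr : CoGr (gen (pr mH e) Qc)
  nq : ∀ c < 19, pr mH e c ∈ N[gen (pr mH e) Qc]
  cz : ∀ c < 19, e c ∈ C{e 0}
  t3 : ∀ c ∈ [9, 11, 13, 15, 17], e c ^ 3 = 1
  card : Nat.card C{e 0} = 3317760

theorem exists_pre {z : G} {Q : Subgroup G} (h : LX z Q) (h1 : Nat.card Q = 2 ^ 7)
    (h2 : Nat.card C{z} = 3317760) : ∃ e : ℕ → G, Pre e ∧ e 0 = z ∧ gen e Qc = Q := by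
  obtain ⟨hd, hA⟩ := type7 h.isX h.xs.mem h.xs.ord h.le h1 h.norm h.inf_C h2
  obtain ⟨x, y, a1, a2, a3⟩ := fam hd
  let b : ℕ → G := fun c => [z, x 0, y 0, x 1, y 1, x 2, (x 2 : G)⁻¹, y 2, (y 2 : G)⁻¹].getD c 1
  have c1 : ∀ i, (x i : G) * y i * (x i : G)⁻¹ * (y i : G)⁻¹ = z := fun i =>
    congrArg Subtype.val (a1 i).2.2.1
  have c2 : ∀ i j, (x i : G) * x j * (x i : G)⁻¹ * (x j : G)⁻¹ = 1 := fun i j =>
    congrArg Subtype.val (a2 i j).1
  have c3 : ∀ i j, (y i : G) * y j * (y i : G)⁻¹ * (y j : G)⁻¹ = 1 := fun i j =>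
    congrArg Subtype.val (a2 i j).2.1
  have c4 : ∀ i j, i ≠ j → (x i : G) * y j * (x i : G)⁻¹ * (y j : G)⁻¹ = 1 := fun i j e =>
    congrArg Subtype.val ((a2 i j).2.2 e)
  have c5 : ∀ i j, i ≠ j → (y i : G) * x j * (y i : G)⁻¹ * (x j : G)⁻¹ = 1 := fun i j e => by
    rw [← inv_eq_one, ← c4 j i e.symm]; group
  have c6 : ∀ q : Q, z * q * z⁻¹ * (q : G)⁻¹ = 1 := fun q => by rw [← mem_C1.1 (h.le q.2)]; group
  have s : ∀ q : Q, q ^ 2 = ⟨z, h.xs.mem⟩ ^ 0 → (q : G)⁻¹ = q := fun q e =>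
    inv_eq_of_mul_eq_one_right (by simpa [pow_two] using congrArg Subtype.val e)
  have s' : ∀ q : Q, q ^ 2 = ⟨z, h.xs.mem⟩ ^ 1 → (q : G) * q * z = 1 := fun q e => by
    rw [← h.sq, show (q : G) * q = z by simpa [pow_two] using congrArg Subtype.val e]
  have i0 : z⁻¹ = z := inv_eq_of_mul_eq_one_right h.sq
  have i1 := s _ (a1 0).2.2.2.1
  have i2 := s _ (a1 0).2.2.2.2
  have i3 := s _ (a1 1).2.2.2.1
  have i4 := s _ (a1 1).2.2.2.2
  have bi : ∀ c < 9, b (iv c) = (b c)⁻¹ := fun c hc => by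
    interval_cases c
    exacts [i0.symm, i1.symm, i2.symm, i3.symm, i4.symm, rfl, (inv_inv _).symm, rfl, (inv_inv _).symm]
  have c7 : ∀ i, (x i : G) * y i * (x i : G)⁻¹ * (y i : G)⁻¹ * z = 1 := fun i => by rw [c1, h.sq]
  have bR : ∀ r ∈ SzQ.R0, ev b r = 1 := by
    simp only [SzQ.R0, SzQ.G0, List.forall_mem_cons, ev_cons, ev_nil, mul_one, ← mul_assoc, b,
      List.getD_cons_succ, List.getD_cons_zero]
    refine ⟨s' _ (a1 2).2.2.2.1, s' _ (a1 2).2.2.2.2, ?_, ?_, c7 2, ?_, ?_, ?_, ?_, ?_, ?_, ?_, ?_,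
      ?_, ?_, ?_, ?_, ?_, ?_, ?_, ?_, ?_, ?_, by simp⟩
    exacts [by simpa only [i1, i2] using c7 0, by simpa only [i3, i4] using c7 1,
      by simpa only [i0, i1] using c6 (x 0), by simpa only [i1, i3] using c2 0 1,
      by simpa only [i1, i4] using c4 0 1 (by decide), by simpa only [i1] using c2 0 2,
      by simpa only [i1] using c4 0 2 (by decide), by simpa only [i0, i2] using c6 (y 0),
      by simpa only [i2, i3] using c5 0 1 (by decide), by simpa only [i2, i4] using c3 0 1,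
      by simpa only [i2] using c5 0 2 (by decide), by simpa only [i2] using c3 0 2,
      by simpa only [i0, i3] using c6 (x 1), by simpa only [i3] using c2 1 2,
      by simpa only [i3] using c4 1 2 (by decide), by simpa only [i0, i4] using c6 (y 1),
      by simpa only [i4] using c5 1 2 (by decide), by simpa only [i4] using c3 1 2,
      by simpa only [i0] using c6 (x 2), by simpa only [i0] using c6 (y 2)]
  have bQ : ∀ c < 9, b c ∈ Q := fun c hc => by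
    interval_cases c
    exacts [h.xs.mem, (x 0).2, (y 0).2, (x 1).2, (y 1).2, (x 2).2, inv_mem (x 2).2, (y 2).2,
      inv_mem (y 2).2]
  have lt9 : ∀ c ∈ Qc, c < 9 := by decide
  have gQ : gen b Qc = Q := le_antisymm (gen_le.2 fun c hc => bQ c (lt9 c hc)) fun q hq =>
    a3 ((gen b Qc).subgroupOf Q) (mem_gen (c := 0) (by decide)) (fun i => by
      fin_cases i
      exacts [⟨mem_gen (c := 1) (by decide), mem_gen (c := 2) (by decide)⟩,
        ⟨mem_gen (c := 3) (by decide), mem_gen (c := 4) (by decide)⟩,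
        ⟨mem_gen (c := 5) (by decide), mem_gen (c := 7) (by decide)⟩]) (mem_top (⟨q, hq⟩ : Q))
  have hS : Sat SzQ.T (pr mH b) := sat_fin SzQ.ok SzQ.hii SzQ.der (by decide +kernel)
    (fun c hc => show pr mH b c * pr mH b (iv c) = 1 from
      Prod.ext (by simp [ivH c]) (by simp [bi c (lt9 c hc)])) fun r hr => by
      rw [ev_pr, bR r hr, isoH.rels (R := SzQ.R0) (by decide +kernel) r hr]; rfl
  have hb := (hS.bd (bd_nil _)).2
  have gr : Gr (gen (pr mH b) Qc) := gr_of_card (by rw [map_fst, mz0.cardQ]; exact hb)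
  have cogr : CoGr (gen (pr mH b) Qc) := coGr_of_card (by rw [map_snd, gQ, h1]; exact hb)
  have lift : ∀ c ∈ [9, 11, 13, 15, 17], ∃ g ∈ C{z}, g ^ 3 = 1 ∧ (mH c, g) ∈ N[gen (pr mH b) Qc] :=
    fun c hc => lift_aut gr cogr ((map_snd _ _ _).trans gQ) (lift3 h.norm h.inf_C h.xs.ord hA)
      (by rw [map_fst]; exact normQ0 (mem_gen (by revert c; decide))) (by
        have : (allL [9, 11, 13, 15, 17] fun c => eqW runH (pw 3 [c]) []) = true := by decide +kernel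
        simpa using isoH.eqW.1 (allL_true.1 this c hc))
  obtain ⟨t1, d1⟩ := lift 9 (by decide)
  obtain ⟨t2, d2⟩ := lift 11 (by decide)
  obtain ⟨t3, d3⟩ := lift 13 (by decide)
  obtain ⟨t4, d4⟩ := lift 15 (by decide)
  obtain ⟨t5, d5⟩ := lift 17 (by decide)
  let b' : ℕ → G := fun c => [z, x 0, y 0, x 1, y 1, x 2, (x 2 : G)⁻¹, y 2, (y 2 : G)⁻¹,
    t1, t1⁻¹, t2, t2⁻¹, t3, t3⁻¹, t4, t4⁻¹, t5, t5⁻¹].getD c 1
  have e1 : ∀ c < 19, slp b' defsH c = b' c := fun c hc => slp_base _ (by revert c; decide +kernel)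
  have e2 : ∀ c < 9, slp b' defsH c = b c := fun c hc => by
    rw [e1 c (by omega)]; interval_cases c <;> rfl
  have e3 : gen (slp b' defsH) Qc = Q := (gen_congr fun c hc => e2 c (lt9 c hc)).trans gQ
  have e4 : gen (pr mH (slp b' defsH)) Qc = gen (pr mH b) Qc :=
    gen_congr fun c hc => by rw [pr, e2 c (lt9 c hc)]; rfl
  have e0 : slp b' defsH 0 = z := e1 0 (by norm_num)
  have k : ∀ c t, (mH c, t) ∈ N[gen (pr mH b) Qc] → (mH (iv c), t⁻¹) ∈ N[gen (pr mH b) Qc] :=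
    fun c t h => by rw [show mH (iv c) = _ from ivH c]; exact inv_mem h
  refine ⟨slp b' defsH, ⟨by rwa [e0, e3], slp_def _ hsH, fun c hc => ?_, e4 ▸ gr, e4 ▸ cogr,
    fun c hc => ?_, fun c hc => ?_, fun c hc => ?_, by rwa [e0]⟩, e0, e3⟩
  · rw [e1 c hc, e1 _ (by revert c; decide +kernel)]
    by_cases h9 : c < 9
    · have := bi c h9
      interval_cases c <;> exact this
    · rw [not_lt] at h9
      interval_cases c <;> first | rfl | exact (inv_inv _).symm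
  · by_cases h9 : c < 9
    · exact norm_self _ (mem_gen (by revert c; decide))
    · rw [e4, pr, e1 c hc]
      rw [not_lt] at h9
      interval_cases c
      exacts [d1.2.2, k 9 _ d1.2.2, d2.2.2, k 11 _ d2.2.2, d3.2.2, k 13 _ d3.2.2, d4.2.2,
        k 15 _ d4.2.2, d5.2.2, k 17 _ d5.2.2]
  · rw [e0]
    by_cases h9 : c < 9
    · rw [e2 c h9]; exact h.le (bQ c h9)
    · rw [e1 c hc]
      rw [not_lt] at h9
      interval_cases c
      exacts [d1.1, inv_mem d1.1, d2.1, inv_mem d2.1, d3.1, inv_mem d3.1, d4.1, inv_mem d4.1, d5.1,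
        inv_mem d5.1]
  · rw [e1 c (by revert c; decide)]
    simp only [List.mem_cons, List.not_mem_nil, or_false] at hc
    rcases hc with rfl | rfl | rfl | rfl | rfl
    exacts [d1.2.1, d2.2.1, d3.2.1, d4.2.1, d5.2.1]

theorem baseH (c : ℕ) (h : nth [] defsH c = [c]) : c < 19 := by
  by_cases hc : c < 37
  · exact (by decide +kernel : ∀ c < 37, nth [] defsH c = [c] → c < 19) c hc h
  · rw [nth_default _ (show defsH.length ≤ c from not_lt.1 hc)] at h; simp at h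

theorem ltH : ∀ c, c ∈ HL ↔ c < 19 := fun c =>
  ⟨by revert c; decide, by revert c; decide⟩

def PD : List (List ℕ × List ℕ × List ℕ) :=
  [([9, 11], [], [13, 11, 10]), ([9, 11, 13], [], [10, 11]), ([9, 11, 15], [], [15, 13, 11, 10]),
   ([9, 11, 13, 17], [], [17, 10, 11]), ([11, 13], [], [11]), ([11, 15], [], [9, 15, 13, 11, 10]),
   ([11, 13, 17], [], [17, 11]), ([13, 17], [], [11, 17, 11]),
   ([14, 15], [3, 5], [17, 13, 15, 11, 17]), ([16, 13, 17], [3, 5], [15, 11, 17, 11])]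

namespace Pre

variable (h : Pre e)
include h

theorem memD (c : ℕ) : pr mH e c ∈ gen (pr mH e) HL :=
  (defH.pair h.df).mem hsH (fun c hc => mem_gen ((ltH c).2 (baseH c hc))) c

theorem normD : gen (pr mH e) HL ≤ N[gen (pr mH e) Qc] :=
  gen_le.2 fun c hc => h.nq c ((ltH c).1 hc)

theorem cen (c : ℕ) : e c ∈ C{e 0} := h.df.mem hsH (fun c hc => h.cz c (baseH c hc)) c

theorem mz : MZ e := ⟨iso_modZ isoH mH_sq h.cen h.memD
  (fun _ hd h1 => h.lx.cent (map_snd mH e Qc ▸ h.gr.cent (h.normD hd) h1))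
  fun _ hd h1 => centQ0 (fst_mem hd) (map_fst mH e Qc ▸ h.cogr.cent (h.normD hd) h1),
  h.cen, h.lx.xs.ord⟩

theorem top : gen e HL = C{e 0} := eq_of_card_eq (h.mz.le _) (by rw [h.mz.card, h.card])

theorem cq {l : List ℕ} (hc : chkC runH l [1] = true) : gen e l ≤ C{e 1} := gen_le.2 fun c h1 => by
  have a1 := isoH.cent hc (mem_gen h1)
  have a2 : pr mH e 1 ∈ gen (pr mH e) Qc := mem_gen (by decide)
  exact mem_C1_iff_conj.2 (congrArg Prod.snd (h.gr.eq (conj_mem (h.normD (h.memD c)) a2) a2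
    (by simpa using mem_C1_iff_conj.1 a1)))

theorem fuse {t : G} (ht : t ∈ gen e Qc) (h1 : t * t = 1) (h2 : t ≠ 1) (h3 : t ≠ e 0) :
    ∃ g, g * e 1 * g⁻¹ = t := by
  obtain ⟨a, ha⟩ := exists_fst (m := mH) ht
  have a0 : pr mH e 0 ∈ gen (pr mH e) Qc := mem_gen (by decide)
  have a1 : pr mH e 1 ∈ gen (pr mH e) Qc := mem_gen (by decide)
  rcases invQ0 (fst_mem ha) (h.cogr _ (mul_mem ha ha) h1) with a2 | a2 | ⟨g, a2, a3⟩
  · exact absurd (h.gr _ ha a2) h2
  · exact absurd (congrArg Prod.snd (h.gr.eq ha a0 a2)) h3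
  · obtain ⟨g', a4⟩ := exists_snd (e := e) a2
    exact ⟨g', congrArg Prod.snd (h.gr.eq (conj_mem (h.normD a4) a1) ha a3)⟩

theorem s_ne : e 1 ≠ e 0 := fun h1 =>
  isoH.ne (by decide +kernel : not1 (eqW runH [1] [0]) = true) (by
    simpa using congrArg Prod.fst (h.cogr.eq (a := pr mH e 1) (b := pr mH e 0)
      (mem_gen (by decide)) (mem_gen (by decide)) h1))

theorem iv28 : e 28 = (e 27)⁻¹ := by
  rw [h.df 28, h.df 27]
  have h1 : e 10 = (e 9)⁻¹ := h.inv 9 (by norm_num)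
  have h2 : e 14 = (e 13)⁻¹ := h.inv 13 (by norm_num)
  change ev e [14, 10, 14, 10, 14, 10, 14, 10, 14, 10, 14, 10] =
    (ev e [9, 13, 9, 13, 9, 13, 9, 13, 9, 13, 9, 13])⁻¹
  simp [h1, h2, mul_assoc]

theorem jb5 : e 27 ^ 5 = 1 := by
  have h1 := h.mz.sq_eq (u := pw 5 [9, 13]) (v := []) (by decide +kernel)
  rw [h.df 27, show nth [] defsH 27 = pw 6 [9, 13] by decide +kernel, ev_pw, ← pow_mul,
    show 6 * 5 = (5 + 5) * 3 from rfl, pow_mul, pow_add, ← ev_pw, h1]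
  simp

theorem key {g : G} (hg : g * e 0 * g⁻¹ = e 1) : (e 9 * e 27 * e 27) ^ 2 = 1 ∧
    ∃ u, u * u = 1 ∧ u ∈ C{e 9} ∧ u ∈ C{e 27} ∧ u ∈ C{e 1} ∧ u * e 0 * u⁻¹ = e 1 * e 0 ∧
      u * e 3 * u⁻¹ * (e 3)⁻¹ ∈ gen e (OZ ++ [0]) := by
  have mz := h.mz
  have hs := h.lx.cj g
  rw [hg] at hs
  have cQ : Nat.card (cj g (gen e Qc)) = 128 := by rw [card_cj, mz.cardQ]
  generalize cj g (gen e Qc) = Q at hs cQ
  have zs : e 0 ∈ C{e 1} := mem_C1_comm.1 (h.cen 1)
  obtain ⟨a1, a2⟩ := hs.sym (a := 4096) (m := 405) mz.ord zs (by rw [← hg, ← cj_C1, card_cj, h.card])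
    (mz.cardTK.trans (card_dvd (le_inf (h.cq (by decide +kernel)) (mz.le _)))) (by rw [cQ]; norm_num)
  have a3 : Nat.card ↥(Q ⊓ C{e 0}) = 64 := by
    have b1 : Q ⊓ C{e 0} < Q := lt_of_le_of_ne inf_le_left fun b =>
      (hs.eq_or (mem_C_iff_le_C1.2 (inf_eq_left.1 b))).elim h.lx.ne_one h.s_ne.symm
    have b2 := card_lt b1
    obtain ⟨k, b3⟩ := card_dvd b1.le
    rw [cQ] at a2 b2 b3
    have : 2 ≤ k := by
      by_contra b4
      have : k = 0 ∨ k = 1 := by omega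
      rcases this with rfl | rfl <;> omega
    nlinarith
  have sO : e 1 ∈ gen e (OZ ++ [0]) := mem_gen (by decide)
  have sq : ∀ y ∈ Q, y * y ∈ gen e (OZ ++ [0]) := fun y hy =>
    (hs.sq_or hy).elim (fun a => a ▸ one_mem _) fun a => a ▸ sO
  have j1 : e 27 ∈ C{e 1} := h.cq (l := [27]) (by decide +kernel) (mem_gen (by simp))
  have a4 : Q ⊓ C{e 0} ≤ gen e (OZ ++ [0]) := fun y hy => mz.filt4
    (mz.memB (h.top ▸ hy.2) (C_le_N _ (by
      rw [gen_two, C_sup, C_zpowers, C_zpowers]; exact ⟨hs.le hy.1, hy.2⟩)))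
    (sq y hy.1) (sq _ (mul_mem hy.1 (conj_mem (hs.norm j1) hy.1))) h.iv28
  obtain ⟨u, u1, u2, u3⟩ := exists_fix_out (by norm_num) h.jb5 inf_le_left (hs.norm j1)
    (norm_inf (zpowers_le.2 (hs.norm j1)) (norm_C1 (zpowers_le.2 (h.cen 27))) (mem_zpowers _))
    (by rw [cQ, a3]; decide)
  have u4 := hs.conj_eq u1 a1 fun a => u2 ⟨u1, a⟩
  have u5 := hs.le u1
  have u6 : u * (e 1 * e 0) * u⁻¹ = e 0 := by
    rw [show u * (e 1 * e 0) * u⁻¹ = u * e 1 * u⁻¹ * (u * e 0 * u⁻¹) by group, u4,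
      mem_C1_iff_conj.1 u5, ← mul_assoc, hs.sq, one_mul]
  have cm : ∀ c, e c ∈ C{e 1} → u * e c * u⁻¹ * (e c)⁻¹ ∈ gen e (OZ ++ [0]) := fun c hc => by
    refine a4 ⟨?_, C{e 0}.mul_mem ?_ (inv_mem (h.cen c))⟩
    · simpa [mul_assoc] using mul_mem u1 (conj_mem (hs.norm hc) (inv_mem u1))
    · rw [← u6, ← cj_C1, conj_mem_cj_iff, mem_C1_comm]
      exact mul_mem (mem_C1_comm.1 hc) (mem_C1_comm.1 (h.cen c))
  have t1 : e 9 ∈ C{e 1} := h.cq (l := [9]) (by decide +kernel) (mem_gen (by simp))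
  have t3 := h.t3 9 (by decide)
  have p2 : (e 9 * e 27 * e 27) ^ 2 = 1 ∨ (e 9 * e 27 * e 27) ^ 2 = e 0 := by
    simpa [mem_zp2 mz.sq, mul_assoc] using
      mz.eq (u := []) (v := pw 2 [9, 27, 27]) (by decide +kernel)
  have o1 : (u * e 9 * u⁻¹ * (e 9)⁻¹ * e 9) ^ 3 = 1 := by
    rw [inv_mul_cancel_right, conj_pow, t3]; simp
  have o2 := mz.delta (cm 9 t1) (o1 ▸ one_mem _) (by
    rw [inv_mul_cancel_right, show u * e 9 * u⁻¹ * e 27 * e 27 = u * (e 9 * e 27 * e 27) * u⁻¹ by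
      have := mem_C1.1 (inv_mem u3)
      rw [mul_assoc _ u⁻¹, this, ← mul_assoc, mul_assoc _ u⁻¹, this]; group, conj_pow]
    rcases p2 with a | a <;> rw [a]
    · simp
    · rw [u4]; exact mul_mem (mem_gen (by simp)) (mem_gen (by simp)))
  have u7 : u ∈ C{e 9} := by
    have b1 : u * e 9 * u⁻¹ * (e 9)⁻¹ ∈ C{e 9} := gen_le.2 (by
      simpa using ⟨mem_C1_comm.1 t1, mem_C1_comm.1 (h.cen 9)⟩) o2
    have b2 : u * e 9 * u⁻¹ * (e 9)⁻¹ * (u * e 9 * u⁻¹ * (e 9)⁻¹) = 1 := by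
      rcases mem_four hs.sq mz.sq (mem_C1.1 (h.cen 1)) (gen_two e 1 0 ▸ o2) with a | a | a | a <;>
        rw [a]
      · simp
      · exact hs.sq
      · exact mz.sq
      · rw [mul_assoc, ← mul_assoc (e 0), mem_C1.1 zs, mul_assoc, mz.sq, mul_one, hs.sq]
    rw [(show Commute _ _ from mem_C1.1 b1).mul_pow, t3, mul_one, pow_succ, pow_two, b2, one_mul,
      mul_inv_eq_one] at o1
    exact mem_C1_iff_conj.2 o1
  refine ⟨p2.resolve_right fun a => ?_, ?_⟩
  · have b1 : u ∈ C{(e 9 * e 27 * e 27) ^ 2} := mem_C1_comm.1 (pow_mem (mul_mem (mul_mem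
      (mem_C1_comm.1 u7) (mem_C1_comm.1 u3)) (mem_C1_comm.1 u3)) 2)
    exact u2 ⟨u1, a ▸ b1⟩
  have f1 : e 3 ∈ C{e 1} := h.cq (l := [3]) (by decide +kernel) (mem_gen (by simp))
  rcases hs.sq_or u1 with a | a
  · exact ⟨u, a, u7, u3, u5, u4, cm 3 f1⟩
  · refine ⟨u * e 0, ?_, mul_mem u7 (mem_C1_comm.1 (h.cen 9)), mul_mem u3 (mem_C1_comm.1 (h.cen 27)),
      mul_mem u5 zs, by rw [← u4]; group, ?_⟩
    · rw [show u * e 0 * (u * e 0) = u * e 0 * u⁻¹ * (u * u) * e 0 by group, u4, a,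
        mul_assoc (e 1), mem_C1.1 zs, ← mul_assoc, hs.sq, one_mul, mz.sq]
    · rw [show u * e 0 * e 3 * (u * e 0)⁻¹ = u * (e 0 * e 3 * (e 0)⁻¹) * u⁻¹ by group,
        mem_C1_iff_conj.1 (mem_C1_comm.1 (h.cen 3))]
      exact cm 3 f1

theorem rels (hp : (e 9 * e 27 * e 27) ^ 2 = 1) : ∀ r ∈ SzH.R0, ev (pr mH e) r = 1 := by
  intro r hr
  have a0 := isoH.rels (R := SzH.R0) (by decide +kernel) r hr
  suffices ev (pr mH e) r ∈ gen (pr mH e) Qc by
    exact Prod.ext (by simpa using a0) (h.gr _ this (by simpa using a0))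
  have sh : ∀ r ∈ SzH.R0, (∀ c ∈ r, c ∈ Qc) ∨ (r = [nth 0 r 0, nth 0 r 1, iv (nth 0 r 0)] ++ r.drop 3 ∧
      nth 0 r 0 < 19 ∧ ∀ c ∈ nth 0 r 1 :: r.drop 3, c ∈ Qc) ∨
      (∃ c ∈ [9, 11, 13, 15, 17], r = [c, c, c]) ∨
      ∃ d ∈ PD, r = d.1 ++ d.1 ++ r.drop (2 * d.1.length) ∧ ∀ c ∈ r.drop (2 * d.1.length), c ∈ Qc := by
    decide +kernel
  rcases sh r hr with a | ⟨a, b, c⟩ | ⟨c, a, rfl⟩ | ⟨d, a, b, c⟩
  · exact ev_mem_gen a
  · rw [a, ev_append]
    refine mul_mem ?_ (ev_mem_gen fun y hy => c y (List.mem_cons_of_mem _ hy))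
    have : pr mH e (iv (nth 0 r 0)) = (pr mH e (nth 0 r 0))⁻¹ := Prod.ext (ivH _) (h.inv _ b)
    simpa [this, mul_assoc] using conj_mem (h.nq _ b) (mem_gen (c _ List.mem_cons_self))
  · rw [show ev (pr mH e) [c, c, c] = 1 from Prod.ext (by simpa using a0)
      (by simpa [pow_succ, mul_assoc] using h.t3 c a)]
    exact one_mem _
  · have ch : (allL PD fun d => and2 (allL d.2.1 fun c => memL c Qc) (and2
        (eqW runZ (app d.2.1 d.1) (app d.2.2 (app [9, 27, 27] (invW iv d.2.2))))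
        (and2 (eqW runH (pw 2 (app d.2.1 d.1)) []) (allL d.2.2 fun c => Nat.ble c 18)))) = true := by
      decide +kernel
    simp only [allL_true, and2_true, memL_true, isoH.eqW, ble_true] at ch
    obtain ⟨b1, b2, b3, b4⟩ := ch d a
    have b5 := h.mz.sq_eq b2
    have b6 : ev e (invW iv d.2.2) = (ev e d.2.2)⁻¹ := by
      generalize d.2.2 = w at b4
      induction w with
      | nil => simp [invW_eq]
      | cons y w ih =>
        have := ih fun c hc => b4 c (List.mem_cons_of_mem _ hc)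
        rw [invW_eq] at this ⊢
        simp [this, h.inv y (Nat.lt_succ_of_le (b4 y List.mem_cons_self))]
    rw [b, ev_append, ev_append]
    refine mul_mem (sq_mem_of (h.normD (ev_mem fun c _ => h.memD c)) (ev_mem_gen b1) ?_)
      (ev_mem_gen c)
    refine Prod.ext (by simpa [pow_two] using b3) ?_
    simp only [app_eq, ev_append, b6, ev_cons, ev_nil, mul_one, ← mul_assoc] at b5
    simp only [Prod.snd_mul, ev_pr_snd, Prod.snd_one, ← mul_assoc, b5]
    rw [← conj_eq_one_iff' (g := ev e d.2.2), pow_two] at hp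
    rw [← hp]; group

theorem iso (hp : (e 9 * e 27 * e 27) ^ 2 = 1) : Iso runH e := by
  have hi : ∀ c ∈ HL, pr mH e c * pr mH e (iv c) = 1 := fun c hc =>
    Prod.ext (by simp [ivH c]) (by simp [h.inv c ((ltH c).1 hc)])
  have s1 : Sat SzH.T (pr mH e) := sat_fin SzH.ok SzH.hii SzH.der (by decide +kernel) hi (h.rels hp)
  have s2 : Sat SzB.T (pr mH e) := sat_fin SzB.ok SzB.hii SzB.der (by decide +kernel)
    (fun c hc => hi c (by revert c; decide)) (rels_sub (h.rels hp) (by decide +kernel))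
  have s3 : Sat SzQ.T (pr mH e) := sat_fin SzQ.ok SzQ.hii SzQ.der (by decide +kernel)
    (fun c hc => hi c (by revert c; decide)) (rels_sub (h.rels hp) (by decide +kernel))
  have hb := (s1.bd (s2.bd (s3.bd (bd_nil _)))).2
  exact iso_of_gr isoH (gr_of_card (by rw [map_fst, mz0.card]; exact hb))
    (coGr_of_card (by rw [map_snd, h.mz.card]; exact hb)) h.memD

end Pre

end H15.Sz
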