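import Mathlib
import Cfsg.Agent.H29.Planes

set_option autoImplicit false
set_option maxRecDepth 100000
set_option Elab.async false
set_option linter.all false

namespace H15.Sz

open H29

def W240 : List (List ℕ) := [[16, 10, 14, 2],
 [15, 11, 10, 2],
 [13, 11, 10, 2],
 [14, 10, 16, 2],
 [10, 13, 11, 2],
 [9, 14, 9, 16],
 [15, 11, 2],
 [10, 2, 15, 11],
 [10, 15, 11, 2],
 [13, 11, 2],
 [15, 11, 10],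
 [14, 10, 16],
 [10, 13, 11],
 [10, 15, 11, 5],
 [10, 13, 11, 5],
 [10, 15, 11],
 [15, 11],
 [13, 11, 5],
 [2, 15, 11],
 [15, 11, 5],
 [14, 11, 16],
 [13, 11],
 [16, 10, 14],
 [13, 11, 10],
 [13, 11, 9, 5],
 [15, 11, 9, 5],
 [13, 11, 9],
 [15, 11, 9],
 [13, 10, 13],
 [15, 10, 13, 5],
 [13, 10, 13, 5],
 [15, 10, 13],
 [13],
 [7, 13],
 [10, 13, 11, 10],
 [12, 10],
 [16, 9, 2],
 [10, 13],
 [10, 16],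
 [5, 9, 2],
 [9, 7, 2],
 [12, 7, 10],
 [14, 10, 15, 11],
 [9, 13, 10, 11],
 [12, 5],
 [16, 2],
 [9, 13],
 [9, 16],
 [5],
 [9, 12],
 [7],
 [14, 9, 2],
 [9, 15, 10, 11],
 [14],
 [10, 7, 11, 2],
 [10, 11, 7, 2],
 [13, 7],
 [10, 11, 5, 2],
 [10, 11, 2],
 [13, 5],
 [10, 13, 11, 10, 2],
 [14, 10, 15, 11, 2],
 [16, 10, 13, 11, 2],
 [10, 15, 11, 10, 2],
 [10, 7, 11],
 [12],
 [12, 7],
 [10, 11, 5],
 [10, 11, 7],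
 [10, 11],
 [4, 12],
 [10, 14, 2],
 [16, 9],
 [16, 9, 14, 9],
 [15, 9, 12, 9],
 [16, 10, 13, 11],
 [7, 11],
 [11, 5],
 [9, 12, 7],
 [11, 7],
 [9, 12, 5],
 [11],
 [9, 4, 12],
 [14, 9, 16],
 [9, 13, 11],
 [16, 9, 14],
 [14, 9, 16, 2],
 [15, 9, 12],
 [13, 9, 12],
 [9, 15, 11],
 [16, 9, 14, 2],
 [9, 16, 2],
 [14, 10, 7],
 [10, 5, 2],
 [13, 10, 7],
 [14, 10],
 [13, 10],
 [7, 10, 2],
 [13, 10, 5],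
 [10, 2],
 [16, 10],
 [16, 10, 7],
 [10, 7, 2],
 [13, 7, 10],
 [11, 5, 9],
 [13, 9, 5],
 [11, 9, 5],
 [12, 10, 7],
 [10, 13, 7],
 [13, 5, 9],
 [10, 16, 2],
 [16, 9, 7, 2],
 [10, 14, 5],
 [14, 9],
 [10, 7, 13],
 [13, 9],
 [10, 13, 5],
 [13, 9, 7],
 [2, 16],
 [9, 2, 16],
 [10, 14],
 [14, 9, 5],
 [10, 16, 5],
 [16, 9, 5],
 [9, 5, 2],
 [9, 2],
 [11, 10, 2],
 [11, 9],
 [11, 10, 5, 2],
 [11, 7, 10, 2],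
 [11, 10, 7, 2],
 [11, 16, 10, 7],
 [11, 16, 10],
 [14, 11, 9, 7],
 [14, 11, 9],
 [16, 11, 9],
 [16, 11, 9, 7],
 [10, 14, 5, 2],
 [9, 7],
 [11, 10, 5],
 [11, 7, 10],
 [9],
 [11, 9, 7],
 [12, 10, 5],
 [9, 16, 10, 2],
 [10, 15, 11, 10],
 [9, 13, 7],
 [13, 10, 11, 5, 2],
 [13, 9, 12, 9],
 [7, 11, 2],
 [16, 11],
 [11, 5, 2],
 [14, 9, 16, 9],
 [13, 10, 11, 2],
 [9, 14, 9, 5],
 [9, 15, 11, 10],
 [9, 14, 10, 16],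
 [13, 10, 15, 11, 2],
 [9, 14, 5],
 [13, 10, 11],
 [11, 16],
 [10, 11, 16],
 [10, 11, 14],
 [11, 14],
 [10, 11, 14, 5],
 [11, 14, 5],
 [15, 10, 11, 5],
 [11, 16, 5],
 [10, 11, 16, 5],
 [2, 15, 10, 11],
 [14, 11],
 [9, 14, 2],
 [14, 2],
 [9, 14, 5, 2],
 [14, 5, 2],
 [15, 10, 11, 2],
 [9, 16, 9, 5],
 [15, 10, 13, 11, 2],
 [16, 5],
 [9, 7, 13],
 [11, 2],
 [9, 13, 5],
 [9, 16, 10, 14],
 [9, 13, 11, 10],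
 [11, 7, 2],
 [9, 14],
 [15, 10, 11],
 [13, 10, 11, 5],
 [9, 16, 5],
 [14, 11, 5],
 [16, 11, 5],
 [9, 16, 10, 5, 2],
 [12, 9, 5],
 [10, 7],
 [16, 10, 2],
 [12, 5, 9],
 [10],
 [2, 16, 10],
 [9, 13, 10],
 [10, 15, 11, 9],
 [10, 13, 11, 9],
 [7, 2],
 [9, 16, 10, 7],
 [14, 5],
 [9, 14, 9],
 [13, 10, 15, 11],
 [15, 10, 13, 11],
 [16],
 [9, 16, 9],
 [12, 9, 7],
 [11, 10, 7],
 [9, 5],
 [10, 5],
 [16, 10, 5, 2],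
 [14, 10, 2],
 [7, 10],
 [12, 9],
 [11, 10],
 [5, 9],
 [11, 14, 10],
 [11, 14, 10, 7],
 [9, 14, 10, 2],
 [7, 5],
 [9, 16, 10],
 [2],
 [9, 13, 10, 7],
 [],
 [9, 2, 16, 10],
 [9, 12, 9],
 [9, 12, 9, 7],
 [9, 12, 5, 9],
 [9, 12, 9, 5],
 [7, 5, 2],
 [9, 14, 10],
 [9, 14, 10, 7],
 [5, 2],
 [9, 13, 10, 5],
 [9, 13, 7, 10],
 [10, 2, 16],
 [2, 16, 9]]
def clN : List (ℕ × List ℕ) := [(4, [0, 14, 3, 13]),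
 (5, [3, 14, 3, 14, 3, 14]),
 (6, [3, 13, 3, 13, 3, 13]),
 (7, [12, 13, 3, 13, 3, 12, 14]),
 (8, [12, 14, 3, 14, 3, 14, 11]),
 (15, [23, 13, 23]),
 (16, [23, 14, 23]),
 (19, [12, 13, 15, 12, 14, 5]),
 (20, [10, 19, 9]),
 (21, [2, 19, 2]),
 (22, [2, 20, 2]),
 (24, [9, 12, 9, 14, 16, 10, 13, 12, 16]),
 (25, [9, 11]),
 (26, [11, 9]),
 (27, [9, 13, 9, 13, 9, 13, 9, 13, 9, 13, 9, 13]),
 (28, [14, 10, 14, 10, 14, 10, 14, 10, 14, 10, 14, 10]),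
 (29, [2, 11, 13]),
 (33, [3, 1]),
 (34, [4, 1]),
 (35, [11, 15, 3, 4]),
 (36, [11, 15, 1, 0]),
 (39, [37, 10]),
 (40, [9, 38]),
 (46, [37, 2, 1, 0]),
 (47, [38, 2, 23, 24, 0])]
def clD : List (ℕ × List ℕ) := [(33, [3, 1]),
 (34, [4, 1]),
 (39, [37, 10]),
 (40, [9, 38]),
 (41, [32, 38, 32, 24, 2, 3, 23]),
 (43, [40, 41, 34, 39, 41, 34]),
 (44, [39, 41, 34, 40, 41, 34]),
 (46, [37, 2, 1, 0]),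
 (47, [38, 2, 23, 24, 0])]
def LN : ℕ := 213297739202559
def LD : ℕ := 241787465106975
def repsN : List (List ℕ) := [[],
 [38],
 [37]]
def rho : List ℕ := [37, 31, 38, 31, 37, 31, 37, 2, 32, 9, 3]
def repsD : List (List ℕ) := [[],
 [38],
 [37],
 [32, 38],
 [31, 38],
 [32, 37],
 [31, 37],
 [38, 32, 38],
 [38, 31, 37],
 [37, 31, 37],
 [37, 32, 38],
 [37, 31, 38],
 [37, 32, 37],
 [38, 32, 37],
 [38, 31, 38],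
 [32, 38, 32, 38],
 [31, 38, 31, 37],
 [31, 38, 32, 37],
 [32, 38, 31, 38],
 [32, 37, 31, 38],
 [31, 37, 31, 37],
 [31, 37, 32, 38],
 [32, 37, 32, 37],
 [37, 32, 37, 32, 37],
 [38, 31, 37, 31, 37],
 [37, 31, 38, 31, 37],
 [38, 32, 37, 31, 38],
 [31, 37, 32, 37],
 [32, 37, 32, 38],
 [32, 38, 31, 37],
 [31, 38, 32, 38],
 [31, 37, 31, 38],
 [32, 37, 31, 37],
 [32, 38, 32, 37],
 [31, 38, 31, 38],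
 [31, 38, 31, 37, 31, 37],
 [32, 37, 31, 38, 31, 37],
 [37, 31, 38, 31, 37, 31, 37, 2, 32, 9, 3],
 [38, 31, 37, 32, 37],
 [38, 32, 38, 32, 37],
 [37, 32, 37, 31, 37],
 [37, 32, 38, 31, 37],
 [32, 38, 31, 37, 32, 37],
 [31, 37, 32, 37, 31, 37],
 [37, 31, 38, 31, 37, 31, 37, 2, 32, 9, 3, 37, 31, 38, 31, 37, 31, 37, 2, 32, 9, 3]]
def ch_xh_z : List (List ℕ) := [[1, 0],
 [3, 1],
 [3, 23, 0],
 [3, 23, 0],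
 [23, 1, 0],
 [23],
 [3],
 [1],
 [0],
 [0]]
def ch_xh_e : List (List ℕ) := [[20],
 [25, 21, 19, 20, 3, 23, 0],
 [25, 21, 22, 19, 23, 1, 0],
 [25],
 [25],
 [22],
 [21],
 [25, 26, 22, 19, 20, 23, 1, 0],
 [25, 26, 21, 19, 3, 1],
 [19]]
def ch_xh_v1 : List (List ℕ) := [[25],
 [22],
 [21],
 [25, 26, 22, 19, 20, 23, 1, 0],
 [25, 26, 21, 19, 3, 1],
 [19],
 [20],
 [25, 21, 19, 20, 3, 23, 0],
 [25, 21, 22, 19, 23, 1, 0],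
 [25]]
def ch_rh_z : List (List ℕ) := [[1, 0],
 [3, 1],
 [23, 1, 0],
 [23],
 [3],
 [1],
 [0],
 [0],
 [0],
 [0],
 [0]]
def ch_rh_e : List (List ℕ) := [[20],
 [25, 21, 19, 20, 3, 23, 0],
 [25, 22, 20, 3, 1],
 [20],
 [19, 20],
 [26, 22, 19, 3, 23, 0],
 [26, 21, 20, 23, 1, 0],
 [26, 22, 19, 3, 23, 0],
 [19, 20],
 [19],
 [19]]
def ch_rh_v1 : List (List ℕ) := [[25],
 [22],
 [21, 22],
 [26, 21, 20, 23, 1, 0],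
 [26, 21, 22, 19, 20, 3, 1],
 [19, 20],
 [19],
 [21],
 [25, 26],
 [25],
 [25]]

end H15.Sz
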