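import Mathlib
import Cfsg.Agent.H15.SzA
import Cfsg.Agent.H15.KM4
import Cfsg.Agent.H15.SzD1

/-!
# Facts inside the identified centraliser
-/

set_option autoImplicit false
set_option maxRecDepth 100000
set_option Elab.async false
set_option linter.unusedSectionVars false

namespace H15.Sz

open H29 H24 Subgroup KM XP

variable {G : Type*} [Group G] [Finite G] {e : ℕ → G}

def Sl : List ℕ := [19, 20, 3, 23, 4, 24, 1, 0]
def Se : List ℕ := 29 :: Sl
def W1 : List ℕ := [3, 23, 1, 0]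
def W2 : List ℕ := [4, 24, 1, 0]

theorem cOB : chkPC runH iv (OZ ++ [0]) = true := by decide +kernel
theorem cSe : chkPC runH iv Se = true := by decide +kernel
theorem cW1 : chkPC runH iv W1 = true := by decide +kernel
theorem cW2 : chkPC runH iv W2 = true := by decide +kernel
theorem cV : chkPC runH iv [1, 0] = true := by decide +kernel
theorem cE : chkPC runH iv [19, 20] = true := by decide +kernel
theorem orbE : chkOrb runH iv Bc [19] W240 = true := by decide +kernel

/-- the centraliser of `e 0` is the model -/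
structure HH (e : ℕ → G) : Prop where
  iso : Iso runH e
  top : gen e HL = C{e 0}

namespace HH

variable (h : HH e)
include h

theorem iv : IvOK e iv := h.iso.ivOK isoH ivH

theorem cen (c : ℕ) : e c ∈ C{e 0} := mem_C1.2 (by
  simpa using (h.iso [c, 0] [0, c]).1 ((isoH _ _).2 (by simpa using mem_C1.1 (mH_cent c))))

theorem sq : e 0 * e 0 = 1 := by simpa using h.iso.eqW.1 (by decide +kernel : eqW runH [0, 0] [] = true)
theorem ne : e 0 ≠ 1 := by simpa using h.iso.ne (by decide +kernel : not1 (eqW runH [0] []) = true)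

theorem mz : MZ e :=
  ⟨iso_modZ_self h.iso h.sq h.cen, h.cen, orderOf_eq_prime (by rw [pow_two, h.sq]) h.ne⟩

theorem pSe : PC e Se := h.iso.pc h.iv cSe
theorem pS : PC e Sl := h.pSe.1
theorem pW1 : PC e W1 := h.iso.pc h.iv cW1
theorem pW2 : PC e W2 := h.iso.pc h.iv cW2
theorem pV : PC e [1, 0] := h.iso.pc h.iv cV
theorem pE : PC e [19, 20] := h.iso.pc h.iv cE

theorem cenJ {y : G} (hy : y ∈ gen e (OZ ++ [0])) (h1 : y ∈ C{e 9}) (h2 : y ∈ C{e 27})
    (h3 : y ∈ C{e 1}) : y ∈ gen e [1, 0] := by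
  obtain ⟨x, -, a0, -, -, a2⟩ := (h.iso.pc h.iv cOB).allP h.iv (f := fun x _ =>
    imp2 (chkC runH [1, 9, 27] x) (inP runH [1, 0] x)) (by decide +kernel) hy
  simp only [imp2_true, chkC, allL_true, h.iso.eqW, h.iso.inP h.pV, ev_cons, app_eq, ev_append, a0,
    ev_nil, mul_one] at a2
  exact a2 (by simpa using ⟨(mem_C1.1 h3).symm, (mem_C1.1 h1).symm, (mem_C1.1 h2).symm⟩)

theorem bv {y : G} (hy : y ∈ gen e (OZ ++ [0])) (h0 : y * y = 1) (h1 : y ∈ C{e 9}) (h2 : y ∈ C{e 11})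
    (h3 : (y * e 13 * y * e 14) ^ 2 = e 1) (h4 : (y * e 27) ^ 5 = 1) : y = e 23 := by
  obtain ⟨x, x', a0, -, a1, a2⟩ := (h.iso.pc h.iv cOB).allP h.iv (f := fun x y =>
    imp2 (chkC runH [9, 11] x) (imp2 (eqW runH (app x x) []) (imp2
      (eqW runH (sb (pw 2 [200, 13, 200, 14]) x y) [1]) (imp2 (eqW runH (sb (pw 5 [200, 27]) x y) [])
        (eqW runH x [23]))))) (by decide +kernel) hy
  simp only [imp2_true, chkC, allL_true, h.iso.eqW, ev_cons, app_eq, ev_append, a0, a1,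
    ev_nil, mul_one, ev_pw] at a2
  exact a2 (by simpa using ⟨(mem_C1.1 h1).symm, (mem_C1.1 h2).symm⟩) h0
    (by simpa [up, mul_assoc] using h3) (by simpa [up] using h4)

theorem genQ : gen e Qc = gen e Ql :=
  le_antisymm (h.iso.le (by decide +kernel)) (gen_sub (by decide +kernel))

theorem normQ : C{e 0} ≤ N[gen e Qc] := h.top ▸ h.genQ ▸ h.iso.norm h.iv (by decide +kernel)

theorem centE {y : G} (h0 : y ∈ C{e 0}) (h1 : y ∈ C{e 19}) : y ∈ gen e Se := by
  have a1 : y ∈ gen e Bc := by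
    refine h.mz.memB (h.top ▸ h0) (mem_N_of_finite fun x hx => conj_mem_gen (fun d hd => ?_) hx)
    simp only [List.mem_cons, List.not_mem_nil, or_false] at hd
    rcases hd with rfl | rfl
    · obtain ⟨x, x', -, -, a1, a2⟩ := (h.iso.pc h.iv (l := Ql) (by decide +kernel)).allP h.iv
        (f := fun x y => imp2 (eqW runH (sb (pw 2 [19, 200, 19, 201]) x y) [])
          (inP runH [1, 0] (sb [19, 200, 19, 201] x y))) (by decide +kernel)
        (h.genQ ▸ conj_mem (h.normQ h0) (ev_mem_gen (w := [5, 7]) (by decide)))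
      have b1 : e 1 = ev e ([19, 5, 7, 19] ++ invW Sz.iv [5, 7]) := by
        simpa using h.iso.eqW.1 (by decide +kernel :
          eqW runH [1] ([19, 5, 7, 19] ++ invW Sz.iv [5, 7]) = true)
      have b2 : y * e 1 * y⁻¹ = ev (up e (y * ev e [5, 7] * y⁻¹)) [19, 200, 19, 201] := by
        rw [b1, ev_append, ev_invW h.iv]
        simp only [ev_cons, up_200, up_201, up_of e _ (show 19 < 200 by norm_num), ev_nil]
        conv_rhs => rw [← mem_C1_iff_conj.1 h1]
        group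
      simp only [imp2_true, h.iso.eqW, h.iso.inP h.pV, a1, ev_pw, ← b2] at a2
      refine a2 ?_
      rw [conj_pow, show e 1 ^ 2 = 1 by
        simpa [pow_two] using h.iso.eqW.1 (by decide +kernel : eqW runH [1, 1] [] = true)]
      simp
    · rw [mem_C1_iff_conj.1 h0]; exact mem_gen (by simp)
  have a2 : gen e Se ≤ gen e Bc ⊓ C{ev e [19]} :=
    le_inf (h.mz.leB (by decide +kernel)) (h.iso.cent (by decide +kernel))
  have a3 := h.iso.orbit h.iv orbE
  rw [h.mz.cardB, show W240.length = 240 by decide +kernel] at a3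
  rw [eq_of_le_of_card_ge a2 (by rw [h.pSe.card]; change _ ≤ 512; omega)]
  exact ⟨a1, by simpa using h1⟩

theorem killW {y : G} (h0 : y ∈ C{e 0}) (h1 : y ∈ C{e 19}) (h2 : y ∈ C{e 25}) : y ∈ gen e W1 := by
  obtain ⟨x, -, a0, -, -, a2⟩ := h.pSe.allP h.iv (f := fun x _ =>
    imp2 (chkC runH [25] x) (inP runH W1 x)) (by decide +kernel) (h.centE h0 h1)
  simp only [imp2_true, chkC, allL_true, h.iso.eqW, h.iso.inP h.pW1, ev_cons, app_eq, ev_append, a0,
    ev_nil, mul_one] at a2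
  exact a2 (by simpa using (mem_C1.1 h2).symm)

theorem centS {y : G} (h0 : y ∈ C{e 0}) (h1 : y ∈ C{e 19}) (h2 : y ∈ C{e 20}) : y ∈ gen e Sl := by
  obtain ⟨x, -, a0, -, -, a2⟩ := h.pSe.allP h.iv (f := fun x _ =>
    imp2 (chkC runH [20] x) (inP runH Sl x)) (by decide +kernel) (h.centE h0 h1)
  simp only [imp2_true, chkC, allL_true, h.iso.eqW, h.iso.inP h.pS, ev_cons, app_eq, ev_append, a0,
    ev_nil, mul_one] at a2
  exact a2 (by simpa using (mem_C1.1 h2).symm)

theorem eaW1 {y : G} (hy : y ∈ gen e W1) : y * y = 1 := by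
  obtain ⟨x, -, a0, -, -, a2⟩ := h.pW1.allP h.iv (f := fun x _ => eqW runH (app x x) [])
    (by decide +kernel) hy
  simpa [h.iso.eqW, a0] using a2

theorem eaW2 {y : G} (hy : y ∈ gen e W2) : y * y = 1 := by
  obtain ⟨x, -, a0, -, -, a2⟩ := h.pW2.allP h.iv (f := fun x _ => eqW runH (app x x) [])
    (by decide +kernel) hy
  simpa [h.iso.eqW, a0] using a2

theorem sqS {y : G} (hy : y ∈ gen e Sl) : y * y ∈ gen e [1, 0] := by
  obtain ⟨x, -, a0, -, -, a2⟩ := h.pS.allP h.iv (f := fun x _ => inP runH [1, 0] (app x x))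
    (by decide +kernel) hy
  simpa [h.iso.inP h.pV, a0] using a2

theorem four {y : G} (hy : y ∈ gen e Se) : y ^ 4 = 1 ∨ y ^ 4 = e 0 := by
  obtain ⟨x, -, a0, -, -, a2⟩ := h.pSe.allP h.iv (f := fun x _ =>
    or2 (eqW runH (pw 4 x) []) (eqW runH (pw 4 x) [0])) (by decide +kernel) hy
  simpa [h.iso.eqW, a0] using a2

/-- elements of `S` with square in `E` -/
theorem invS {y : G} (hy : y ∈ gen e Sl) (h1 : y * y ∈ gen e [19, 20]) :
    y ∈ gen e (19 :: 20 :: W1) ∨ y ∈ gen e (19 :: 20 :: W2) := by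
  obtain ⟨x, -, a0, -, -, a2⟩ := h.pS.allP h.iv (f := fun x _ => imp2 (inP runH [19, 20] (app x x))
    (or2 (inP runH (19 :: 20 :: W1) x) (inP runH (19 :: 20 :: W2) x))) (by decide +kernel) hy
  simp only [imp2_true, or2_true, h.iso.inP h.pE, app_eq, ev_append, a0] at a2
  exact (a2 h1).imp (fun a => a0 ▸ h.iso.mem a) fun a => a0 ▸ h.iso.mem a

/-- the centre of `S` modulo `E` -/
theorem cenS {y : G} (hy : y ∈ gen e Sl)
    (h1 : ∀ c ∈ W1 ++ W2, y * e c * y⁻¹ * e c ∈ gen e [19, 20]) : y ∈ gen e [19, 20, 1, 0] := by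
  obtain ⟨x, x', a0, a1, -, a2⟩ := h.pS.allP h.iv (f := fun x y => imp2 (allL (W1 ++ W2) fun c =>
    inP runH [19, 20] (app x (c :: app y [c]))) (inP runH [19, 20, 1, 0] x)) (by decide +kernel) hy
  simp only [imp2_true, allL_true, h.iso.inP h.pE, app_eq, ev_append, a0, a1, ev_cons, ev_nil,
    mul_one, ← mul_assoc] at a2
  exact a0 ▸ h.iso.mem (a2 h1)

/-- `V ⊓ E = 1` -/
theorem infV {y : G} (hy : y ∈ gen e W1) (h1 : y ∈ gen e [19, 20]) : y = 1 := by
  obtain ⟨x, -, a0, -, -, a2⟩ := h.pW1.allP h.iv (f := fun x _ => imp2 (inP runH [19, 20] x)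
    (eqW runH x [])) (by decide +kernel) hy
  simp only [imp2_true, h.iso.inP h.pE, h.iso.eqW, a0] at a2
  exact a2 h1

theorem infV2 {y : G} (hy : y ∈ gen e W2) (h1 : y ∈ gen e [19, 20]) : y = 1 := by
  obtain ⟨x, -, a0, -, -, a2⟩ := h.pW2.allP h.iv (f := fun x _ => imp2 (inP runH [19, 20] x)
    (eqW runH x [])) (by decide +kernel) hy
  simp only [imp2_true, h.iso.inP h.pE, h.iso.eqW, a0] at a2
  exact a2 h1

end HH

end H15.Sz
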