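import Mathlib
import Cfsg.Agent.H29.Ext

set_option autoImplicit false
set_option maxRecDepth 100000
set_option Elab.async false
set_option linter.all false

namespace H15.SzN

open H29

noncomputable def n0 : Net := ben 2 [(nat_lit 0x0),
 (nat_lit 0x0)]
noncomputable def t0 : List ℕ := [(nat_lit 0x2),
 (nat_lit 0x4)]
noncomputable def d0 : ℕ := (nat_lit 0x0)
noncomputable def n1 : Net := ben 2 [(nat_lit 0x0),
 (nat_lit 0x0)]
noncomputable def t1 : List ℕ := [(nat_lit 0x2),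
 (nat_lit 0x4)]
noncomputable def d1 : ℕ := (nat_lit 0x0)
noncomputable def n2 : Net := ben 2 [(nat_lit 0x3),
 (nat_lit 0x1)]
noncomputable def t2 : List ℕ := [(nat_lit 0x0),
 (nat_lit 0x0)]
noncomputable def d2 : ℕ := (nat_lit 0x4)
noncomputable def n3 : Net := ben 2 [(nat_lit 0x0),
 (nat_lit 0x0)]
noncomputable def t3 : List ℕ := [(nat_lit 0x2),
 (nat_lit 0x4)]
noncomputable def d3 : ℕ := (nat_lit 0x0)
noncomputable def n9 : Net := ben 2 [(nat_lit 0x0),
 (nat_lit 0x0)]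
noncomputable def t9 : List ℕ := [(nat_lit 0x2),
 (nat_lit 0x4)]
noncomputable def d9 : ℕ := (nat_lit 0x0)
noncomputable def n10 : Net := n9.rev
noncomputable def t10 : List ℕ := mapPull n10 t9
noncomputable def d10 : ℕ := (nat_lit 0x0)
noncomputable def n11 : Net := ben 2 [(nat_lit 0x0),
 (nat_lit 0x0)]
noncomputable def t11 : List ℕ := [(nat_lit 0x2),
 (nat_lit 0x4)]
noncomputable def d11 : ℕ := (nat_lit 0x0)
noncomputable def n12 : Net := n11.rev
noncomputable def t12 : List ℕ := mapPull n12 t11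
noncomputable def d12 : ℕ := (nat_lit 0x0)
noncomputable def n13 : Net := ben 2 [(nat_lit 0x0),
 (nat_lit 0x0)]
noncomputable def t13 : List ℕ := [(nat_lit 0x2),
 (nat_lit 0x4)]
noncomputable def d13 : ℕ := (nat_lit 0x0)
noncomputable def n14 : Net := n13.rev
noncomputable def t14 : List ℕ := mapPull n14 t13
noncomputable def d14 : ℕ := (nat_lit 0x0)
noncomputable def n23 : Net := ben 2 [(nat_lit 0x0),
 (nat_lit 0x0)]
noncomputable def t23 : List ℕ := [(nat_lit 0x2),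
 (nat_lit 0x6)]
noncomputable def d23 : ℕ := (nat_lit 0x0)
noncomputable def n37 : Net := ben 2 [(nat_lit 0x1),
 (nat_lit 0x1)]
noncomputable def t37 : List ℕ := [(nat_lit 0x1),
 (nat_lit 0x4)]
noncomputable def d37 : ℕ := (nat_lit 0x2)
noncomputable def n38 : Net := n37.rev
noncomputable def t38 : List ℕ := mapPull n38 t37
noncomputable def d38 : ℕ := (nat_lit 0x0)
def ivl : List ℕ := [0, 1, 2, 3, 4, 6, 5, 8, 7, 10, 9, 12, 11, 14, 13, 16, 15, 18, 17, 19, 20, 21, 22, 23, 24, 25, 26, 28, 27, 29, 30, 32, 31, 33, 34, 35, 36, 38, 37, 40, 39, 41, 42, 43, 44, 45, 46, 47, 48]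
def cols : List ℕ := [0, 1, 2, 3, 9, 10, 11, 12, 13, 14, 23, 37, 38]
def hcols : List ℕ := [0, 1, 2, 3, 9, 10, 11, 12, 13, 14, 23]
def G0 : List (List ℕ) := [[37, 37, 37],
 [2, 37, 2, 37],
 [37, 0, 38, 1],
 [37, 1, 38, 0, 1],
 [37, 3, 38, 23],
 [37, 9, 38, 10],
 [37, 11, 38, 12],
 [37, 13, 38, 14],
 [2, 0, 2, 0],
 [2, 1, 2, 0, 1],
 [1, 0, 1, 0],
 [2, 3, 2, 3],
 [2, 9, 2, 10],
 [2, 11, 2, 12],
 [2, 13, 2, 14]]
def R0 : List (List ℕ) := G0
theorem hii : ∀ c, ivOf ivl (ivOf ivl c) = c := ivOf_ivOf (by decide +kernel)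
theorem der : Derives (ivOf ivl) R0 R0 := Derives.refl _ _
noncomputable def nl : List Net := [n0, n1, n2, n3, Net.nil, Net.nil, Net.nil, Net.nil, Net.nil, n9, n10, n11, n12, n13, n14, Net.nil, Net.nil, Net.nil, Net.nil, Net.nil, Net.nil, Net.nil, Net.nil, n23, Net.nil, Net.nil, Net.nil, Net.nil, Net.nil, Net.nil, Net.nil, Net.nil, Net.nil, Net.nil, Net.nil, Net.nil, Net.nil, n37, n38]
noncomputable def T : TCData := ⟨3, 3, 2, 2, nth Net.nil nl, ivOf ivl, cols, hcols, R0,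
  nth [] [t0, t1, t2, t3, [], [], [], [], [], t9, t10, t11, t12, t13, t14, [], [], [], [], [], [], [], [], t23, [], [], [], [], [], [], [], [], [], [], [], [], [], t37, t38], nth 0 [d0, d1, d2, d3, 0, 0, 0, 0, 0, d9, d10, d11, d12, d13, d14, 0, 0, 0, 0, 0, 0, 0, 0, d23, 0, 0, 0, 0, 0, 0, 0, 0, 0, 0, 0, 0, 0, d37, d38]⟩
theorem hn : NetsOK 3 (nth Net.nil nl) := netsOK_of_all (by decide +kernel)
theorem hiv : IvOK (sg (nth Net.nil nl)) (ivOf ivl) :=
  ivOK_of_chk (k := 2) hn (by decide) (n := 49) (by decide) (by decide) (allN_true.1 (by decide +kernel))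
theorem hb : T.Basic := TCData.basic_of_chk hn hiv (by decide +kernel)
theorem hG0 : ∀ r ∈ G0, ev (sg (nth Net.nil nl)) r = 1 :=
  rels_of_chk (k := 2) hn (by decide) hiv (allN_true.1 (by decide +kernel))
noncomputable def s0 : List TCData.Step := [.pts 2 1 0 1 [1],
 .pts 8 1 0 2 [2]]
noncomputable def s1 : List TCData.Step := [.pts 2 3 0 2 [2],
 .pts 3 1 0 1 [1]]
noncomputable def s2 : List TCData.Step := []
noncomputable def s3 : List TCData.Step := [.pts 4 1 0 1 [1],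
 .pts 11 1 0 2 [2]]
noncomputable def s9 : List TCData.Step := [.pts 5 3 0 2 [2]]
noncomputable def s10 : List TCData.Step := [.pts 5 1 0 1 [1]]
noncomputable def s11 : List TCData.Step := [.pts 6 3 0 2 [2]]
noncomputable def s12 : List TCData.Step := [.pts 6 1 0 1 [1]]
noncomputable def s13 : List TCData.Step := [.pts 7 3 0 2 [2]]
noncomputable def s14 : List TCData.Step := [.pts 7 1 0 1 [1]]
noncomputable def s23 : List TCData.Step := [.all 4 3 0]
noncomputable def s37 : List TCData.Step := []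
noncomputable def s38 : List TCData.Step := [.pts 0 0 0 2 [1],
 .pts 1 1 0 1 [2]]
theorem hR0 : ∀ r ∈ R0, ev (sg (nth Net.nil nl)) r = 1 := hG0
theorem col0 : T.ColOK 0 := TCData.colOK_of_chk (U := (T.stepsMask 0 s0 (T.mask0 0))) (V := (T.stepsMask 0 s0 (T.mask0 0))) hb (TCData.cov_stepsMask hb (by decide) s0 _ (T.cov_mask0 0)) (TCData.cov_stepsMask hb (by decide) s0 _ (T.cov_mask0 0)) (by decide +kernel)
theorem col1 : T.ColOK 1 := TCData.colOK_of_chk (U := (T.stepsMask 1 s1 (T.mask0 1))) (V := (T.stepsMask 1 s1 (T.mask0 1))) hb (TCData.cov_stepsMask hb (by decide) s1 _ (T.cov_mask0 1)) (TCData.cov_stepsMask hb (by decide) s1 _ (T.cov_mask0 1)) (by decide +kernel)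
theorem col2 : T.ColOK 2 := TCData.colOK_of_chk (U := (T.stepsMask 2 s2 (T.mask0 2))) (V := (T.stepsMask 2 s2 (T.mask0 2))) hb (TCData.cov_stepsMask hb (by decide) s2 _ (T.cov_mask0 2)) (TCData.cov_stepsMask hb (by decide) s2 _ (T.cov_mask0 2)) (by decide +kernel)
theorem col3 : T.ColOK 3 := TCData.colOK_of_chk (U := (T.stepsMask 3 s3 (T.mask0 3))) (V := (T.stepsMask 3 s3 (T.mask0 3))) hb (TCData.cov_stepsMask hb (by decide) s3 _ (T.cov_mask0 3)) (TCData.cov_stepsMask hb (by decide) s3 _ (T.cov_mask0 3)) (by decide +kernel)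
theorem col9 : T.ColOK 9 := TCData.colOK_of_chk (U := (T.stepsMask 9 s9 (T.mask0 9))) (V := (T.stepsMask 10 s10 (T.mask0 10))) hb (TCData.cov_stepsMask hb (by decide) s9 _ (T.cov_mask0 9)) (TCData.cov_stepsMask hb (by decide) s10 _ (T.cov_mask0 10)) (by decide +kernel)
theorem col10 : T.ColOK 10 := TCData.colOK_of_chk (U := (T.stepsMask 10 s10 (T.mask0 10))) (V := (T.stepsMask 9 s9 (T.mask0 9))) hb (TCData.cov_stepsMask hb (by decide) s10 _ (T.cov_mask0 10)) (TCData.cov_stepsMask hb (by decide) s9 _ (T.cov_mask0 9)) (by decide +kernel)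
theorem col11 : T.ColOK 11 := TCData.colOK_of_chk (U := (T.stepsMask 11 s11 (T.mask0 11))) (V := (T.stepsMask 12 s12 (T.mask0 12))) hb (TCData.cov_stepsMask hb (by decide) s11 _ (T.cov_mask0 11)) (TCData.cov_stepsMask hb (by decide) s12 _ (T.cov_mask0 12)) (by decide +kernel)
theorem col12 : T.ColOK 12 := TCData.colOK_of_chk (U := (T.stepsMask 12 s12 (T.mask0 12))) (V := (T.stepsMask 11 s11 (T.mask0 11))) hb (TCData.cov_stepsMask hb (by decide) s12 _ (T.cov_mask0 12)) (TCData.cov_stepsMask hb (by decide) s11 _ (T.cov_mask0 11)) (by decide +kernel)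
theorem col13 : T.ColOK 13 := TCData.colOK_of_chk (U := (T.stepsMask 13 s13 (T.mask0 13))) (V := (T.stepsMask 14 s14 (T.mask0 14))) hb (TCData.cov_stepsMask hb (by decide) s13 _ (T.cov_mask0 13)) (TCData.cov_stepsMask hb (by decide) s14 _ (T.cov_mask0 14)) (by decide +kernel)
theorem col14 : T.ColOK 14 := TCData.colOK_of_chk (U := (T.stepsMask 14 s14 (T.mask0 14))) (V := (T.stepsMask 13 s13 (T.mask0 13))) hb (TCData.cov_stepsMask hb (by decide) s14 _ (T.cov_mask0 14)) (TCData.cov_stepsMask hb (by decide) s13 _ (T.cov_mask0 13)) (by decide +kernel)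
theorem col23 : T.ColOK 23 := TCData.colOK_of_chk (U := (T.stepsMask 23 s23 (T.mask0 23))) (V := (T.stepsMask 23 s23 (T.mask0 23))) hb (TCData.cov_stepsMask hb (by decide) s23 _ (T.cov_mask0 23)) (TCData.cov_stepsMask hb (by decide) s23 _ (T.cov_mask0 23)) (by decide +kernel)
theorem col37 : T.ColOK 37 := TCData.colOK_of_chk (U := (T.stepsMask 37 s37 (T.mask0 37))) (V := (T.stepsMask 38 s38 (T.mask0 38))) hb (TCData.cov_stepsMask hb (by decide) s37 _ (T.cov_mask0 37)) (TCData.cov_stepsMask hb (by decide) s38 _ (T.cov_mask0 38)) (by decide +kernel)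
theorem col38 : T.ColOK 38 := TCData.colOK_of_chk (U := (T.stepsMask 38 s38 (T.mask0 38))) (V := (T.stepsMask 37 s37 (T.mask0 37))) hb (TCData.cov_stepsMask hb (by decide) s38 _ (T.cov_mask0 38)) (TCData.cov_stepsMask hb (by decide) s37 _ (T.cov_mask0 37)) (by decide +kernel)
theorem ok : T.OK := ⟨hb, TCData.treeOK_of_chk hn (by decide +kernel), (List.forall_mem_cons.2 ⟨col0, (List.forall_mem_cons.2 ⟨col1, (List.forall_mem_cons.2 ⟨col2, (List.forall_mem_cons.2 ⟨col3, (List.forall_mem_cons.2 ⟨col9, (List.forall_mem_cons.2 ⟨col10, (List.forall_mem_cons.2 ⟨col11, (List.forall_mem_cons.2 ⟨col12, (List.forall_mem_cons.2 ⟨col13, (List.forall_mem_cons.2 ⟨col14, (List.forall_mem_cons.2 ⟨col23, (List.forall_mem_cons.2 ⟨col37, (List.forall_mem_cons.2 ⟨col38, (fun _ h => absurd h List.not_mem_nil)⟩)⟩)⟩)⟩)⟩)⟩)⟩)⟩)⟩)⟩)⟩)⟩)⟩), der _ _ hiv hR0⟩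
theorem bd {G : Type} [Group G] {e : ℕ → G} (h1 : IvOK e (ivOf ivl)) (h2 : ∀ r ∈ R0, ev e r = 1)
    {m : ℕ} (h : Bd (gen e hcols) m) : Bd (gen e cols) (3 * m) := ok.bd h1 (der G e h1 h2) h
theorem cm {G : Type} [Group G] {e : ℕ → G} (h1 : IvOK e (ivOf ivl)) (h2 : ∀ r ∈ R0, ev e r = 1)
    (h3 : gen e cols = ⊤) {ρ : G →* Equiv.Perm ℕ} (h4 : ∀ c, ρ (e c) = sg (nth Net.nil nl) c) :
    CosetModel ρ (gen e hcols) 3 := ok.cosetModel h1 (der G e h1 h2) h3 fun c _ => h4 c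

end H15.SzN
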