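import Mathlib
import Cfsg.Agent.H15.SzF
import Cfsg.Agent.H15.SzN
import Cfsg.Agent.H15.SzD

/-!
# The two further local subgroups
-/

set_option autoImplicit false
set_option maxRecDepth 100000
set_option Elab.async false
set_option linter.unusedSectionVars false

namespace H15.Sz

open H29 H24 Subgroup KM XP

variable {G : Type*} [Group G] [Finite G] {e : ℕ → G}

def LH : ℕ := 137438953471

theorem LH_lt {c : ℕ} (h : LH.testBit c = true) : c < 37 := by
  simpa using (Nat.testBit_two_pow_sub_one 37 c).symm.trans h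

theorem gen_tr {X : Type*} [Group X] (e : ℕ → X) {l : List ℕ} (h : okW LH l = true) :
    gen (tr e) l = gen e l := gen_congr fun c hc => tr_lt _ (LH_lt (okW_true.1 h c hc))

/-- the letters, with the relations for `x` -/
structure B1 (e : ℕ → G) : Prop where
  hh : HH (tr e)
  df : Def e defs
  i38 : e 38 = (e 37)⁻¹
  rx : ∀ r ∈ SzN.R0.take 8, ev e r = 1

theorem Pre.exists_B1 (h : Pre e) {g : G} (hg : g * e 0 * g⁻¹ = e 1) :
    ∃ e' : ℕ → G, B1 e' ∧ e' 0 = e 0 := by
  obtain ⟨hp, u, u1, u2, u3, u4, u5, u6⟩ := h.key hg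
  have H : HH e := ⟨h.iso hp, h.top⟩
  have E := fun u v (a : eqW runH u v = true) => H.iso.eqW.1 a
  have iu : u⁻¹ = u := inv_eq_of_mul_eq_one_right u1
  have a2 : e 2 * e 2 = 1 := by simpa using E [2, 2] [] (by decide +kernel)
  have i2 : (e 2)⁻¹ = e 2 := inv_eq_of_mul_eq_one_right a2
  have x0 : e 2 * u * e 0 * (e 2 * u)⁻¹ = e 1 := by
    rw [show e 2 * u * e 0 * (e 2 * u)⁻¹ = e 2 * (u * e 0 * u⁻¹) * (e 2)⁻¹ by group, u5, i2]
    simpa [mul_assoc] using E [2, 1, 0, 2] [1] (by decide +kernel)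
  have x1 : e 2 * u * e 1 * (e 2 * u)⁻¹ = e 1 * e 0 := by
    rw [show e 2 * u * e 1 * (e 2 * u)⁻¹ = e 2 * (u * e 1 * u⁻¹) * (e 2)⁻¹ by group,
      mem_C1_iff_conj.1 u4, i2]
    simpa [mul_assoc] using E [2, 1, 2] [1, 0] (by decide +kernel)
  have x9 : e 2 * u ∈ C{e 9} := mul_mem (H.iso.cent1 (by decide +kernel)) u2
  have x27 : e 2 * u ∈ C{e 27} := mul_mem (H.iso.cent1 (by decide +kernel)) u3
  have x3 : e 2 * u * e 3 * (e 2 * u)⁻¹ ∈ gen e (OZ ++ [0]) := by
    rw [show e 2 * u * e 3 * (e 2 * u)⁻¹ = e 2 * (u * e 3 * u⁻¹ * (e 3)⁻¹) * e 3 * (e 2)⁻¹ by group]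
    exact mul_mem (mul_mem (mul_mem (mem_gen (by decide)) u6) (mem_gen (by decide)))
      (inv_mem (mem_gen (by decide)))
  have ux : e 2 * (e 2 * u) * e 2 * (e 2 * u) = 1 := by
    rw [← mul_assoc (e 2), a2, one_mul, mul_assoc, ← mul_assoc (e 2), a2, one_mul, u1]
  generalize e 2 * u = x at x0 x1 x9 x27 x3 ux
  have cJ : ∀ w : List ℕ, (∀ c ∈ w, c ∈ [9, 10, 27, 28]) → x ∈ C{ev e w} := fun w hw =>
    mem_C1_comm.1 (ev_mem fun c hc => by
      have := hw c hc
      simp only [List.mem_cons, List.not_mem_nil, or_false] at this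
      rcases this with rfl | rfl | rfl | rfl
      exacts [mem_C1_comm.1 x9, (H.iv 9 : e 10 = _) ▸ inv_mem (mem_C1_comm.1 x9), mem_C1_comm.1 x27,
        (H.iv 27 : e 28 = _) ▸ inv_mem (mem_C1_comm.1 x27)])
  have x11 : x ∈ C{e 11} := by
    simpa only [E [27, 9, 28] [11] (by decide +kernel), ev_cons, ev_nil, mul_one] using
      cJ [27, 9, 28] (by decide)
  have x13 : x ∈ C{e 13} := by
    simpa only [E [10, 27] [13] (by decide +kernel), ev_cons, ev_nil, mul_one] using
      cJ [10, 27] (by decide)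
  have s2 : e 1 * e 0 * e 1 = e 0 := by simpa [mul_assoc] using E [1, 0, 1] [0] (by decide +kernel)
  have x10 : x * (e 1 * e 0) * x⁻¹ = e 0 := by
    rw [show x * (e 1 * e 0) * x⁻¹ = x * e 1 * x⁻¹ * (x * e 0 * x⁻¹) by group, x0, x1, s2]
  have c0 : x ^ 3 ∈ C{e 0} := mem_C1_iff_conj.2 (by
    rw [show x ^ 3 * e 0 * (x ^ 3)⁻¹ = x * (x * (x * e 0 * x⁻¹) * x⁻¹) * x⁻¹ by
      simp [pow_succ, mul_assoc], x0, x1, x10])
  have c1 : x ^ 3 ∈ C{e 1} := mem_C1_iff_conj.2 (by
    rw [show x ^ 3 * e 1 * (x ^ 3)⁻¹ = x * (x * (x * e 1 * x⁻¹) * x⁻¹) * x⁻¹ by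
      simp [pow_succ, mul_assoc], x1, x10, x0])
  have c2 := H.cenJ (H.mz.filt7 (H.mz.memB (H.top ▸ c0) (C_le_N _ (by
    rw [gen_two, C_sup, C_zpowers, C_zpowers]; exact ⟨c1, c0⟩))) (pow_mem x9 3) (pow_mem x27 3)
    (H.iv 9) (H.iv 27)) (pow_mem x9 3) (pow_mem x27 3) c1
  have s1 : e 1 * e 1 = 1 := by simpa using E [1, 1] [] (by decide +kernel)
  have c3 : x ^ 3 = 1 := by
    have b : x * x ^ 3 * x⁻¹ = x ^ 3 := by group
    rcases mem_four s1 H.sq (mem_C1.1 (H.cen 1)) (gen_two e 1 0 ▸ c2) with a | a | a | a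
    · exact a
    · rw [a, x1] at b; exact absurd (by simpa using b) H.ne
    · rw [a, x0] at b; exact absurd b h.s_ne
    · rw [a, x10] at b
      exact absurd (by simpa using b) (H.iso.ne (by decide +kernel : not1 (eqW runH [1] []) = true))
  have cj1 : ∀ {y}, x ∈ C{y} → e 3 ∈ C{y} → x * e 3 * x⁻¹ ∈ C{y} := fun a b =>
    mul_mem (mul_mem a b) (inv_mem a)
  have x14 : x ∈ C{e 14} := (H.iv 13 : e 14 = _) ▸ mem_C1_comm.1 (inv_mem (mem_C1_comm.1 x13))
  have c4 : x * e 3 * x⁻¹ = e 23 := H.bv x3 (by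
      rw [conj_mul, show e 3 * e 3 = 1 by simpa using E [3, 3] [] (by decide +kernel)]; simp)
    (cj1 x9 (H.iso.cent1 (by decide +kernel))) (cj1 x11 (H.iso.cent1 (by decide +kernel))) (by
      rw [← mem_C1_iff_conj.1 x13, ← mem_C1_iff_conj.1 x14, conj_mul, conj_mul, conj_mul, conj_pow,
        ← x0]
      simpa [mul_assoc] using E (pw 2 [3, 13, 3, 14]) [0] (by decide +kernel)) (by
      rw [← mem_C1_iff_conj.1 x27, conj_mul, conj_pow, conj_eq_one_iff']
      simpa [mul_assoc] using E (pw 5 [3, 27]) [] (by decide +kernel))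
  let b : ℕ → G := fun c => if c = 37 then x else if c = 38 then x⁻¹ else e c
  have e1 : ∀ c < 37, slp b defs c = e c := slp_agree hs (fun c hc => by
      rw [h.df c, show nth [] defsH c = nth [] defs c by revert c; decide +kernel])
    fun c hc => by simp only [b]; rw [if_neg (by omega), if_neg (by omega)]
  have e2 : tr (slp b defs) = e := funext fun c => by
    by_cases hc : c < 37
    · rw [tr_lt _ hc, e1 c hc]
    · rw [tr_ge _ (not_lt.1 hc), h.df c, nth_default _ (show defsH.length ≤ c from not_lt.1 hc)]; rfl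
  have e37 : slp b defs 37 = x := slp_base _ (by decide +kernel)
  have e38 : slp b defs 38 = x⁻¹ := slp_base _ (by decide +kernel)
  refine ⟨slp b defs, ⟨e2.symm ▸ H, slp_def _ hs, by rw [e37, e38], ?_⟩, e1 0 (by norm_num)⟩
  have k : ∀ c, x ∈ C{e c} → x * e c * x⁻¹ * e (iv c) = 1 := fun c a => by
    rw [mem_C1_iff_conj.1 a, H.iv c, mul_inv_cancel]
  simp (disch := norm_num) only [SzN.R0, SzN.G0, List.take, List.forall_mem_cons, ev_cons, ev_nil,
    mul_one, ← mul_assoc, e37, e38, e1]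
  refine ⟨by simpa [pow_succ] using c3, by simpa [mul_assoc] using ux, by rw [x0, s1], ?_, ?_,
    k 9 x9, k 11 x11, k 13 x13, by simp⟩
  · rw [x1, mul_assoc (e 1), H.sq, mul_one, s1]
  · rw [c4]; simpa using E [23, 23] [] (by decide +kernel)

namespace B1

variable (h : B1 e)
include h

theorem trH : TrM run LH e := iso.trM' isoH h.hh.iso fun _ hc => ⟨tr_lt _ (LH_lt hc), tr_lt _ (LH_lt hc)⟩

theorem dfp : Def (pr m e) defs := defm.pair h.df

theorem grH {l : List ℕ} (hl : okW LH l = true) : Gr (gen (pr m e) l) ∧ CoGr (gen (pr m e) l) := by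
  rw [← gen_congr (e := pr (tr m) (tr e)) (e' := pr m e) fun c hc => Prod.ext
    (tr_lt m (LH_lt (okW_true.1 hl c hc))) (tr_lt e (LH_lt (okW_true.1 hl c hc)))]
  exact isoH.gr h.hh.iso ivH l

theorem invp {c : ℕ} (hc : c < 39) : pr m e c * pr m e (iv c) = 1 := by
  refine Prod.ext (by simp [ivm c]) ?_
  by_cases h1 : c < 37
  · have := h.hh.iv c
    rw [tr_lt _ h1, tr_lt _ ((iv_lt c).2 h1)] at this
    simp [this]
  · have : c = 37 ∨ c = 38 := by omega
    rcases this with rfl | rfl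
    · change e 37 * e 38 = 1; simp [h.i38]
    · change e 38 * e 37 = 1; simp [h.i38]

theorem trN : TrM run LN e := by
  have hS : Sat SzN.T (pr m e) := sat_fin SzN.ok SzN.hii SzN.der (by decide +kernel)
    (fun c hc => h.invp (by revert c; decide)) fun r hr => by
      have : ∀ r ∈ SzN.R0, r ∈ SzN.R0.take 8 ∨ chkE run LH r [] = true := by decide +kernel
      rw [ev_pr, iso.rels (R := SzN.R0) (by decide +kernel) r hr, (this r hr).elim (h.rx r) h.trH.eq]
      rfl
  refine trM_of_gr iso (gr_of_sat hS (reps := repsN) (by decide +kernel) (K := C{ev m [0]})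
    (iso.cent (by decide +kernel)) (h.grH (by decide +kernel)).1 fun i a1 a2 a3 => absurd
      (mem_C1.1 a3) ?_) (mem_gen_of_clo (src_sound h.dfp (h.trH.pair iso)) (l := clN)
        (by decide +kernel))
  have : ∀ i < 3, i = 0 ∨ not1 (eqW run (app (nth [] repsN i) [0]) (0 :: nth [] repsN i)) = true := by
    decide +kernel
  simpa using iso.ne ((this i a1).resolve_left a2)

/-- the letters usable together with a letter of `D` -/
noncomputable def LL (c : ℕ) : ℕ := Bool.rec LN LH (Nat.ble c 36)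

theorem trL (c : ℕ) : TrM run (LL c) e := by
  unfold LL
  cases Nat.ble c 36
  exacts [h.trN, h.trH]

theorem killW {ρ : List ℕ} {c1 c2 c3 : List (List ℕ)} (h1 : chkCh run LL [0] ρ [0] c1 = true)
    (h2 : chkCh run LL [19] ρ [19] c2 = true) (h3 : chkCh run LL [25] ρ [25] c3 = true) :
    ev e ρ ∈ gen e W1 := by
  rw [← gen_tr e (by decide +kernel)]
  refine h.hh.killW ?_ ?_ ?_ <;> rw [tr_lt _ (by norm_num)]
  exacts [mem_C1.2 (by simpa using chkCh_sound h.trL _ _ _ h1),
    mem_C1.2 (by simpa using chkCh_sound h.trL _ _ _ h2),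
    mem_C1.2 (by simpa using chkCh_sound h.trL _ _ _ h3)]

theorem xh5 : ev e (pw 5 [37, 31]) = 1 := by
  have g := h.grH (l := W1) (by decide +kernel)
  refine kill g.1 g.2 (w := ev (pr m e) [37, 31]) (ev_mem ?_) ?_ ?_ ?_
  · simpa using ⟨(h.trN.pair iso).norm (iv := iv) (cs := [37]) (by decide +kernel) (mem_gen (by simp)),
      (h.trH.pair iso).norm (iv := iv) (cs := [31]) (by decide +kernel) (mem_gen (by simp))⟩
  · rw [map_fst, ev_pr_fst]
    exact fun a => iso.fpf ivm (by decide +kernel) (by decide +kernel)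
  · rw [map_snd]
    exact h.killW (c1 := ch_xh_z) (c2 := ch_xh_e) (c3 := ch_xh_v1) (by decide +kernel)
      (by decide +kernel) (by decide +kernel)
  · rw [ev_pr_snd, ev_pw]; exact pow_mem (self_mem_C1 _) 5

theorem trD : TrM run LD e := by
  have hS : Sat SzD.T (pr m e) := sat_fin SzD.ok SzD.hii SzD.der (by decide +kernel)
    (fun c hc => h.invp (by revert c; decide)) fun r hr => by
      have : ∀ r ∈ SzD.R0, r = pw 5 [37, 31] ∨ chkE run LN r [] = true ∨ chkE run LH r [] = true := by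
        decide +kernel
      rw [ev_pr, iso.rels (R := SzD.R0) (by decide +kernel) r hr,
        (this r hr).elim (fun a => a ▸ h.xh5) fun a => a.elim h.trN.eq h.trH.eq]
      rfl
  have g := (h.grH (l := SzD.T.hcols) (by decide +kernel)).1
  have r0 : ev m rho = 1 := iso.eqW.1 (by decide +kernel : eqW run rho [] = true)
  have r1 : ev e rho = 1 := by
    have a1 := g _ (hS.mem_of_fix (w := pw 3 rho) (by decide +kernel)) (by simp [r0])
    have a2 := h.killW (ρ := rho) (c1 := ch_rh_z) (c2 := ch_rh_e) (c3 := ch_rh_v1)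
      (by decide +kernel) (by decide +kernel) (by decide +kernel)
    rw [← gen_tr e (by decide +kernel)] at a2
    simpa [pow_succ, h.hh.eaW1 a2] using a1
  refine trM_of_gr iso (gr_of_sat hS (reps := repsD) (by decide +kernel) (K := C{ev m [0]})
    (iso.cent (by decide +kernel)) g fun i a1 a2 a3 => ?_)
      (mem_gen_of_clo (src_sound h.dfp (h.trH.pair iso)) (l := clD) (by decide +kernel))
  have : ∀ i < 45, i = 0 ∨ nth [] repsD i = rho ∨ nth [] repsD i = rho ++ rho ∨
      not1 (eqW run (app (nth [] repsD i) [0]) (0 :: nth [] repsD i)) = true := by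
    decide +kernel
  rcases (this i a1).resolve_left a2 with a | a | a
  · rw [a, ev_pr, r0, r1]; exact one_mem _
  · rw [a, ev_append, ev_pr, r0, r1]; exact mul_mem (one_mem _) (one_mem _)
  · exact absurd (mem_C1.1 a3) (by simpa using iso.ne a)

end B1

end H15.Sz
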