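import Mathlib
import Cfsg.Agent.H15.SzG
import Cfsg.Agent.H15.GeoX

/-!
# The centraliser of the four-group `E`
-/

set_option autoImplicit false
set_option maxRecDepth 100000
set_option Elab.async false
set_option linter.unusedSectionVars false

namespace H15.Sz

open H29 H24 Subgroup KM XP CIT

variable {G : Type*} [Group G] [Finite G] {e : ℕ → G}

def sg2 : List (List ℕ) := [[0], [1, 0], [], [4, 0], [3, 0], [], [], [], [], [10], [9], [], [], [], [], [], [], [], [], [19], [19, 20], [], [], [4, 24, 1, 0], [3, 23, 1, 0], [], [], [], [], [], [], [], [], [34], [33], [], [], [], [], [40], [39], [], [41], [], [], [44]]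
def LD2 : ℕ := 41257482585627
def LC : ℕ := 69844784906267
def WW1 : List (List ℕ) := [[43], [44, 41], [44, 39], [39], [41], [43, 40], [43, 39], [], [44], [44, 40], [41, 39], [40], [4, 41], [41, 40], [43, 41]]
def WW2 : List (List ℕ) := [[45], [39, 45], [40, 45], [39], [42], [45, 40], [45, 39], [], [23, 42], [40, 45, 39], [42, 39], [40], [3, 42], [42, 40], [45, 42]]
def clL : List (ℕ × List ℕ) := [(40, [39, 39]), (33, [41, 0, 41]), (34, [42, 0, 42]), (1, [39, 0, 40]), (3, [33, 1]), (4, [34, 1]), (48, [40, 41, 42, 41]), (43, [40, 41, 34, 39, 41, 34]), (45, [40, 42, 33, 39, 42, 33])]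
def LP : ℕ := 333727548833819

/-- the four-group -/
abbrev EE (e : ℕ → G) : Subgroup G := gen e [19, 20]

section

variable (e)

theorem gSl : gen (tr e) Sl = gen e Sl := gen_tr e (by decide +kernel)
theorem gSe : gen (tr e) Se = gen e Se := gen_tr e (by decide +kernel)
theorem gW1 : gen (tr e) W1 = gen e W1 := gen_tr e (by decide +kernel)
theorem gW2 : gen (tr e) W2 = gen e W2 := gen_tr e (by decide +kernel)
theorem gV : gen (tr e) [1, 0] = gen e [1, 0] := gen_tr e (by decide +kernel)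
theorem gE : gen (tr e) [19, 20] = EE e := gen_tr e (by decide +kernel)

end

theorem bit_lt {L n c : ℕ} (h : L < 2 ^ n) (hc : L.testBit c = true) : c < n := by
  by_contra h1
  rw [Nat.testBit_lt_two_pow (h.trans_le (Nat.pow_le_pow_right (by norm_num) (not_lt.1 h1)))] at hc
  exact absurd hc (by simp)

theorem mem_CE {y : G} : y ∈ C[EE e] ↔ y ∈ C{e 19} ∧ y ∈ C{e 20} := by
  rw [EE, gen_two, C_sup, C_zpowers, C_zpowers, mem_inf]

theorem braidX {X : Type*} [Group X] [Finite X] {b : ℕ → X} (tH : TrM run (LH &&& LC) b)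
    (tN : TrM run (LN &&& LC) b) (tD : TrM run (LD &&& LC) b) (tD2 : TrM run (LD2 &&& LC) b)
    (gE : ∀ l, gen b (19 :: 20 :: l) = gen b l)
    (iS : ∀ y ∈ gen b Sl, y * y = 1 → y ∈ gen b W1 ∨ y ∈ gen b W2) (hC : C{b 0} = gen b Sl)
    (hZ : ∀ y ∈ gen b Sl, y ∈ C[gen b Sl] → y ∈ gen b [1, 0]) (z1 : b 0 ≠ 1)
    (b1 : cj (b 41) (gen b [1, 0]) ⊓ gen b [1, 0] = ⊥) (b2 : cj (b 42) (gen b [1, 0]) ⊓ gen b [1, 0] = ⊥)
    (cl1 : ∀ y ∈ gen b W1, y ≠ 1 → ∃ g, g * b 0 * g⁻¹ = y)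
    (cl2 : ∀ y ∈ gen b W2, y ≠ 1 → ∃ g, g * b 0 * g⁻¹ = y) (e1 : EA (gen b W1)) (e2 : EA (gen b W2))
    (c1 : Nat.card (gen b W1) = 2 ^ W1.length) (c2 : Nat.card (gen b W2) = 2 ^ W2.length)
    (hT : CIT.T2 (gen b Sl)) : ev b (pw 3 [41, 42]) = 1 ∧ gen b [39, 0, 41, 42] = ⊤ := by
  have zV : b 0 ∈ gen b [1, 0] := mem_gen (by simp)
  have n1 : b 41 * b 41 = 1 := by simpa using tD.eq (u := [41, 41]) (v := []) (by decide +kernel)
  have n2 : b 42 * b 42 = 1 := by simpa using tD2.eq (u := [42, 42]) (v := []) (by decide +kernel)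
  have j1 : (b 41)⁻¹ = b 41 := inv_eq_of_mul_eq_one_right n1
  have j2 : (b 42)⁻¹ = b 42 := inv_eq_of_mul_eq_one_right n2
  have a1 : b 41 * b 0 * b 41 = b 33 := by
    simpa [mul_assoc] using tD.eq (u := [41, 0, 41]) (v := [33]) (by decide +kernel)
  have a2 : b 42 * b 0 * b 42 = b 34 := by
    simpa [mul_assoc] using tD2.eq (u := [42, 0, 42]) (v := [34]) (by decide +kernel)
  have j3 : (b 33)⁻¹ = b 33 := (tH.inv (by decide +kernel)).symm
  have j4 : (b 34)⁻¹ = b 34 := (tH.inv (by decide +kernel)).symm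
  have j5 : (b 39)⁻¹ = b 40 := (tN.inv (by decide +kernel)).symm
  have fg : b 3 * b 4 * (b 3 * b 4) = b 0 := by
    simpa [mul_assoc] using tH.eq (u := [3, 4, 3, 4]) (v := [0]) (by decide +kernel)
  obtain ⟨P₁, P₂, g, v1, v2⟩ := geoX (n := b 41) hC hT z1 (e1 _ (mem_gen (by decide)))
    (fun y a c d => (iS y a c).elim (fun a => cl1 y a d) fun a => cl2 y a d) iS e1 e2 (by
      rw [← gen_append, Sl, gE]
      exact le_antisymm (gen_sub (by decide +kernel)) (gen_sub (by decide +kernel)))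
    (fun a => z1 (by
      rw [← fg, mul_assoc, ← mul_assoc (b 4), ← comm_of_cent a (x := b 3) (y := b 4)
        (mem_gen (by decide)) (mem_gen (by decide)), mul_assoc, e2 _ (mem_gen (by decide)), mul_one,
        e1 _ (mem_gen (by decide))]))
    (by rw [c1]; decide) (by rw [c2]; decide) ⟨_, fg⟩ n1
    (by rw [j1, a1]; simpa using tH.mem' (l := Sl) (w := [33]) (by decide +kernel)) fun a => by
      have := mem_inf.2 ⟨conj_mem_cj (b 41) zV, (mem_C1_iff_conj.1 (hC ▸ a :)).symm ▸ zV⟩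
      rw [b1, mem_bot, conj_eq_one_iff'] at this
      exact z1 this
  have oz : CIT.OZ (gen b Sl) = gen b [1, 0] := le_antisymm
    (fun y hy => hZ y (OZ_le _ hy) (OZ_le_C _ hy)) (by
      rw [← g.inf, v1, v2]; exact le_inf (gen_sub (by decide +kernel)) (gen_sub (by decide +kernel)))
  have four : ∀ y ∈ gen b [1, 0], ∃ w ∈ [[], [1], [0], [1, 0]], y = ev b w := fun y hy => by
    simpa using mem_four (a := b 1) (b := b 0) (e1 _ (mem_gen (by decide))) (e1 _ (mem_gen (by decide)))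
      (e1.comm (mem_gen (by decide)) (mem_gen (by decide))) (by rwa [gen_two] at hy)
  have r : ∀ L c d, TrM run L b → (b c)⁻¹ = b c → (b d)⁻¹ = b d →
      (allL [[], [1], [0], [1, 0]] fun w => chkE run L (d :: c :: app w [c, d])
        (c :: app w (c :: c :: c :: app w [c, c]))) = true →
      ∀ y ∈ cj (b c) (gen b [1, 0]), b d * y * (b d)⁻¹ = y * (b c * y * (b c)⁻¹) :=
    fun L c d t i1 i2 a y hy => by
      obtain ⟨v, hv, rfl⟩ := mem_cj'.1 hy
      obtain ⟨w, hw, rfl⟩ := four v hv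
      simpa only [i1, i2, app_eq, ev_cons, ev_append, ev_nil, mul_one, mul_assoc] using
        t.eq (allL_true.1 a w hw)
  have hg : Gen P₁ P₂ (gen b Sl) (b 39) (b 0) (b 41) (b 42) := by
    refine ⟨oz ▸ zV, z1, ?_, ?_, n1, n2, ?_, ?_, oz ▸ b1, oz ▸ b2, ?_, ?_, ?_, ?_⟩
    · rw [← g.n1, v1]; exact tD.norm (iv := iv) (cs := [41]) (by decide +kernel) (mem_gen (by simp))
    · rw [← g.n2, v2]; exact tD2.norm (iv := iv) (cs := [42]) (by decide +kernel) (mem_gen (by simp))
    · simpa [j1, j5, mul_assoc] using tD.eq (u := [41, 39, 41]) (v := [40]) (by decide +kernel)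
    · simpa [j2, j5, mul_assoc] using tD2.eq (u := [42, 39, 42]) (v := [40]) (by decide +kernel)
    · simpa [j2, a2] using tD.eq (u := pw 3 [41, 34]) (v := []) (by decide +kernel)
    · simpa [j1, a1] using tD2.eq (u := pw 3 [42, 33]) (v := []) (by decide +kernel)
    · rw [oz, j2, a2]; exact r _ 41 34 tD j1 j4 (by decide +kernel)
    · rw [oz, j1, a1]; exact r _ 42 33 tD2 j2 j3 (by decide +kernel)
  have hk : b 39 ∈ N[gen b Sl] := tN.norm (iv := iv) (cs := [39]) (by decide +kernel) (mem_gen (by simp))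
  have hkS : b 39 ∉ gen b Sl := fun a => by
    have c := mem_C1.1 (hC ▸ a : b 39 ∈ C{b 0})
    have c' : b 39 * b 0 = b 1 * b 39 := by
      simpa using tN.eq (u := [39, 0]) (v := [1, 39]) (by decide +kernel)
    have c'' : b 39 * b 1 = b 0 * b 1 * b 39 := by
      simpa [mul_assoc] using tN.eq (u := [39, 1]) (v := [0, 1, 39]) (by decide +kernel)
    rw [c, mul_left_inj] at c'
    rw [← c', c, e1 _ (mem_gen (c := 0) (by decide)), mul_left_inj] at c''
    exact z1 c''
  refine ⟨by simpa [pow_succ, mul_assoc] using g.braid hk hkS hg, g.eq_top ?_ ?_⟩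
  · exact g.le_of_mem hk hkS hg (mem_gen (by simp)) (mem_gen (by simp)) (mem_gen (by simp))
      (mem_gen (by simp))
  · exact g.symm.le_of_mem hk hkS hg.symm (mem_gen (by simp)) (mem_gen (by simp)) (mem_gen (by simp))
      (mem_gen (by simp))

namespace B1

variable (h : B1 e)
include h

theorem pc {l : List ℕ} (h1 : PC (tr e) l) (h2 : okW LH l = true) : PC e l :=
  h1.congr fun c hc => tr_lt _ (LH_lt (okW_true.1 h2 c hc))

theorem trD2 : TrM run LD2 e := h.trD.conj iso (pr m e 29) (nth [] sg2) fun c hc => by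
  have a0 : pr m e 29 * pr m e 29 = 1 := h.invp (by norm_num)
  have a1 : (allN 46 fun c => imp2 (bitL LD2 c) (and2 (okW LD (nth [] sg2 c))
      (or2 (chkE run LN [c, 29] (29 :: nth [] sg2 c))
        (eqL (nth [] defs c) (29 :: app (nth [] sg2 c) [29]))))) = true := by decide +kernel
  have a2 : c < 46 := bit_lt (by decide +kernel) hc
  simp only [allN_true, imp2_true, and2_true, or2_true, bitL_true] at a1
  refine ⟨(a1 c a2 hc).1, (a1 c a2 hc).2.elim (fun a => ?_) fun a => ?_⟩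
  · simpa [eq_mul_inv_iff_mul_eq] using (h.trN.pair iso).eq a
  · rw [h.dfp c, eqL_true a, inv_eq_of_mul_eq_one_right a0]; simp [mul_assoc]

theorem inC {c : ℕ} (hc : LC.testBit c = true) : e c ∈ C[EE e] := by
  have a1 : (allN 46 fun c => imp2 (bitL LC c)
      (or2 (chkCL run LD [19, 20] [c]) (chkCL run LD2 [19, 20] [c]))) = true := by decide +kernel
  have a2 : c < 46 := bit_lt (by decide +kernel) hc
  simp only [allN_true, imp2_true, or2_true, bitL_true] at a1
  simpa [mem_C_iff_le_C1] using (a1 c a2 hc).elim h.trD.cent h.trD2.cent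

theorem leC {l : List ℕ} (hl : okW LC l = true) : gen e l ≤ C[EE e] :=
  gen_le.2 fun c hc => h.inC (okW_true.1 hl c hc)

theorem cls {L : ℕ} (hL : TrM run L e) {W : List ℕ} (hW : PC e W) {WW : List (List ℕ)}
    (hc : allQ W (fun x => or2 (eqL x []) (anyL WW fun w => and2 (okW LC w)
      (chkE run L (app w [0]) (app x w)))) = true) {y : G} (hy : y ∈ gen e W) :
    y = 1 ∨ ∃ c ∈ C[EE e], c * e 0 * c⁻¹ = y := by
  obtain ⟨x, rfl, a⟩ := hW.allQ hc hy
  simp only [or2_true, anyL_true, and2_true] at a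
  refine a.imp (fun a => by rw [eqL_true a]; rfl) fun ⟨w, _, a1, a2⟩ =>
    ⟨ev e w, ev_mem fun c hc => h.inC (okW_true.1 a1 c hc), ?_⟩
  simpa [mul_inv_eq_iff_eq_mul] using hL.eq a2

theorem cls1 {y : G} (hy : y ∈ gen e W1) : y = 1 ∨ ∃ c ∈ C[EE e], c * e 0 * c⁻¹ = y :=
  h.cls h.trD (h.pc h.hh.pW1 (by decide +kernel)) (WW := WW1) (by decide +kernel) hy

theorem cls2 {y : G} (hy : y ∈ gen e W2) : y = 1 ∨ ∃ c ∈ C[EE e], c * e 0 * c⁻¹ = y :=
  h.cls h.trD2 (h.pc h.hh.pW2 (by decide +kernel)) (WW := WW2) (by decide +kernel) hy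

theorem centS {y : G} (h0 : y ∈ C{e 0}) (h1 : y ∈ C[EE e]) : y ∈ gen e Sl :=
  gSl e ▸ h.hh.centS h0 (mem_CE.1 h1).1 (mem_CE.1 h1).2

theorem infV {y : G} (hy : y ∈ gen e W1) (h1 : y ∈ EE e) : y = 1 :=
  h.hh.infV (gW1 e ▸ hy) (gE e ▸ h1)

theorem infV2 {y : G} (hy : y ∈ gen e W2) (h1 : y ∈ EE e) : y = 1 :=
  h.hh.infV2 (gW2 e ▸ hy) (gE e ▸ h1)

theorem fg : e 3 * e 4 * (e 3 * e 4) = e 0 := by
  simpa [mul_assoc] using h.trH.eq (by decide +kernel : chkE run LH [3, 4, 3, 4] [0] = true)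

theorem centZ {c : G} (hc : c ∈ C[EE e]) (h1 : c * e 0 * c⁻¹ * (e 0)⁻¹ ∈ EE e) : c ∈ gen e Sl := by
  have a1 : e 3 * e 4 ∈ gen e Sl := mul_mem (mem_gen (by decide)) (mem_gen (by decide))
  have a0 : gen e Sl ≤ C{e 0} := by simpa using h.trH.cent (cs := Sl) (v := [0]) (by decide +kernel)
  have a2 : c * (e 3 * e 4) * c⁻¹ ∈ C[EE e] :=
    mul_mem (mul_mem hc (h.leC (by decide +kernel) a1)) (inv_mem hc)
  have a3 : c * (e 3 * e 4) * c⁻¹ ∈ C{c * e 0 * c⁻¹} := cj_C1 c _ ▸ conj_mem_cj c (a0 a1)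
  have a4 := h.hh.sqS (gSl e ▸ h.centS (mem_C1_comm.1 (by
    convert mul_mem (inv_mem (mem_C_iff_le_C1.1 a2 h1)) (mem_C1_comm.1 a3) using 1; group)) a2)
  rw [conj_mul, h.fg, gV] at a4
  refine h.centS (mem_C1_iff_conj.2 (mul_inv_eq_one.1 (h.infV (gen_sub (l := [1, 0]) (by decide +kernel)
    (mul_mem a4 (inv_mem (mem_gen (by simp))))) h1))) hc

theorem four {v : G} (hv : v ∈ gen e [1, 0]) :
    v = 1 ∨ v = ev e [1] ∨ v = ev e [0] ∨ v = ev e [1, 0] := by
  simpa using mem_four (a := e 1) (b := e 0)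
    (by simpa using h.trH.eq (by decide +kernel : chkE run LH [1, 1] [] = true)) h.hh.sq (mem_C1.1 (h.hh.cen 1)) (gen_two e 1 0 ▸ hv)

theorem notV {c L : ℕ} (hL : TrM run L e) {w1 w2 w3 : List ℕ}
    (hc : allL [([1], w1), ([0], w2), ([1, 0], w3)] (fun p => and2 (chkE run L (c :: p.1) (app p.2 [c]))
      (and2 (okW LH p.2) (not1 (inP runH [1, 0] p.2)))) = true) {v : G} (hv : v ∈ gen e [1, 0])
    (h1 : e c * v * (e c)⁻¹ ∈ gen e [1, 0]) : v = 1 := by
  have k : ∀ p ∈ [([1], w1), ([0], w2), ([1, 0], w3)], v ≠ ev e p.1 := fun p hp a => by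
    have := allL_true.1 hc p hp
    simp only [and2_true, not1_true, h.hh.iso.inP h.hh.pV, gV] at this
    rw [a, mul_inv_eq_iff_eq_mul.2 (by simpa using hL.eq this.1 : e c * ev e p.1 = ev e p.2 * e c),
      ← ev_congr fun y hy => tr_lt e (LH_lt (okW_true.1 this.2.1 y hy))] at h1
    exact this.2.2 h1
  simp only [List.forall_mem_cons] at k
  exact (((h.four hv).imp_right fun a => (a.resolve_left k.1).resolve_left k.2.1).resolve_right k.2.2.1)

theorem t1E {y : G} (hy : y ∈ EE e) (h1 : y ∈ C{e 9}) : y = 1 :=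
  h.hh.iso.fpf h.hh.iv (w := [9]) cE (by decide +kernel) (gE e ▸ hy) (by simpa [tr_lt] using h1)

section

variable {X : Type*} [Group X] [Finite X] (f : C[EE e] →* X)
  (f1 : ∀ x ∈ C[EE e], ap f x = 1 ↔ x ∈ EE e) (f2 : ∀ y, ∃ x ∈ C[EE e], ap f x = y)

theorem trX {L : ℕ} (hL : TrM run L e) : TrM run (L &&& LC) fun c => ap f (e c) := by
  intro u v hu hv huv
  simp only [okW_true, Nat.testBit_and, Bool.and_eq_true] at hu hv
  rw [ev_ap f fun c hc => h.inC (hu c hc).2, ev_ap f fun c hc => h.inC (hv c hc).2,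
    hL u v (okW_true.2 fun c hc => (hu c hc).1) (okW_true.2 fun c hc => (hv c hc).1) huv]

theorem genX {l : List ℕ} (hl : okW LC l = true) {y : X} :
    y ∈ gen (fun c => ap f (e c)) l ↔ ∃ x ∈ gen e l, ap f x = y := by
  rw [gen_ap f fun c hc => h.inC (okW_true.1 hl c hc), mem_img_of_le (h.leC hl)]

include f1 f2

theorem geo' : ev e (pw 3 [41, 42]) ∈ EE e ∧ C[EE e] ≤ gen e [19, 20, 39, 0, 41, 42] := by
  have gX := fun l hl y => h.genX f (l := l) hl (y := y)
  have tH := h.trX f h.trH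
  have tN := h.trX f h.trN
  have tD := h.trX f h.trD
  have tD2 := h.trX f h.trD2
  have C := fun l hl => h.leC (l := l) hl
  have c0 := h.inC (c := 0) (by decide +kernel)
  have gE : ∀ l, gen (fun c => ap f (e c)) (19 :: 20 :: l) = gen (fun c => ap f (e c)) l := fun l => by
    rw [gen_cons, gen_cons, (f1 _ (h.inC (c := 19) (by decide +kernel))).2 (mem_gen (by simp)),
      (f1 _ (h.inC (c := 20) (by decide +kernel))).2 (mem_gen (by simp))]
    simp
  have cl : ∀ l, okW LC l = true → (∀ y ∈ gen e l, y = 1 ∨ ∃ c ∈ C[EE e], c * e 0 * c⁻¹ = y) →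
      ∀ y ∈ gen (fun c => ap f (e c)) l, y ≠ 1 → ∃ g, g * ap f (e 0) * g⁻¹ = y := fun l a b y hy y1 => by
    obtain ⟨x, a1, rfl⟩ := (gX l a y).1 hy
    rcases b x a1 with rfl | ⟨c, a2, rfl⟩
    · simp at y1
    · exact ⟨ap f c, (ap_conj f a2 c0).symm⟩
  have ea : ∀ l, okW LC l = true → (∀ y ∈ gen e l, y * y = 1) → EA (gen (fun c => ap f (e c)) l) :=
    fun l a b y hy => by
      obtain ⟨x, a1, rfl⟩ := (gX l a y).1 hy
      rw [← ap_mul f (C l a a1) (C l a a1), b x a1, ap_one]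
  have cd : ∀ l, okW LC l = true → (∀ y ∈ gen e l, y ∈ EE e → y = 1) →
      Nat.card (gen (fun c => ap f (e c)) l) = Nat.card (gen e l) := fun l a b => by
    rw [gen_ap f fun c hc => h.inC (okW_true.1 a c hc), card_img_of_inf f (C l a)
      (eq_bot_iff.2 fun y hy => b y hy.2 ((f1 y (C l a hy.2)).1 (mem_pre_bot.1 hy.1).2))]
  have nV : ∀ c l, LC.testBit c = true → okW LC l = true → e c ∈ N[gen e l] → gen e [1, 0] ≤ gen e l →
      (∀ y ∈ gen e l, y ∈ EE e → y = 1) →
      (∀ v ∈ gen e [1, 0], e c * v * (e c)⁻¹ ∈ gen e [1, 0] → v = 1) →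
      cj (ap f (e c)) (gen (fun c => ap f (e c)) [1, 0]) ⊓ gen (fun c => ap f (e c)) [1, 0] = ⊥ :=
    fun c l a0 a1 a2 a3 a4 a5 => eq_bot_iff.2 fun y hy => by
      obtain ⟨y', b1, rfl⟩ := mem_cj'.1 hy.1
      obtain ⟨v, b2, rfl⟩ := (gX _ (by decide +kernel) _).1 b1
      obtain ⟨v', b3, b4⟩ := (gX _ (by decide +kernel) _).1 hy.2
      have b5 := mul_mem (inv_mem (a3 b3)) (conj_mem a2 (a3 b2))
      have b6 := a4 _ b5 ((f1 _ (C l a1 b5)).1 (by
        rw [ap_mul f (C l a1 (inv_mem (a3 b3))) (C l a1 (conj_mem a2 (a3 b2))), ap_inv f (C l a1 (a3 b3)),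
          ap_conj f (h.inC a0) (C l a1 (a3 b2)), b4, inv_mul_cancel]))
      rw [a5 v b2 (inv_mul_eq_one.1 b6 ▸ b3)]; simp
  have iS : ∀ y ∈ gen (fun c => ap f (e c)) Sl, y * y = 1 →
      y ∈ gen (fun c => ap f (e c)) W1 ∨ y ∈ gen (fun c => ap f (e c)) W2 := fun y hy y2 => by
    obtain ⟨x, a1, rfl⟩ := (gX _ (by decide +kernel) y).1 hy
    have a2 := C _ (by decide +kernel) a1
    rw [← ap_mul f a2 a2, f1 _ (mul_mem a2 a2)] at y2
    rw [← gE W1, ← gE W2]
    exact (h.hh.invS (gSl e ▸ a1) (Sz.gE e ▸ y2)).imp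
      (fun a => (gX _ (by decide +kernel) _).2 ⟨x, gen_tr e (l := 19 :: 20 :: W1) (by decide +kernel) ▸ a, rfl⟩)
      fun a => (gX _ (by decide +kernel) _).2 ⟨x, gen_tr e (l := 19 :: 20 :: W2) (by decide +kernel) ▸ a, rfl⟩
  have hC : C{ap f (e 0)} = gen (fun c => ap f (e c)) Sl := by
    refine le_antisymm (fun y hy => ?_) (by simpa using tH.cent (cs := Sl) (v := [0]) (by decide +kernel))
    obtain ⟨c, a, rfl⟩ := f2 y
    have a1 := mul_mem (mul_mem a c0) (inv_mem a)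
    refine (gX _ (by decide +kernel) _).2 ⟨c, h.centZ a ((f1 _ (mul_mem a1 (inv_mem c0))).1 ?_), rfl⟩
    rw [ap_mul f a1 (inv_mem c0), ap_conj f a c0, mem_C1_iff_conj.1 hy, ap_inv f c0, mul_inv_cancel]
  have hZ : ∀ y ∈ gen (fun c => ap f (e c)) Sl, y ∈ C[gen (fun c => ap f (e c)) Sl] →
      y ∈ gen (fun c => ap f (e c)) [1, 0] := fun y hy y2 => by
    obtain ⟨x, a1, rfl⟩ := (gX _ (by decide +kernel) y).1 hy
    have a2 := C _ (by decide +kernel) a1
    rw [← gE]
    refine (gX _ (by decide +kernel) _).2 ⟨x, gen_tr e (l := [19, 20, 1, 0]) (by decide +kernel) ▸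
      h.hh.cenS (gSl e ▸ a1) fun c hc => ?_, rfl⟩
    have : ∀ c ∈ W1 ++ W2, c < 37 ∧ c ∈ Sl ∧ LC.testBit c = true ∧
        chkE run (LH &&& LC) [c, c] [] = true := by decide +kernel
    obtain ⟨b1, b2, b3, b4⟩ := this c hc
    have b5 := mul_mem (mul_mem a2 (h.inC b3)) (inv_mem a2)
    rw [tr_lt _ b1, Sz.gE, ← f1 _ (mul_mem b5 (h.inC b3)), ap_mul f b5 (h.inC b3),
      ap_conj f a2 (h.inC b3), conj_eq_of_mem_C y2 (mem_gen b2)]
    simpa using tH.eq b4
  have z1 : ap f (e 0) ≠ 1 := fun a => h.hh.ne (h.infV (mem_gen (by decide)) ((f1 _ c0).1 a))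
  have b1 := nV 41 W1 (by decide +kernel) (by decide +kernel)
    (h.trD.norm (iv := iv) (cs := [41]) (by decide +kernel) (mem_gen (by simp)))
    (gen_sub (by decide +kernel)) (fun _ => h.infV) fun _ => h.notV h.trD (w1 := [3, 23, 0])
      (w2 := [3, 1]) (w3 := [23, 1, 0]) (by decide +kernel)
  have b2 := nV 42 W2 (by decide +kernel) (by decide +kernel)
    (h.trD2.norm (iv := iv) (cs := [42]) (by decide +kernel) (mem_gen (by simp)))
    (gen_sub (by decide +kernel)) (fun _ => h.infV2) fun _ => h.notV h.trD2 (w1 := [4, 24, 0])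
      (w2 := [4, 1]) (w3 := [24, 1, 0]) (by decide +kernel)
  have cl1 := cl W1 (by decide +kernel) fun _ => h.cls1
  have cl2 := cl W2 (by decide +kernel) fun _ => h.cls2
  have e1 := ea W1 (by decide +kernel) fun _ a => h.hh.eaW1 (gW1 e ▸ a)
  have e2 := ea W2 (by decide +kernel) fun _ a => h.hh.eaW2 (gW2 e ▸ a)
  have c1 := cd W1 (by decide +kernel) fun _ => h.infV
  have c2 := cd W2 (by decide +kernel) fun _ => h.infV2
  rw [← gW1 e, h.hh.pW1.card] at c1
  rw [← gW2 e, h.hh.pW2.card] at c2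
  have hT : CIT.T2 (gen (fun c => ap f (e c)) Sl) := by
    rw [gen_ap f fun c hc => C Sl (by decide +kernel) (mem_gen hc), ← gSl e]; exact h.hh.pS.pi.img f
  have ev3 : ev (fun c => ap f (e c)) (pw 3 [41, 42]) = ap f (ev e (pw 3 [41, 42])) :=
    ev_ap f fun c hc => h.inC (okW_true.1 (by decide +kernel) c hc)
  have fin : gen (fun c => ap f (e c)) [19, 20, 39, 0, 41, 42] = ⊤ →
      C[EE e] ≤ gen e [19, 20, 39, 0, 41, 42] := fun a x hx => by
    obtain ⟨y, a1, a2⟩ := (gX _ (by decide +kernel) (ap f x)).1 (a ▸ mem_top _)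
    have a3 := C _ (by decide +kernel) a1
    simpa using mul_mem a1 (gen_sub (l := [19, 20]) (by decide +kernel) ((f1 _ (mul_mem (inv_mem a3) hx)).1
      (by rw [ap_mul f (inv_mem a3) hx, ap_inv f a3, a2, inv_mul_cancel])))
  rw [← f1 _ (ev_mem fun c hc => h.inC (okW_true.1 (by decide +kernel) c hc)), ← ev3]
  exact (braidX tH tN tD tD2 gE iS hC hZ z1 b1 b2 cl1 cl2 e1 e2 c1 c2 hT).imp id fun a =>
    fin ((gE _).trans a)

end

theorem geo : ev e (pw 3 [41, 42]) = 1 ∧ C[EE e] ≤ gen e [19, 20, 39, 0, 41, 42] := by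
  have hE : EE e ≤ C[EE e] := h.leC (by decide +kernel)
  have : ((EE e).subgroupOf C[EE e]).Normal :=
    (normal_subgroupOf_iff hE).2 fun x g hx hg => by rwa [conj_eq_of_mem_C hg hx]
  refine (h.geo' (QuotientGroup.mk' ((EE e).subgroupOf C[EE e])) (fun x hx => ?_) fun y => ?_).imp_left
    fun a => h.t1E a ?_
  · rw [ap_of_mem _ hx, QuotientGroup.mk'_apply, QuotientGroup.eq_one_iff, mem_subgroupOf]
  · obtain ⟨x, rfl⟩ := QuotientGroup.mk'_surjective _ y
    exact ⟨x, x.2, ap_coe _ _⟩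
  · rw [ev_pw]
    exact pow_mem (ev_mem (by simpa using ⟨h.trD.cent1 (by decide +kernel),
      h.trD2.cent1 (by decide +kernel)⟩)) 3

theorem trP : TrM run LP e := by
  have D := h.trD.pair iso
  have D2 := h.trD2.pair iso
  have k : (pr m e 39)⁻¹ = pr m e 40 := (D.inv (by decide +kernel)).symm
  have E := fun w (a : chkE run LD w [] = true) => D.eq a
  have E2 := fun w (a : chkE run LD2 w [] = true) => D2.eq a
  have z1 : m 0 ≠ 1 := by simpa using iso.ne (u := [0]) (v := []) (by decide +kernel)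
  have := simple34 (k := pr m e 39) (z := pr m e 0) (n := pr m e 41) (m := pr m e 42) (a := pr m e 33)
    (b := pr m e 34) (L := gen (pr m e) [39, 0, 41, 42]) (fun a => z1 (congrArg Prod.fst a))
    (by simpa using E [0, 0] (by decide +kernel)) (by simpa using E [41, 41] (by decide +kernel))
    (by simpa using E2 [42, 42] (by decide +kernel)) (by simpa using E [33, 33] (by decide +kernel))
    (by simpa using E [34, 34] (by decide +kernel))
    (by simpa [mul_assoc] using E [39, 39, 39] (by decide +kernel))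
    (by simpa [mul_assoc] using E [33, 41, 0, 41] (by decide +kernel))
    (by simpa [mul_assoc] using E2 [34, 42, 0, 42] (by decide +kernel))
    (by simpa [mul_assoc] using E [41, 39, 41, 39] (by decide +kernel))
    (by simpa [mul_assoc] using E2 [42, 39, 42, 39] (by decide +kernel))
    (by simpa [mul_assoc] using E [33, 39, 33, 39, 33, 39] (by decide +kernel))
    (by simpa [mul_assoc] using E [34, 39, 34, 39, 34, 39] (by decide +kernel))
    (by simpa [mul_assoc] using E [34, 33, 34, 41, 33, 41, 33] (by decide +kernel))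
    (by
      simpa [mul_assoc, k] using
        E [34, 40, 33, 39, 34, 41, 40, 33, 39, 41, 40, 33, 39] (by decide +kernel))
    (by simpa [mul_assoc] using E [41, 34, 41, 34, 41, 34] (by decide +kernel))
    (by
      have : ev (pr m e) (pw 3 [41, 42]) = 1 := by
        rw [ev_pr, h.geo.1, iso.eqW.1 (by decide +kernel : eqW run (pw 3 [41, 42]) [] = true)]; rfl
      simpa [pow_succ, mul_assoc] using this) (by simp [gen_cons, gen_nil])
  refine trM_of_gr iso (gr_of_simple (D := gen (pr m e) [39, 0, 41, 42])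
    (mem_gen (c := 0) (by simp)) z1 h.hh.ne).1
    (mem_gen_of_clo (src := fun c w => or2 (src run defs LD c w) (chkE run LD2 [c] w))
      (fun c w a => ?_) (l := clL) (by decide +kernel))
  exact (or2_true.1 a).elim (src_sound h.dfp D c w) fun a => by simpa using D2.eq a

end B1

end H15.Sz
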