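import Mathlib
import Cfsg.Agent.H15.SzC
import Cfsg.Agent.H15.SzM

/-!
# The presentation holds
-/

set_option autoImplicit false
set_option maxRecDepth 100000
set_option Elab.async false
set_option linter.unusedSectionVars false

namespace H15.Sz

open H29 H24 Subgroup KM XP CIT

variable {G : Type*} [Group G] [Finite G] {e : ℕ → G}

def clG : List (ℕ × List ℕ) := [(33, [3, 1]),
 (34, [4, 1]),
 (40, [48, 0, 48, 1, 0, 48, 0]),
 (39, [40, 40]),
 (43, [34, 40, 48, 33, 48]),
 (45, [48, 43, 48]),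
 (42, [45, 40, 33, 45, 33]),
 (41, [48, 42, 40, 48]),
 (44, [39, 41, 34, 40, 41, 34]),
 (23, [39, 3, 40]),
 (24, [39, 4, 40]),
 (2, [30, 1, 30]),
 (21, [2, 19, 2]),
 (8, [21, 19, 1]),
 (7, [8, 0]),
 (22, [40, 21, 39]),
 (20, [2, 22, 2]),
 (5, [20, 22, 1]),
 (6, [5, 0]),
 (10, [2, 40, 2, 40]),
 (38, [10, 40]),
 (47, [38, 2, 23, 24, 0]),
 (9, [10, 10]),
 (37, [9, 39]),
 (46, [37, 2, 1, 0]),
 (25, [41, 22, 41]),
 (12, [25, 9]),
 (11, [10, 25]),
 (26, [11, 9]),
 (32, [43, 40, 47, 43, 40]),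
 (31, [32, 32]),
 (35, [32, 30, 31]),
 (36, [3, 35, 3]),
 (16, [36, 11, 1, 0]),
 (15, [16, 16]),
 (13, [15, 24, 23]),
 (27, [9, 13, 9, 13, 9, 13, 9, 13, 9, 13, 9, 13]),
 (29, [2, 11, 13]),
 (14, [13, 13]),
 (28, [14, 10, 14, 10, 14, 10, 14, 10, 14, 10, 14, 10]),
 (18, [32, 35, 30, 1]),
 (17, [18, 18])]

theorem ev_mapL (e : ℕ → G) (g : ℕ → ℕ) : ∀ w : List ℕ, ev e (mapL g w) = ev (fun c => e (g c)) w
  | [] => rfl
  | c :: w => congrArg (e (g c) * ·) (ev_mapL e g w)

theorem cj_C {a b : G} (g : G) (h : a ∈ C{b}) : g * a * g⁻¹ ∈ C{g * b * g⁻¹} :=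
  cj_C1 g b ▸ conj_mem_cj g h

namespace B1

variable (h : B1 e)
include h

theorem bb : e 48 * e 48 = 1 := by
  simpa using h.trP.eq (u := [48, 48]) (v := []) (by decide +kernel)

theorem comm_rel {c : ℕ} (h1 : e 48 ∈ C{e c}) (h2 : e c * e c = 1) : ev e [48, c, 48, c] = 1 := by
  simp only [ev_cons, ev_nil, mul_one]
  rw [← mul_assoc (e c), ← mem_C1.1 h1, mul_assoc, h2, mul_one, h.bb]

theorem bd : e 48 ∈ C{e 30} := by
  have i1 : (e 31)⁻¹ = e 32 := (h.trH.inv (by decide +kernel)).symm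
  have i2 : (e 29)⁻¹ = e 29 := (h.trH.inv (by decide +kernel)).symm
  have a1 := cj_C (e 31) (h.trN.cent1 (c := 46) (d := 35) (by decide +kernel))
  have a2 := cj_C (e 29) (cj_C (e 31) (h.trN.cent1 (c := 47) (d := 36) (by decide +kernel)))
  rw [i1] at a1 a2
  rw [i2, show e 31 * e 47 * e 32 = e 44 by
      simpa [mul_assoc] using h.trD.eq (u := [31, 47, 32]) (v := [44]) (by decide +kernel),
    show e 29 * (e 31 * e 36 * e 32) * e 29 = e 30 by
      simpa [mul_assoc] using h.trH.eq (u := [29, 31, 36, 32, 29]) (v := [30]) (by decide +kernel),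
    show e 29 * e 44 * e 29 = e 45 by
      simpa [mul_assoc] using (show e 45 = ev e [29, 44, 29] from h.df 45).symm] at a2
  rw [show e 31 * e 46 * e 32 = e 43 by
      simpa [mul_assoc] using h.trD.eq (u := [31, 46, 32]) (v := [43]) (by decide +kernel),
    show e 31 * e 35 * e 32 = e 30 by
      simpa [mul_assoc] using h.trH.eq (u := [31, 35, 32]) (v := [30]) (by decide +kernel)] at a1
  rw [show e 48 = ev e [43, 45, 43, 45, 43] by
    simpa using h.trP.eq (u := [48]) (v := [43, 45, 43, 45, 43]) (by decide +kernel)]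
  exact ev_mem (by simp [a1, a2])

theorem be : e 48 ∈ C{e 19} := by
  rw [h.df 48]
  exact (mem_CE.1 (h.leC (l := [40, 41, 42]) (by decide +kernel) (ev_mem_gen (by decide)))).1

theorem bt : e 48 ∈ C{e 9} := by
  rw [show e 48 = ev e [40, 41, 42, 41] from h.df 48]
  refine ev_mem ?_
  simpa using ⟨h.trN.cent1 (by decide +kernel), h.trD.cent1 (by decide +kernel),
    h.trD2.cent1 (by decide +kernel), h.trD.cent1 (by decide +kernel)⟩

theorem bd' : ev e [48, 30, 48, 30] = 1 :=
  h.comm_rel h.bd (by simpa using h.trH.eq (u := [30, 30]) (v := []) (by decide +kernel))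

theorem last : ev e (pw 5 [48, 1, 30, 1, 30]) = e 9 := by
  have i9 : e 10 = (e 9)⁻¹ := h.trH.inv (by decide +kernel)
  have a1 : ev e [9, 48, 10, 48] = 1 := by
    simp only [ev_cons, ev_nil, mul_one, ← mul_assoc, i9]
    rw [mem_C1_iff_conj.1 (mem_C1_comm.1 h.bt), h.bb]
  have a2 : ev e ([0, 48, 0, 1, 48, 0, 48] ++ ([30, 1, 30] ++ ([48, 0, 48, 1, 0, 48, 0] ++
      ([30, 1, 30] ++ ([0, 48, 0, 1, 48, 0, 48] ++ [9]))))) = 1 := by
    simp only [ev_append, h.trP.eq (u := [0, 48, 0, 1, 48, 0, 48]) (v := [39]) (by decide +kernel),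
      h.trP.eq (u := [48, 0, 48, 1, 0, 48, 0]) (v := [40]) (by decide +kernel),
      h.trH.eq (u := [30, 1, 30]) (v := [2]) (by decide +kernel)]
    simpa using h.trN.eq (u := [39, 2, 40, 2, 39, 9]) (v := []) (by decide +kernel)
  have hS : Sat SzM.T (pr m e) := sat_fin SzM.ok SzM.hii SzM.der (by decide +kernel)
    (fun c hc => by
      by_cases h1 : c = 48
      · subst h1
        exact Prod.ext (show m 48 * m 48 = 1 by
          simpa using iso.eqW.1 (by decide +kernel : eqW run [48, 48] [] = true)) h.bb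
      · exact h.invp (by revert c; decide)) fun r hr => by
      have : ∀ r ∈ SzM.R0, r = [48, 30, 48, 30] ∨ r = [9, 48, 10, 48] ∨
          r = [0, 48, 0, 1, 48, 0, 48] ++ ([30, 1, 30] ++ ([48, 0, 48, 1, 0, 48, 0] ++
            ([30, 1, 30] ++ ([0, 48, 0, 1, 48, 0, 48] ++ [9])))) ∨
          chkE run LH r [] = true ∨ chkE run LP r [] = true := by decide +kernel
      rw [ev_pr, iso.rels (R := SzM.R0) (by decide +kernel) r hr]
      rcases this r hr with rfl | rfl | rfl | a | a
      exacts [h.bd' ▸ rfl, a1 ▸ rfl, a2 ▸ rfl, h.trH.eq a ▸ rfl, h.trP.eq a ▸ rfl]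
  have g : Gr (gen (pr m e) SzM.T.hcols) := h.trP.gr iso (iv := id) fun c hc => by
    have : ∀ c ∈ SzM.T.hcols, LP.testBit c = true ∧ chkE run LP [c, c] [] = true := by decide +kernel
    exact ⟨(this c hc).1, hc, by simpa using (h.trP.pair iso).eq (this c hc).2⟩
  have := g _ (hS.mem_of_fix (w := app (pw 5 [48, 1, 30, 1, 30]) [10]) (by decide +kernel))
    (by simpa using iso.eqW.1 (by decide +kernel : eqW run (app (pw 5 [48, 1, 30, 1, 30]) [10]) [] = true))
  simpa [i9, mul_inv_eq_one] using this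

theorem psi : ∃ ψ : S →* G, Function.Injective ψ ∧ ∀ c, ψ (m c) = e c := by
  obtain ⟨ψ, hψ⟩ := PData.exists_hom Suz.coh Suz.hg (σ := fun c => e (nth 99 gl c)) (fun c => by
      by_cases hc : c < 7
      · have : ∀ c < 7, chkE run LH [nth 99 gl c, nth 99 gl c] [] = true ∨
          chkE run LP [nth 99 gl c, nth 99 gl c] [] = true := by decide +kernel
        exact (this c hc).elim h.trH.inv h.trP.inv
      · change e (nth 99 gl c) = (e (nth 99 gl c))⁻¹
        rw [nth_default _ (show gl.length ≤ c from not_lt.1 hc), show e 99 = 1 from h.df 99, inv_one])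
    fun r hr => by
      have : ∀ r ∈ Suz.P.relL, mapL (nth 99 gl) r = [48, 30, 48, 30] ∨
          mapL (nth 99 gl) r = [48, 19, 48, 19] ∨
          mapL (nth 99 gl) r = pw 3 (app (pw 5 [48, 1, 30, 1, 30]) [19]) ∨
          chkE run LH (mapL (nth 99 gl) r) [] = true ∨ chkE run LP (mapL (nth 99 gl) r) [] = true := by
        decide +kernel
      rw [← ev_mapL]
      rcases this r hr with a | a | a | a | a
      · rw [a, h.bd']
      · rw [a, h.comm_rel h.be (by simpa using h.trH.eq (u := [19, 19]) (v := []) (by decide +kernel))]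
      · rw [a, ev_pw, app_eq, ev_append, h.last]
        simpa using h.trH.eq (u := pw 3 [9, 19]) (v := []) (by decide +kernel)
      · exact h.trH.eq a
      · exact h.trP.eq a
  have k : ∀ c, ψ (m c) = e c := fun c => by
    by_cases hc : c < 49
    · have a1 := mem_gen_of_clo (e := pr m e) (L := 2 ^ 49 - 1) (src := fun c w =>
          or2 (src run defs LH c w) (or2 (chkE run LN [c] w) (or2 (chkE run LD [c] w) (chkE run LP [c] w))))
        (fun c w a => by
          simp only [or2_true] at a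
          rcases a with a | a | a | a
          exacts [src_sound h.dfp (h.trH.pair iso) c w a, by simpa using (h.trN.pair iso).eq a,
            by simpa using (h.trD.pair iso).eq a, by simpa using (h.trP.pair iso).eq a])
        (l := clG) (cols := gl) (by decide +kernel) c (by rw [Nat.testBit_two_pow_sub_one]; simpa using hc)
      have a2 : gen (pr m e) gl ≤ (ψ.comp (MonoidHom.fst S G)).eqLocus (MonoidHom.snd S G) :=
        gen_le.2 fun d hd => by
          obtain ⟨i, a, rfl⟩ : ∃ i < 7, nth 99 gl i = d := by revert d; decide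
          exact (congrArg ψ (m_gl i a)).trans (hψ i a)
      exact a2 a1
    · rw [m_ge (not_lt.1 hc), h.df c, nth_default _ (show defs.length ≤ c from not_lt.1 hc), map_one]; rfl
  have := Suz.simple
  refine ⟨ψ, (MonoidHom.ker_eq_bot_iff ψ).1 ((IsSimpleGroup.eq_bot_or_eq_top_of_normal _
    inferInstance).resolve_right fun a => h.hh.ne ?_), k⟩
  exact (k 0).symm.trans (show m 0 ∈ ψ.ker from a ▸ mem_top _)

end B1

end H15.Sz
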