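import Mathlib
import Cfsg.Agent.H15.SzP
import Cfsg.Agent.H15.Fin

/-!
# Recognition of the sporadic Suzuki group
-/

set_option autoImplicit false
set_option maxRecDepth 100000
set_option Elab.async false
set_option linter.unusedSectionVars false

namespace H15.Sz

open H29 H24 Subgroup KM XP CIT

variable {G : Type*} [Group G] [Finite G] {e : ℕ → G}

def WT : List (List ℕ) := [[], [20], [3], [23], [4], [24], [1], [3, 20], [23, 20], [4, 20], [24, 20],
  [1, 20], [24, 3], [23, 4], [24, 3, 20], [23, 4, 20]]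

theorem HH.invT (h : HH e) {y : G} (hy : y ∈ gen e Se) (h1 : y * y = 1) :
    y ∈ gen e Sl ∨ ∃ c ∈ C{e 0}, c * e 19 * c⁻¹ = y := by
  obtain ⟨x, rfl, a⟩ := h.pSe.allQ (f := fun x => imp2 (eqW runH (app x x) []) (or2 (inP runH Sl x)
    (anyL WT fun w => eqW runH (app w [18, 21, 18, 19]) (app x (app w [18, 21, 18])))))
    (by decide +kernel) hy
  simp only [imp2_true, or2_true, anyL_true, h.iso.eqW, h.iso.inP h.pS, app_eq, ev_append] at a
  refine (a h1).imp_right fun ⟨w, _, b⟩ => ⟨ev e (w ++ [18, 21, 18]), ev_mem fun c _ => h.cen c, ?_⟩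
  rw [mul_inv_eq_iff_eq_mul]; simpa [mul_assoc] using b

theorem HH.clsE (h : HH e) {y : G} (hy : y ∈ gen e [19, 20]) :
    y = 1 ∨ (∃ c ∈ C{e 0}, c * e 19 * c⁻¹ = y) ∧ ∃ c ∈ C{e 0}, c * e 19 * c⁻¹ = y * e 0 := by
  obtain ⟨x, rfl, a⟩ := h.pE.allQ (f := fun x => or2 (eqL x []) (anyL [[], [9], [10]] fun w =>
    and2 (eqW runH (app w [19]) (app x w)) (eqW runH (app w [21, 19]) (app x (0 :: app w [21])))))
    (by decide +kernel) hy
  simp only [or2_true, anyL_true, and2_true, h.iso.eqW, app_eq, ev_append, ev_cons] at a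
  refine a.imp (fun a => by rw [eqL_true a]; rfl) fun ⟨w, _, b, c⟩ =>
    ⟨⟨ev e w, ev_mem fun c _ => h.cen c, ?_⟩, ev e (w ++ [21]), ev_mem fun c _ => h.cen c, ?_⟩
  · rw [mul_inv_eq_iff_eq_mul]; simpa [mul_assoc] using b
  · rw [mul_inv_eq_iff_eq_mul]; simpa [mul_assoc] using c

namespace B1

variable (h : B1 e)
include h

theorem full : Iso run e := fun u v => by
  obtain ⟨ψ, h1, h2⟩ := h.psi
  rw [iso, ← h1.eq_iff, map_ev, map_ev, funext h2]

theorem centE {y : G} (h0 : y ∈ C{e 0}) (h1 : y ∈ C{e 19}) : y ∈ gen e Se :=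
  gSe e ▸ h.hh.centE h0 h1

theorem leZ : gen e Se ≤ C{e 0} := by
  simpa using h.trH.cent (cs := Se) (v := [0]) (by decide +kernel)

theorem leE : gen e Se ≤ C{e 19} := by
  simpa using h.trH.cent (cs := Se) (v := [19]) (by decide +kernel)

theorem nE : gen e Se ≤ N[EE e] := h.trH.norm (iv := iv) (by decide +kernel)

theorem twoSe : IsPi {2} (gen e Se) := gSe e ▸ h.hh.pSe.pi

theorem sylE : Syl 2 C{e 19} (gen e Se) :=
  Syl.of_norm_le p2 (hall_self h.twoSe) h.leE fun g hg => h.centE (by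
    have a1 : ev e [29, 3] ∈ gen e Se := ev_mem_gen (by decide)
    have a2 : ev e [29, 3] ^ 4 = e 0 := by
      simpa using h.trH.eq (u := pw 4 [29, 3]) (v := [0]) (by decide +kernel)
    have := h.hh.four (gSe e ▸ conj_mem hg.2 a1)
    rw [conj_pow, a2, conj_eq_one_iff'] at this
    exact mem_C1_iff_conj.2 (this.resolve_left h.hh.ne)) hg.1

theorem nconj (g : G) : g * e 0 * g⁻¹ ≠ e 19 := fun a => by
  have a1 := h.sylE.card
  have a2 := h.sylE.not_dvd p2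
  rw [← a, ← cj_C1, card_cj, show C{e 0} = _ from h.hh.top.symm, h.hh.mz.card, ← gSe, h.hh.pSe.card] at a1
  rw [← a, ← cj_C1, show C{e 0} = _ from h.hh.top.symm, ← gSe] at a2
  change 512 * _ = _ at a1
  omega

theorem invS {y : G} (hy : y ∈ gen e Sl) (h1 : y * y = 1) :
    y = 1 ∨ (∃ c ∈ C[EE e], c * e 0 * c⁻¹ = y) ∨ ∃ c ∈ C[EE e] ⊔ C{e 0}, c * e 19 * c⁻¹ = y := by
  have k : ∀ l, okW LC l = true → (∀ y ∈ gen e l, y = 1 ∨ ∃ c ∈ C[EE e], c * e 0 * c⁻¹ = y) →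
      y ∈ gen e ([19, 20] ++ l) → y = 1 ∨ (∃ c ∈ C[EE e], c * e 0 * c⁻¹ = y) ∨
        ∃ c ∈ C[EE e] ⊔ C{e 0}, c * e 19 * c⁻¹ = y := fun l a b hy => by
    rw [gen_append, mem_sup_of_norm (norm_of_cent (h.leC a))] at hy
    obtain ⟨u, a1, w, a2, rfl⟩ := hy
    rcases h.hh.clsE (gE e ▸ a1) with rfl | ⟨⟨c, b1, b2⟩, d, b3, b4⟩
    · rw [one_mul]; exact (b w a2).imp_right .inl
    · rcases b w a2 with rfl | ⟨g, b5, rfl⟩
      · exact .inr (.inr ⟨c, mem_sup_right b1, by rw [mul_one]; exact b2⟩)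
      · refine .inr (.inr ⟨g * d, mul_mem (mem_sup_left b5) (mem_sup_right b3), ?_⟩)
        rw [← conj_eq_of_mem_C b5 a1, conj_mul, ← show d * e 19 * d⁻¹ = u * e 0 from b4]; group
  exact (h.hh.invS (gSl e ▸ hy) (h1 ▸ one_mem _)).elim
    (fun a => k W1 (by decide +kernel) (fun _ => h.cls1)
      (gen_tr e (l := 19 :: 20 :: W1) (by decide +kernel) ▸ a))
    fun a => k W2 (by decide +kernel) (fun _ => h.cls2)
      (gen_tr e (l := 19 :: 20 :: W2) (by decide +kernel) ▸ a)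

theorem normE {c : G} (hc : c ∈ C{e 19}) (h1 : c * e 20 * c⁻¹ ∈ C{e 0}) : c ∈ N[EE e] := by
  have a1 : c⁻¹ * e 0 * c⁻¹⁻¹ ∈ C[EE e] := mem_CE.2
    ⟨mul_mem (mul_mem (inv_mem hc) (mem_C1_comm.1 (h.hh.cen 19))) (inv_mem (inv_mem hc)), by
      simpa [mul_assoc] using cj_C c⁻¹ (mem_C1_comm.1 h1)⟩
  have a2 : Syl 2 C[EE e] (gen e Sl) := by
    have := h.sylE.inf_of_isProd (K := C[EE e]) (L := gen e Se ⊔ C[EE e])
      (isProd_sup' (norm_C h.nE)) (sup_le h.leE (C_le_C1 (mem_gen (by simp))))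
    rwa [show gen e Se ⊓ C[EE e] = gen e Sl from le_antisymm (fun y hy => h.centS (h.leZ hy.1) hy.2)
      (le_inf (gen_mono fun _ => List.mem_cons_of_mem _) (h.leC (by decide +kernel)))] at this
  have a3 : c⁻¹ * e 0 * c⁻¹⁻¹ * (c⁻¹ * e 0 * c⁻¹⁻¹) = 1 := by
    rw [conj_mul, show e 0 * e 0 = 1 from h.hh.sq]; simp
  obtain ⟨l, b1, b2⟩ := Sylow_Jsub p2 a2 (e2_of_sq a3).isPi (zpowers_le.2 a1)
  rcases h.invS (b2 (conj_mem_cj l (mem_zpowers _))) (by rw [conj_mul, a3]; simp) with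
    a | ⟨d, b3, a⟩ | ⟨d, -, a⟩
  · exact absurd (conj_eq_one_iff'.1 (conj_eq_one_iff'.1 a)) h.hh.ne
  · have n := fun x (hx : x ∈ C[EE e]) => C_le_C1 (mem_gen (c := 19) (by simp)) hx
    have := h.nE (h.centE (y := d⁻¹ * l * c⁻¹) (mem_C1_iff_conj.2 (by
      rw [← mul_left_cancel_iff (a := d), ← mul_right_cancel_iff (a := d⁻¹), a]; group))
      (mul_mem (mul_mem (inv_mem (n d b3)) (n l b1)) (inv_mem hc)))
    simpa using (mul_mem_cancel_left (C_le_N _ (mul_mem (inv_mem b3) b1))).1 this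
  · exact absurd (by rw [← mul_left_cancel_iff (a := d), ← mul_right_cancel_iff (a := d⁻¹), a]; group)
      (h.nconj (d⁻¹ * l * c⁻¹))

theorem fixE {g : G} (h1 : g ∈ C{e 19}) (h2 : g ∈ N[EE e]) :
    g * e 20 * g⁻¹ = e 20 ∨ g * e 20 * g⁻¹ = e 19 * e 20 := by
  have s := fun c (a : chkE run LH [c, c] [] = true) => show e c * e c = 1 by simpa using h.trH.eq a
  rcases mem_four (s 19 (by decide +kernel)) (s 20 (by decide +kernel))
    (mem_C1.1 (h.trH.cent1 (by decide +kernel))) (gen_two e 19 20 ▸ (conj_mem h2 (mem_gen (c := 20) (by simp)) : _ ∈ gen e [19, 20]))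
    with a | a | a
  · exact absurd (by simpa using a) (h.full.ne (u := [20]) (v := []) (by decide +kernel))
  · rw [← mem_C1_iff_conj.1 h1] at a
    exact absurd (by simpa using a) (h.full.ne (u := [20]) (v := [19]) (by decide +kernel))
  · exact a

theorem centE_le : C{e 19} ≤ C[EE e] ⊔ C{e 0} := by
  have s := fun c (a : chkE run LH [c, c] [] = true) => show e c * e c = 1 by simpa using h.trH.eq a
  have e2 := s 19 (by decide +kernel)
  have c1 : e 19 * e 20 = e 20 * e 19 := mem_C1.1 (h.trH.cent1 (by decide +kernel))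
  have hv : ∀ v ∈ gen e W1, v ≠ 1 → ∀ c ∈ C{e 19}, v⁻¹ * (c * v * c⁻¹) ∈ zpowers (e 19) → PiElt {2} c :=
    fun v hv v1 c hc a => by
      obtain ⟨d, b1, rfl⟩ := (h.cls1 hv).resolve_left v1
      have b2 := (mem_CE.1 b1).1
      rcases (mem_zp2 e2).1 a with a | a
      · have := h.twoSe.piElt (h.centE (y := d⁻¹ * c * d⁻¹⁻¹) (mem_C1_iff_conj.2 (by
          rw [← mul_left_cancel_iff (a := d), ← mul_right_cancel_iff (a := d⁻¹), inv_mul_eq_one.1 a]
          group)) (mul_mem (mul_mem (inv_mem b2) hc) (inv_mem (inv_mem b2))))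
        rwa [PiElt, orderOf_conj] at this
      · refine absurd ?_ (h.nconj (e 21 * d⁻¹ * c * d))
        have b3 : e 21 * (e 0 * e 19) * (e 21)⁻¹ = e 19 := mul_inv_eq_iff_eq_mul.2 (by
          simpa [mul_assoc] using h.trH.eq (u := [21, 0, 19]) (v := [19, 21]) (by decide +kernel))
        rw [← mem_C1_iff_conj.1 b2, inv_mul_eq_iff_eq_mul, conj_mul] at a
        rw [← b3, show e 0 * e 19 = d⁻¹ * (d * (e 0 * e 19) * d⁻¹) * d by group, ← a]; group
  intro g hg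
  have a := norm_of_isolated (a := e 1) (b := e 0) h.sylE (mem_gen (c := 20) (by decide)) (fun a => by
      rcases (mem_zp2 e2).1 a with a | a
      exacts [h.full.ne (u := [20]) (v := []) (by decide +kernel) (by simpa using a),
        h.full.ne (u := [20]) (v := [19]) (by decide +kernel) (by simpa using a)])
    (s 20 (by decide +kernel)) (fun c a b => by
      rcases h.fixE a (h.normE a (h.leZ b)) with a | a <;> rw [a]
      · simp
      · simp [c1]) e2 (s 1 (by decide +kernel)) h.hh.sq (h.trH.cent1 (by decide +kernel))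
    (h.trH.cent1 (by decide +kernel)) (fun v a => by
      simp only [List.mem_cons, List.not_mem_nil, or_false] at a
      rcases a with rfl | rfl | rfl
      exacts [hv _ (mem_gen (by decide)) (by
          simpa using h.full.ne (u := [1]) (v := []) (by decide +kernel)),
        hv _ (mem_gen (by decide)) h.hh.ne, hv _ (mul_mem (mem_gen (by decide)) (mem_gen (by decide)))
          (by simpa using h.full.ne (u := [1, 0]) (v := []) (by decide +kernel))]) hg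
  rcases (mem_zp2 e2).1 a with a | a
  · exact mem_sup_left (mem_CE.2 ⟨hg, mem_C1_iff_conj.2 (inv_mul_eq_one.1 a).symm⟩)
  · have b1 : e 29 ∈ C{e 19} := h.trH.cent1 (by decide +kernel)
    have b2 : e 29 * (e 20 * e 19) * (e 29)⁻¹ = e 20 := mul_inv_eq_iff_eq_mul.2 (by
      simpa [mul_assoc] using h.trH.eq (u := [29, 20, 19]) (v := [20, 29]) (by decide +kernel))
    refine (mul_mem_cancel_left (mem_sup_right (h.hh.cen 29))).1
      (mem_sup_left (mem_CE.2 ⟨mul_mem b1 hg, mem_C1_iff_conj.2 ?_⟩))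
    change e 29 * g * e 20 * (e 29 * g)⁻¹ = _
    rw [← inv_mul_eq_iff_eq_mul.1 a] at b2
    exact Eq.trans (by group) b2

theorem equiv {Q : Subgroup G} (hQ : LX (e 0) Q) : ∃ φ : S ≃* G, ∀ c, φ (m c) = e c := by
  obtain ⟨ψ, h1, h2⟩ := h.psi
  have := Suz.simple
  have := (MonoidHom.ofInjective h1).symm.isSimpleGroup
  have a0 : ∀ l, gen e l ≤ ψ.range := fun l => gen_le.2 fun c _ => ⟨_, h2 c⟩
  have a1 : C{e 0} ≤ ψ.range := (show C{e 0} = _ from h.hh.top.symm).le.trans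
    ((gen_tr e (by decide +kernel)).le.trans (a0 _))
  have a2 : C[EE e] ⊔ C{e 0} ≤ ψ.range := sup_le (h.geo.2.trans (a0 _)) a1
  have a3 := h.centE_le.trans a2
  have k : ∀ {t}, C{t} ≤ ψ.range → ∀ {c}, c ∈ ψ.range → C{c * t * c⁻¹} ≤ ψ.range := fun a c b =>
    cj_C1 c _ ▸ cj_le_of_mem a b
  have := hQ.eq_top a1 (t := e 19)
    (by simpa using h.trH.eq (u := [19, 19]) (v := []) (by decide +kernel)) h.nconj fun w a b c => by
      obtain ⟨l, b1, b2⟩ := Sylow_Jsub p2 h.sylE (e2_of_sq b).isPi (zpowers_le.2 a)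
      have b3 : l * w * l⁻¹ * (l * w * l⁻¹) = 1 := by rw [conj_mul, b]; simp
      rw [show w = l⁻¹ * (l * w * l⁻¹) * l⁻¹⁻¹ by group]
      refine k ?_ (inv_mem (a3 b1))
      rcases h.hh.invT (gSe e ▸ b2 (conj_mem_cj l (mem_zpowers w))) b3 with d | ⟨d, d1, d2⟩
      · rcases h.invS (gSl e ▸ d) b3 with d | ⟨d, d1, d2⟩ | ⟨d, d1, d2⟩
        · exact absurd (by simpa using d) c
        · exact d2 ▸ k a1 (a2 (mem_sup_left d1))
        · exact d2 ▸ k a3 (a2 d1)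
      · exact d2 ▸ k a3 (a1 d1)
  exact ⟨MulEquiv.ofBijective ψ ⟨h1, MonoidHom.range_eq_top.1 this⟩, h2⟩

end B1

theorem recog {z : G} {Q : Subgroup G} (h : LX z Q) (h1 : Nat.card Q = 2 ^ 7)
    (h2 : Nat.card C{z} = 3317760) {g : G} (h3 : g * z * g⁻¹ ∈ Q) (h4 : g * z * g⁻¹ ≠ z) :
    ∃ φ : S ≃* G, φ (m 0) = z := by
  obtain ⟨e, a1, rfl, rfl⟩ := exists_pre h h1 h2
  obtain ⟨c, a2⟩ := a1.fuse h3 (by rw [conj_mul, h.sq]; simp) (by simpa using h.ne_one) h4
  obtain ⟨e', a3, a4⟩ := a1.exists_B1 (g := c⁻¹ * g) (by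
    rw [← mul_left_cancel_iff (a := c), ← mul_right_cancel_iff (a := c⁻¹), a2]; group)
  obtain ⟨φ, a5⟩ := a3.equiv (a4.symm ▸ h)
  exact ⟨φ, (a5 0).trans a4⟩

theorem recog' {z : G} (hz : orderOf z = 2) (Q : Subgroup C{z}) [Q.Normal] (hC : C[Q] ≤ Q)
    (hQ : Cfsg.IsExtraspecial 2 Q) (hcard : Nat.card Q = 2 ^ 7)
    (f : C{z} ⧸ Q ≃* Cfsg.Omega (ZMod 2) (Cfsg.quadFormMinus 2 (ZMod 2) 1 1))
    (hn : ∃ g : G, (∃ hq : g * z * g⁻¹ ∈ C{z}, (⟨g * z * g⁻¹, hq⟩ : C{z}) ∈ Q) ∧ g * z * g⁻¹ ≠ z) :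
    ∃ φ : S ≃* G, φ (m 0) = z := by
  obtain ⟨g, ⟨a1, a2⟩, a3⟩ := hn
  refine recog (lx_of hz Q hC hQ) (by rw [card_map_of_injective (subtype_injective _), hcard]) ?_
    ⟨_, a2, rfl⟩ a3
  rw [card_eq_card_quotient_mul_card_subgroup Q, Nat.card_congr f.toEquiv, card_omega6m, hcard]
  rfl

end H15.Sz
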