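import Mathlib
import Cfsg.Agent.H16.PSL2Inv

/-!
# The groups `PSL₂(q)` whose involution centralisers are `2`-groups
-/

set_option autoImplicit false

namespace H15.CIT

open Subgroup

theorem exists_odd_quot (x : ℤ) (hx : Odd x) (m : ℕ) :
    ∃ s : ℤ, Odd s ∧ x ^ (2 * m + 1) - 1 = (x - 1) * s := by
  induction m with
  | zero => exact ⟨1, odd_one, by simp⟩
  | succ m ih =>
    obtain ⟨s, h1, h2⟩ := ih
    exact ⟨s + x ^ (2 * m + 1) * (x + 1), h1.add_even ((hx.add_one).mul_left _),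
      by linear_combination h2⟩

theorem odd_dvd_two_pow {s : ℤ} {k : ℕ} (hs : Odd s) (h : s ∣ 2 ^ k) : s = 1 ∨ s = -1 :=
  Int.isUnit_iff.1 ((IsCoprime.pow_right (Int.isCoprime_two_right.2 hs)).isUnit_of_dvd h)

theorem pow_cases {p n k : ℕ} (hp : 1 < p) (ho : Odd p) (hn : 0 < n)
    (h : p ^ n = 2 ^ k + 1 ∨ p ^ n + 1 = 2 ^ k) : p ^ n = 9 ∨ p ^ n = p := by
  rcases Nat.even_or_odd' n with ⟨m, rfl | rfl⟩
  · left
    have h1 : 1 < p ^ m := Nat.one_lt_pow (by omega) hp
    obtain ⟨c, hc⟩ := ho.pow (n := m)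
    rw [mul_comm, pow_mul, hc] at h ⊢
    have h4 : ∀ j, 2 ≤ j → 4 ∣ 2 ^ j := fun j hj => pow_dvd_pow 2 hj
    rcases h with h | h
    · have h2 : 2 * c * (2 * c + 2) = 2 ^ k := by linarith
      obtain ⟨a, -, ha⟩ := (Nat.dvd_prime_pow Nat.prime_two).1 (Dvd.intro _ h2)
      obtain ⟨b, -, hb⟩ := (Nat.dvd_prime_pow Nat.prime_two).1 (Dvd.intro_left _ h2)
      obtain rfl : c = 1 := by
        by_contra hne
        have a1 : 2 ≤ a := by
          by_contra a1
          interval_cases a <;> omega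
        have b1 : 2 ≤ b := by
          by_contra b1
          interval_cases b <;> omega
        have := h4 a a1
        have := h4 b b1
        omega
      rfl
    · have k1 : 2 ≤ k := by
        by_contra k1
        interval_cases k <;> nlinarith
      have := h4 k k1
      rw [← h, show (2 * c + 1) ^ 2 + 1 = 4 * (c * c + c) + 2 by ring] at this
      omega
  · right
    have ho' : Odd (p : ℤ) := by exact_mod_cast ho
    have hp' : (1 : ℤ) < p := by exact_mod_cast hp
    have hpos : (0 : ℤ) < (p : ℤ) ^ (2 * m + 1) := by positivity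
    suffices (p : ℤ) ^ (2 * m + 1) = p by exact_mod_cast this
    rcases h with h | h
    · obtain ⟨s, s1, s2⟩ := exists_odd_quot p ho' m
      have h' : (p : ℤ) ^ (2 * m + 1) = 2 ^ k + 1 := by exact_mod_cast h
      have h2 : (0 : ℤ) < 2 ^ k := by positivity
      rcases odd_dvd_two_pow (k := k) s1 ⟨p - 1, by linarith⟩ with rfl | rfl <;> linarith
    · obtain ⟨s, s1, s2⟩ := exists_odd_quot (-p) ho'.neg m
      have h' : (p : ℤ) ^ (2 * m + 1) + 1 = 2 ^ k := by exact_mod_cast h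
      rw [(odd_two_mul_add_one m).neg_pow] at s2
      rcases odd_dvd_two_pow (k := k) s1 ⟨p + 1, by linarith⟩ with rfl | rfl <;> linarith

theorem psl2_refine {F : Type*} [Field F] [Fintype F]
    (h : ∀ t : Matrix.ProjectiveSpecialLinearGroup (Fin 2) F, orderOf t = 2 →
      IsPGroup 2 (centralizer ({t} : Set _))) :
    Fintype.card F = 9 ∨ (∃ n : ℕ, Fintype.card F = 2 ^ n) ∨
      ((Fintype.card F).Prime ∧ ∃ k : ℕ, Fintype.card F = 2 ^ k + 1 ∨ Fintype.card F + 1 = 2 ^ k) := by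
  obtain ⟨p, -, n, hp, hq⟩ := FiniteField.card' F
  rcases hp.eq_two_or_odd' with rfl | ho
  · exact .inr (.inl ⟨n, hq⟩)
  have hodd : Odd (Fintype.card F) := hq ▸ ho.pow
  have h2 : (2 : F) ≠ 0 := H7.two_ne_zero_of_odd_card hodd
  have h1 := h _ (orderOf_eq_prime (by rw [pow_two]; exact H16.mk_mul_self_of_sq _ H16.wS_mul_self)
    (H16.mk_ne_one_of_sq h2 _ H16.wS_mul_self))
  have h3 := h1.comap_of_ker_isPGroup (QuotientGroup.mk' _) (by
    rw [QuotientGroup.ker_mk']
    refine IsPGroup.of_card (n := 1) ?_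
    rw [H7.card_center_sl rfl 2 (by norm_num), pow_one]
    exact Nat.gcd_eq_left (even_iff_two_dvd.1 (Nat.Odd.sub_odd hodd odd_one)))
  have h4 : IsPGroup 2 (centralizer ({H16.wS} : Set (Matrix.SpecialLinearGroup (Fin 2) F))) :=
    h3.to_le fun c hc => mem_centralizer_singleton_iff.2
      (congrArg (QuotientGroup.mk' _) (mem_centralizer_singleton_iff.1 hc))
  obtain ⟨k, hk⟩ := IsPGroup.iff_card.1 h4
  have h5 : Nat.card {z : F × F // z.1 ^ 2 + z.2 ^ 2 = 1} = 2 ^ k := by
    rw [← hk, ← H16.card_centralizer_wS]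
    exact Nat.card_congr (Equiv.subtypeEquivRight fun c => mem_centralizer_singleton_iff.symm)
  obtain ⟨c1, c2⟩ := H16.card_circle rfl hodd
  have h6 : Fintype.card F = 2 ^ k + 1 ∨ Fintype.card F + 1 = 2 ^ k := by
    obtain ⟨c, hc⟩ := hodd
    omega
  rcases pow_cases hp.one_lt ho n.2 (hq ▸ h6) with e | e
  · exact .inl (hq.trans e)
  · exact .inr (.inr ⟨(hq.trans e).symm ▸ hp, k, h6⟩)

end H15.CIT
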