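import Mathlib
import Cfsg.Agent.H15.CIT4
import Cfsg.Prelude.Def_LieExceptional

/-!
# A nilpotent subgroup of even order containing the centralisers of its elements gives a
Zassenhaus group
-/

set_option autoImplicit false
set_option linter.unusedSectionVars false
set_option linter.style.haveILetI false

namespace H15.CIT

open H24 Cfsg Subgroup H12

variable {G : Type*} [Group G] [Finite G]

/-- a nilpotent subgroup with two involutions that contains the centralisers of its elements. -/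
structure CCN (H : Subgroup G) : Prop where
  cc : ∀ x ∈ H, x ≠ 1 → C{x} ≤ H
  nil : Nil H
  two : ∃ u ∈ H, ∃ v ∈ H, u ≠ 1 ∧ v ≠ 1 ∧ u ≠ v ∧ u * u = 1 ∧ v * v = 1

theorem CCN.cj {H : Subgroup G} (h : CCN H) (g : G) : CCN (cj g H) where
  cc := by
    intro x hx h1
    obtain ⟨y, hy, rfl⟩ := mem_cj'.1 hx
    rw [← cj_C1]
    exact cj_mono g (h.cc y hy (by rintro rfl; simp at h1))
  nil := h.nil.cj g
  two := by
    obtain ⟨u, hu, v, hv, a1, a2, a3, a4, a5⟩ := h.two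
    have k : ∀ x : G, x * x = 1 → g * x * g⁻¹ * (g * x * g⁻¹) = 1 := fun x hx => by
      rw [show g * x * g⁻¹ * (g * x * g⁻¹) = g * (x * x) * g⁻¹ by group, hx]; group
    exact ⟨_, conj_mem_cj g hu, _, conj_mem_cj g hv, by simpa using a1, by simpa using a2,
      by simpa using a3, k u a4, k v a5⟩

/-- the conjugates of `H`. -/
def Om (H : Subgroup G) : Type _ := {K : Subgroup G // ∃ g, K = cj g H}

instance (H : Subgroup G) : Finite (Om H) := inferInstanceAs (Finite {_K : Subgroup G // _})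

instance (H : Subgroup G) : MulAction G (Om H) where
  smul g K := ⟨cj g K.1, by obtain ⟨K, x, rfl⟩ := K; exact ⟨g * x, (cj_mul _ _ _).symm⟩⟩
  one_smul K := Subtype.ext (cj_one _)
  mul_smul a b K := Subtype.ext (cj_mul _ _ _)

variable {H : Subgroup G} {α β γ : Om H} {d x u v : G}

theorem Om.smul_val (g : G) (K : Om H) : (g • K).1 = cj g K.1 := rfl

theorem Om.smul_eq : d • α = α ↔ d ∈ N[α.1] :=
  ⟨fun h => mem_N_iff_cj.2 (congrArg Subtype.val h), fun h => Subtype.ext (mem_N_iff_cj.1 h)⟩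

theorem Om.smul_of_mem (h : x ∈ α.1) : x • α = α := Om.smul_eq.2 (norm_self _ h)

theorem Om.conj_mem (g : G) (h : x ∈ α.1) : g * x * g⁻¹ ∈ (g • α).1 := conj_mem_cj g h

theorem Om.card (α : Om H) : Nat.card α.1 = Nat.card H := by
  obtain ⟨K, x, rfl⟩ := α
  exact card_cj _ _

/-- the base point. -/
def Om.base (H : Subgroup G) : Om H := ⟨H, 1, by simp⟩

theorem Om.trans (α β : Om H) : ∃ g : G, g • α = β := by
  obtain ⟨K, x, rfl⟩ := α
  obtain ⟨K, y, rfl⟩ := β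
  exact ⟨y * x⁻¹, Subtype.ext (show cj _ (cj x H) = cj y H by rw [← cj_mul, inv_mul_cancel_right])⟩

theorem sq_conj (g : G) (h : u * u = 1) : g * u * g⁻¹ * (g * u * g⁻¹) = 1 := by
  rw [show g * u * g⁻¹ * (g * u * g⁻¹) = g * (u * u) * g⁻¹ by group, h]; group

namespace CCN

variable (h : CCN H)
include h

theorem pt (α : Om H) : CCN α.1 := by
  obtain ⟨K, x, rfl⟩ := α
  exact h.cj x

theorem ti (h1 : x ∈ α.1) (h2 : x ∈ β.1) (hx : x ≠ 1) : α = β := by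
  obtain ⟨z, hz, hz1⟩ := exists_ne_one ((h.pt α).nil.center_ne_bot (ne_bot_of_mem h1 hx))
  have a1 : z ∈ β.1 := (h.pt β).cc x h2 hx (C_le_C1 h1 hz.2)
  exact Subtype.ext (eq_of_card_eq ((mem_C_iff_le_C1.1 hz.2).trans ((h.pt β).cc z a1 hz1))
    (α.card.trans β.card.symm))

theorem mem_of_norm {p : ℕ} (hp : p.Prime) (hd : p ∣ Nat.card H) (hx : PiElt {p} x)
    (h1 : x • α = α) : x ∈ α.1 := by
  obtain ⟨w, hw, hw1⟩ := exists_ne_one (IsPi.inf_C_ne_bot hp hx.isPi (pcore_pi {p} α.1)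
    (zpowers_le.2 (N_le_N_pcore _ _ (Om.smul_eq.1 h1)))
    ((h.pt α).nil.pcore_ne_bot hp rfl (α.card ▸ hd)))
  exact (h.pt α).cc w (pcore_le _ _ hw.1) hw1 (mem_C1_comm.1 (C_le_C1 (mem_zpowers x) hw.2))

theorem semi (hne : α ≠ β) (h1 : x ∈ α.1) (h2 : x • β = β) : x = 1 := by
  by_contra hx
  obtain ⟨p, hp, hd⟩ := exists_prime_dvd_card (H := zpowers x) (by simpa using hx)
  obtain ⟨y, hy, e⟩ := exists_orderOf_eq hp hd
  have a1 := zpowers_le.2 h1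
  refine hne (h.ti (a1 hy) (h.mem_of_norm hp (α.card ▸ hd.trans (card_dvd a1))
    (piElt_of_orderOf_prime hp e) (Om.smul_eq.2 (zpowers_le.2 (Om.smul_eq.1 h2) hy))) ?_)
  rintro rfl
  simp only [orderOf_one] at e
  exact hp.one_lt.ne e

theorem swap (hne : α ≠ β) (hu : u ∈ α.1) (hv : v ∈ β.1) (hu1 : u ≠ 1) (hv1 : v ≠ 1)
    (hu2 : u * u = 1) (hv2 : v * v = 1) :
    ∃ r : G, r * r = 1 ∧ r * u * r⁻¹ = v ∧ r • α = β ∧ r • β = α := by
  by_cases ho : Odd (orderOf (u * v))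
  · obtain ⟨r, -, r2, e⟩ := H6.exists_invol_conj_of_odd hu2 hv2 ho
    have e1 : r • α = β := h.ti (e ▸ Om.conj_mem r hu) hv hv1
    exact ⟨r, r2, e, e1, by rw [← e1, smul_smul, r2, one_smul]⟩
  · obtain ⟨w, w1, -, c1, c2, -⟩ := H21.exists_invol_comm_of_not_odd hu2 hv2
      (isOfFinOrder_of_finite _) ho
    exact absurd (h.ti ((h.pt α).cc u hu hu1 (mem_C1.2 c1.eq))
      ((h.pt β).cc v hv hv1 (mem_C1.2 c2.eq)) w1) hne

theorem trans (hne : α ≠ β) (hu : u ∈ α.1) (hv : v ∈ α.1) (hu1 : u ≠ 1) (hv1 : v ≠ 1)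
    (hu2 : u * u = 1) (hv2 : v * v = 1) : ∃ d : G, d • α = α ∧ d • β = β ∧ d * u * d⁻¹ = v := by
  obtain ⟨w, hw, -, -, w1, -, -, w2, -⟩ := (h.pt β).two
  obtain ⟨r, -, a1, a2, a3⟩ := h.swap hne hu hw hu1 w1 hu2 w2
  obtain ⟨s, -, b1, b2, b3⟩ := h.swap hne hv hw hv1 w1 hv2 w2
  refine ⟨s⁻¹ * r, by rw [mul_smul, a2, inv_smul_eq_iff, b2],
    by rw [mul_smul, a3, inv_smul_eq_iff, b3], ?_⟩
  rw [show s⁻¹ * r * u * (s⁻¹ * r)⁻¹ = s⁻¹ * (r * u * r⁻¹) * s by group, a1, ← b1]; group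

theorem mem_of_conj_eq (hu : u ∈ α.1) (hu1 : u ≠ 1) {c : G} (e : d * u * d⁻¹ = c * u * c⁻¹) :
    d⁻¹ * c ∈ α.1 :=
  (h.pt α).cc u hu hu1 (mem_C1_iff_conj.2 (by
    rw [show d⁻¹ * c * u * (d⁻¹ * c)⁻¹ = d⁻¹ * (c * u * c⁻¹) * d by group, ← e]; group))

theorem inv (hne : α ≠ β) : ∃ r : G, r • α = β ∧ r • β = α ∧
    ∀ d : G, d • α = α → d • β = β → r * d * r⁻¹ = d⁻¹ := by
  obtain ⟨u, hu, -, -, u1, -, -, u2, -⟩ := (h.pt α).two
  obtain ⟨w, hw, -, -, w1, -, -, w2, -⟩ := (h.pt β).two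
  obtain ⟨r, a0, a1, a2, a3⟩ := h.swap hne hu hw u1 w1 u2 w2
  refine ⟨r, a2, a3, fun d d1 d2 => ?_⟩
  obtain ⟨s, b0, b1, b2, b3⟩ := h.swap hne (d1 ▸ Om.conj_mem d hu) hw (by simpa using u1) w1
    (sq_conj d u2) w2
  have e : r⁻¹ * (s * d) = 1 := h.semi hne
    (h.mem_of_conj_eq hu u1 (by rw [a1, ← b1]; group))
    (by rw [mul_smul, mul_smul, d2, b3, inv_smul_eq_iff, a3])
  have e1 : d = s * r := by
    rw [← inv_eq_of_mul_eq_one_right b0, eq_inv_mul_iff_mul_eq, ← inv_mul_eq_one.1 e]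
  rw [e1, mul_inv_rev, inv_eq_of_mul_eq_one_right b0, mul_assoc, mul_assoc, mul_inv_cancel, mul_one,
    inv_eq_of_mul_eq_one_right a0]

theorem comm (hne : α ≠ β) {c : G} (d1 : d • α = α) (d2 : d • β = β) (c1 : c • α = α)
    (c2 : c • β = β) : d * c = c * d := by
  obtain ⟨r, -, -, e⟩ := h.inv hne
  have := e (d * c) (by rw [mul_smul, c1, d1]) (by rw [mul_smul, c2, d2])
  rw [show r * (d * c) * r⁻¹ = (r * d * r⁻¹) * (r * c * r⁻¹) by group, e d d1 d2, e c c1 c2,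
    ← mul_inv_rev, inv_inj] at this
  exact this.symm

theorem two_dvd : 2 ∣ Nat.card H := by
  obtain ⟨u, hu, -, -, u1, -, -, u2, -⟩ := h.two
  exact orderOf_eq_two u1 u2 ▸ orderOf_dvd_natCard H hu

theorem three (h1 : α ≠ β) (h2 : β ≠ γ) (h3 : α ≠ γ) (d1 : d • α = α) (d2 : d • β = β)
    (d3 : d • γ = γ) : d = 1 := by
  obtain ⟨x, x1, -, x2⟩ := h.inv h1
  obtain ⟨w, w1, -, w2⟩ := h.inv h2
  obtain ⟨y, -, y1, y2⟩ := h.inv h3
  have e : y * w * x * d * (y * w * x)⁻¹ = d⁻¹ := by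
    rw [show y * w * x * d * (y * w * x)⁻¹ = y * (w * (x * d * x⁻¹) * w⁻¹) * y⁻¹ by group,
      x2 d d1 d2, show w * d⁻¹ * w⁻¹ = (w * d * w⁻¹)⁻¹ by group, w2 d d2 d3, inv_inv, y2 d d1 d3]
  have c1 : (y * w * x) • α = α := by rw [mul_smul, mul_smul, x1, w1, y1]
  generalize y * w * x = c at e c1
  obtain ⟨u, hu, -, -, u1, -, -, u2, -⟩ := (h.pt α).two
  obtain ⟨b, b1, b2, b3⟩ := h.trans h1 hu (c1 ▸ Om.conj_mem c hu) u1 (by simpa using u1) u2
    (sq_conj c u2)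
  have a1 := h.mem_of_conj_eq hu u1 b3
  have a2 := α.1.mul_mem (conj_mem (Om.smul_eq.1 d1) a1) (α.1.inv_mem a1)
  have a3 : d * (b⁻¹ * c) * d⁻¹ * (b⁻¹ * c)⁻¹ = d * d := by
    calc _ = d * (b⁻¹ * (c * d * c⁻¹)⁻¹ * b) := by group
      _ = d * (b⁻¹ * (d * b)) := by rw [e]; group
      _ = _ := by rw [h.comm h1 d1 d2 b1 b2]; group
  rw [a3] at a2
  have a4 := h.semi h1 a2 (by rw [mul_smul, d2, d2])
  exact h.semi h1 (h.mem_of_norm p2 h.two_dvd (e2_of_sq a4) d1) d2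

theorem exists_fix (hne : α ≠ β) : ∃ d : G, d ≠ 1 ∧ d • α = α ∧ d • β = β := by
  obtain ⟨u, hu, v, hv, a1, a2, a3, a4, a5⟩ := (h.pt α).two
  obtain ⟨d, d1, d2, d3⟩ := h.trans hne hu hv a1 a2 a4 a5
  exact ⟨d, by rintro rfl; exact a3 (by simpa using d3), d1, d2⟩

theorem reg (h1 : α ≠ β) (h2 : α ≠ γ) : ∃ a ∈ α.1, a • β = γ := by
  obtain ⟨d, d0, d1, d2⟩ := h.exists_fix h1
  obtain ⟨u, hu, -, -, u1, -, -, u2, -⟩ := (h.pt α).two
  obtain ⟨c, c1, c2, c3⟩ := h.trans h2 hu (d1 ▸ Om.conj_mem d hu) u1 (by simpa using u1) u2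
    (sq_conj d u2)
  obtain ⟨a, ha, e⟩ := exists_conj_of_card (X := α.1) (W := α.1) (v := d) (fun a ha => by
    rw [show d⁻¹ * (a * d * a⁻¹) = (d⁻¹ * a * d) * a⁻¹ by group]
    exact α.1.mul_mem (conj_mem' (Om.smul_eq.1 d1) ha) (α.1.inv_mem ha)) (by
      have : α.1 ⊓ C{d} = ⊥ := by
        rw [eq_bot_iff]
        intro y hy
        by_contra hy1
        exact d0 (h.semi h1 ((h.pt α).cc y hy.1 hy1 (mem_C1_comm.1 hy.2)) d2)
      rw [this]; simp) _ (h.mem_of_conj_eq hu u1 c3.symm)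
  rw [mul_inv_cancel_left] at e
  refine ⟨a, ha, by_contra fun hn => d0 ?_⟩
  have := h.three (β := a • β) (d := c)
    (fun e1 => h1 (by rw [← Om.smul_of_mem ha] at e1; exact smul_left_cancel a e1)) hn h2 c1
    (by rw [← e, mul_smul, mul_smul, inv_smul_smul, d2]) c2
  rwa [this, conj_eq_one_iff'] at e

theorem card_Om (hne : ∃ β : Om H, Om.base H ≠ β) : Nat.card (Om H) - 1 = Nat.card H := by
  classical
  obtain ⟨β, hβ⟩ := hne
  have hb : ∀ a : H, (a : G) • Om.base H = Om.base H := fun a => Om.smul_of_mem a.2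
  let f : H → {γ : Om H // γ ≠ Om.base H} := fun a => ⟨(a : G) • β, fun e =>
    hβ (smul_left_cancel (a : G) ((hb a).trans e.symm))⟩
  have hf : Function.Bijective f := by
    refine ⟨fun a b e => Subtype.ext (inv_mul_eq_one.1 (h.semi hβ (H.mul_mem (H.inv_mem a.2) b.2) ?_)),
      fun γ => ?_⟩
    · rw [mul_smul, inv_smul_eq_iff]
      exact (congrArg Subtype.val e).symm
    · obtain ⟨a, ha, e⟩ := h.reg hβ γ.2.symm
      exact ⟨⟨a, ha⟩, Subtype.ext e⟩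
  have := Fintype.ofFinite (Om H)
  rw [Nat.card_eq_of_bijective f hf, Nat.card_eq_fintype_card, Nat.card_eq_fintype_card]
  exact (Fintype.card_subtype_compl (· = Om.base H)).trans (by simp) |>.symm

theorem exists_ne [IsSimpleGroup G] (ht : H ≠ ⊤) : ∃ β : Om H, Om.base H ≠ β := by
  by_contra hc
  push Not at hc
  have : H.Normal := normalizer_eq_top_iff.1 (eq_top_iff.2 fun g _ =>
    (Om.smul_eq (α := Om.base H)).1 (hc _).symm)
  obtain ⟨u, hu, -, -, u1, -⟩ := h.two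
  exact ht ((IsSimpleGroup.eq_bot_or_eq_top_of_normal H this).resolve_left (ne_bot_of_mem hu u1))

theorem zassenhaus [IsSimpleGroup G] (ht : H ≠ ⊤) : IsZassenhausGroup G (Om H) := by
  obtain ⟨β, hβ⟩ := h.exists_ne ht
  obtain ⟨u, hu, -, -, u1, -⟩ := h.two
  refine ⟨?_, MulAction.is_two_pretransitive_iff.2 fun {a b c d} h1 h2 => ?_,
    fun g a b c h1 h2 h3 => h.three h1 h2 h3, ?_, fun M hM hM' => ?_⟩
  · rw [faithfulSMul_iff]
    intro g hg
    rcases IsSimpleGroup.eq_bot_or_eq_top_of_normal (MulAction.toPermHom G (Om H)).ker inferInstance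
      with e | e
    · exact mem_bot.1 (e ▸ MonoidHom.mem_ker.2 (Equiv.ext hg))
    · obtain ⟨x, hx⟩ := Om.trans (Om.base H) β
      have := MonoidHom.mem_ker.1 (e ▸ mem_top x)
      exact absurd ((congrArg (· (Om.base H)) this).symm.trans hx) hβ
  · obtain ⟨g, rfl⟩ := Om.trans a c
    obtain ⟨x, hx, e⟩ := h.reg (β := g • b) (fun e => h1 (smul_left_cancel g e)) h2
    exact ⟨x * g, by rw [mul_smul, Om.smul_of_mem hx], by rw [mul_smul, e]⟩
  · obtain ⟨d, d0, d1, d2⟩ := h.exists_fix hβ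
    exact ⟨d, d0, _, _, hβ, d1, d2⟩
  · rcases IsSimpleGroup.eq_bot_or_eq_top_of_normal M hM with rfl | rfl
    · obtain ⟨x, hx⟩ := hM'.exists_smul_eq (Om.base H) β
      rw [Subsingleton.elim x 1, one_smul] at hx
      exact absurd hx hβ
    · exact ⟨Om.base H, ne_bot_of_mem (x := ⟨u, mem_top u⟩)
        (Om.smul_of_mem (α := Om.base H) hu) (by simpa using u1)⟩

end CCN

end H15.CIT
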