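import Mathlib
import Cfsg.Agent.H15.CIT8
import Cfsg.Agent.H15.CIT9
import Cfsg.Agent.H15.CIT10
import Cfsg.Agent.H17.ZStar
import Cfsg.Agent.H22.Rank2
import Cfsg.Agent.S0205
import Cfsg.Agent.S0340
import Cfsg.Agent.S0346
import Cfsg.Agent.S0508
import Cfsg.Agent.S1213

/-!
# Suzuki's classification of the simple CIT-groups and CN-groups
-/

set_option autoImplicit false
set_option linter.unusedSectionVars false
set_option linter.style.haveILetI false

namespace H15.CIT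

open H24 Cfsg Subgroup H12

variable {G : Type*} [Group G] [Finite G] {S H : Subgroup G}

theorem IsCIT.isPGroup (hG : IsCIT G) (t : G) (ht : orderOf t = 2) : IsPGroup 2 C{t} :=
  (hG.cent (ne_one_of_orderOf ht) (e2_of_sq (sq_of_orderOf ht))).isPGroup p2

theorem IsCIT.of_equiv (hG : IsCIT G) {G' : Type*} [Group G'] (e : G ≃* G') : IsCIT G' := by
  intro y hy
  have := hG (e.symm y) (by rwa [e.symm.orderOf_eq])
  unfold PiElt at this ⊢
  rwa [e.symm.orderOf_eq] at this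

section Simple

variable [IsSimpleGroup G] (hna : ∃ a b : G, a * b ≠ b * a)
include hna

theorem not_solvable : ¬ Group.IsSolvable G := fun h => by
  obtain ⟨a, b, hab⟩ := hna
  exact hab (IsSimpleGroup.comm_iff_isSolvable.2 h a b)

theorem two_dvd_card : 2 ∣ Nat.card G := by
  by_contra h
  exact not_solvable hna (Cfsg.Agent.S0205.result
    (Nat.not_even_iff_odd.1 fun h1 => h (even_iff_two_dvd.1 h1)))

theorem not_nil : ¬ Nil (⊤ : Subgroup G) := fun _ =>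
  not_solvable hna (Group.isSolvable_of_surjective (f := (⊤ : Subgroup G).subtype)
    fun x => ⟨⟨x, mem_top x⟩, rfl⟩)

theorem index_ne_two (M : Subgroup G) : M.index ≠ 2 := by
  intro h
  rcases IsSimpleGroup.eq_bot_or_eq_top_of_normal M (normal_of_index_eq_two h) with rfl | rfl
  · rw [index_bot] at h
    have : Fact (Nat.Prime 2) := ⟨p2⟩
    have := isCyclic_of_prime_card h
    exact not_solvable hna (Group.isSolvable_of_comm fun a b => IsCyclic.isMulCommutative.is_comm.comm a b)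
  · simp at h

theorem exists_conj_comm {z : G} (h1 : z ≠ 1) (h2 : z * z = 1) :
    ∃ g : G, g * z * g⁻¹ ∈ C{z} ∧ g * z * g⁻¹ ≠ z := by
  by_contra hc
  push Not at hc
  have hO : pPrimeCore 2 G = ⊥ := by
    refine (IsSimpleGroup.eq_bot_or_eq_top_of_normal _ inferInstance).resolve_right fun e => ?_
    have := H17.odd_card_pPrimeCore (G := G)
    rw [e, card_top] at this
    exact (Nat.not_even_iff_odd.2 this) (even_iff_two_dvd.2 (two_dvd_card hna))
  have hz : z ∈ center G := mem_center_iff.2 fun g => (H17.zstar_central hO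
    ⟨orderOf_eq_two h1 h2, fun g hg => hc g (mem_C1.2 hg.eq.symm)⟩ g).eq.symm
  obtain ⟨a, b, hab⟩ := hna
  rcases IsSimpleGroup.eq_bot_or_eq_top_of_normal (center G) inferInstance with e | e
  · exact h1 (mem_bot.1 (e ▸ hz))
  · exact hab (mem_center_iff.1 (e ▸ mem_top b) a)

theorem ccn_of (hcc : ∀ x ∈ H, x ≠ 1 → C{x} ≤ H) (hn : Nil H) {z : G} (hz : z ∈ H) (h1 : z ≠ 1)
    (h2 : z * z = 1) : CCN H ∧ H ≠ ⊤ := by
  obtain ⟨g, a1, a2⟩ := exists_conj_comm hna h1 h2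
  exact ⟨⟨hcc, hn, _, hcc z hz h1 a1, z, hz, by simpa using h1, h1, a2, sq_conj g h2, h2⟩,
    fun e => not_nil hna (e ▸ hn)⟩

theorem IsCIT.dihedral (hG : IsCIT G) {V : Subgroup G} (hV : EA V) (h4 : Nat.card V = 4)
    (hC : C[V] = V) : ∃ (F : Type) (_ : Field F) (_ : Fintype F),
      Nonempty (G ≃* Matrix.ProjectiveSpecialLinearGroup (Fin 2) F) := by
  have : Fact (Nat.Prime 2) := ⟨p2⟩
  obtain ⟨S, hS, hVS⟩ := Sylow_superset p2 hV.t2 le_top
  obtain ⟨S, rfl⟩ := hS.exists_sylow_top p2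
  have hK := H22.isKleinFour_of h4 hV
  obtain ⟨a, ha, b, hb, a1, b1, hne⟩ := H16.exists_pair_of_klein hK
  have hm : ∀ v ∈ V, v = 1 ∨ v = a ∨ v = b ∨ v = a * b := fun v hv =>
    H16.mem_kleinOf.1 (H16.eq_kleinOf hK ha hb a1 b1 hne ▸ hv)
  obtain ⟨z, hz, hz1⟩ := exists_ne_one (OZ_ne_bot hS.pi (ne_bot_of_mem (hVS ha) a1))
  have hz2 := orderOf_eq_two hz1 (ea_OZ _ z hz)
  rcases H22.dihedral_or_qd_of_four S.isPGroup' (a := ⟨a, hVS ha⟩) (b := ⟨b, hVS hb⟩)
    (Subtype.ext (hV a ha)) (Subtype.ext (hV b hb)) (Subtype.ext (hV.comm ha hb))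
    (fun e => a1 (congrArg Subtype.val e)) (fun e => b1 (congrArg Subtype.val e))
    (fun e => hne (congrArg Subtype.val e).symm) (fun c h1 h2 => by
      have c1 : Commute a c := congrArg Subtype.val h1.eq
      have c2 : Commute b c := congrArg Subtype.val h2.eq
      have : (c : G) ∈ C[V] := mem_C.2 fun v hv => by
        rcases hm v hv with rfl | rfl | rfl | rfl
        exacts [by simp, c1, c2, c1.mul_left c2]
      simp only [Subtype.ext_iff]
      exact hm c (hC ▸ this)) with ⟨m, hm2, e⟩ | hq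
  · have hO : oddCore C{z} = ⊥ := by
      obtain ⟨k, hk⟩ := IsPGroup.iff_card.1 ((hG.isPGroup z hz2).to_subgroup (oddCore C{z}))
      have := H17.odd_card_pPrimeCore (G := C{z})
      rw [hk] at this
      rcases k with _ | k
      · exact card_eq_one.1 hk
      · exact absurd this (by simp [pow_succ])
    obtain ⟨F, _, _, -, e⟩ := Cfsg.Agent.S0508.result S m hm2 e z hz2 (OZ_le _ hz)
      (fun s hs => mem_C.1 (OZ_le_C _ hz) s hs) ⊥ (by rw [hO, Subgroup.map_bot]) (fun h => absurd rfl h)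
      (fun s _ _ y hy => by rw [mem_bot.1 hy]; simp) fun Y h1 h2 => absurd (le_bot_iff.1 h1) h2
    exact ⟨F, _, ‹_›, e⟩
  · obtain ⟨-, -, ⟨K, -, -, k1, k2⟩, -⟩ :=
      Cfsg.Agent.S1213.result S (.inl hq) (index_ne_two hna) z hz2
    obtain ⟨k, hk⟩ := IsPGroup.iff_card.1 ((hG.isPGroup z hz2).to_subgroup K)
    rcases k with _ | k
    · obtain ⟨m, -, ⟨e⟩⟩ := k2 default
      have h1 := Nat.card_congr e.toEquiv
      have h2 := card_subgroup_dvd_card ((default : Sylow 2 K) : Subgroup K)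
      rw [h1, hk, Nat.card_eq_fintype_card, QuaternionGroup.card] at h2
      have := Nat.le_of_dvd (by norm_num) h2
      have : 0 < 2 ^ m := by positivity
      omega
    · obtain ⟨L, hL⟩ := Sylow.exists_subgroup_card_pow_prime (G := K) 2 (n := k)
        (hk ▸ pow_dvd_pow 2 (Nat.le_succ k))
      have := L.card_mul_index
      rw [hL, hk, pow_succ] at this
      exact absurd (Nat.eq_of_mul_eq_mul_left (by positivity) this) (k1 L)

theorem IsCIT.main (hG : IsCIT G) :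
    (∃ (F : Type) (_ : Field F) (_ : Fintype F),
        (Fintype.card F = 9 ∨ (∃ n : ℕ, Fintype.card F = 2 ^ n) ∨
          ((Fintype.card F).Prime ∧ ∃ k : ℕ, Fintype.card F = 2 ^ k + 1 ∨ Fintype.card F + 1 = 2 ^ k)) ∧
        Nonempty (G ≃* Matrix.ProjectiveSpecialLinearGroup (Fin 2) F)) ∨
    (∃ (F : Type) (_ : Field F) (_ : Fintype F), Fintype.card F = 4 ∧
        Nonempty (G ≃* Matrix.ProjectiveSpecialLinearGroup (Fin 3) F)) ∨
    Cfsg.IsSuzuki G := by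
  have ref : (∃ (F : Type) (_ : Field F) (_ : Fintype F),
      Nonempty (G ≃* Matrix.ProjectiveSpecialLinearGroup (Fin 2) F)) →
      ∃ (F : Type) (_ : Field F) (_ : Fintype F),
        (Fintype.card F = 9 ∨ (∃ n : ℕ, Fintype.card F = 2 ^ n) ∨
          ((Fintype.card F).Prime ∧ ∃ k : ℕ, Fintype.card F = 2 ^ k + 1 ∨ Fintype.card F + 1 = 2 ^ k)) ∧
        Nonempty (G ≃* Matrix.ProjectiveSpecialLinearGroup (Fin 2) F) := fun ⟨F, _, _, ⟨e⟩⟩ =>
    ⟨F, _, _, psl2_refine (hG.of_equiv e).isPGroup, ⟨e⟩⟩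
  obtain ⟨S, hS⟩ := Sylow_exists p2 (⊤ : Subgroup G)
  have h1 : S ≠ ⊥ := Hall.ne_bot hS p2 rfl (by rw [card_top]; exact two_dvd_card hna)
  have hO : QQ (⊤ : Subgroup G) = ⊥ :=
    (IsSimpleGroup.eq_bot_or_eq_top_of_normal _ (nml_top_iff.1 (QQ_nml ⊤))).resolve_right fun e =>
      not_nil hna (e ▸ (QQ_t2 ⊤).nil p2)
  rcases hG.trichotomy (fun M _ => index_ne_two hna M) hO hS h1 with
    h | ⟨V, a1, a2, a3⟩ | ⟨P₁, P₂, a1, a2, a3, a4⟩
  · obtain ⟨z, hz, hz1, hz2⟩ := CIT.exists_invol hS.pi h1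
    obtain ⟨b1, b2⟩ := ccn_of hna (H := S) (fun x hx hx1 c hc => by
      obtain ⟨s, hs, s1, s2⟩ := exists_invol_zpowers (hS.pi.piElt hx) hx1
      have hsS := norm_self S (zpowers_le.2 hx hs)
      refine mem_of_e2 hS ((H6.isStronglyEmbedded_iff.1 h).2.2 c s hsS (orderOf_eq_two s1 s2) ?_)
        ((hG.cent hx1 (hS.pi.piElt hx)).piElt hc)
      rwa [mem_C1_iff_conj.1 (C1_le_C1_of_mem_zpowers hs hc)]) (hS.pi.nil p2) hz hz1 hz2
    exact (Cfsg.Agent.S0340.result (b1.zassenhaus b2)).elim (fun h => .inl (ref h))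
      fun h => .inr (.inr h)
  · exact .inl (ref (hG.dihedral hna a1 a2 a3))
  · exact .inr (.inl ⟨H9.F4, _, _, H9.F4.card, Geo.psl34 ⟨a1, hG, hS, a3, a4, a2⟩⟩)

theorem cit_of_cn (hCN : IsCNGroup G) : IsCIT G := by
  intro y hy
  by_contra hy2
  have hN : ∀ x : G, x ≠ 1 → Nil C{x} := hCN
  have cop : ∀ x : G, x ≠ 1 → ∀ a ∈ C{x}, ∀ b ∈ C{x}, E2 a → PiElt {2}ᶜ b → a * b = b * a :=
    fun x hx a ha b hb h1 h2 => (hN x hx).comm_of_coprime ha hb (h1.coprime h2)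
  obtain ⟨t, r, ht, hr, htz, hrz, e⟩ := exists_piElt_decomp {2} y
  have hr1 : r ≠ 1 := by rintro rfl; exact hy2 (by rwa [e, mul_one])
  have ht1 : t ≠ 1 := by
    rintro rfl
    rw [e, one_mul] at hy
    exact Nat.not_even_iff_odd.2 (odd_of_piElt_compl hr) hy
  have hrt : r ∈ C{t} := C1_le_C1_of_mem_zpowers htz (mem_C1_comm.1 (C1_le_C1_of_mem_zpowers hrz
    (mem_C1.2 rfl)))
  obtain ⟨S, hS, htS⟩ := Sylow_superset p2 ht.isPi le_top
  have htS := htS (mem_zpowers t)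
  obtain ⟨z, hz, hz1⟩ := exists_ne_one (OZ_ne_bot hS.pi (ne_bot_of_mem htS ht1))
  have hz2 := e2_of_sq (ea_OZ S z hz)
  have hSz : S ≤ C{z} := (le_C_OZ S).trans (C_le_C1 hz)
  have hrz : r ∈ C{z} := mem_C1.2 (cop t ht1 z (mem_C1_comm.1 (hSz htS)) r hrt hz2 hr).symm
  -- centralisers of elements of odd order
  have k1 : ∀ x ∈ C{z}, x ≠ 1 → PiElt {2}ᶜ x → C{x} ≤ C{z} := by
    intro x hx hx1 hxo c hc
    have hSx : S ≤ C{x} := fun s hs =>
      mem_C1.2 (cop z hz1 s (hSz hs) x hx (hS.pi.piElt hs) hxo)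
    obtain ⟨a, b, ha, hb, haz, hbz, rfl⟩ := exists_piElt_decomp {2} c
    refine mul_mem (hSz ((hN x hx1).le_hall (hS.of_le hSx le_top) ha.isPi
      (zpowers_le.2 (zpowers_le.2 hc haz)) (mem_zpowers a))) (mem_C1.2 ?_)
    exact (cop x hx1 z (mem_C1_comm.1 hx) b (zpowers_le.2 hc hbz) hz2 hb).symm
  have k2 : ∀ x ∈ C{z}, x ≠ 1 → C{x} ≤ C{z} := by
    intro x hx hx1
    obtain ⟨u, v, hu, hv, huz, hvz, rfl⟩ := exists_piElt_decomp {2} x
    by_cases hv1 : v = 1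
    · subst hv1
      rw [mul_one] at hx hx1 ⊢
      intro c hc
      have hru : r ∈ C{u} := mem_C1.2 (cop z hz1 u hx r hrz hu hr).symm
      obtain ⟨a, b, ha, hb, haz, hbz, rfl⟩ := exists_piElt_decomp {2} c
      refine mul_mem (k1 r hrz hr1 hr (mem_C1.2 (cop u hx1 a (zpowers_le.2 hc haz) r hru ha hr)))
        (mem_C1.2 ?_)
      exact (cop u hx1 z (mem_C1_comm.1 hx) b (zpowers_le.2 hc hbz) hz2 hb).symm
    · exact (C1_le_C1_of_mem_zpowers hvz).trans (k1 v (zpowers_le.2 hx hvz) hv1 hv)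
  obtain ⟨b1, b2⟩ := ccn_of hna k2 (hN z hz1) (mem_C1.2 rfl) hz1 (ea_OZ S z hz)
  have := Fintype.ofFinite (Om C{z})
  have h3 := Cfsg.Agent.S0346.result (b1.zassenhaus b2)
  rw [← Nat.card_eq_fintype_card, b1.card_Om (b1.exists_ne b2)] at h3
  obtain ⟨p, k, hp, -, h4⟩ := (isPrimePow_nat_iff _).1 h3
  obtain rfl : 2 = p := (Nat.prime_dvd_prime_iff_eq p2 hp).1 (p2.dvd_of_dvd_pow (h4 ▸ b1.two_dvd))
  exact hr1 (((isPi_of_isPGroup p2 (IsPGroup.of_card h4.symm)).piElt hrz).eq_one hr)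

end Simple

end H15.CIT
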