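import Mathlib
import Cfsg.Agent.H29.Ext

set_option autoImplicit false
set_option maxRecDepth 100000
set_option Elab.async false
set_option linter.all false

namespace H15.CoH1

open H29

noncomputable def n9 : Net := ben 7 [(nat_lit 0xd25c714030000010f071d552202001),
 (nat_lit 0x24faaa0aaf2000506f520330a0a001),
 (nat_lit 0xff00665d00000e5701442a080800),
 (nat_lit 0x7777011360601011000400200000),
 (nat_lit 0x81008a1e001e40ec00fc4800000000),
 (nat_lit 0x811e6000000000dc000000),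
 (nat_lit 0xe01000000000)]
noncomputable def t9 : List ℕ := [(nat_lit 0xdd8c6886ba12f524c23934ac8ce529),
 (nat_lit 0x5f53044c510519c8a979a55307061c),
 (nat_lit 0x2e8030cc6f17f14e00a8a37c4207d0),
 (nat_lit 0xf40bfa2015400eb0e908376047c7e0),
 (nat_lit 0x7ff03eee7f1fff4e01a9a77f823000),
 (nat_lit 0xfc003eec7f17c00001a9a77fc7c000),
 (nat_lit 0xc003eec7f17ff4eea524880000000),
 (nat_lit 0x3fbc002804800b000001000000000)]
noncomputable def d9 : ℕ := (nat_lit 0x80000114040000300002)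
noncomputable def n10 : Net := n9.rev
noncomputable def t10 : List ℕ := mapPull n10 t9
noncomputable def d10 : ℕ := (nat_lit 0x10422000000000000000000002000)
noncomputable def n11 : Net := ben 7 [(nat_lit 0xce800340064243306ce415e0440408),
 (nat_lit 0x82f001aa56240a1058b91c20505002),
 (nat_lit 0x22002299048e881f260d4411040400),
 (nat_lit 0xa0a08a838080213148c800100000),
 (nat_lit 0x4b020b3e84800690000000000),
 (nat_lit 0x2200000022308080000000c8000000),
 (nat_lit 0x20000080020000)]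
noncomputable def t11 : List ℕ := [(nat_lit 0xcc1380ab509df80c4e139a125052d2),
 (nat_lit 0x10d9e816628364a24c44b0082278c0),
 (nat_lit 0xc680f02e07ded61308000004375b10),
 (nat_lit 0x508f383e775dc80350003a88365be0),
 (nat_lit 0x56f439810d9f3ebe0000ba8f426000),
 (nat_lit 0xd08439bc7fcfc0020000ba8f778000),
 (nat_lit 0x8439bc7fdffebd5e540000000000),
 (nat_lit 0x67bc0038000000000000000000000)]
noncomputable def d11 : ℕ := (nat_lit 0x200140a1a8456088000c)
noncomputable def n12 : Net := n11.rev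
noncomputable def t12 : List ℕ := mapPull n12 t11
noncomputable def d12 : ℕ := (nat_lit 0x4c0004800000000000000000001000)
noncomputable def n13 : Net := ben 7 [(nat_lit 0xc1800b32e02312d053359d12440830),
 (nat_lit 0x25ab1a0000a52a0f0aca580b02a2),
 (nat_lit 0x11448864cc055501cc8b1484880008),
 (nat_lit 0x101000840105c0c8800900088080),
 (nat_lit 0xa000b000400e64c988098800000080),
 (nat_lit 0x40010000c001800000000089080080),
 (nat_lit 0x60418000000080)]
noncomputable def t13 : List ℕ := [(nat_lit 0x5a8cfcf68334b51840280f55a52922),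
 (nat_lit 0x2401b900d37411856aa245f17c61e6),
 (nat_lit 0xc7c0e83706574454ad2c01e479cc28),
 (nat_lit 0x78cf3677f7e7c814d2204e0230cdc0),
 (nat_lit 0x7fc43f8005f63de5c1ae4ff780f000),
 (nat_lit 0xf8c43ff7f7c5c004c1ae4ff7fd8000),
 (nat_lit 0x8c43ff7f7f7fdf91c408000000000),
 (nat_lit 0x70bc0000000000022000000000000)]
noncomputable def d13 : ℕ := (nat_lit 0x20200113008020010)
noncomputable def n14 : Net := n13.rev
noncomputable def t14 : List ℕ := mapPull n14 t13
noncomputable def d14 : ℕ := (nat_lit 0x28001120000000000000000000800)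
noncomputable def n15 : Net := ben 7 [(nat_lit 0xcfb4c6ff385d2c0c07e05da74110),
 (nat_lit 0x570a0d5a100520200505f345701a0),
 (nat_lit 0x408556631000188ab422a4d0008),
 (nat_lit 0x60666e7404080882a3a40640000),
 (nat_lit 0x4600076500268826a00004000),
 (nat_lit 0x20004000000042680000),
 (nat_lit 0x2240000000)]
noncomputable def t15 : List ℕ := [(nat_lit 0xe54b73a6869089521918d3189c54cc),
 (nat_lit 0x8ee62936242e0911643e41349d4e14),
 (nat_lit 0x478ae05aa0068a13a980052090681a),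
 (nat_lit 0x78f53a7ec4bc0013d0207640104ec0),
 (nat_lit 0x7fec3b810ea20b82c183f77c287000),
 (nat_lit 0xf8e43bfc6e988002c183f77cbf0000),
 (nat_lit 0x8e43bfc6eba8b991c1c0000000000),
 (nat_lit 0x71bc0038004000020200000000000)]
noncomputable def d15 : ℕ := (nat_lit 0x342402400883408020)
noncomputable def n16 : Net := n15.rev
noncomputable def t16 : List ℕ := mapPull n16 t15
noncomputable def d16 : ℕ := (nat_lit 0x4008492000000000000000000400)
noncomputable def n17 : Net := ben 7 [(nat_lit 0xc03b500bd0147c1401cec6cc0041d0),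
 (nat_lit 0xf1b051c91b57220ff55048000520),
 (nat_lit 0x44d5085100880600118b88370c4400),
 (nat_lit 0x4d4285840c0080852d200b00444),
 (nat_lit 0x400044000784092c09ad000000000),
 (nat_lit 0x40004000440000000d2c00000),
 (nat_lit 0x40000004)]
noncomputable def t17 : List ℕ := [(nat_lit 0x6ad4802304d63a24aaf8350a94a912),
 (nat_lit 0x8b8322c21cdaac3770b01d80171a18),
 (nat_lit 0x43e7b16e00f29f77ac244140d02c1e),
 (nat_lit 0x7cfc366e566c0037d0207c60180f20),
 (nat_lit 0x7fe4379116803f46c0657deba03000),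
 (nat_lit 0xf8e437e04efe8006c0657debbf8000),
 (nat_lit 0x8e437e05efebf711f980000400000),
 (nat_lit 0x71b801f0000000020000000000000)]
noncomputable def d17 : ℕ := (nat_lit 0x8800028214000040)
noncomputable def n18 : Net := n17.rev
noncomputable def t18 : List ℕ := mapPull n18 t17
noncomputable def d18 : ℕ := (nat_lit 0x800210044408800000000000000200)
noncomputable def n19 : Net := ben 7 [(nat_lit 0xd03b502444c7742337f033c1034110),
 (nat_lit 0x70f0a050f72b520baa0a0015db0520),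
 (nat_lit 0xaa2a08ee448800bb4508aa448b4400),
 (nat_lit 0x2050d40080e4f6203280c20040),
 (nat_lit 0x4070400000b2d200008000),
 (nat_lit 0xa0000004a40000000000024c00000),
 (nat_lit 0x400000004a0000)]
noncomputable def t19 : List ℕ := [(nat_lit 0xfaaaa02f8219320421ca3dad02e852),
 (nat_lit 0xfb8a1ac674012426010fc24e401a18),
 (nat_lit 0x33cbb162501157678597bd0f886c1e),
 (nat_lit 0x4cd03e6ef61a8027b2403ff0184c20),
 (nat_lit 0x7fc03f81062037c68187e7ff987000),
 (nat_lit 0xf8c03fecb60bc0068187a7ffdb8000),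
 (nat_lit 0x8c03fecb60bf7e914785800000000),
 (nat_lit 0x71b80034030000022000000000000)]
noncomputable def d19 : ℕ := (nat_lit 0x944081048000000040180)
noncomputable def n20 : Net := n19.rev
noncomputable def t20 : List ℕ := mapPull n20 t19
noncomputable def d20 : ℕ := (nat_lit 0x103080200000000000000000000000)
noncomputable def n21 : Net := ben 7 [(nat_lit 0x1008efd0ccee3a5fc4003000085600),
 (nat_lit 0x40027f5ad782325a50000000021b20),
 (nat_lit 0x4400ef9bda111b2513000000000d00),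
 (nat_lit 0xa0a1670560b2b0f0084803033474),
 (nat_lit 0xc000c041802098a000e87180008334),
 (nat_lit 0x8500c000b500c04f0000004f308000),
 (nat_lit 0xf9a0404f340080)]
noncomputable def t21 : List ℕ := [(nat_lit 0xed48c5788980a5858c759540c20652),
 (nat_lit 0xb930e34940cc34553a85c7ff64ba66),
 (nat_lit 0x7141007404848571449d87ffa8bb86),
 (nat_lit 0x767d847c656814bd034207fe28bb78),
 (nat_lit 0x7761818305e4098cc18787ffa8bb7e),
 (nat_lit 0xe06181fc6d88b07dc187f801ce1c80),
 (nat_lit 0x106181fc6decb1ffc4787ffe202000),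
 (nat_lit 0xf9c660300000c003a000000000000)]
noncomputable def d21 : ℕ := (nat_lit 0x1213400000000000014000)
noncomputable def n22 : Net := n21.rev
noncomputable def t22 : List ℕ := mapPull n22 t21
noncomputable def d22 : ℕ := (nat_lit 0x200940008000000000000000000000)
def ivl : List ℕ := [0, 1, 2, 3, 4, 5, 6, 7, 8, 10, 9, 12, 11, 14, 13, 16, 15, 18, 17, 20, 19, 22, 21]
def cols : List ℕ := [9, 10, 11, 12, 13, 14, 15, 16, 17, 18, 19, 20, 21, 22]
def hcols : List ℕ := [11, 12, 13, 14, 15, 16, 17, 18, 19, 20, 21, 22]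
def G0 : List (List ℕ) := [[9, 9, 9],
 [11, 11, 11],
 [13, 13, 13],
 [15, 15, 15],
 [17, 17, 17],
 [19, 19, 19],
 [21, 21, 21],
 [9, 11, 9, 11],
 [9, 11, 13, 9, 11, 13],
 [9, 11, 13, 15, 9, 11, 13, 15],
 [9, 11, 13, 15, 17, 9, 11, 13, 15, 17],
 [9, 11, 13, 15, 19, 9, 11, 13, 15, 19],
 [9, 11, 13, 15, 19, 21, 9, 11, 13, 15, 19, 21],
 [11, 13, 11, 13],
 [11, 13, 15, 11, 13, 15],
 [11, 13, 15, 17, 11, 13, 15, 17],
 [11, 13, 15, 19, 11, 13, 15, 19],
 [11, 13, 15, 19, 21, 11, 13, 15, 19, 21],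
 [13, 15, 13, 15],
 [13, 15, 17, 13, 15, 17],
 [13, 15, 19, 13, 15, 19],
 [13, 15, 19, 21, 13, 15, 19, 21],
 [15, 17, 15, 17],
 [15, 19, 15, 19],
 [15, 19, 21, 15, 19, 21],
 [19, 21, 19, 21],
 [18, 19, 18, 19],
 [18, 19, 21, 18, 19, 21],
 [9, 13, 17, 21, 9, 13, 17, 21, 9, 13, 17, 21, 9, 13, 17, 21, 9, 13, 17, 21, 9, 13, 17, 21, 9, 13, 17, 21, 9, 13, 17, 21, 9, 13, 17, 21, 9, 13, 17, 21, 9, 13, 17, 21, 9, 13, 17, 21, 9, 13, 17, 21, 9, 13, 17, 21, 9, 13, 17, 21]]
def R0 : List (List ℕ) := G0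
theorem hii : ∀ c, ivOf ivl (ivOf ivl c) = c := ivOf_ivOf (by decide +kernel)
theorem der : Derives (ivOf ivl) R0 R0 := Derives.refl _ _
noncomputable def nl : List Net := [Net.nil, Net.nil, Net.nil, Net.nil, Net.nil, Net.nil, Net.nil, Net.nil, Net.nil, n9, n10, n11, n12, n13, n14, n15, n16, n17, n18, n19, n20, n21, n22]
noncomputable def T : TCData := ⟨120, 120, 7, 8, nth Net.nil nl, ivOf ivl, cols, hcols, R0,
  nth [] [[], [], [], [], [], [], [], [], [], t9, t10, t11, t12, t13, t14, t15, t16, t17, t18, t19, t20, t21, t22], nth 0 [0, 0, 0, 0, 0, 0, 0, 0, 0, d9, d10, d11, d12, d13, d14, d15, d16, d17, d18, d19, d20, d21, d22]⟩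
theorem hn : NetsOK 120 (nth Net.nil nl) := netsOK_of_all (by decide +kernel)
theorem hiv : IvOK (sg (nth Net.nil nl)) (ivOf ivl) :=
  ivOK_of_chk (k := 7) hn (by decide) (n := 23) (by decide) (by decide) (allN_true.1 (by decide +kernel))
theorem hb : T.Basic := TCData.basic_of_chk hn hiv (by decide +kernel)
theorem hG0 : ∀ r ∈ G0, ev (sg (nth Net.nil nl)) r = 1 :=
  rels_of_chk (k := 7) hn (by decide) hiv (allN_true.1 (by decide +kernel))
noncomputable def s9 : List TCData.Step := []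
noncomputable def s10 : List TCData.Step := [.all 0 0 0,
 .all 7 0 0,
 .all 8 0 0,
 .all 9 0 0,
 .all 10 0 0,
 .all 11 0 0,
 .pts 12 0 0 41 [14, 15, 119],
 .pts 12 0 0 117 [70, 71, 73, 76, 84, 85, 93, 94]]
noncomputable def s11 : List TCData.Step := []
noncomputable def s12 : List TCData.Step := [.all 1 0 0,
 .all 7 1 0,
 .pts 8 1 0 148 [112],
 .pts 9 1 0 65 [50],
 .pts 10 1 0 51 [42],
 .pts 10 1 0 122 [99],
 .pts 11 1 0 57 [27],
 .pts 11 1 0 71 [52],
 .all 13 0 0,
 .all 14 0 0,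
 .pts 15 0 0 11 [6],
 .pts 15 0 0 12 [8],
 .pts 15 0 0 52 [26],
 .pts 15 0 0 81 [63],
 .pts 15 0 0 124 [78],
 .all 16 0 0,
 .all 17 0 0]
noncomputable def s13 : List TCData.Step := []
noncomputable def s14 : List TCData.Step := [.all 2 0 0,
 .all 8 2 0,
 .pts 9 2 0 119 [97],
 .pts 9 2 0 135 [52],
 .all 13 1 0,
 .pts 14 1 0 38 [23],
 .pts 14 1 0 54 [32],
 .pts 14 1 0 80 [62],
 .pts 16 1 0 59 [55],
 .pts 17 1 0 87 [77],
 .all 18 0 0,
 .all 19 0 0,
 .all 20 0 0,
 .pts 21 0 0 30 [14],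
 .pts 21 0 0 91 [73],
 .pts 21 0 0 133 [102],
 .pts 21 0 0 134 [103]]
noncomputable def s15 : List TCData.Step := []
noncomputable def s16 : List TCData.Step := [.all 3 0 0,
 .pts 9 3 0 3 [2],
 .pts 9 3 0 20 [13],
 .pts 9 3 0 122 [106],
 .pts 9 3 0 149 [108],
 .pts 10 3 0 141 [74],
 .all 14 2 0,
 .all 18 1 0,
 .pts 20 1 0 107 [84],
 .all 22 0 0,
 .all 23 0 0,
 .pts 24 0 0 86 [76],
 .pts 24 0 0 90 [77],
 .pts 24 0 0 101 [70],
 .pts 24 0 0 113 [95],
 .pts 24 0 0 132 [102],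
 .pts 24 0 0 133 [53]]
noncomputable def s17 : List TCData.Step := [.all 26 0 0,
 .all 27 0 0]
noncomputable def s18 : List TCData.Step := [.all 4 0 0,
 .pts 10 4 0 4 [2],
 .pts 10 4 0 21 [13],
 .pts 10 4 0 48 [25],
 .pts 10 4 0 63 [48],
 .pts 10 4 0 120 [98],
 .pts 10 4 0 124 [106],
 .all 15 3 0,
 .all 19 2 0,
 .all 22 1 0,
 .pts 28 2 0 140 [87, 91]]
noncomputable def s19 : List TCData.Step := []
noncomputable def s20 : List TCData.Step := [.all 5 0 0,
 .pts 11 4 0 4 [2],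
 .pts 11 4 0 21 [13],
 .pts 11 4 0 54 [21],
 .pts 11 4 0 64 [49],
 .pts 11 4 0 120 [98],
 .pts 11 4 0 125 [99],
 .pts 11 4 0 136 [53],
 .all 16 3 0,
 .all 20 2 0,
 .all 23 1 0,
 .pts 24 1 0 29 [15],
 .pts 24 1 0 105 [86],
 .pts 24 1 0 114 [95],
 .pts 25 0 0 32 [14],
 .pts 25 0 0 55 [24],
 .pts 25 0 0 103 [70],
 .pts 25 0 0 132 [102],
 .all 26 1 0,
 .pts 27 1 0 100 [71],
 .pts 27 1 0 135 [106],
 .pts 27 1 0 141 [87]]
noncomputable def s21 : List TCData.Step := []
noncomputable def s22 : List TCData.Step := [.all 6 0 0,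
 .pts 12 5 0 22 [2],
 .pts 12 5 0 94 [13, 21, 25, 26, 27, 28, 29, 33, 54, 116],
 .pts 12 5 0 130 [46, 97, 98, 100],
 .pts 12 5 0 137 [49],
 .pts 12 5 0 143 [86],
 .pts 12 5 0 151 [112],
 .pts 12 5 0 152 [113],
 .all 17 4 0,
 .all 21 3 0,
 .all 24 2 0,
 .all 25 1 0,
 .all 27 2 0]
theorem hR0 : ∀ r ∈ R0, ev (sg (nth Net.nil nl)) r = 1 := hG0
theorem col9 : T.ColOK 9 := TCData.colOK_of_chk (U := (T.stepsMask 9 s9 (T.mask0 9))) (V := (T.stepsMask 10 s10 (T.mask0 10))) hb (TCData.cov_stepsMask hb (by decide) s9 _ (T.cov_mask0 9)) (TCData.cov_stepsMask hb (by decide) s10 _ (T.cov_mask0 10)) (by decide +kernel)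
theorem col10 : T.ColOK 10 := TCData.colOK_of_chk (U := (T.stepsMask 10 s10 (T.mask0 10))) (V := (T.stepsMask 9 s9 (T.mask0 9))) hb (TCData.cov_stepsMask hb (by decide) s10 _ (T.cov_mask0 10)) (TCData.cov_stepsMask hb (by decide) s9 _ (T.cov_mask0 9)) (by decide +kernel)
theorem col11 : T.ColOK 11 := TCData.colOK_of_chk (U := (T.stepsMask 11 s11 (T.mask0 11))) (V := (T.stepsMask 12 s12 (T.mask0 12))) hb (TCData.cov_stepsMask hb (by decide) s11 _ (T.cov_mask0 11)) (TCData.cov_stepsMask hb (by decide) s12 _ (T.cov_mask0 12)) (by decide +kernel)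
theorem col12 : T.ColOK 12 := TCData.colOK_of_chk (U := (T.stepsMask 12 s12 (T.mask0 12))) (V := (T.stepsMask 11 s11 (T.mask0 11))) hb (TCData.cov_stepsMask hb (by decide) s12 _ (T.cov_mask0 12)) (TCData.cov_stepsMask hb (by decide) s11 _ (T.cov_mask0 11)) (by decide +kernel)
theorem col13 : T.ColOK 13 := TCData.colOK_of_chk (U := (T.stepsMask 13 s13 (T.mask0 13))) (V := (T.stepsMask 14 s14 (T.mask0 14))) hb (TCData.cov_stepsMask hb (by decide) s13 _ (T.cov_mask0 13)) (TCData.cov_stepsMask hb (by decide) s14 _ (T.cov_mask0 14)) (by decide +kernel)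
theorem col14 : T.ColOK 14 := TCData.colOK_of_chk (U := (T.stepsMask 14 s14 (T.mask0 14))) (V := (T.stepsMask 13 s13 (T.mask0 13))) hb (TCData.cov_stepsMask hb (by decide) s14 _ (T.cov_mask0 14)) (TCData.cov_stepsMask hb (by decide) s13 _ (T.cov_mask0 13)) (by decide +kernel)
theorem col15 : T.ColOK 15 := TCData.colOK_of_chk (U := (T.stepsMask 15 s15 (T.mask0 15))) (V := (T.stepsMask 16 s16 (T.mask0 16))) hb (TCData.cov_stepsMask hb (by decide) s15 _ (T.cov_mask0 15)) (TCData.cov_stepsMask hb (by decide) s16 _ (T.cov_mask0 16)) (by decide +kernel)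
theorem col16 : T.ColOK 16 := TCData.colOK_of_chk (U := (T.stepsMask 16 s16 (T.mask0 16))) (V := (T.stepsMask 15 s15 (T.mask0 15))) hb (TCData.cov_stepsMask hb (by decide) s16 _ (T.cov_mask0 16)) (TCData.cov_stepsMask hb (by decide) s15 _ (T.cov_mask0 15)) (by decide +kernel)
theorem col17 : T.ColOK 17 := TCData.colOK_of_chk (U := (T.stepsMask 17 s17 (T.mask0 17))) (V := (T.stepsMask 18 s18 (T.mask0 18))) hb (TCData.cov_stepsMask hb (by decide) s17 _ (T.cov_mask0 17)) (TCData.cov_stepsMask hb (by decide) s18 _ (T.cov_mask0 18)) (by decide +kernel)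
theorem col18 : T.ColOK 18 := TCData.colOK_of_chk (U := (T.stepsMask 18 s18 (T.mask0 18))) (V := (T.stepsMask 17 s17 (T.mask0 17))) hb (TCData.cov_stepsMask hb (by decide) s18 _ (T.cov_mask0 18)) (TCData.cov_stepsMask hb (by decide) s17 _ (T.cov_mask0 17)) (by decide +kernel)
theorem col19 : T.ColOK 19 := TCData.colOK_of_chk (U := (T.stepsMask 19 s19 (T.mask0 19))) (V := (T.stepsMask 20 s20 (T.mask0 20))) hb (TCData.cov_stepsMask hb (by decide) s19 _ (T.cov_mask0 19)) (TCData.cov_stepsMask hb (by decide) s20 _ (T.cov_mask0 20)) (by decide +kernel)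
theorem col20 : T.ColOK 20 := TCData.colOK_of_chk (U := (T.stepsMask 20 s20 (T.mask0 20))) (V := (T.stepsMask 19 s19 (T.mask0 19))) hb (TCData.cov_stepsMask hb (by decide) s20 _ (T.cov_mask0 20)) (TCData.cov_stepsMask hb (by decide) s19 _ (T.cov_mask0 19)) (by decide +kernel)
theorem col21 : T.ColOK 21 := TCData.colOK_of_chk (U := (T.stepsMask 21 s21 (T.mask0 21))) (V := (T.stepsMask 22 s22 (T.mask0 22))) hb (TCData.cov_stepsMask hb (by decide) s21 _ (T.cov_mask0 21)) (TCData.cov_stepsMask hb (by decide) s22 _ (T.cov_mask0 22)) (by decide +kernel)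
theorem col22 : T.ColOK 22 := TCData.colOK_of_chk (U := (T.stepsMask 22 s22 (T.mask0 22))) (V := (T.stepsMask 21 s21 (T.mask0 21))) hb (TCData.cov_stepsMask hb (by decide) s22 _ (T.cov_mask0 22)) (TCData.cov_stepsMask hb (by decide) s21 _ (T.cov_mask0 21)) (by decide +kernel)
theorem ok : T.OK := ⟨hb, TCData.treeOK_of_chk hn (by decide +kernel), (List.forall_mem_cons.2 ⟨col9, (List.forall_mem_cons.2 ⟨col10, (List.forall_mem_cons.2 ⟨col11, (List.forall_mem_cons.2 ⟨col12, (List.forall_mem_cons.2 ⟨col13, (List.forall_mem_cons.2 ⟨col14, (List.forall_mem_cons.2 ⟨col15, (List.forall_mem_cons.2 ⟨col16, (List.forall_mem_cons.2 ⟨col17, (List.forall_mem_cons.2 ⟨col18, (List.forall_mem_cons.2 ⟨col19, (List.forall_mem_cons.2 ⟨col20, (List.forall_mem_cons.2 ⟨col21, (List.forall_mem_cons.2 ⟨col22, (fun _ h => absurd h List.not_mem_nil)⟩)⟩)⟩)⟩)⟩)⟩)⟩)⟩)⟩)⟩)⟩)⟩)⟩)⟩), der _ _ hiv hR0⟩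
theorem bd {G : Type} [Group G] {e : ℕ → G} (h1 : IvOK e (ivOf ivl)) (h2 : ∀ r ∈ R0, ev e r = 1)
    {m : ℕ} (h : Bd (gen e hcols) m) : Bd (gen e cols) (120 * m) := ok.bd h1 (der G e h1 h2) h
theorem cm {G : Type} [Group G] {e : ℕ → G} (h1 : IvOK e (ivOf ivl)) (h2 : ∀ r ∈ R0, ev e r = 1)
    (h3 : gen e cols = ⊤) {ρ : G →* Equiv.Perm ℕ} (h4 : ∀ c, ρ (e c) = sg (nth Net.nil nl) c) :
    CosetModel ρ (gen e hcols) 120 := ok.cosetModel h1 (der G e h1 h2) h3 fun c _ => h4 c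

end H15.CoH1
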