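import Mathlib
import Cfsg.Agent.H29.Ext

set_option autoImplicit false
set_option maxRecDepth 100000
set_option Elab.async false
set_option linter.all false

namespace H15.CoH2

open H29

noncomputable def n11 : Net := ben 6 [(nat_lit 0xc6002ec6210801),
 (nat_lit 0xda0005d0a10201),
 (nat_lit 0x4884501080000),
 (nat_lit 0x80800208080),
 (nat_lit 0xc000c808000800),
 (nat_lit 0x400880)]
noncomputable def t11 : List ℕ := [(nat_lit 0x4646c9db896969),
 (nat_lit 0xb478514b60019c),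
 (nat_lit 0x23135c54283c10),
 (nat_lit 0x576c5dbfc0bde0),
 (nat_lit 0xe0005dffe8c000),
 (nat_lit 0x177f8000000000)]
noncomputable def d11 : ℕ := (nat_lit 0x8002200160002)
noncomputable def n12 : Net := n11.rev
noncomputable def t12 : List ℕ := mapPull n12 t11
noncomputable def d12 : ℕ := (nat_lit 0x2000000000800)
noncomputable def n13 : Net := ben 6 [(nat_lit 0x840d1f6f10108),
 (nat_lit 0xf002522352102),
 (nat_lit 0x440044284c0000),
 (nat_lit 0x424200b06060),
 (nat_lit 0x20006240004040),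
 (nat_lit 0x4020)]
noncomputable def t13 : List ℕ := [(nat_lit 0x993916092a3492),
 (nat_lit 0x6b83268c6a5e00),
 (nat_lit 0x3a123800342810),
 (nat_lit 0x53ac3ead401ee0),
 (nat_lit 0xf0003ead7f6000),
 (nat_lit 0xbbf8000000000)]
noncomputable def d13 : ℕ := (nat_lit 0x400415280800c)
noncomputable def n14 : Net := n13.rev
noncomputable def t14 : List ℕ := mapPull n14 t13
noncomputable def d14 : ℕ := (nat_lit 0x1000000000400)
noncomputable def n15 : Net := ben 6 [(nat_lit 0xc8c40f9d5d230),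
 (nat_lit 0x22242b6310a2),
 (nat_lit 0x44828e2208),
 (nat_lit 0x4848808a0020),
 (nat_lit 0x84000c000),
 (nat_lit 0x4000)]
noncomputable def t15 : List ℕ := [(nat_lit 0x4a82596306ca62),
 (nat_lit 0x62037882824866),
 (nat_lit 0x3316625094dc68),
 (nat_lit 0x5fc87bb340df00),
 (nat_lit 0xf0007bf3d70000),
 (nat_lit 0xfdf0000000000)]
noncomputable def d15 : ℕ := (nat_lit 0x840c282010)
noncomputable def n16 : Net := n15.rev
noncomputable def t16 : List ℕ := mapPull n16 t15
noncomputable def d16 : ℕ := (nat_lit 0x800000000200)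
noncomputable def n17 : Net := ben 6 [(nat_lit 0xc0c34040d51050),
 (nat_lit 0x507b0f53d305a0),
 (nat_lit 0x8e4413064408),
 (nat_lit 0x18100101050),
 (nat_lit 0x58005801000100),
 (nat_lit 0x480110)]
noncomputable def t17 : List ℕ := [(nat_lit 0xc144bf1c22c48c),
 (nat_lit 0xe890374ea4e294),
 (nat_lit 0xb1142554aee49a),
 (nat_lit 0xdde03a1a18e700),
 (nat_lit 0x72003f5ebf0800),
 (nat_lit 0xff4c000000000)]
noncomputable def d17 : ℕ := (nat_lit 0x100a1400020)
noncomputable def n18 : Net := n17.rev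
noncomputable def t18 : List ℕ := mapPull n18 t17
noncomputable def d18 : ℕ := (nat_lit 0x80440000000100)
noncomputable def n19 : Net := ben 6 [(nat_lit 0x14440015d390),
 (nat_lit 0x5012f003062030),
 (nat_lit 0x33004c08472208),
 (nat_lit 0x9c9c40400020),
 (nat_lit 0x9c00dc00),
 (nat_lit 0x39c00)]
noncomputable def t19 : List ℕ := [(nat_lit 0x5516839b2a442c),
 (nat_lit 0x1c9f20fe2cb314),
 (nat_lit 0x51c22d83ae41a),
 (nat_lit 0x59c0273fccf600),
 (nat_lit 0xd20027fff60800),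
 (nat_lit 0xfdfc000000000)]
noncomputable def d19 : ℕ := (nat_lit 0x202018000100c0)
noncomputable def n20 : Net := n19.rev
noncomputable def t20 : List ℕ := mapPull n20 t19
noncomputable def d20 : ℕ := (nat_lit 0x0)
noncomputable def n21 : Net := ben 6 [(nat_lit 0xf42b04040f3000),
 (nat_lit 0xaafa0000e530),
 (nat_lit 0xbb3b4488000600),
 (nat_lit 0x3086860989),
 (nat_lit 0x4000c610001209),
 (nat_lit 0x8d1040)]
noncomputable def t21 : List ℕ := [(nat_lit 0xec1847cd32cd2),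
 (nat_lit 0x21817b6d05ae18),
 (nat_lit 0x2524a24a13871e),
 (nat_lit 0x9c01fafe5aba0),
 (nat_lit 0xa2000feffe0c40),
 (nat_lit 0xfe5f010000000)]
noncomputable def d21 : ℕ := (nat_lit 0x501a0000005000)
noncomputable def n22 : Net := n21.rev
noncomputable def t22 : List ℕ := mapPull n22 t21
noncomputable def d22 : ℕ := (nat_lit 0x0)
def ivl : List ℕ := [0, 1, 2, 3, 4, 5, 6, 7, 8, 10, 9, 12, 11, 14, 13, 16, 15, 18, 17, 20, 19, 22, 21]
def cols : List ℕ := [11, 12, 13, 14, 15, 16, 17, 18, 19, 20, 21, 22]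
def hcols : List ℕ := [13, 14, 15, 16, 17, 18, 19, 20, 21, 22]
def G0 : List (List ℕ) := [[11, 11, 11],
 [13, 13, 13],
 [15, 15, 15],
 [17, 17, 17],
 [19, 19, 19],
 [21, 21, 21],
 [11, 13, 11, 13],
 [11, 13, 15, 11, 13, 15],
 [11, 13, 15, 17, 11, 13, 15, 17],
 [11, 13, 15, 19, 11, 13, 15, 19],
 [11, 13, 15, 19, 21, 11, 13, 15, 19, 21],
 [13, 15, 13, 15],
 [13, 15, 17, 13, 15, 17],
 [13, 15, 19, 13, 15, 19],
 [13, 15, 19, 21, 13, 15, 19, 21],
 [15, 17, 15, 17],
 [15, 19, 15, 19],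
 [15, 19, 21, 15, 19, 21],
 [19, 21, 19, 21],
 [18, 19, 18, 19],
 [18, 19, 21, 18, 19, 21]]
def R0 : List (List ℕ) := G0
theorem hii : ∀ c, ivOf ivl (ivOf ivl c) = c := ivOf_ivOf (by decide +kernel)
theorem der : Derives (ivOf ivl) R0 R0 := Derives.refl _ _
noncomputable def nl : List Net := [Net.nil, Net.nil, Net.nil, Net.nil, Net.nil, Net.nil, Net.nil, Net.nil, Net.nil, Net.nil, Net.nil, n11, n12, n13, n14, n15, n16, n17, n18, n19, n20, n21, n22]
noncomputable def T : TCData := ⟨56, 56, 6, 6, nth Net.nil nl, ivOf ivl, cols, hcols, R0,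
  nth [] [[], [], [], [], [], [], [], [], [], [], [], t11, t12, t13, t14, t15, t16, t17, t18, t19, t20, t21, t22], nth 0 [0, 0, 0, 0, 0, 0, 0, 0, 0, 0, 0, d11, d12, d13, d14, d15, d16, d17, d18, d19, d20, d21, d22]⟩
theorem hn : NetsOK 56 (nth Net.nil nl) := netsOK_of_all (by decide +kernel)
theorem hiv : IvOK (sg (nth Net.nil nl)) (ivOf ivl) :=
  ivOK_of_chk (k := 6) hn (by decide) (n := 23) (by decide) (by decide) (allN_true.1 (by decide +kernel))
theorem hb : T.Basic := TCData.basic_of_chk hn hiv (by decide +kernel)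
theorem hG0 : ∀ r ∈ G0, ev (sg (nth Net.nil nl)) r = 1 :=
  rels_of_chk (k := 6) hn (by decide) hiv (allN_true.1 (by decide +kernel))
noncomputable def s11 : List TCData.Step := []
noncomputable def s12 : List TCData.Step := [.all 0 0 0,
 .all 6 0 0,
 .all 7 0 0,
 .all 8 0 0,
 .pts 9 0 0 9 [6],
 .pts 9 0 0 17 [14],
 .pts 9 0 0 22 [15],
 .pts 9 0 0 29 [36],
 .pts 9 0 0 42 [43, 45],
 .all 10 0 0]
noncomputable def s13 : List TCData.Step := []
noncomputable def s14 : List TCData.Step := [.all 1 0 0,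
 .all 6 1 0,
 .pts 7 1 0 19 [20],
 .pts 8 1 0 26 [33],
 .pts 9 1 0 29 [37],
 .all 11 0 0,
 .all 12 0 0,
 .all 13 0 0,
 .pts 14 0 0 11 [12],
 .pts 14 0 0 29 [52],
 .pts 14 0 0 37 [44],
 .pts 14 0 0 40 [42]]
noncomputable def s15 : List TCData.Step := []
noncomputable def s16 : List TCData.Step := [.all 2 0 0,
 .pts 7 2 0 2 [2],
 .pts 7 2 0 15 [11],
 .pts 7 2 0 47 [49],
 .pts 10 2 0 40 [41],
 .all 11 1 0,
 .pts 14 1 0 36 [50],
 .all 15 0 0,
 .all 16 0 0,
 .pts 17 0 0 28 [52],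
 .pts 17 0 0 36 [44]]
noncomputable def s17 : List TCData.Step := [.all 19 0 0,
 .all 20 0 0]
noncomputable def s18 : List TCData.Step := [.all 3 0 0,
 .pts 8 3 0 3 [2],
 .pts 8 3 0 16 [11],
 .pts 8 3 0 22 [21],
 .pts 8 3 0 48 [49],
 .all 12 2 0,
 .all 15 1 0]
noncomputable def s19 : List TCData.Step := []
noncomputable def s20 : List TCData.Step := [.all 4 0 0,
 .all 9 3 0,
 .all 13 2 0,
 .pts 14 2 0 13 [12],
 .all 16 1 0,
 .pts 17 1 0 10 [13],
 .pts 18 0 0 27 [52],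
 .pts 18 0 0 38 [41],
 .pts 18 0 0 39 [50],
 .all 19 1 0,
 .pts 20 1 0 35 [42]]
noncomputable def s21 : List TCData.Step := []
noncomputable def s22 : List TCData.Step := [.all 5 0 0,
 .pts 10 4 0 4 [2],
 .pts 10 4 0 24 [21],
 .pts 10 4 0 49 [49],
 .all 14 3 0,
 .all 17 2 0,
 .all 18 1 0,
 .all 20 2 0]
theorem hR0 : ∀ r ∈ R0, ev (sg (nth Net.nil nl)) r = 1 := hG0
theorem col11 : T.ColOK 11 := TCData.colOK_of_chk (U := (T.stepsMask 11 s11 (T.mask0 11))) (V := (T.stepsMask 12 s12 (T.mask0 12))) hb (TCData.cov_stepsMask hb (by decide) s11 _ (T.cov_mask0 11)) (TCData.cov_stepsMask hb (by decide) s12 _ (T.cov_mask0 12)) (by decide +kernel)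
theorem col12 : T.ColOK 12 := TCData.colOK_of_chk (U := (T.stepsMask 12 s12 (T.mask0 12))) (V := (T.stepsMask 11 s11 (T.mask0 11))) hb (TCData.cov_stepsMask hb (by decide) s12 _ (T.cov_mask0 12)) (TCData.cov_stepsMask hb (by decide) s11 _ (T.cov_mask0 11)) (by decide +kernel)
theorem col13 : T.ColOK 13 := TCData.colOK_of_chk (U := (T.stepsMask 13 s13 (T.mask0 13))) (V := (T.stepsMask 14 s14 (T.mask0 14))) hb (TCData.cov_stepsMask hb (by decide) s13 _ (T.cov_mask0 13)) (TCData.cov_stepsMask hb (by decide) s14 _ (T.cov_mask0 14)) (by decide +kernel)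
theorem col14 : T.ColOK 14 := TCData.colOK_of_chk (U := (T.stepsMask 14 s14 (T.mask0 14))) (V := (T.stepsMask 13 s13 (T.mask0 13))) hb (TCData.cov_stepsMask hb (by decide) s14 _ (T.cov_mask0 14)) (TCData.cov_stepsMask hb (by decide) s13 _ (T.cov_mask0 13)) (by decide +kernel)
theorem col15 : T.ColOK 15 := TCData.colOK_of_chk (U := (T.stepsMask 15 s15 (T.mask0 15))) (V := (T.stepsMask 16 s16 (T.mask0 16))) hb (TCData.cov_stepsMask hb (by decide) s15 _ (T.cov_mask0 15)) (TCData.cov_stepsMask hb (by decide) s16 _ (T.cov_mask0 16)) (by decide +kernel)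
theorem col16 : T.ColOK 16 := TCData.colOK_of_chk (U := (T.stepsMask 16 s16 (T.mask0 16))) (V := (T.stepsMask 15 s15 (T.mask0 15))) hb (TCData.cov_stepsMask hb (by decide) s16 _ (T.cov_mask0 16)) (TCData.cov_stepsMask hb (by decide) s15 _ (T.cov_mask0 15)) (by decide +kernel)
theorem col17 : T.ColOK 17 := TCData.colOK_of_chk (U := (T.stepsMask 17 s17 (T.mask0 17))) (V := (T.stepsMask 18 s18 (T.mask0 18))) hb (TCData.cov_stepsMask hb (by decide) s17 _ (T.cov_mask0 17)) (TCData.cov_stepsMask hb (by decide) s18 _ (T.cov_mask0 18)) (by decide +kernel)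
theorem col18 : T.ColOK 18 := TCData.colOK_of_chk (U := (T.stepsMask 18 s18 (T.mask0 18))) (V := (T.stepsMask 17 s17 (T.mask0 17))) hb (TCData.cov_stepsMask hb (by decide) s18 _ (T.cov_mask0 18)) (TCData.cov_stepsMask hb (by decide) s17 _ (T.cov_mask0 17)) (by decide +kernel)
theorem col19 : T.ColOK 19 := TCData.colOK_of_chk (U := (T.stepsMask 19 s19 (T.mask0 19))) (V := (T.stepsMask 20 s20 (T.mask0 20))) hb (TCData.cov_stepsMask hb (by decide) s19 _ (T.cov_mask0 19)) (TCData.cov_stepsMask hb (by decide) s20 _ (T.cov_mask0 20)) (by decide +kernel)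
theorem col20 : T.ColOK 20 := TCData.colOK_of_chk (U := (T.stepsMask 20 s20 (T.mask0 20))) (V := (T.stepsMask 19 s19 (T.mask0 19))) hb (TCData.cov_stepsMask hb (by decide) s20 _ (T.cov_mask0 20)) (TCData.cov_stepsMask hb (by decide) s19 _ (T.cov_mask0 19)) (by decide +kernel)
theorem col21 : T.ColOK 21 := TCData.colOK_of_chk (U := (T.stepsMask 21 s21 (T.mask0 21))) (V := (T.stepsMask 22 s22 (T.mask0 22))) hb (TCData.cov_stepsMask hb (by decide) s21 _ (T.cov_mask0 21)) (TCData.cov_stepsMask hb (by decide) s22 _ (T.cov_mask0 22)) (by decide +kernel)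
theorem col22 : T.ColOK 22 := TCData.colOK_of_chk (U := (T.stepsMask 22 s22 (T.mask0 22))) (V := (T.stepsMask 21 s21 (T.mask0 21))) hb (TCData.cov_stepsMask hb (by decide) s22 _ (T.cov_mask0 22)) (TCData.cov_stepsMask hb (by decide) s21 _ (T.cov_mask0 21)) (by decide +kernel)
theorem ok : T.OK := ⟨hb, TCData.treeOK_of_chk hn (by decide +kernel), (List.forall_mem_cons.2 ⟨col11, (List.forall_mem_cons.2 ⟨col12, (List.forall_mem_cons.2 ⟨col13, (List.forall_mem_cons.2 ⟨col14, (List.forall_mem_cons.2 ⟨col15, (List.forall_mem_cons.2 ⟨col16, (List.forall_mem_cons.2 ⟨col17, (List.forall_mem_cons.2 ⟨col18, (List.forall_mem_cons.2 ⟨col19, (List.forall_mem_cons.2 ⟨col20, (List.forall_mem_cons.2 ⟨col21, (List.forall_mem_cons.2 ⟨col22, (fun _ h => absurd h List.not_mem_nil)⟩)⟩)⟩)⟩)⟩)⟩)⟩)⟩)⟩)⟩)⟩)⟩), der _ _ hiv hR0⟩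
theorem bd {G : Type} [Group G] {e : ℕ → G} (h1 : IvOK e (ivOf ivl)) (h2 : ∀ r ∈ R0, ev e r = 1)
    {m : ℕ} (h : Bd (gen e hcols) m) : Bd (gen e cols) (56 * m) := ok.bd h1 (der G e h1 h2) h
theorem cm {G : Type} [Group G] {e : ℕ → G} (h1 : IvOK e (ivOf ivl)) (h2 : ∀ r ∈ R0, ev e r = 1)
    (h3 : gen e cols = ⊤) {ρ : G →* Equiv.Perm ℕ} (h4 : ∀ c, ρ (e c) = sg (nth Net.nil nl) c) :
    CosetModel ρ (gen e hcols) 56 := ok.cosetModel h1 (der G e h1 h2) h3 fun c _ => h4 c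

end H15.CoH2
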