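import Mathlib
import Cfsg.Agent.H29.Ext

set_option autoImplicit false
set_option maxRecDepth 100000
set_option Elab.async false
set_option linter.all false

namespace H15.CoH4

open H29

noncomputable def n15 : Net := ben 4 [(nat_lit 0x1d81),
 (nat_lit 0xa121),
 (nat_lit 0x800),
 (nat_lit 0x0)]
noncomputable def t15 : List ℕ := [(nat_lit 0xc51),
 (nat_lit 0x4594),
 (nat_lit 0xd0c8),
 (nat_lit 0xdd00)]
noncomputable def d15 : ℕ := (nat_lit 0x2202)
noncomputable def n16 : Net := n15.rev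
noncomputable def t16 : List ℕ := mapPull n16 t15
noncomputable def d16 : ℕ := (nat_lit 0x80)
noncomputable def n17 : Net := ben 4 [(nat_lit 0xd118),
 (nat_lit 0x7012),
 (nat_lit 0x100),
 (nat_lit 0x0)]
noncomputable def t17 : List ℕ := [(nat_lit 0xacc2),
 (nat_lit 0x8686),
 (nat_lit 0x30e0),
 (nat_lit 0xbe00)]
noncomputable def d17 : ℕ := (nat_lit 0x4008)
noncomputable def n18 : Net := n17.rev
noncomputable def t18 : List ℕ := mapPull n18 t17
noncomputable def d18 : ℕ := (nat_lit 0x8040)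
noncomputable def n19 : Net := ben 4 [(nat_lit 0x1d18),
 (nat_lit 0x5242),
 (nat_lit 0x406),
 (nat_lit 0x0)]
noncomputable def t19 : List ℕ := [(nat_lit 0xc8a),
 (nat_lit 0x4bc0),
 (nat_lit 0xe180),
 (nat_lit 0xee00)]
noncomputable def d19 : ℕ := (nat_lit 0x1034)
noncomputable def n20 : Net := n19.rev
noncomputable def t20 : List ℕ := mapPull n20 t19
noncomputable def d20 : ℕ := (nat_lit 0x0)
noncomputable def n21 : Net := ben 4 [(nat_lit 0x387c),
 (nat_lit 0xac10),
 (nat_lit 0xd506),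
 (nat_lit 0xf0)]
noncomputable def t21 : List ℕ := [(nat_lit 0x7232),
 (nat_lit 0x4206),
 (nat_lit 0xe238),
 (nat_lit 0xf0d0)]
noncomputable def d21 : ℕ := (nat_lit 0xd00)
noncomputable def n22 : Net := n21.rev
noncomputable def t22 : List ℕ := mapPull n22 t21
noncomputable def d22 : ℕ := (nat_lit 0x0)
def ivl : List ℕ := [0, 1, 2, 3, 4, 5, 6, 7, 8, 10, 9, 12, 11, 14, 13, 16, 15, 18, 17, 20, 19, 22, 21]
def cols : List ℕ := [15, 16, 17, 18, 19, 20, 21, 22]
def hcols : List ℕ := [17, 18, 19, 20, 21, 22]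
def G0 : List (List ℕ) := [[15, 15, 15],
 [17, 17, 17],
 [19, 19, 19],
 [21, 21, 21],
 [15, 17, 15, 17],
 [15, 19, 15, 19],
 [15, 19, 21, 15, 19, 21],
 [19, 21, 19, 21],
 [18, 19, 18, 19],
 [18, 19, 21, 18, 19, 21]]
def R0 : List (List ℕ) := G0
theorem hii : ∀ c, ivOf ivl (ivOf ivl c) = c := ivOf_ivOf (by decide +kernel)
theorem der : Derives (ivOf ivl) R0 R0 := Derives.refl _ _
noncomputable def nl : List Net := [Net.nil, Net.nil, Net.nil, Net.nil, Net.nil, Net.nil, Net.nil, Net.nil, Net.nil, Net.nil, Net.nil, Net.nil, Net.nil, Net.nil, Net.nil, n15, n16, n17, n18, n19, n20, n21, n22]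
noncomputable def T : TCData := ⟨16, 16, 4, 4, nth Net.nil nl, ivOf ivl, cols, hcols, R0,
  nth [] [[], [], [], [], [], [], [], [], [], [], [], [], [], [], [], t15, t16, t17, t18, t19, t20, t21, t22], nth 0 [0, 0, 0, 0, 0, 0, 0, 0, 0, 0, 0, 0, 0, 0, 0, d15, d16, d17, d18, d19, d20, d21, d22]⟩
theorem hn : NetsOK 16 (nth Net.nil nl) := netsOK_of_all (by decide +kernel)
theorem hiv : IvOK (sg (nth Net.nil nl)) (ivOf ivl) :=
  ivOK_of_chk (k := 4) hn (by decide) (n := 23) (by decide) (by decide) (allN_true.1 (by decide +kernel))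
theorem hb : T.Basic := TCData.basic_of_chk hn hiv (by decide +kernel)
theorem hG0 : ∀ r ∈ G0, ev (sg (nth Net.nil nl)) r = 1 :=
  rels_of_chk (k := 4) hn (by decide) hiv (allN_true.1 (by decide +kernel))
noncomputable def s15 : List TCData.Step := []
noncomputable def s16 : List TCData.Step := [.all 0 0 0,
 .all 4 0 0,
 .all 5 0 0,
 .pts 6 0 0 9 [9],
 .pts 6 0 0 10 [11]]
noncomputable def s17 : List TCData.Step := [.pts 8 0 0 4 [5],
 .pts 8 0 0 11 [10],
 .pts 9 0 0 9 [11],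
 .pts 9 0 0 10 [9]]
noncomputable def s18 : List TCData.Step := [.all 1 0 0,
 .all 4 1 0]
noncomputable def s19 : List TCData.Step := []
noncomputable def s20 : List TCData.Step := [.all 2 0 0,
 .pts 5 1 0 7 [7],
 .pts 5 1 0 11 [13],
 .pts 6 1 0 6 [9],
 .pts 7 0 0 9 [8],
 .all 8 1 0]
noncomputable def s21 : List TCData.Step := []
noncomputable def s22 : List TCData.Step := [.all 3 0 0,
 .pts 6 2 0 2 [2],
 .all 7 1 0,
 .all 9 2 0]
theorem hR0 : ∀ r ∈ R0, ev (sg (nth Net.nil nl)) r = 1 := hG0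
theorem col15 : T.ColOK 15 := TCData.colOK_of_chk (U := (T.stepsMask 15 s15 (T.mask0 15))) (V := (T.stepsMask 16 s16 (T.mask0 16))) hb (TCData.cov_stepsMask hb (by decide) s15 _ (T.cov_mask0 15)) (TCData.cov_stepsMask hb (by decide) s16 _ (T.cov_mask0 16)) (by decide +kernel)
theorem col16 : T.ColOK 16 := TCData.colOK_of_chk (U := (T.stepsMask 16 s16 (T.mask0 16))) (V := (T.stepsMask 15 s15 (T.mask0 15))) hb (TCData.cov_stepsMask hb (by decide) s16 _ (T.cov_mask0 16)) (TCData.cov_stepsMask hb (by decide) s15 _ (T.cov_mask0 15)) (by decide +kernel)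
theorem col17 : T.ColOK 17 := TCData.colOK_of_chk (U := (T.stepsMask 17 s17 (T.mask0 17))) (V := (T.stepsMask 18 s18 (T.mask0 18))) hb (TCData.cov_stepsMask hb (by decide) s17 _ (T.cov_mask0 17)) (TCData.cov_stepsMask hb (by decide) s18 _ (T.cov_mask0 18)) (by decide +kernel)
theorem col18 : T.ColOK 18 := TCData.colOK_of_chk (U := (T.stepsMask 18 s18 (T.mask0 18))) (V := (T.stepsMask 17 s17 (T.mask0 17))) hb (TCData.cov_stepsMask hb (by decide) s18 _ (T.cov_mask0 18)) (TCData.cov_stepsMask hb (by decide) s17 _ (T.cov_mask0 17)) (by decide +kernel)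
theorem col19 : T.ColOK 19 := TCData.colOK_of_chk (U := (T.stepsMask 19 s19 (T.mask0 19))) (V := (T.stepsMask 20 s20 (T.mask0 20))) hb (TCData.cov_stepsMask hb (by decide) s19 _ (T.cov_mask0 19)) (TCData.cov_stepsMask hb (by decide) s20 _ (T.cov_mask0 20)) (by decide +kernel)
theorem col20 : T.ColOK 20 := TCData.colOK_of_chk (U := (T.stepsMask 20 s20 (T.mask0 20))) (V := (T.stepsMask 19 s19 (T.mask0 19))) hb (TCData.cov_stepsMask hb (by decide) s20 _ (T.cov_mask0 20)) (TCData.cov_stepsMask hb (by decide) s19 _ (T.cov_mask0 19)) (by decide +kernel)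
theorem col21 : T.ColOK 21 := TCData.colOK_of_chk (U := (T.stepsMask 21 s21 (T.mask0 21))) (V := (T.stepsMask 22 s22 (T.mask0 22))) hb (TCData.cov_stepsMask hb (by decide) s21 _ (T.cov_mask0 21)) (TCData.cov_stepsMask hb (by decide) s22 _ (T.cov_mask0 22)) (by decide +kernel)
theorem col22 : T.ColOK 22 := TCData.colOK_of_chk (U := (T.stepsMask 22 s22 (T.mask0 22))) (V := (T.stepsMask 21 s21 (T.mask0 21))) hb (TCData.cov_stepsMask hb (by decide) s22 _ (T.cov_mask0 22)) (TCData.cov_stepsMask hb (by decide) s21 _ (T.cov_mask0 21)) (by decide +kernel)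
theorem ok : T.OK := ⟨hb, TCData.treeOK_of_chk hn (by decide +kernel), (List.forall_mem_cons.2 ⟨col15, (List.forall_mem_cons.2 ⟨col16, (List.forall_mem_cons.2 ⟨col17, (List.forall_mem_cons.2 ⟨col18, (List.forall_mem_cons.2 ⟨col19, (List.forall_mem_cons.2 ⟨col20, (List.forall_mem_cons.2 ⟨col21, (List.forall_mem_cons.2 ⟨col22, (fun _ h => absurd h List.not_mem_nil)⟩)⟩)⟩)⟩)⟩)⟩)⟩)⟩), der _ _ hiv hR0⟩
theorem bd {G : Type} [Group G] {e : ℕ → G} (h1 : IvOK e (ivOf ivl)) (h2 : ∀ r ∈ R0, ev e r = 1)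
    {m : ℕ} (h : Bd (gen e hcols) m) : Bd (gen e cols) (16 * m) := ok.bd h1 (der G e h1 h2) h
theorem cm {G : Type} [Group G] {e : ℕ → G} (h1 : IvOK e (ivOf ivl)) (h2 : ∀ r ∈ R0, ev e r = 1)
    (h3 : gen e cols = ⊤) {ρ : G →* Equiv.Perm ℕ} (h4 : ∀ c, ρ (e c) = sg (nth Net.nil nl) c) :
    CosetModel ρ (gen e hcols) 16 := ok.cosetModel h1 (der G e h1 h2) h3 fun c _ => h4 c

end H15.CoH4
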