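import Mathlib
import Cfsg.Agent.H15.CoM
import Cfsg.Agent.H15.CoD0
import Cfsg.Agent.H15.LX

/-!
# The action of the centraliser on the extraspecial group
-/

set_option autoImplicit false
set_option maxRecDepth 100000
set_option Elab.async false
set_option linter.unusedSectionVars false

namespace H15.Co

open H29 H24 Subgroup KM XP

def Qc : List ℕ := [0, 1, 2, 3, 4, 5, 6, 7, 8]
def HL : List ℕ := [0, 1, 2, 3, 4, 5, 6, 7, 8, 9, 10, 11, 12, 13, 14, 15, 16, 17, 18, 19, 20, 21, 22]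
def β (c d : ℕ) : Bool := Nat.beq (Nat.xor (Nat.succ c) (Nat.succ d)) 1
def lm (c n : ℕ) : ℕ := Nat.xor (Nat.xor n (bit c))
  (Nat.land (Nat.shiftRight (Nat.shiftLeft (Nat.land n 170) 1) c) 1)
noncomputable def mq (a b : ℕ) : ℕ := nfW lm (mw Qc a) b
noncomputable def tabs : ℕ → ℕ := nth idT tl
noncomputable def F (c : ℕ) : ℕ → ℕ := lk (tabs c)
noncomputable def runA (w : List ℕ) : ℕ := run8 tabs w 2 4 8 16 32 64 128 256
def R12 : List ℕ := [27, 28, 29, 30, 31, 32, 3, 4, 5, 6, 7, 8]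
def R14 : List ℕ := R12 ++ [0, 1]
def V4 : List ℕ := [27, 3, 1, 0]
def B6 : List ℕ := [8, 16, 32, 64, 128, 256]

theorem ltH : ∀ c, c ∈ HL ↔ c < 23 := fun c =>
  ⟨by revert c; decide, by revert c; decide⟩

section

variable {X : Type*} [Group X] {x : ℕ → X}

theorem mem_four {a b y : X} (ha : a * a = 1) (hb : b * b = 1) (hab : a * b = b * a)
    (h : y ∈ zpowers a ⊔ zpowers b) : y = 1 ∨ y = a ∨ y = b ∨ y = a * b := by
  obtain ⟨u, h1, v, h2, rfl⟩ := (mem_sup_of_norm (norm_zpowers_of_cent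
    (zpowers_le.2 (mem_C1.2 hab.symm)))).1 h
  rcases (mem_zp2 ha).1 h1 with rfl | rfl <;> rcases (mem_zp2 hb).1 h2 with rfl | rfl <;> simp

theorem gen_two (x : ℕ → X) (a b : ℕ) : gen x [a, b] = zpowers (x a) ⊔ zpowers (x b) := by
  rw [gen_cons, gen_cons, gen_nil, sup_bot_eq]

/-- the elements fixing the coset `V f` -/
def stC (V : Subgroup X) (f : X) : Subgroup X where
  carrier := {y | y ∈ N[V] ∧ y⁻¹ * f * y * f⁻¹ ∈ V}
  mul_mem' := fun {a b} ha hb => ⟨mul_mem ha.1 hb.1, by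
    have := V.mul_mem (conj_mem' hb.1 ha.2) hb.2
    convert this using 1; group⟩
  one_mem' := ⟨one_mem _, by simp⟩
  inv_mem' := fun {a} ha => ⟨inv_mem ha.1, by
    have := conj_mem ha.1 (V.inv_mem ha.2)
    convert this using 1; group⟩

theorem qv_bit {d : ℕ} (h : d ∈ Qc) : qv x Qc (bit d) = x d := by
  rw [qv, show mw Qc (bit d) = [d] by revert d; decide +kernel]; simp

theorem qv1 : qv x Qc 1 = x 0 := qv_bit (d := 0) (by decide)
theorem qv2 : qv x Qc 2 = x 1 := qv_bit (d := 1) (by decide)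

/-- the relations of the extraspecial group -/
structure QR (x : ℕ → X) : Prop where
  sq : ∀ c ∈ Qc, x c * x c = 1
  cm : ∀ c ∈ Qc, ∀ d ∈ Qc, x c * x d = (if β c d then x 0 else 1) * (x d * x c)

theorem QR.cd (h : QR x) : Cd x Qc 512 mq :=
  cd_of_chk h.sq h.cm (fun c hc => by
    simpa [show β c 0 = false by revert c; decide] using h.cm c hc 0 (by decide)) (by decide)
    (by norm_num) (lm := lm) (by decide +kernel)

theorem QR.pair {Y : Type*} [Group Y] {y : ℕ → Y} (h1 : QR x) (h2 : QR y) : QR (pr x y) :=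
  ⟨fun c hc => Prod.ext (h1.sq c hc) (h2.sq c hc), fun c hc d hd => by
    have a1 := h1.cm c hc d hd
    have a2 := h2.cm c hc d hd
    cases hb : β c d <;> simp only [hb] at a1 a2 ⊢ <;> exact Prod.ext a1 a2⟩

theorem QR.memV (h : QR x) {g : X} : g ∈ gen x [0, 1] ↔ ∃ k < 4, qv x Qc k = g := by
  refine ⟨fun a => ?_, ?_⟩
  · rcases mem_four (h.sq 0 (by decide)) (h.sq 1 (by decide)) (by
      simpa [β] using h.cm 0 (by decide) 1 (by decide)) (gen_two x 0 1 ▸ a) with a | a | a | a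
    exacts [⟨0, by norm_num, a ▸ qv_zero⟩, ⟨1, by norm_num, a ▸ qv1⟩, ⟨2, by norm_num, a ▸ qv2⟩,
      ⟨3, by norm_num, by rw [a, qv, show mw Qc 3 = [0, 1] by decide +kernel]; simp⟩]
  · rintro ⟨k, a, rfl⟩
    exact ev_mem_gen (by revert k; decide +kernel)

/-- the relations and the action of the generators -/
structure QA (x : ℕ → X) : Prop extends QR x where
  act : ∀ c < 23, ∀ d ∈ Qc, x d * x c = x c * qv x Qc (F c (bit d))

noncomputable def chkQA (ok : List ℕ → List ℕ → Bool) : Bool :=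
  and2 (allL Qc fun c => and2 (ok [c, c] []) (allL Qc fun d =>
    ok [c, d] (Bool.rec [d, c] [0, d, c] (β c d))))
    (allN 23 fun c => lit c fun c => allL Qc fun d => ok [d, c] (c :: mw Qc (F c (bit d))))

theorem qa_of {ok : List ℕ → List ℕ → Bool} (h : Eqs ok x) (hc : chkQA ok = true) : QA x := by
  simp only [chkQA, and2_true, allL_true, allN_true, lit_eq] at hc
  refine ⟨⟨fun c a => by simpa using h _ _ (hc.1 c a).1, fun c a d b => ?_⟩,
    fun c a d b => by simpa using h _ _ (hc.2 c a d b)⟩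
  have := h _ _ ((hc.1 c a).2 d b)
  cases hb : β c d <;> simpa [hb] using this

theorem tb_chk : (allN 23 fun c => lit c fun c => and2 (allL Qc fun d => Nat.ble (Nat.succ (F c (bit d))) 512)
    (allN 512 fun n => lit n fun n => Nat.beq (F c n) (actI Qc mq (fun d => F c (bit d)) n))) = true := by
  decide +kernel

theorem QA.tb0 (h : QA x) {c : ℕ} (hc : c < 23) : Tb x Qc 512 (x c) (F c) := by
  have := allN_true.1 tb_chk c hc
  simp only [lit_eq, and2_true, allL_true, ble_true] at this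
  exact (h.cd.act fun d hd => ⟨this.1 d hd, h.act c hc d hd⟩).congr this.2

theorem tb_der : (allN 61 fun c => lit c fun c => or2 (eqL (nth [] defsH c) [c]) (allN 512 fun n =>
    lit n fun n => Nat.beq (F c n) (actW F (nth [] defsH c) n))) = true := by decide +kernel

theorem QA.tb (h : QA x) (hd : Def x defsH) (c : ℕ) : Tb x Qc 512 (x c) (F c) :=
  tb_slp hsH hd (fun c a => h.tb0 (baseH c a)) (fun c => by
    by_cases hc : c < 60
    · exact (or2_true.1 (allN_true.1 tb_der c (by omega))).imp eqL_true id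
    · have := allN_true.1 tb_der 60 (by omega)
      rw [lit_eq, or2_true] at this
      replace this := this.resolve_left (by decide +kernel)
      rw [nth_default _ (show defsH.length ≤ c from not_lt.1 hc), F, tabs,
        nth_default _ (show tl.length ≤ c from not_lt.1 hc)]
      exact .inr this) c

theorem QA.pair {Y : Type*} [Group Y] {y : ℕ → Y} (h1 : QA x) (h2 : QA y) : QA (pr x y) :=
  ⟨h1.toQR.pair h2.toQR, fun c hc d hd => Prod.ext (by simpa using h1.act c hc d hd)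
    (by simpa using h2.act c hc d hd)⟩

theorem QA.norm [Finite X] (h : QA x) {c : ℕ} (hc : c < 23) : x c ∈ N[gen x Qc] :=
  (h.tb0 hc).norm h.cd

theorem memH (hd : Def x defsH) (c : ℕ) : x c ∈ gen x HL :=
  hd.mem hsH (fun c hc => mem_gen ((ltH c).2 (baseH c hc))) c

theorem ch_chk : chkCn F 512 (2 ^ 60 - 1) chQ [] = true := by decide +kernel

theorem QA.chain [Finite X] (h : QA x) (hd : Def x defsH) (hI : Inj x Qc 512) :
    270 * Nat.card ↥(gen x HL ⊓ C{x 1}) ≤ Nat.card (gen x HL) ∧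
      330301440 ≤ Nat.card ↥(gen x HL ⊓ C{x 1}) := by
  have hA : Ac x Qc 512 F (2 ^ 60 - 1) (gen x HL) := fun c _ => ⟨memH hd c, h.tb hd c⟩
  have e1 : fixS x Qc [2] = C{x 1} := by ext g; simp [mem_fixS, qv2]
  have e0 : gen x HL ⊓ fixS x Qc [] = gen x HL := inf_eq_left.2 fun g _ => mem_fixS.2 (by simp)
  obtain ⟨a, ch, e, e2, e3, e4⟩ : ∃ a ch, chQ = a :: ch ∧ a.1 = 2 ∧ a.2.length = 270 ∧
    (ch.map (·.2.length)).prod = 165150720 := ⟨_, _, rfl, by decide +kernel⟩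
  have c := ch_chk
  rw [e, show chkCn F 512 (2 ^ 60 - 1) (a :: ch) [] = and2 (and2 (Nat.ble (Nat.succ a.1) 512)
      (chkFx F (2 ^ 60 - 1) a.2 [])) (and2 (incr (mapL (fun w => actW F w a.1) a.2) 0)
        (chkCn F 512 (2 ^ 60 - 1) ch [a.1])) from rfl] at c
  simp only [and2_true] at c
  have a1 := hA.chain hI (Y := gen x HL ⊓ C{x 1}) [a] [] (by simp)
    (and2_true.2 ⟨and2_true.2 c.1, and2_true.2 ⟨c.2.1, rfl⟩⟩) (by simp [e2, e1])
  have a2 := hA.chain hI (Y := zpowers (x 0)) ch [2] (by simp) (e2 ▸ c.2.2)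
    (zpowers_le.2 ⟨mem_gen (by decide), mem_fixS.2 fun f _ => mem_C1_comm.1 (gen_le.2 (fun d hd =>
      mem_C1.2 (by simpa [show β d 0 = false by revert d; decide] using h.cm d hd 0 (by decide)))
        (qv_mem f))⟩)
  rw [e4, e1, Nat.card_zpowers, orderOf_eq_prime (p := 2) (by rw [pow_two, h.sq 0 (by decide)])
    fun a => absurd (hI 1 (by norm_num) 0 (by norm_num) (by rw [qv1, a, qv_zero])) (by norm_num)] at a2
  rw [e0] at a1
  exact ⟨by simpa [e3] using a1, a2⟩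

theorem WP.of_bar (hc : ∀ c, x c ∈ C{x 0}) {b : List ℕ} (h0 : 0 ∈ b) : ∀ {l : List ℕ},
    WP (bar x) b l → WP x b l
  | [], _ => trivial
  | c :: l, h => by
    have n := fun c => C1_le_N _ (hc c)
    have a0 : x 0 ∈ gen x (l ++ b) := mem_gen (List.mem_append_right _ h0)
    refine ⟨WP.of_bar hc h0 h.1, mem_of_bar hc a0 (mul_mem (hc c) (hc c)) ?_, fun d hd =>
      mem_of_bar hc a0 (mul_mem (mul_mem (hc c) (hc d)) (inv_mem (hc c))) ?_⟩
    · rw [cs, ap_mul _ (n c) (n c)]; exact h.2.1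
    · rw [cs, ap_conj _ (n c) (n d)]; exact h.2.2 d hd

theorem ev_up_conj {u a : X} : ∀ {w : List ℕ}, (∀ c ∈ w, c = 200 ∨ c < 200 ∧ u ∈ C{x c}) →
    ev (up x (u * a * u⁻¹)) w = u * ev (up x a) w * u⁻¹
  | [], _ => by simp
  | c :: w, h => by
    rw [ev_cons, ev_cons, ev_up_conj fun y hy => h y (List.mem_cons_of_mem _ hy), ← conj_mul]
    rcases h c List.mem_cons_self with rfl | a
    · simp
    · rw [up_of _ _ a.1, up_of _ _ a.1, mem_C1_iff_conj.1 a.2]

theorem ev_sb0 (y : List ℕ) : ∀ {w : List ℕ}, (∀ c ∈ w, c ≠ 201) →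
    ev x (sb w y []) = ev (up x (ev x y)) w
  | [], _ => rfl
  | c :: w, h => by
    rw [show sb (c :: w) y [] = Bool.rec (Bool.rec (c :: sb w y []) (app [] (sb w y [])) (Nat.beq c 201))
      (app y (sb w y [])) (Nat.beq c 200) from rfl, ev_cons,
      ← ev_sb0 y fun d hd => h d (List.mem_cons_of_mem _ hd)]
    have h2 := h c List.mem_cons_self
    rw [show Nat.beq c 201 = false by rw [← Bool.not_eq_true, H29.beq_true]; exact h2]
    by_cases h1 : c = 200
    · subst h1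
      change ev x (app y _) = _
      simp
    · rw [show Nat.beq c 200 = false by rw [← Bool.not_eq_true, H29.beq_true]; exact h1]
      change ev x (c :: _) = _
      rw [ev_cons, up, if_neg h1, if_neg h2]

theorem ev_invW_lt (h : ∀ c < 23, x (iv c) = (x c)⁻¹) : ∀ {w : List ℕ}, (∀ c ∈ w, c < 23) →
    ev x (invW iv w) = (ev x w)⁻¹
  | [], _ => by simp [invW_eq]
  | y :: w, a => by
    have := ev_invW_lt h fun c hc => a c (List.mem_cons_of_mem _ hc)
    rw [invW_eq] at this ⊢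
    simp [this, h y (a y List.mem_cons_self)]

end

theorem qaH : chkQA (eqW runH) = true := by decide +kernel
theorem qa0 : QA mH := qa_of isoH.eqs qaH
theorem cardQ0 : 512 ≤ Nat.card (gen mH Qc) :=
  isoH.le_card (W := idx.map (mw Qc)) (fun w hw => by
    obtain ⟨n, -, rfl⟩ := List.mem_map.1 hw
    exact qv_mem n) (by decide +kernel)
theorem inj0 : Inj mH Qc 512 := qa0.cd.inj cardQ0
theorem cardH0 : 89181388800 ≤ Nat.card (gen mH HL) := by
  have := qa0.chain defH inj0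
  omega

variable {G : Type*} [Group G] [Finite G] {e : ℕ → G}

/-- letters for the centraliser, with the action on `Q` of the model -/
structure Pre (e : ℕ → G) : Prop where
  lx : LX (e 0) (gen e Qc)
  cq : Nat.card (gen e Qc) = 512
  df : Def e defsH
  inv : ∀ c < 23, e (iv c) = (e c)⁻¹
  qa : QA e
  t3 : ∀ c ∈ [9, 11, 13, 15, 17, 19, 21], e c ^ 3 = 1
  card : Nat.card C{e 0} = 89181388800

namespace Pre

variable (h : Pre e)
include h

theorem cd : Cd e Qc 512 mq := h.qa.cd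
theorem inj : Inj e Qc 512 := h.cd.inj h.cq.ge
theorem tb (c : ℕ) : Tb e Qc 512 (e c) (F c) := h.qa.tb h.df c
theorem tw (w : List ℕ) : Tb e Qc 512 (ev e w) (actW F w) := tb_word fun c _ => h.tb c

theorem fix {w : List ℕ} {p : ℕ} (hp : p < 512) : ev e w ∈ C{qv e Qc p} ↔ actW F w p = p :=
  ⟨fun a => h.inj _ (h.tw w p hp).1 _ hp (by rw [← (h.tw w p hp).2, conj_of_mem_C1 a]),
    fun a => mem_C1_of_conj (by rw [(h.tw w p hp).2, a])⟩

theorem act_eq {u v : List ℕ} (a : ev e u = ev e v) {p : ℕ} (hp : p < 512) :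
    actW F u p = actW F v p :=
  h.inj _ (h.tw u p hp).1 _ (h.tw v p hp).1 (by rw [← (h.tw u p hp).2, ← (h.tw v p hp).2, a])

theorem cen (c : ℕ) : e c ∈ C{e 0} := h.df.mem hsH (fun c hc => by
  simpa [qv1] using (h.fix (w := [c]) (p := 1) (by norm_num)).2
    ((by decide +kernel : ∀ c < 23, actW F [c] 1 = 1) c (baseH c hc))) c

theorem le (l : List ℕ) : gen e l ≤ C{e 0} := gen_le.2 fun c _ => h.cen c

/-- letters that commute with `s` -/
theorem cs {l : List ℕ} (hc : (allL l fun c => Nat.beq (F c 2) 2) = true) : gen e l ≤ C{e 1} :=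
  gen_le.2 fun c a => by
    simpa [qv2] using (h.fix (w := [c]) (p := 2) (by norm_num)).2 (H29.beq_true.1 (allL_true.1 hc c a))

theorem cs1 {c : ℕ} (hc : Nat.beq (F c 2) 2 = true) : e c ∈ C{e 1} :=
  h.cs (l := [c]) (and2_true.2 ⟨hc, rfl⟩) (mem_gen (by simp))

theorem top : gen e HL = C{e 0} ∧ Nat.card ↥(C{e 0} ⊓ C{e 1}) = 330301440 := by
  have a1 := h.qa.chain h.df h.inj
  have a2 := H24.card_le (h.le HL)
  rw [h.card] at a2
  have a3 : gen e HL = C{e 0} := eq_of_card_eq (h.le _) (by rw [h.card]; omega)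
  exact ⟨a3, by rw [← a3]; omega⟩

theorem fix8 {g : G} : g ∈ fixS e Qc [2, 4, 8, 16, 32, 64, 128, 256] → g ∈ C{e 0} →
    g ∈ zpowers (e 0) := fun a b => h.lx.cent (mem_C_iff_le_C1.2 (gen_le.2 fun c hc => by
  rcases (by revert c; decide : c = 0 ∨ bit c ∈ [2, 4, 8, 16, 32, 64, 128, 256]) with rfl | d
  · exact mem_C1_comm.1 b
  · exact mem_C1_comm.1 (qv_bit (x := e) hc ▸ mem_fixS.1 a _ d)))

theorem isoA : Iso runA (bar e) := iso_run8 h.inj h.tb h.cen fun _ hg =>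
  ⟨fun a => h.fix8 a hg, fun a => mem_fixS.2 fun f _ =>
    zpowers_le.2 (mem_C1_comm.1 (h.lx.le (qv_mem f))) a⟩

theorem eq {u v : List ℕ} (hc : eqW runA u v = true) :
    ev e v = ev e u ∨ ev e v = ev e u * e 0 := by
  have := h.isoA.eqW.1 hc
  rw [ev_bar h.cen, ev_bar h.cen, cs_eq_cs (C1_le_N _ (ev_mem fun c _ => h.cen c))
    (C1_le_N _ (ev_mem fun c _ => h.cen c)), mem_zp2 h.lx.sq] at this
  exact this.imp (fun a => (inv_mul_eq_one.1 a).symm) inv_mul_eq_iff_eq_mul.1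

theorem sq_eq {u v : List ℕ} (hc : eqW runA u v = true) : ev e u * ev e u = ev e v * ev e v := by
  have h1 : ev e u * e 0 = e 0 * ev e u := mem_C1.1 (ev_mem fun c _ => h.cen c)
  rcases h.eq hc with a | a <;> rw [a]
  rw [mul_assoc, ← mul_assoc (e 0), ← h1, mul_assoc, h.lx.sq, mul_one]

theorem s_ne : e 1 ≠ e 0 := fun a =>
  absurd (h.inj 2 (by norm_num) 1 (by norm_num) (by rw [qv1, qv2, a])) (by norm_num)

theorem fuse {t : G} (ht : t ∈ gen e Qc) (h1 : t * t = 1) (h2 : t ≠ 1) (h3 : t ≠ e 0) :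
    ∃ g, g⁻¹ * e 1 * g = t := by
  obtain ⟨n, a1, rfl⟩ := h.cd.cover ht
  obtain ⟨w, -, a2⟩ := chkOb_true (by decide +kernel : chkOb F 512 2 (nth (0, []) chQ 0).2
    (fun n => and2 (Nat.ble 2 n) (Nat.beq (mq n n) 0)) = true) a1 (and2_true.2 ⟨ble_true.2 (by
      rcases n with _ | _ | n
      exacts [absurd qv_zero h2, absurd qv1 h3, by omega]), (h.cd.sq h.inj a1).2 h1⟩)
  exact ⟨ev e w, by rw [← a2, ← (h.tw w 2 (by norm_num)).2, qv2]⟩

theorem ac (l : List ℕ) : Ac e Qc 512 F (TCData.bitsOf l) (gen e l) := fun c a =>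
  ⟨mem_gen (testBit_bitsOf a), h.tb c⟩

theorem last {l B : List ℕ} {Y : Subgroup G} (h0 : 0 ∈ l) (hY : Y ≤ C{e 0})
    (hB : ∀ f ∈ [2, 4, 8, 16, 32, 64, 128, 256], f ∈ B) : Y ⊓ fixS e Qc B ≤ gen e l := fun _ a =>
  zpowers_le.2 (mem_gen h0) (h.fix8 (mem_fixS.2 fun f b => mem_fixS.1 a.2 f (hB f b)) (hY a.1))

theorem sf2 : C{e 0} ⊓ fixS e Qc [2, 8, 16, 32, 64, 128, 256] ≤ gen e [0, 1] :=
  (h.ac _).sift h.cd h.inj (h.le _) h.lx.norm (ex := fun _ _ => true) Co.sf2 _ (by decide)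
    (by decide +kernel) (fun _ _ _ _ _ _ _ => rfl) (h.last (by decide) le_rfl (by decide))

theorem sf3 : C{e 0} ⊓ fixS e Qc [2, 8, 32, 64, 128, 256] ≤ gen e V4 :=
  (h.ac _).sift h.cd h.inj (h.le _) h.lx.norm (ex := fun _ _ => true) Co.sf3 _ (by decide)
    (by decide +kernel) (fun _ _ _ _ _ _ _ => rfl) (h.last (by decide) le_rfl (by decide))

theorem cV {y : G} (h0 : y ∈ C{e 0}) (h1 : y ∈ C{e 1}) : y ∈ C[gen e [0, 1]] := by
  rw [gen_two, C_sup, C_zpowers, C_zpowers]; exact ⟨h0, h1⟩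

theorem sf1 {y : G} (h0 : y ∈ C{e 0}) (h1 : y ∈ C{e 1})
    (h2 : ∀ f ∈ B6, y⁻¹ * qv e Qc f * y * (qv e Qc f)⁻¹ ∈ gen e [0, 1]) : y ∈ gen e R14 := by
  let Y : Subgroup G := C{e 0} ⊓ ⨅ f ∈ B6, stC (gen e [0, 1]) (qv e Qc f)
  have mY : ∀ {y}, y ∈ Y ↔ y ∈ C{e 0} ∧ ∀ f ∈ B6, y ∈ stC (gen e [0, 1]) (qv e Qc f) := by
    simp [Y, mem_iInf]
  have b6 : ∀ f ∈ B6, f < 512 := by decide
  refine (h.ac R14).sift h.cd h.inj (Y := Y) (gen_le.2 fun c hc => mY.2 ⟨h.cen c, fun f hf =>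
      ⟨C_le_N _ (h.cV (h.cen c) (h.cs (l := R14) (by decide +kernel) (mem_gen hc))), ?_⟩⟩)
    (fun y a => h.lx.norm (mY.1 a).1) (ex := fun a n => Nat.beq (Nat.shiftRight n 2) (Nat.shiftRight a 2))
    Co.sf1 [2] (by decide) (by decide +kernel) (fun y a f b n c d => ?_)
    (fun y a => gen_mono (by decide) (h.sf2 ⟨(mY.1 a.1).1, mem_fixS.2 fun f b =>
      mem_fixS.1 a.2 f (by revert f; decide)⟩))
    ⟨mY.2 ⟨h0, fun f hf => ⟨C_le_N _ (h.cV h0 h1), h2 f hf⟩⟩, mem_fixS.2 (by simpa [qv2] using h1)⟩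
  · obtain ⟨k, a1, a2⟩ : ∃ k < 4, mq k f = F c f := by revert c f; decide +kernel
    rw [(h.tb c f (b6 f hf)).2, ← a2, ← (h.cd.mul k (by omega) f (b6 f hf)).2, mul_inv_cancel_right]
    exact h.qa.memV.2 ⟨k, a1, rfl⟩
  · have a0 : f.1 ∈ B6 := (by decide : ∀ f ∈ Co.sf1, f.1 ∈ B6) f b
    obtain ⟨k, a1, a2⟩ := h.qa.memV.1 ((mY.1 a).2 _ a0).2
    have a3 := h.cd.mul k (by omega) f.1 (b6 _ a0)
    rw [a2, inv_mul_cancel_right, d] at a3
    rw [h.inj _ c _ a3.1 a3.2]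
    exact (by decide +kernel : ∀ k < 4, ∀ p ∈ B6,
      Nat.beq (Nat.shiftRight (mq k p) 2) (Nat.shiftRight p 2) = true) k a1 _ a0

theorem wp : WP e [0, 1] R12 :=
  WP.of_bar h.cen (by decide) (h.isoA.eqs.wp (I := IR) (by decide +kernel))

end Pre

end H15.Co
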