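import Mathlib
import Cfsg.Agent.H15.CoQ
import Cfsg.Agent.H15.CoH1
import Cfsg.Agent.H15.CoH2
import Cfsg.Agent.H15.CoH3
import Cfsg.Agent.H15.CoH4
import Cfsg.Agent.H15.CoH5

/-!
# Identification of the centraliser
-/

set_option autoImplicit false
set_option maxRecDepth 100000
set_option Elab.async false
set_option linter.unusedSectionVars false

namespace H15.Co

open H29 H24 Subgroup KM XP
open scoped commutatorElement

variable {G : Type*} [Group G] [Finite G] {e : ℕ → G}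

theorem t3H : ∀ c ∈ [9, 11, 13, 15, 17, 19, 21], mH c ^ 3 = 1 := fun c hc => by
  have : (allL [9, 11, 13, 15, 17, 19, 21] fun c => eqW runH (pw 3 [c]) []) = true := by decide +kernel
  simpa using isoH.eqW.1 (allL_true.1 this c hc)

theorem exists_pre {z : G} {Q : Subgroup G} (h : LX z Q) (h1 : Nat.card Q = 2 ^ 9)
    (h2 : Nat.card C{z} = 89181388800) : ∃ e : ℕ → G, Pre e ∧ e 0 = z ∧ gen e Qc = Q := by
  obtain ⟨hd, hA⟩ := type9 h.isX h.xs.mem h.xs.ord h.le h1 h.norm h.inf_C h2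
  obtain ⟨x, y, a1, a2, a3⟩ := fam hd
  let b : ℕ → G := fun c => [z, x 0, y 0, x 1, y 1, x 2, y 2, x 3, y 3].getD c 1
  have i0 : z⁻¹ = z := inv_eq_of_mul_eq_one_right h.sq
  have c1 : ∀ i, ⁅(x i : G), (y i : G)⁆ = z := fun i => congrArg Subtype.val (a1 i).2.2.1
  have c1' : ∀ i, ⁅(y i : G), (x i : G)⁆ = z := fun i => by
    rw [← commutatorElement_inv, c1, i0]
  have c2 : ∀ i j, ⁅(x i : G), (x j : G)⁆ = 1 := fun i j => congrArg Subtype.val (a2 i j).1
  have c3 : ∀ i j, ⁅(y i : G), (y j : G)⁆ = 1 := fun i j => congrArg Subtype.val (a2 i j).2.1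
  have c4 : ∀ i j, i ≠ j → ⁅(x i : G), (y j : G)⁆ = 1 := fun i j e =>
    congrArg Subtype.val ((a2 i j).2.2 e)
  have c5 : ∀ i j, i ≠ j → ⁅(y i : G), (x j : G)⁆ = 1 := fun i j e => by
    rw [← commutatorElement_inv, c4 j i e.symm, inv_one]
  have c6 : ∀ q : Q, ⁅(q : G), z⁆ = 1 := fun q =>
    commutatorElement_eq_one_iff_mul_comm.2 (mem_C1.1 (h.le q.2))
  have c7 : ∀ q : Q, ⁅z, (q : G)⁆ = 1 := fun q => by rw [← commutatorElement_inv, c6, inv_one]
  have s : ∀ q : Q, q ^ 2 = ⟨z, h.xs.mem⟩ ^ 0 → (q : G) * q = 1 := fun q e => by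
    simpa [pow_two] using congrArg Subtype.val e
  have lt9 : ∀ c ∈ Qc, c < 9 := by decide
  have bs : ∀ c < 9, b c * b c = 1 := fun c hc => by
    interval_cases c
    exacts [h.sq, s _ (a1 0).2.2.2.1, s _ (a1 0).2.2.2.2, s _ (a1 1).2.2.2.1, s _ (a1 1).2.2.2.2,
      s _ (a1 2).2.2.2.1, s _ (a1 2).2.2.2.2, s _ (a1 3).2.2.2.1, s _ (a1 3).2.2.2.2]
  have bc : ∀ c < 9, ∀ d < 9, ⁅b c, b d⁆ = if β c d then z else 1 := fun c hc d hd => by
    interval_cases c <;> interval_cases d <;>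
      first | exact c2 _ _ | exact c3 _ _ | exact c1 _ | exact c1' _ | exact c4 _ _ (by decide)
            | exact c5 _ _ (by decide) | exact c6 _ | exact c7 _ | exact c6 ⟨z, h.xs.mem⟩
  have qr : QR b := ⟨fun c hc => bs c (lt9 c hc), fun c hc d hd => by
    rw [show b 0 = z from rfl, ← bc c (lt9 c hc) d (lt9 d hd), commutatorElement_def]; group⟩
  have bQ : ∀ c < 9, b c ∈ Q := fun c hc => by
    interval_cases c
    exacts [h.xs.mem, (x 0).2, (y 0).2, (x 1).2, (y 1).2, (x 2).2, (y 2).2, (x 3).2, (y 3).2]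
  have gQ : gen b Qc = Q := le_antisymm (gen_le.2 fun c hc => bQ c (lt9 c hc)) fun q hq =>
    a3 ((gen b Qc).subgroupOf Q) (mem_gen (c := 0) (by decide)) (fun i => by
      fin_cases i
      exacts [⟨mem_gen (c := 1) (by decide), mem_gen (c := 2) (by decide)⟩,
        ⟨mem_gen (c := 3) (by decide), mem_gen (c := 4) (by decide)⟩,
        ⟨mem_gen (c := 5) (by decide), mem_gen (c := 6) (by decide)⟩,
        ⟨mem_gen (c := 7) (by decide), mem_gen (c := 8) (by decide)⟩]) (mem_top (⟨q, hq⟩ : Q))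
  have hb := (qa0.toQR.pair qr).cd.card_le
  have gr : Gr (gen (pr mH b) Qc) := gr_of_card (by rw [map_fst]; exact hb.trans cardQ0)
  have cogr : CoGr (gen (pr mH b) Qc) := coGr_of_card (by rw [map_snd, gQ, h1]; exact hb)
  have lift : ∀ c ∈ [9, 11, 13, 15, 17, 19, 21],
      ∃ g ∈ C{z}, g ^ 3 = 1 ∧ (mH c, g) ∈ N[gen (pr mH b) Qc] :=
    fun c hc => lift_aut gr cogr ((map_snd _ _ _).trans gQ) (lift3 h.norm h.inf_C h.xs.ord hA)
      (by rw [map_fst]; exact qa0.norm (by revert c; decide)) (t3H c hc)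
  obtain ⟨t1, d1⟩ := lift 9 (by decide)
  obtain ⟨t2, d2⟩ := lift 11 (by decide)
  obtain ⟨t3, d3⟩ := lift 13 (by decide)
  obtain ⟨t4, d4⟩ := lift 15 (by decide)
  obtain ⟨t5, d5⟩ := lift 17 (by decide)
  obtain ⟨t6, d6⟩ := lift 19 (by decide)
  obtain ⟨t7, d7⟩ := lift 21 (by decide)
  let b' : ℕ → G := fun c => [z, x 0, y 0, x 1, y 1, x 2, y 2, x 3, y 3,
    t1, t1⁻¹, t2, t2⁻¹, t3, t3⁻¹, t4, t4⁻¹, t5, t5⁻¹, t6, t6⁻¹, t7, t7⁻¹].getD c 1
  have e1 : ∀ c < 23, slp b' defsH c = b' c := fun c hc => slp_base _ (by revert c; decide +kernel)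
  have e2 : ∀ c ∈ Qc, slp b' defsH c = b c := fun c hc => by
    have := lt9 c hc
    rw [e1 c (by omega)]; interval_cases c <;> rfl
  have e3 : gen (slp b' defsH) Qc = Q := (gen_congr e2).trans gQ
  have e0 : slp b' defsH 0 = z := e1 0 (by norm_num)
  have k : ∀ c t, (mH c, t) ∈ N[gen (pr mH b) Qc] → (mH (iv c), t⁻¹) ∈ N[gen (pr mH b) Qc] :=
    fun c t h => by rw [show mH (iv c) = _ from ivH c]; exact inv_mem h
  have nq : ∀ c < 23, (mH c, b' c) ∈ N[gen (pr mH b) Qc] := fun c hc => by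
    by_cases h9 : c < 9
    · rw [show b' c = b c by interval_cases c <;> rfl]
      exact norm_self _ (mem_gen (e := pr mH b) (by revert c; decide))
    · rw [not_lt] at h9
      interval_cases c
      exacts [d1.2.2, k 9 _ d1.2.2, d2.2.2, k 11 _ d2.2.2, d3.2.2, k 13 _ d3.2.2, d4.2.2,
        k 15 _ d4.2.2, d5.2.2, k 17 _ d5.2.2, d6.2.2, k 19 _ d6.2.2, d7.2.2, k 21 _ d7.2.2]
  refine ⟨slp b' defsH, ⟨by rwa [e0, e3], by rw [e3, h1]; rfl, slp_def _ hsH, fun c hc => ?_,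
    ⟨⟨fun c hc => e2 c hc ▸ qr.sq c hc, fun c hc d hd => ?_⟩, fun c hc d hd => ?_⟩,
    fun c hc => ?_, by rwa [e0]⟩, e0, e3⟩
  · rw [e1 c hc, e1 _ (by revert c; decide +kernel)]
    by_cases h9 : c < 9
    · have := eq_inv_of_mul_eq_one_right (bs c h9)
      interval_cases c <;> exact this
    · rw [not_lt] at h9
      interval_cases c <;> first | rfl | exact (inv_inv _).symm
  · rw [e2 c hc, e2 d hd, e0]; exact qr.cm c hc d hd
  · rw [e2 d hd, e1 c hc, qv, ev_congr fun y hy => e2 y (mem_mw _ _ y hy), ← inv_mul_eq_iff_eq_mul,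
      ← mul_assoc]
    simpa using congrArg Prod.snd (gr.eq (conj_mem' (nq c hc) (mem_gen hd)) (qv_mem (F c (bit d)))
      (by simpa [mul_assoc, inv_mul_eq_iff_eq_mul] using qa0.act c hc d hd))
  · rw [e1 c (by revert c; decide)]
    simp only [List.mem_cons, List.not_mem_nil, or_false] at hc
    rcases hc with rfl | rfl | rfl | rfl | rfl | rfl | rfl
    exacts [d1.2.1, d2.2.1, d3.2.1, d4.2.1, d5.2.1, d6.2.1, d7.2.1]

noncomputable def W15 : List ℕ := pw 15 [9, 13, 17, 21]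
noncomputable def σT : ℕ → ℕ :=
  nth 99 [0, 1, 2, 3, 4, 5, 6, 8, 7, 62, 63, 64, 65, 66, 67, 68, 69, 70, 71, 72, 73, 74, 75]
/-- the twisted letters -/
noncomputable def mT (c : ℕ) : S := m (σT c)
noncomputable def runT (w : List ℕ) : ℕ := run (mapL σT w)
theorem isoT : Iso runT mT := fun u v => by
  rw [runT, runT, iso, ← ev_map, ← ev_map]; rfl

theorem filt : allQ R12 (fun x => frc (app x [9]) fun y => imp2 (allL
    [pw 3 [200], pw 4 [200, 55], pw 4 [200, 55, 55]] fun w => frc (sb w y []) fun r =>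
      allL B6 fun p => Nat.beq (actW F r p) p) (eqL x [])) = true := by decide +kernel

namespace Pre

variable (h : Pre e)
include h

theorem iv55 : e 55 = (e 54)⁻¹ := by
  have h0 : e 26 = (e 25)⁻¹ := by
    rw [h.df 26, h.df 25, ← ev_invW_lt h.inv (by decide +kernel)]
    exact congrArg (ev e) (by decide +kernel)
  rw [h.df 55, h.df 54, show nth [] defsH 55 = pw 8 [26] by decide +kernel,
    show nth [] defsH 54 = pw 8 [25] by decide +kernel, ev_pw, ev_pw]
  simp [h0]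

theorem j7 : e 54 ^ 7 = 1 := by
  have h1 := h.sq_eq (u := pw 7 [25]) (v := []) (by decide +kernel)
  rw [h.df 54, show nth [] defsH 54 = pw 8 [25] by decide +kernel, ev_pw, ← pow_mul,
    show 8 * 7 = (7 + 7) * 4 from rfl, pow_mul, pow_add, ← ev_pw, h1]
  simp

theorem V2sq {v : G} (a : v ∈ gen e [0, 1]) : v * v = 1 := by
  obtain ⟨k, a1, rfl⟩ := h.qa.memV.1 a
  exact (h.cd.sq h.inj (by omega)).1 (by clear a; revert k; decide +kernel)

theorem cube {u : G} {c : ℕ} (h3 : e c ^ 3 = 1) (h1 : e c ∈ C{e 1})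
    (a : u * e c * u⁻¹ * (e c)⁻¹ ∈ gen e [0, 1]) : u ∈ C{e c} := by
  have b1 := mem_C.1 (h.cV (h.cen c) h1) _ a
  have o1 : (u * e c * u⁻¹ * (e c)⁻¹ * e c) ^ 3 = 1 := by
    rw [inv_mul_cancel_right, conj_pow, h3]; simp
  rw [(show Commute _ _ from b1).mul_pow, h3, mul_one, pow_succ, pow_two, h.V2sq a, one_mul,
    mul_inv_eq_one] at o1
  exact mem_C1_iff_conj.2 o1

theorem key {g : G} (hg : g * e 0 * g⁻¹ = e 1) : e 9 * e 11 * (e 9 * e 11) = 1 ∧
    ∃ u, u * u = 1 ∧ (∀ c ∈ [9, 10, 11, 12, 13, 14, 15, 16, 17, 18], u ∈ C{e c}) ∧ u ∈ C{e 1} ∧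
      u * e 0 * u⁻¹ = e 1 * e 0 ∧ ∀ y ∈ C{e 0}, y ∈ C{e 1} → u * y * u⁻¹ * y⁻¹ ∈ gen e R14 := by
  have hs := h.lx.cj g
  rw [hg] at hs
  have cQ : Nat.card (cj g (gen e Qc)) = 512 := by rw [card_cj, h.cq]
  generalize cj g (gen e Qc) = Q at hs cQ
  have zs : e 0 ∈ C{e 1} := mem_C1_comm.1 (h.cen 1)
  obtain ⟨a1, a2⟩ := hs.sym (a := 1048576) (m := 42525) h.lx.xs.ord zs
    (by rw [← hg, ← cj_C1, card_cj, h.card]) (by rw [inf_comm, h.top.2]; norm_num)
    (by rw [cQ]; norm_num)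
  have a3 : Nat.card ↥(Q ⊓ C{e 0}) = 256 := by
    have b1 : Q ⊓ C{e 0} < Q := lt_of_le_of_ne inf_le_left fun b =>
      (hs.eq_or (mem_C_iff_le_C1.2 (inf_eq_left.1 b))).elim h.lx.ne_one h.s_ne.symm
    have b2 := card_lt b1
    obtain ⟨k, b3⟩ := card_dvd b1.le
    rw [cQ] at a2 b2 b3
    have : 2 ≤ k := by
      by_contra b4
      have : k = 0 ∨ k = 1 := by omega
      rcases this with rfl | rfl <;> omega
    nlinarith
  have a4 : ∀ y ∈ gen e Qc, y ∈ Q → y ∈ gen e [0, 1] := fun y b1 b2 => by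
    obtain ⟨n, b3, rfl⟩ := h.cd.cover b1
    have b4 := allN_true.1 (by decide +kernel : (allN 512 fun n => lit n fun n => or2 (Nat.ble n 3)
      (imp2 (cmq mq n 2) (anyL [9, 13, 17] fun c => not1 (cmq mq n (F c n))))) = true) n b3
    simp only [lit_eq, or2_true, ble_true, imp2_true, anyL_true, not1_true] at b4
    refine h.qa.memV.2 ⟨n, Nat.lt_succ_of_le (b4.resolve_right fun b5 => ?_), rfl⟩
    obtain ⟨c, b6, b7⟩ := b5 ((h.cd.cmq h.inj b3 (by norm_num)).2 (by rw [qv2]; exact hs.le b2))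
    have b8 := h.tb c n b3
    refine b7 ((h.cd.cmq h.inj b3 b8.1).2 (mem_C1.2 (commutatorElement_eq_one_iff_mul_comm.1 ?_)))
    rcases mem_zp h.lx.xs.ord (h.lx.xs.comm _ b1 _ (qv_mem (F c n))) with d | d
    · exact d
    · refine (mem_zp hs.xs.ord (hs.xs.comm _ b2 _ ?_)).resolve_right fun d' => h.s_ne (d'.symm.trans d)
      rw [← b8.2]
      exact conj_mem' (hs.norm (h.cs (l := [9, 13, 17]) (by decide +kernel) (mem_gen b6))) b2
  have q1 : ∀ f ∈ B6, qv e Qc f ∈ C{e 1} := fun f hf => by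
    rw [← qv2 (x := e)]
    exact (h.cd.cmq h.inj (by revert f; decide) (by norm_num)).1 (by revert f; decide +kernel)
  have a5 : Q ⊓ C{e 0} ≤ gen e R14 := fun y hy => h.sf1 hy.2 (hs.le hy.1) fun f hf => a4 _
    (mul_mem (conj_mem' (h.lx.norm hy.2) (qv_mem f)) (inv_mem (qv_mem f))) (by
      simpa [mul_assoc] using Q.mul_mem (Q.inv_mem hy.1) (conj_mem (hs.norm (q1 f hf)) hy.1))
  have j1 : e 54 ∈ C{e 1} := h.cs1 (by decide +kernel)
  obtain ⟨u, u1, u2, u3⟩ := exists_fix_out (by norm_num) h.j7 inf_le_left (hs.norm j1)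
    (norm_inf (zpowers_le.2 (hs.norm j1)) (norm_C1 (zpowers_le.2 (h.cen 54))) (mem_zpowers _))
    (by rw [cQ, a3]; decide)
  have u4 := hs.conj_eq u1 a1 fun a => u2 ⟨u1, a⟩
  have u5 := hs.le u1
  have u6 : u * (e 1 * e 0) * u⁻¹ = e 0 := by
    rw [show u * (e 1 * e 0) * u⁻¹ = u * e 1 * u⁻¹ * (u * e 0 * u⁻¹) by group, u4,
      mem_C1_iff_conj.1 u5, ← mul_assoc, hs.sq, one_mul]
  have cm : ∀ y ∈ C{e 0}, y ∈ C{e 1} → u * y * u⁻¹ * y⁻¹ ∈ gen e R14 := fun y h0 hc => by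
    refine a5 ⟨?_, C{e 0}.mul_mem ?_ (inv_mem h0)⟩
    · simpa [mul_assoc] using mul_mem u1 (conj_mem (hs.norm hc) (inv_mem u1))
    · rw [← u6, ← cj_C1, conj_mem_cj_iff, mem_C1_comm]
      exact mul_mem (mem_C1_comm.1 hc) (mem_C1_comm.1 h0)
  have t1 : e 9 ∈ C{e 1} := h.cs1 (by decide +kernel)
  have u55 : u ∈ C{e 55} := h.iv55 ▸ mem_C1_comm.1 (inv_mem (mem_C1_comm.1 u3))
  have u7 : u ∈ C{e 9} := by
    refine h.cube (h.t3 9 (by decide)) t1 ?_
    obtain ⟨x, a, b1, b2, b3, b4⟩ := h.wp.allQ filt (cm _ (h.cen 9) t1)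
    simp only [frc_eq, imp2_true, allL_true, H29.beq_true, app_eq] at b4
    have xR : ev e x ∈ C[gen e [0, 1]] := h.cV (ev_mem fun c _ => h.cen c)
      (h.cs (l := R12) (by decide +kernel) (ev_mem_gen b2))
    have tV := h.cV (h.cen 9) t1
    have aV : a ∈ C[gen e [0, 1]] := h.cV (h.le _ b1) (h.cs (by decide +kernel) b1)
    have b5 := eqL_true (b4 fun w hw p hp => by
      have c1 : (∀ c ∈ w, c = 200 ∨ c = 55) ∧ eqW runA [] (sb w [9] []) = true := by
        revert w; decide +kernel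
      have c2 : ∀ c ∈ w, c ≠ 201 := fun c hc => by rcases c1.1 c hc with rfl | rfl <;> norm_num
      have c3 : ev e (sb w (x ++ [9]) []) ∈ gen e [0, 1] := by
        rw [ev_sb0 _ c2]
        refine ev_up_mem_iff (C_le_N _) (a := u * e 9 * u⁻¹) ?_ (by simpa using mul_mem xR tV) ?_
          (fun c hc => (c1.1 c hc).imp_right fun d : c = 55 => .inr (d ▸ h.cV (h.cen 55)
            (h.cs1 (by decide +kernel)))) ?_
        · rw [← inv_mul_cancel_right (u * e 9 * u⁻¹) (e 9), ← b3]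
          exact mul_mem (mul_mem xR aV) tV
        · rw [← inv_mul_cancel_right (u * e 9 * u⁻¹) (e 9), ← b3]
          simpa [mul_assoc] using conj_mem (C_le_N _ xR) b1
        · rw [ev_up_conj fun c hc => (c1.1 c hc).imp_right fun d => d ▸ ⟨by norm_num, u55⟩,
            show e 9 = ev e [9] by simp, ← ev_sb0 _ c2]
          rcases h.eq c1.2 with d | d <;> rw [d]
          · simp
          · rw [ev_nil, one_mul, u4]; exact mul_mem (mem_gen (by simp)) (mem_gen (by simp))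
      exact (h.fix (by revert p; decide)).1 (mem_C1_comm.1 (mem_C_iff_le_C1.1 (mem_C_iff_le_C1.2
        (mem_C_iff_le_C1.1 (h.cV (h.lx.le (qv_mem p)) (q1 p hp)))) c3 |> mem_C1_comm.1)))
    rw [← b3, b5]; simpa using b1
  have i9 : ∀ {c}, c < 23 → u ∈ C{e c} → u ∈ C{e (iv c)} := fun a b =>
    h.inv _ a ▸ mem_C1_comm.1 (inv_mem (mem_C1_comm.1 b))
  have u8 : ∀ c ∈ [11, 13, 15, 17], ∀ w : List ℕ, (∀ d ∈ w, d ∈ [9, 10, 54, 55]) →
      eqW runA w [c] = true → u ∈ C{e c} := fun c hc w b1 b2 => by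
    have b3 := h.sq_eq b2
    have b4 : ev e w ∈ C{u} := ev_mem fun d hd => by
      have := b1 d hd
      simp only [List.mem_cons, List.not_mem_nil, or_false] at this
      rcases this with rfl | rfl | rfl | rfl
      exacts [mem_C1_comm.1 u7, mem_C1_comm.1 (i9 (c := 9) (by norm_num) u7), mem_C1_comm.1 u3,
        mem_C1_comm.1 u55]
    rw [mem_C1_comm, show e c = ev e w * ev e w * (ev e w * ev e w) by
      rw [b3, ev_cons, ev_nil, mul_one, show e c * e c * (e c * e c) = e c ^ 3 * e c by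
        simp only [pow_succ, pow_zero, one_mul, mul_assoc],
        h.t3 c (by clear b2 b3; revert c; decide), one_mul]]
    exact mul_mem (mul_mem b4 b4) (mul_mem b4 b4)
  have u11 := u8 11 (by decide) [55, 9, 54, 9, 55, 10, 54] (by decide) (by decide +kernel)
  have u13 := u8 13 (by decide) [10, 55, 9, 54, 9] (by decide) (by decide +kernel)
  have u15 := u8 15 (by decide) [10, 54, 10, 55, 55, 10, 54, 10, 55] (by decide) (by decide +kernel)
  have u17 := u8 17 (by decide) [54, 54, 9, 54, 9, 55, 10, 55, 55] (by decide) (by decide +kernel)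
  have u9 : ∀ c ∈ [9, 10, 11, 12, 13, 14, 15, 16, 17, 18], u ∈ C{e c} := by
    simp only [List.forall_mem_cons]
    exact ⟨u7, i9 (c := 9) (by norm_num) u7, u11, i9 (c := 11) (by norm_num) u11, u13,
      i9 (c := 13) (by norm_num) u13, u15, i9 (c := 15) (by norm_num) u15, u17,
      i9 (c := 17) (by norm_num) u17, by simp⟩
  refine ⟨?_, ?_⟩
  · refine (h.eq (u := []) (v := [9, 11, 9, 11]) (by decide +kernel)).elim
      (fun a => by simpa [mul_assoc] using a) fun a => absurd ⟨u1, ?_⟩ u2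
    rw [ev_nil, one_mul] at a
    rw [← a]
    exact mem_C1_comm.1 (ev_mem (by simp [mem_C1_comm.1 u7, mem_C1_comm.1 u11]))
  rcases hs.sq_or u1 with a | a
  · exact ⟨u, a, u9, u5, u4, cm⟩
  · refine ⟨u * e 0, ?_, fun c hc => mul_mem (u9 c hc) (mem_C1_comm.1 (h.cen c)),
      mul_mem u5 zs, by rw [← u4]; group, fun y b1 b2 => ?_⟩
    · rw [show u * e 0 * (u * e 0) = u * e 0 * u⁻¹ * (u * u) * e 0 by group, u4, a,
        mul_assoc (e 1), mem_C1.1 zs, ← mul_assoc, hs.sq, one_mul, h.lx.sq]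
    · rw [show u * e 0 * y * (u * e 0)⁻¹ = u * (e 0 * y * (e 0)⁻¹) * u⁻¹ by group,
        mem_C1_iff_conj.1 (mem_C1_comm.1 b1)]
      exact cm y b1 b2

theorem gr (hp : e 9 * e 11 * (e 9 * e 11) = 1) {x : ℕ → S} {r : List ℕ → ℕ} (hx : Iso r x)
    (h1 : chkQA (eqW r) = true)
    (h2 : and2 (allN 23 fun c => eqW r [c, iv c] []) (and2 (allL [9, 11, 13, 15, 17, 19, 21] fun c =>
      eqW r [c, c, c] []) (allL PD fun d => eqW r (pw 2 (app d.2.1 d.1)) [])) = true)
    (hw : ev (pr x e) W15 ∈ gen (pr x e) Qc) (hc : gen mH HL ≤ gen x HL) :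
    Gr (gen (pr x e) HL) ∧ CoGr (gen (pr x e) HL) := by
  simp only [and2_true, allN_true, allL_true, hx.eqW] at h2
  have qa := (qa_of hx.eqs h1).pair h.qa
  have hi : ∀ c < 23, pr x e c * pr x e (iv c) = 1 := fun c a =>
    Prod.ext (by simpa using h2.1 c a) (by simp [h.inv c a])
  have hR : ∀ r ∈ CoH1.R0, ev (pr x e) r ∈ gen (pr x e) Qc := fun r hr => by
    rcases (by revert r; decide +kernel : (∃ c ∈ [9, 11, 13, 15, 17, 19, 21], r = [c, c, c]) ∨
      (∃ d ∈ PD, r = d.1 ++ d.1) ∨ r = W15) with ⟨c, a, rfl⟩ | ⟨d, a, rfl⟩ | rfl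
    · rw [ev_pr, h2.2.1 c a, show ev e [c, c, c] = 1 by simpa [pow_succ, mul_assoc] using h.t3 c a]
      exact one_mem _
    · obtain ⟨b1, b2, b3, b4⟩ : (∀ c ∈ d.2.1, c ∈ Qc) ∧ (∀ c ∈ d.1, c < 23) ∧ (∀ c ∈ d.2.2, c < 23) ∧
          eqW runA (app d.2.1 d.1) (app d.2.2 (app [9, 11] (invW iv d.2.2))) = true := by
        revert d; decide +kernel
      have b5 := h.sq_eq b4
      rw [ev_append]
      refine sq_mem_of (ev_mem fun c a => qa.norm (b2 c a)) (ev_mem_gen b1)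
        (Prod.ext (by simpa [pow_two] using h2.2.2 d a) ?_)
      simp only [app_eq, ev_append, ev_invW_lt h.inv b3, ev_cons, ev_nil, mul_one, ← mul_assoc] at b5
      simp only [Prod.snd_mul, ev_pr_snd, Prod.snd_one, ← mul_assoc, b5]
      rw [← conj_eq_one_iff' (g := ev e d.2.2)] at hp
      rw [← hp]; group
    · exact hw
  have k : ∀ {T : TCData}, T.OK → (∀ c, T.iv (T.iv c) = c) → ∀ {R}, Derives T.iv R T.R →
      (allL R fun r => allL r fun c => memL c T.cols) = true → (∀ c ∈ T.cols, c < 23 ∧ T.iv c = iv c) →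
      (∀ r ∈ R, r ∈ CoH1.R0) → Sat T fun c => H24.cs (gen (pr x e) Qc) (pr x e c) :=
    fun a1 a2 _ a3 a4 a5 a6 => sat_quo a1 a2 a3 a4 (fun c a => qa.norm (a5 c a).1)
      (fun c a => (a5 c a).2 ▸ hi c (a5 c a).1) fun r a => hR r (a6 r a)
  have hb := card_le_quo (fun c a => qa.norm (by revert c; decide))
    ((k CoH1.ok CoH1.hii CoH1.der (by decide +kernel) (by decide +kernel) (by decide +kernel)).bd
    ((k CoH2.ok CoH2.hii CoH2.der (by decide +kernel) (by decide +kernel) (by decide +kernel)).bd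
    ((k CoH3.ok CoH3.hii CoH3.der (by decide +kernel) (by decide +kernel) (by decide +kernel)).bd
    ((k CoH4.ok CoH4.hii CoH4.der (by decide +kernel) (by decide +kernel) (by decide +kernel)).bd
    ((k CoH5.ok CoH5.hii CoH5.der (by decide +kernel) (by decide +kernel) (by decide +kernel)).bd
      (bd_nil _))))))
  have hb' : Nat.card (gen (pr x e) HL) ≤ 89181388800 := by
    rw [show HL = Qc ++ CoH1.T.cols from rfl, gen_append, sup_comm]
    exact hb.trans ((Nat.mul_le_mul_left _ qa.cd.card_le).trans (by decide +kernel))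
  exact ⟨gr_of_card (by rw [map_fst]; exact hb'.trans (cardH0.trans (H24.card_le hc))),
    coGr_of_card (by rw [map_snd, h.top.1, h.card]; exact hb')⟩

theorem iso_of {x : ℕ → S} (hg : Gr (gen (pr x e) HL) ∧ CoGr (gen (pr x e) HL)) {V : ℕ → List ℕ}
    (hV : ∀ c < 23, (∀ d ∈ V c, d ∈ HL) ∧ ev x (V c) = mH c) (h0 : V 0 = [0]) (h1 : V 1 = [1])
    (h2 : ∀ c ∈ Qc, (∀ d ∈ V c, d ∈ Qc) ∧ ∃ d ∈ Qc, V d = [c]) :
    ∃ e' : ℕ → G, Pre e' ∧ Iso runH e' ∧ e' 0 = e 0 ∧ e' 1 = e 1 := by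
  have e1 : ∀ c < 23, slp (fun c => ev e (V c)) defsH c = ev e (V c) := fun c hc =>
    slp_base _ (by revert c; decide +kernel)
  have hd := slp_def (fun c => ev e (V c)) hsH
  generalize slp (fun c => ev e (V c)) defsH = e' at e1 hd
  have lt : ∀ c ∈ Qc, c < 23 := by decide
  have hi : Iso runH e' := iso_of_gr isoH hg.1 hg.2 ((defH.pair hd).mem hsH fun c a => by
    rw [pr, e1 c (baseH c a), ← (hV c (baseH c a)).2, ← ev_pr]
    exact ev_mem_gen (hV c (baseH c a)).1)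
  have e0 : e' 0 = e 0 := by simp [e1, h0]
  have e2 : gen e' Qc = gen e Qc := le_antisymm
    (gen_le.2 fun c a => e1 c (lt c a) ▸ ev_mem_gen (h2 c a).1) (gen_le.2 fun c a => by
      obtain ⟨d, b1, b2⟩ := (h2 c a).2
      simpa [e1 d (lt d b1), b2] using mem_gen (e := e') b1)
  exact ⟨e', ⟨by rw [e0, e2]; exact h.lx, by rw [e2, h.cq], hd, fun c _ => hi.ivOK isoH ivH c,
    qa_of hi.eqs qaH, fun c a => by
      simpa using (hi (pw 3 [c]) []).1 ((isoH _ _).2 (by simpa using t3H c a)),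
    by rw [e0, h.card]⟩, hi, e0, by simp [e1, h1]⟩

theorem exists_iso (hp : e 9 * e 11 * (e 9 * e 11) = 1) :
    ∃ e' : ℕ → G, Pre e' ∧ Iso runH e' ∧ e' 0 = e 0 ∧ e' 1 = e 1 := by
  rcases h.eq (u := []) (v := W15) (by decide +kernel) with a | a
  · have hV : ∀ c < 23, (∀ d ∈ nth [] VT c, d ∈ HL) ∧ ev mT (nth [] VT c) = mH c := fun c hc => by
      have : (∀ d ∈ nth [] VT c, d ∈ HL) ∧ eqW run (mapL σT (nth [] VT c)) [c] = true := by
        revert c; decide +kernel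
      exact ⟨this.1, (ev_map σT _).trans ((iso.eqW.1 this.2).trans
        (by simp [tr_lt m (show c < 60 by omega)]))⟩
    refine h.iso_of (h.gr hp isoT (by decide +kernel) (by decide +kernel) ?_
      (gen_le.2 fun c a => (hV c ((ltH c).1 a)).2 ▸ ev_mem_gen (hV c ((ltH c).1 a)).1)) hV rfl rfl
      (by decide +kernel)
    rw [ev_pr, a, isoT.eqW.1 (by decide +kernel : eqW runT W15 [] = true)]
    exact one_mem _
  · refine h.iso_of (V := fun c => [c]) (h.gr hp isoH qaH (by decide +kernel) ?_ le_rfl)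
      (fun c hc => ⟨by simpa using (ltH c).2 hc, by simp⟩) rfl rfl fun c a => ⟨by simpa, c, a, rfl⟩
    rw [ev_pr, a, isoH.eqW.1 (by decide +kernel : eqW runH W15 [0] = true)]
    simpa [pr] using mem_gen (e := pr mH e) (c := 0) (l := Qc) (by decide)

end Pre

end H15.Co
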