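import Mathlib
import Cfsg.Agent.H29.Ext

set_option autoImplicit false
set_option maxRecDepth 100000
set_option Elab.async false
set_option linter.all false

namespace H15.CoP

open H29

noncomputable def n2 : Net := ben 4 [(nat_lit 0x110c),
 (nat_lit 0x12),
 (nat_lit 0x788),
 (nat_lit 0x8)]
noncomputable def t2 : List ℕ := [(nat_lit 0x5670),
 (nat_lit 0x28),
 (nat_lit 0x0),
 (nat_lit 0x50),
 (nat_lit 0x1200)]
noncomputable def d2 : ℕ := (nat_lit 0x2804)
noncomputable def n4 : Net := ben 4 [(nat_lit 0x3000),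
 (nat_lit 0x1b1a),
 (nat_lit 0x28a),
 (nat_lit 0x8)]
noncomputable def t4 : List ℕ := [(nat_lit 0x282),
 (nat_lit 0x1afc),
 (nat_lit 0x280),
 (nat_lit 0x28),
 (nat_lit 0x1800)]
noncomputable def d4 : ℕ := (nat_lit 0x4400)
noncomputable def n9 : Net := ben 4 [(nat_lit 0x0),
 (nat_lit 0x0),
 (nat_lit 0x0),
 (nat_lit 0x0)]
noncomputable def t9 : List ℕ := [(nat_lit 0x41c6),
 (nat_lit 0x61dc),
 (nat_lit 0x1e20),
 (nat_lit 0x6800),
 (nat_lit 0x0)]
noncomputable def d9 : ℕ := (nat_lit 0x0)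
noncomputable def n10 : Net := n9.rev
noncomputable def t10 : List ℕ := mapPull n10 t9
noncomputable def d10 : ℕ := (nat_lit 0x0)
noncomputable def n15 : Net := ben 4 [(nat_lit 0x0),
 (nat_lit 0x0),
 (nat_lit 0x0),
 (nat_lit 0x0)]
noncomputable def t15 : List ℕ := [(nat_lit 0x32c),
 (nat_lit 0x7c86),
 (nat_lit 0x4cac),
 (nat_lit 0x4b50),
 (nat_lit 0x3000)]
noncomputable def d15 : ℕ := (nat_lit 0x0)
noncomputable def n16 : Net := n15.rev
noncomputable def t16 : List ℕ := mapPull n16 t15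
noncomputable def d16 : ℕ := (nat_lit 0x0)
noncomputable def n28 : Net := ben 4 [(nat_lit 0x1d0),
 (nat_lit 0x1a00),
 (nat_lit 0x4608),
 (nat_lit 0x40)]
noncomputable def t28 : List ℕ := [(nat_lit 0x4b2),
 (nat_lit 0x2cfc),
 (nat_lit 0x48),
 (nat_lit 0x2c80),
 (nat_lit 0x5000)]
noncomputable def d28 : ℕ := (nat_lit 0x200)
noncomputable def n45 : Net := ben 4 [(nat_lit 0x3014),
 (nat_lit 0x4ae8),
 (nat_lit 0x30c),
 (nat_lit 0x20)]
noncomputable def t45 : List ℕ := [(nat_lit 0x2d06),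
 (nat_lit 0x600),
 (nat_lit 0x400),
 (nat_lit 0x400),
 (nat_lit 0x6b80)]
noncomputable def d45 : ℕ := (nat_lit 0x1078)
noncomputable def n46 : Net := n45.rev
noncomputable def t46 : List ℕ := mapPull n46 t45
noncomputable def d46 : ℕ := (nat_lit 0x0)
noncomputable def n52 : Net := ben 4 [(nat_lit 0x1d00),
 (nat_lit 0xab0),
 (nat_lit 0x2608),
 (nat_lit 0x20)]
noncomputable def t52 : List ℕ := [(nat_lit 0x4cd2),
 (nat_lit 0x3078),
 (nat_lit 0x50),
 (nat_lit 0x7ac),
 (nat_lit 0x7800)]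
noncomputable def d52 : ℕ := (nat_lit 0x0)
noncomputable def n53 : Net := ben 4 [(nat_lit 0x1d00),
 (nat_lit 0xab0),
 (nat_lit 0x2608),
 (nat_lit 0x20)]
noncomputable def t53 : List ℕ := [(nat_lit 0x7cd6),
 (nat_lit 0x54),
 (nat_lit 0x4cfc),
 (nat_lit 0x4b00),
 (nat_lit 0x3000)]
noncomputable def d53 : ℕ := (nat_lit 0x0)
noncomputable def n60 : Net := ben 4 [(nat_lit 0x1331),
 (nat_lit 0x110),
 (nat_lit 0x7708),
 (nat_lit 0x70)]
noncomputable def t60 : List ℕ := [(nat_lit 0x7a44),
 (nat_lit 0xa40),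
 (nat_lit 0x4420),
 (nat_lit 0x0),
 (nat_lit 0x3000)]
noncomputable def d60 : ℕ := (nat_lit 0x182)
def ivl : List ℕ := [0, 1, 2, 3, 4, 5, 6, 7, 8, 10, 9, 12, 11, 14, 13, 16, 15, 18, 17, 20, 19, 22, 21, 24, 23, 26, 25, 27, 28, 29, 30, 31, 32, 33, 34, 35, 36, 37, 38, 39, 40, 41, 42, 43, 44, 46, 45, 47, 48, 49, 50, 51, 52, 53, 54, 55, 56, 57, 58, 59, 60]
def cols : List ℕ := [4, 28, 9, 10, 15, 16, 52, 53, 2, 45, 46, 60]
def hcols : List ℕ := [4, 28, 9, 10, 15, 16, 52, 53, 2, 45, 46]
def G0 : List (List ℕ) := [[45, 45, 45],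
 [9, 4, 10, 4],
 [52, 4, 52, 4],
 [53, 28, 53, 28],
 [53, 9, 53, 15],
 [2, 4, 2, 4],
 [45, 9, 46, 10],
 [45, 2, 46, 4],
 [60, 4, 60, 28],
 [60, 9, 60, 10],
 [60, 52, 60, 52],
 [60, 53, 60, 53],
 [52, 45, 28, 52, 45, 28],
 [53, 45, 28, 53, 45, 28],
 [60, 2, 60, 2, 60, 2],
 [28, 9, 15, 2, 45, 28, 45],
 [60, 45, 28, 46, 60, 45, 28, 46, 60, 45, 28, 46, 60, 45, 28, 46, 60, 45, 28, 46],
 [28, 60, 46, 60, 46, 28, 60, 46, 60, 46, 28, 60, 46, 60, 46, 28, 60, 46, 60, 46, 28, 60, 46, 60, 46]]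
def R0 : List (List ℕ) := G0
def w0 : List ℕ := [53, 46, 53, 28, 46, 28]
def R1 : List (List ℕ) := R0 ++ [w0]
def w1 : List ℕ := [9, 2, 16, 10, 28, 10, 28, 9, 15, 2]
def R2 : List (List ℕ) := R1 ++ [w1]
def w2 : List ℕ := [28, 2, 60, 2, 60, 4, 2, 60]
def R3 : List (List ℕ) := R2 ++ [w2]
def w3 : List ℕ := [53, 2, 16, 10, 53, 28, 9, 15, 2, 9, 2, 16, 10, 53, 45, 10, 46, 53, 9, 15, 2, 4, 28]
def R4 : List (List ℕ) := R3 ++ [w3]
def w4 : List ℕ := [46, 28, 60, 46, 60, 46, 28, 60, 46, 60, 28, 9, 15, 60, 2, 60, 4, 2, 60, 9, 15, 2, 60, 45, 28, 46, 60, 45, 28, 46, 60, 45, 28, 46, 60, 2, 16, 10, 60, 2, 4, 2, 4, 2, 16, 10, 53, 45, 9, 46, 53, 9, 15, 2, 60, 2, 4, 60, 2, 60, 16, 10, 28, 10, 28, 9, 15, 60, 2, 60, 4, 2, 60, 2, 16, 10, 2, 16, 10, 60, 2, 4, 60, 2, 60, 16, 10, 28, 9, 28, 9, 15, 60, 2, 60, 4, 2, 60, 9, 15, 2, 53, 28, 10, 28, 53, 60, 45, 28, 46, 60, 45, 28, 46, 60, 45, 28, 46, 60, 2, 16, 10, 60, 2, 4, 60, 2, 60, 16, 10, 28, 53, 9, 15, 60, 2, 60, 4, 2, 60, 9, 15,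 2, 60, 45, 28, 46, 60, 45, 28, 46, 60, 45, 28, 46, 60, 2, 16, 10, 60, 2, 4, 60, 2, 60, 16, 10, 53, 28, 60, 46, 60]
def R5 : List (List ℕ) := R4 ++ [w4]
theorem hii : ∀ c, ivOf ivl (ivOf ivl c) = c := ivOf_ivOf (by decide +kernel)
noncomputable def pr0 : List (ℕ × ℕ) := [(33, (nat_lit 0x70000040000010000070000020000070000e000000100000700000200000700000a0000020000090000220001680001a80000e000016800000700006d0000070001a80000010000070000e00000010000070001a800000700000100000700001d))]
theorem p0 : chkProg 6 (ivOf ivl) R0 pr0 [(0, w0)] = true := by decide +kernel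
noncomputable def pr1 : List (ℕ × ℕ) := [(64, (nat_lit 0x700000400000100000700000200007a00000700006a00001900006900000200000700002200000100002100005a00005100005900000700000200001200000900001100000700000a00005900000900002200005000002100000700004d00000700016800000700000100003a0000210000390000070000020000110000e000005000008000001000000700000100017000000700000500000700007d00000700004500000700000d0000070001e0000001000007000168000007000035))]
theorem p1 : chkProg 6 (ivOf ivl) R1 pr1 [(0, w1)] = true := by decide +kernel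
noncomputable def pr2 : List (ℕ × ℕ) := [(24, (nat_lit 0x700000400000100000700000100000a0001e00000070000450000070000020001e00000100001e000001000001100000700002000000100001000000700002d000007000075))]
theorem p2 : chkProg 6 (ivOf ivl) R2 pr2 [(0, w2)] = true := by decide +kernel
noncomputable def pr3 : List (ℕ × ℕ) := [(67, (nat_lit 0x70000040000010000070000290000320000020000e000000700005900000200000700000200002000006900000700000100002900003a00005a00005200005900000700001a00000100001900000900005000000a00000700002500000700000a00000200000900002200002a0000e00001a80001700000070000950000070001680000070000480000010000070000350000070000020000110000e000005000008000001000000700000100017000000700000500000700007d00000700016800000700003d))]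
theorem p3 : chkProg 6 (ivOf ivl) R3 pr3 [(0, w3)] = true := by decide +kernel
noncomputable def pr4 : List (ℕ × ℕ) := [(200, (nat_lit 0xe00001e00001680001e00001680000e00001e000008100000700008d0000070000c20000010000c100008200000900000700003d00000700000100003200005a0000c20000590000e000006100000700003a00000100003900001a00000900001900000700002500000700000200002100000100013a0000500001390000070001a000002100000700012a0000e00001a800001a00000100001900000700006d00000700000a0000010000090000420000120000410000070000350000070000e000001100000700003a0000780000480000e00000480000e000005000008000003900006a00000100006900000700009d0000070001680000070000390001700000070000020001e00001700000e00001680001e00001700000e00001680001e00001700000e00001680001e000000100004200003900004100000700000200004200002900004100000700003a0000410000390000010000500000800000100000070000020001e00000100001e00000200000100001e000001100000700002000000100001000000700002d0000070000a500000700000500000700008500000700016800000100000700002000000700007d0000070001e00000010000070000e00000010000070001700000010000070001e00000010000070001700000010000070001e00000010000070000e00000010000070001700000010000070001e00000010000070001700000010000070001e00000010000070000e00000010000070001700000010000070001e000000100000700016800000700005d0000070001680000070000e00000010001a0000007000065)),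
 (161, (nat_lit 0x70000040000010000070000020000070000020000070000010002320000070000e00001e00001680001e00001680000e00001e00001680001e000008a0000990001420000010000110000620000b90000610000b10000690000710000e00001e00001680001e000022900000700015a0001e00000100001e00000100000010000070000750000070001610000020000070000020000200000a90000070000010000120000320001ea0001720001e900000700001a0000b100001900000100005000000200000700001200004a0000110000220001020000e00001a800017000000700001a0000110000020000920000da0000e90000d90000c900009100000100001200001900000700008a00010a0001110000020001510000010000120000090000070001680000070001ba0000b90001b90000e20000500000e10000070000da0001390000e00000500000800000100000070000e00000070000190001090000070000020000c90000010001aa0001a10001a900000700010a00000200010900001a0000090000e00001a80000070000950000070000020000070000e00000500000800000c900000200010a00010100010900000700000a0000010000090000120000220000a10000070000450000070001700000f1000007000168000001))]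
theorem p4 : chkProg 6 (ivOf ivl) R4 pr4 [(0, w4)] = true := by decide +kernel
theorem der : Derives (ivOf ivl) R0 R5 := (((((Derives.refl _ _).prog hii p0).prog hii p1).prog hii p2).prog hii p3).prog hii p4
noncomputable def nl : List Net := [Net.nil, Net.nil, n2, Net.nil, n4, Net.nil, Net.nil, Net.nil, Net.nil, n9, n10, Net.nil, Net.nil, Net.nil, Net.nil, n15, n16, Net.nil, Net.nil, Net.nil, Net.nil, Net.nil, Net.nil, Net.nil, Net.nil, Net.nil, Net.nil, Net.nil, n28, Net.nil, Net.nil, Net.nil, Net.nil, Net.nil, Net.nil, Net.nil, Net.nil, Net.nil, Net.nil, Net.nil, Net.nil, Net.nil, Net.nil, Net.nil, Net.nil, n45, n46, Net.nil, Net.nil, Net.nil, Net.nil, Net.nil, n52, n53, Net.nil, Net.nil, Net.nil, Net.nil, Net.nil, Net.nil, n60]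
noncomputable def T : TCData := ⟨15, 15, 4, 5, nth Net.nil nl, ivOf ivl, cols, hcols, R5,
  nth [] [[], [], t2, [], t4, [], [], [], [], t9, t10, [], [], [], [], t15, t16, [], [], [], [], [], [], [], [], [], [], [], t28, [], [], [], [], [], [], [], [], [], [], [], [], [], [], [], [], t45, t46, [], [], [], [], [], t52, t53, [], [], [], [], [], [], t60], nth 0 [0, 0, d2, 0, d4, 0, 0, 0, 0, d9, d10, 0, 0, 0, 0, d15, d16, 0, 0, 0, 0, 0, 0, 0, 0, 0, 0, 0, d28, 0, 0, 0, 0, 0, 0, 0, 0, 0, 0, 0, 0, 0, 0, 0, 0, d45, d46, 0, 0, 0, 0, 0, d52, d53, 0, 0, 0, 0, 0, 0, d60]⟩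
theorem hn : NetsOK 15 (nth Net.nil nl) := netsOK_of_all (by decide +kernel)
theorem hiv : IvOK (sg (nth Net.nil nl)) (ivOf ivl) :=
  ivOK_of_chk (k := 4) hn (by decide) (n := 61) (by decide) (by decide) (allN_true.1 (by decide +kernel))
theorem hb : T.Basic := TCData.basic_of_chk hn hiv (by decide +kernel)
theorem hG0 : ∀ r ∈ G0, ev (sg (nth Net.nil nl)) r = 1 :=
  rels_of_chk (k := 4) hn (by decide) hiv (allN_true.1 (by decide +kernel))
noncomputable def s4 : List TCData.Step := [.pts 5 1 0 2 [2],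
 .pts 5 1 0 18 [11],
 .pts 7 3 0 2 [4],
 .pts 7 3 0 10 [3],
 .pts 8 1 0 1 [1],
 .pts 8 1 0 7 [7]]
noncomputable def s28 : List TCData.Step := [.pts 8 3 0 1 [1],
 .pts 15 0 0 16 [12],
 .pts 15 5 0 3 [5],
 .pts 15 5 0 6 [6],
 .pts 20 0 0 2 [2],
 .pts 20 0 0 10 [11],
 .pts 20 0 0 11 [7]]
noncomputable def s9 : List TCData.Step := [.pts 6 3 0 2 [4],
 .pts 6 3 0 4 [5]]
noncomputable def s10 : List TCData.Step := [.pts 1 0 0 3 [6],
 .pts 1 0 0 4 [10],
 .pts 1 0 0 11 [14],
 .pts 6 1 0 2 [3],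
 .pts 6 1 0 4 [12],
 .pts 9 1 0 1 [1],
 .pts 9 1 0 3 [7, 8],
 .pts 9 1 0 4 [9],
 .pts 19 0 0 3 [2],
 .pts 19 0 0 10 [13],
 .pts 19 0 0 12 [11]]
noncomputable def s15 : List TCData.Step := []
noncomputable def s16 : List TCData.Step := [.all 4 3 0,
 .pts 15 2 0 7 [2]]
noncomputable def s52 : List TCData.Step := [.pts 2 0 0 9 [7],
 .pts 10 1 0 1 [1],
 .pts 10 1 0 8 [8],
 .pts 10 1 0 10 [3],
 .pts 12 0 0 7 [6],
 .pts 12 0 0 8 [2],
 .pts 12 0 0 17 [14],
 .pts 12 0 0 18 [12]]
noncomputable def s53 : List TCData.Step := [.pts 3 0 0 17 [12],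
 .pts 11 1 0 1 [1],
 .pts 11 1 0 5 [7],
 .pts 11 1 0 8 [8],
 .pts 18 0 0 4 [5],
 .pts 18 0 0 7 [4],
 .pts 18 2 0 7 [2],
 .pts 21 0 0 13 [11]]
noncomputable def s2 : List TCData.Step := [.pts 5 0 0 1 [10],
 .pts 7 1 0 2 [3],
 .pts 7 1 0 3 [5],
 .pts 15 3 0 9 [4],
 .pts 20 1 0 17 [12]]
noncomputable def s45 : List TCData.Step := [.pts 18 4 0 17 [8],
 .pts 22 0 0 15 [10]]
noncomputable def s46 : List TCData.Step := [.pts 0 0 0 1 [4, 6],
 .pts 0 0 0 17 [12],
 .pts 7 0 0 16 [8],
 .pts 7 0 0 18 [9],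
 .pts 15 4 0 16 [11],
 .pts 15 6 0 17 [14]]
noncomputable def s60 : List TCData.Step := [.pts 8 0 0 3 [9],
 .pts 8 0 0 4 [5],
 .pts 8 0 0 17 [12],
 .pts 14 0 0 1 [2],
 .pts 14 0 0 3 [11],
 .pts 14 0 0 5 [14]]
theorem hR0 : ∀ r ∈ R0, ev (sg (nth Net.nil nl)) r = 1 := hG0
theorem col4 : T.ColOK 4 := TCData.colOK_of_chk (U := (T.stepsMask 4 s4 (T.mask0 4))) (V := (T.stepsMask 4 s4 (T.mask0 4))) hb (TCData.cov_stepsMask hb (by decide) s4 _ (T.cov_mask0 4)) (TCData.cov_stepsMask hb (by decide) s4 _ (T.cov_mask0 4)) (by decide +kernel)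
theorem col28 : T.ColOK 28 := TCData.colOK_of_chk (U := (T.stepsMask 28 s28 (T.mask0 28))) (V := (T.stepsMask 28 s28 (T.mask0 28))) hb (TCData.cov_stepsMask hb (by decide) s28 _ (T.cov_mask0 28)) (TCData.cov_stepsMask hb (by decide) s28 _ (T.cov_mask0 28)) (by decide +kernel)
theorem col9 : T.ColOK 9 := TCData.colOK_of_chk (U := (T.stepsMask 9 s9 (T.mask0 9))) (V := (T.stepsMask 10 s10 (T.mask0 10))) hb (TCData.cov_stepsMask hb (by decide) s9 _ (T.cov_mask0 9)) (TCData.cov_stepsMask hb (by decide) s10 _ (T.cov_mask0 10)) (by decide +kernel)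
theorem col10 : T.ColOK 10 := TCData.colOK_of_chk (U := (T.stepsMask 10 s10 (T.mask0 10))) (V := (T.stepsMask 9 s9 (T.mask0 9))) hb (TCData.cov_stepsMask hb (by decide) s10 _ (T.cov_mask0 10)) (TCData.cov_stepsMask hb (by decide) s9 _ (T.cov_mask0 9)) (by decide +kernel)
theorem col15 : T.ColOK 15 := TCData.colOK_of_chk (U := (T.stepsMask 15 s15 (T.mask0 15))) (V := (T.stepsMask 16 s16 (T.mask0 16))) hb (TCData.cov_stepsMask hb (by decide) s15 _ (T.cov_mask0 15)) (TCData.cov_stepsMask hb (by decide) s16 _ (T.cov_mask0 16)) (by decide +kernel)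
theorem col16 : T.ColOK 16 := TCData.colOK_of_chk (U := (T.stepsMask 16 s16 (T.mask0 16))) (V := (T.stepsMask 15 s15 (T.mask0 15))) hb (TCData.cov_stepsMask hb (by decide) s16 _ (T.cov_mask0 16)) (TCData.cov_stepsMask hb (by decide) s15 _ (T.cov_mask0 15)) (by decide +kernel)
theorem col52 : T.ColOK 52 := TCData.colOK_of_chk (U := (T.stepsMask 52 s52 (T.mask0 52))) (V := (T.stepsMask 52 s52 (T.mask0 52))) hb (TCData.cov_stepsMask hb (by decide) s52 _ (T.cov_mask0 52)) (TCData.cov_stepsMask hb (by decide) s52 _ (T.cov_mask0 52)) (by decide +kernel)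
theorem col53 : T.ColOK 53 := TCData.colOK_of_chk (U := (T.stepsMask 53 s53 (T.mask0 53))) (V := (T.stepsMask 53 s53 (T.mask0 53))) hb (TCData.cov_stepsMask hb (by decide) s53 _ (T.cov_mask0 53)) (TCData.cov_stepsMask hb (by decide) s53 _ (T.cov_mask0 53)) (by decide +kernel)
theorem col2 : T.ColOK 2 := TCData.colOK_of_chk (U := (T.stepsMask 2 s2 (T.mask0 2))) (V := (T.stepsMask 2 s2 (T.mask0 2))) hb (TCData.cov_stepsMask hb (by decide) s2 _ (T.cov_mask0 2)) (TCData.cov_stepsMask hb (by decide) s2 _ (T.cov_mask0 2)) (by decide +kernel)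
theorem col45 : T.ColOK 45 := TCData.colOK_of_chk (U := (T.stepsMask 45 s45 (T.mask0 45))) (V := (T.stepsMask 46 s46 (T.mask0 46))) hb (TCData.cov_stepsMask hb (by decide) s45 _ (T.cov_mask0 45)) (TCData.cov_stepsMask hb (by decide) s46 _ (T.cov_mask0 46)) (by decide +kernel)
theorem col46 : T.ColOK 46 := TCData.colOK_of_chk (U := (T.stepsMask 46 s46 (T.mask0 46))) (V := (T.stepsMask 45 s45 (T.mask0 45))) hb (TCData.cov_stepsMask hb (by decide) s46 _ (T.cov_mask0 46)) (TCData.cov_stepsMask hb (by decide) s45 _ (T.cov_mask0 45)) (by decide +kernel)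
theorem col60 : T.ColOK 60 := TCData.colOK_of_chk (U := (T.stepsMask 60 s60 (T.mask0 60))) (V := (T.stepsMask 60 s60 (T.mask0 60))) hb (TCData.cov_stepsMask hb (by decide) s60 _ (T.cov_mask0 60)) (TCData.cov_stepsMask hb (by decide) s60 _ (T.cov_mask0 60)) (by decide +kernel)
theorem ok : T.OK := ⟨hb, TCData.treeOK_of_chk hn (by decide +kernel), (List.forall_mem_cons.2 ⟨col4, (List.forall_mem_cons.2 ⟨col28, (List.forall_mem_cons.2 ⟨col9, (List.forall_mem_cons.2 ⟨col10, (List.forall_mem_cons.2 ⟨col15, (List.forall_mem_cons.2 ⟨col16, (List.forall_mem_cons.2 ⟨col52, (List.forall_mem_cons.2 ⟨col53, (List.forall_mem_cons.2 ⟨col2, (List.forall_mem_cons.2 ⟨col45, (List.forall_mem_cons.2 ⟨col46, (List.forall_mem_cons.2 ⟨col60, (fun _ h => absurd h List.not_mem_nil)⟩)⟩)⟩)⟩)⟩)⟩)⟩)⟩)⟩)⟩)⟩)⟩), der _ _ hiv hR0⟩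
theorem bd {G : Type} [Group G] {e : ℕ → G} (h1 : IvOK e (ivOf ivl)) (h2 : ∀ r ∈ R0, ev e r = 1)
    {m : ℕ} (h : Bd (gen e hcols) m) : Bd (gen e cols) (15 * m) := ok.bd h1 (der G e h1 h2) h
theorem cm {G : Type} [Group G] {e : ℕ → G} (h1 : IvOK e (ivOf ivl)) (h2 : ∀ r ∈ R0, ev e r = 1)
    (h3 : gen e cols = ⊤) {ρ : G →* Equiv.Perm ℕ} (h4 : ∀ c, ρ (e c) = sg (nth Net.nil nl) c) :
    CosetModel ρ (gen e hcols) 15 := ok.cosetModel h1 (der G e h1 h2) h3 fun c _ => h4 c

end H15.CoP
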