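import Mathlib
import Cfsg.Agent.H15.CoA
import Cfsg.Agent.H15.CoD1
import Cfsg.Agent.H15.CoV
import Cfsg.Agent.H15.CoP
import Cfsg.Agent.H15.CoK

/-!
# Three further local subgroups
-/

set_option autoImplicit false
set_option maxRecDepth 100000
set_option Elab.async false
set_option linter.unusedSectionVars false

namespace H15.Co

open H29 H24 Subgroup KM XP

variable {G : Type*} [Group G] [Finite G] {e : ℕ → G}

noncomputable def pairE (R : List (List ℕ × List ℕ)) (u v : List ℕ) : Bool :=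
  anyL R fun r => and2 (eqL r.1 u) (eqL r.2 v)

theorem eqs_pair {X : Type*} [Group X] {x : ℕ → X} {R : List (List ℕ × List ℕ)}
    (h : ∀ r ∈ R, ev x r.1 = ev x r.2) : Eqs (pairE R) x := fun u v a => by
  obtain ⟨r, h1, h2⟩ := anyL_true.1 a
  rw [and2_true] at h2
  rw [← eqL_true h2.1, ← eqL_true h2.2, h r h1]

theorem eqs_pr {R : List (List ℕ × List ℕ)} (h1 : (allL R fun r => eqW run r.1 r.2) = true)
    (h : ∀ r ∈ R, ev e r.1 = ev e r.2) : Eqs (pairE R) (pr m e) := eqs_pair fun r hr => by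
  rw [ev_pr, ev_pr, h r hr, iso.eqW.1 (allL_true.1 h1 r hr)]

def kH : ℕ := 1152921504606846975

theorem kH_lt {c : ℕ} (h : kH.testBit c = true) : c < 60 := by
  simpa using (Nat.testBit_two_pow_sub_one 60 c).symm.trans h

theorem gen_tr {X : Type*} [Group X] (e : ℕ → X) {l : List ℕ} (h : okW kH l = true) :
    gen (tr e) l = gen e l := gen_congr fun c hc => tr_lt _ (kH_lt (okW_true.1 h c hc))

theorem cenH {l : List ℕ} (h : okW kH l = true) : gen m l ≤ C{m 0} := gen_le.2 fun c hc =>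
  iso.cent1 (allN_true.1 (by decide +kernel : (allN 60 fun c => eqW run [c, 0] [0, c]) = true) c
    (kH_lt (okW_true.1 h c hc)))

def Y1 : List ℕ := [200, 11, 200, 12, 200, 11, 200, 12]
def Y2 : List ℕ := [200, 12, 14, 200, 13, 11, 16, 12, 18, 14, 200, 13, 17, 11, 15]

theorem yfilt : allQ R14 (fun x => imp2 (allL [9, 15, 17] fun c => allL B6 fun p =>
    Nat.beq (actW F (app x [c]) p) (actW F (c :: x) p))
      (imp2 (and2 (eqW runH (sb Y1 x []) [1, 0]) (eqW runH (sb Y2 x []) [])) (eqL x [27]))) = true := by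
  decide +kernel

/-- the letters, with the relations for `u` -/
structure B1 (e : ℕ → G) : Prop where
  pre : Pre (tr e)
  iso : Iso runH (tr e)
  df : Def e defs
  ru : ∀ r ∈ RU, ev e r.1 = ev e r.2

theorem Pre.exists_B1 (h : Pre e) {g : G} (hg : g * e 0 * g⁻¹ = e 1) :
    ∃ e' : ℕ → G, B1 e' ∧ e' 0 = e 0 := by
  obtain ⟨e', h', hi, e0, e1⟩ := h.exists_iso (h.key hg).1
  rw [← e0, ← e1] at hg
  rw [← e0]
  clear h e0 e1
  obtain ⟨-, u, u1, u2, u3, u4, u5⟩ := h'.key hg
  have y2 : u * e' 3 * u⁻¹ = e' 27 := by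
    obtain ⟨x, -, a1, a2⟩ := (hi.eqs.wp (b := []) (I := IR) (by decide +kernel)).allQ0 yfilt
      (show u * e' 3 * u⁻¹ ∈ gen e' R14 by
        simpa using mul_mem (u5 _ (h'.cen 3) (h'.cs1 (by decide +kernel))) (mem_gen (c := 3) (by decide)))
    simp only [imp2_true, allL_true, and2_true, H29.beq_true, hi.eqW] at a2
    have k : ∀ w : List ℕ, (∀ c ∈ w, c ≠ 201 ∧ (c = 200 ∨ c < 200 ∧
        c ∈ [9, 10, 11, 12, 13, 14, 15, 16, 17, 18])) →
        ev e' (sb w x []) = u * ev e' (sb w [3] []) * u⁻¹ := fun w hw => by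
      rw [ev_sb0 _ fun c a => (hw c a).1, ev_sb0 _ fun c a => (hw c a).1, a1,
        ev_up_conj fun c a => (hw c a).2.imp_right fun b => ⟨b.1, u2 c b.2⟩]
      simp
    refine a1.symm.trans ((congrArg _ (eqL_true (a2 (fun c hc p hp => h'.act_eq ?_
      (by revert p; decide)) ⟨?_, ?_⟩))).trans (by simp))
    · have a4 := u2 c (by revert c; decide)
      have a3 : e' 3 ∈ C{e' c} := hi.cent1 (by clear a4; revert c; decide +kernel)
      simpa [a1] using mem_C1.1 (mul_mem (mul_mem a4 a3) (inv_mem a4))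
    · rw [k _ (by decide), hi.eqW.1 (by decide +kernel : eqW runH (sb Y1 [3] []) [0] = true)]
      simpa using u4
    · rw [k _ (by decide), hi.eqW.1 (by decide +kernel : eqW runH (sb Y2 [3] []) [] = true)]
      simp
  let b : ℕ → G := fun c => if c = 60 then u else e' c
  have e1 : ∀ c < 60, slp b defs c = e' c := slp_agree hs
    (fun c hc => by rw [h'.df c, (defs_H hc).1]) fun c hc => if_neg (by omega)
  have e2 : tr (slp b defs) = e' := funext fun c => by
    by_cases hc : c < 60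
    · rw [tr_lt _ hc, e1 c hc]
    · rw [tr_ge _ (not_lt.1 hc), h'.df c, nth_default _ (show defsH.length ≤ c from not_lt.1 hc)]; rfl
  have e3 : slp b defs 60 = u := slp_base _ (by decide +kernel)
  refine ⟨slp b defs, ⟨e2.symm ▸ h', e2.symm ▸ hi, slp_def _ hs, ?_⟩, e1 0 (by norm_num)⟩
  simp only [List.forall_mem_cons] at u2
  simp (disch := norm_num) only [RU, List.forall_mem_cons, ev_cons, ev_nil, mul_one, e3, e1]
  refine ⟨u1, ?_, mem_C1.1 u3, mul_inv_eq_iff_eq_mul.1 y2, ?_, mem_C1.1 u2.1, mem_C1.1 u2.2.1,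
    mem_C1.1 u2.2.2.1, mem_C1.1 u2.2.2.2.1, mem_C1.1 u2.2.2.2.2.1, mem_C1.1 u2.2.2.2.2.2.1,
    mem_C1.1 u2.2.2.2.2.2.2.1, mem_C1.1 u2.2.2.2.2.2.2.2.1, mem_C1.1 u2.2.2.2.2.2.2.2.2.1,
    mem_C1.1 u2.2.2.2.2.2.2.2.2.2.1, by simp⟩
  · rw [mul_inv_eq_iff_eq_mul.1 u4, mem_C1.1 (h'.cen 1), mul_assoc]
  · rw [← y2, ← mul_assoc, ← mul_assoc, u1, one_mul, inv_eq_of_mul_eq_one_right u1]

noncomputable def okH : List ℕ → List ℕ → Bool := orE (chkE run kH) (defE defs)
noncomputable def okN : List ℕ → List ℕ → Bool := orE okH (chkE run kN)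
noncomputable def okP : List ℕ → List ℕ → Bool := orE okN (chkE run kP)

namespace B1

variable (h : B1 e)
include h

theorem trH : TrM run kH e := Co.iso.trM' isoH h.iso fun _ hc => ⟨tr_lt _ (kH_lt hc), tr_lt _ (kH_lt hc)⟩

theorem eH : Eqs okH (pr m e) := (h.trH.pair Co.iso).eqs.or (defm.pair h.df).eqs

theorem grH {l : List ℕ} (hl : okW kH l = true) : Gr (gen (pr m e) l) ∧ CoGr (gen (pr m e) l) := by
  rw [← gen_congr (e := pr (tr m) (tr e)) (e' := pr m e) fun c hc => Prod.ext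
    (tr_lt m (kH_lt (okW_true.1 hl c hc))) (tr_lt e (kH_lt (okW_true.1 hl c hc)))]
  exact isoH.gr h.iso ivH l

theorem trE : TrM run kE e := by
  have a1 := eqs_pr (by decide +kernel) h.ru
  refine trM_of_gr Co.iso (D := gen (pr m e) (60 :: Ec)) (fun d hd h1 => ?_)
    (h.eH.clo (l := clE) (by decide +kernel))
  rw [gen_cons] at hd
  rcases two_cosets (by
      rw [show pr m e 60 * pr m e 60 = 1 by simpa using a1 [60, 60] [] (by decide +kernel)]
      exact one_mem _)
    (fun k => conj_mem (a1.norm (cs := [60]) (I := IE) (by decide +kernel) 60 (by simp))) hd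
    with a | a
  · exact (h.grH (by decide +kernel)).1 d a h1
  · refine absurd ?_ (Co.iso.ne (u := [60, 0]) (v := [0, 60]) (by decide +kernel))
    simpa [h1, mem_C1] using cenH (by decide +kernel) (fst_mem a)

theorem cent {ok : List ℕ → List ℕ → Bool} (hok : Eqs ok (pr m e)) {cs U ρ B V : List ℕ}
    {I : List (List ℕ)} (hs : C{tr e 0} ⊓ fixS (tr e) Qc B ≤ gen (tr e) V)
    (h1 : chkNI ok cs U I = true) (h2 : and2 (okW kH U) (and2 (okW kH V) (eqW run ρ [])) = true)
    (h3 : (∀ c ∈ ρ, c ∈ cs) ∧ 0 ∈ U ∧ ∀ f ∈ B, ∃ d ∈ Qc, d ∈ U ∧ bit d = f) : ev e ρ ∈ gen e V := by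
  simp only [and2_true] at h2
  have a1 := (h.grH h2.1).1.cent (d := ev (pr m e) ρ) (ev_mem fun c a => hok.norm h1 c (h3.1 c a))
    (by simpa using Co.iso.eqW.1 h2.2.2)
  rw [map_snd, ev_pr_snd, ← gen_tr e h2.1] at a1
  rw [← gen_tr e h2.2.1]
  refine hs ⟨C_le_C1 (mem_gen h3.2.1) a1, mem_fixS.2 fun f hf => ?_⟩
  obtain ⟨d, b1, b2, rfl⟩ := h3.2.2 f hf
  rw [qv_bit b1]
  exact C_le_C1 (mem_gen b2) a1

theorem kill {ok : List ℕ → List ℕ → Bool} (hok : Eqs ok (pr m e)) {cs V w : List ℕ}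
    {I : List (List ℕ)} {n : ℕ} (h1 : chkNI ok cs V I = true)
    (h2 : and2 (okW kH V) (and2 (chkPC run iv V) (allP iv V fun x _ =>
      imp2 (eqW run (app x w) (app w x)) (eqW run x []))) = true)
    (h3 : ∀ c ∈ w, c ∈ cs) (h4 : ev e (pw n w) ∈ gen e V) : ev e (pw n w) = 1 := by
  simp only [and2_true] at h2
  have g := h.grH h2.1
  refine KM.kill g.1 g.2 (w := ev (pr m e) w) (ev_mem fun c a => hok.norm h1 c (h3 c a)) ?_
    (by rwa [map_snd]) (by rw [ev_pr_snd, ev_pw]; exact pow_mem (self_mem_C1 _) n)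
  rw [map_fst, ev_pr_fst]
  exact fun a => Co.iso.fpf ivm h2.2.1 h2.2.2

theorem step {ok : List ℕ → List ℕ → Bool} (hok : Eqs ok (pr m e)) {T : TCData} (hT : T.OK)
    (hii : ∀ c, T.iv (T.iv c) = c) {R : List (List ℕ)} (hd : Derives T.iv R T.R) {U J : List ℕ}
    {I reps : List (List ℕ)} {cl : List (ℕ × List ℕ)} {L : ℕ} (h1 : chkNI ok T.cols U I = true)
    (h2 : and2 (allL R fun r => allL r fun c => memL c T.cols)
      (and2 (allL T.cols fun c => ok [c, T.iv c] []) (and2 (all2 (fun r n => ok r (mw U n)) R J)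
        (and2 (okW kH (app T.hcols U))
          (chkClo (fun c w => ok [c] w) cl L (TCData.bitsOf (app T.cols U)))))) = true)
    (h3 : chkReps T reps = true) (h4 : and2 (Nat.beq (lenL reps) T.N) (chkNC run [0] reps) = true) :
    TrM run L e := by
  simp only [and2_true, app_eq] at h2
  obtain ⟨a1, a2, a3, a4, a5⟩ := h2
  refine trM_of_gr Co.iso ((gr_quo (sat_quo hT hii hd a1 (hok.norm h1) (hok.inv a2)
    (hok.rels a3)) (hok.norm h1) h3 (h.grH a4).1 (gen_append _ _ _).ge (K := C{m 0})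
    (fun d hd => cenH a4 (fst_mem hd)) fun i b1 b2 => ?_).mono (gen_append _ _ _).le) (hok.clo a5)
  simpa using Co.iso.notC h4 i b1 b2

theorem trN : TrM run kN e := by
  have a1 := h.eH.or (h.trE.pair Co.iso).eqs
  have a2 : ∀ ρ : List ℕ, (∀ c ∈ ρ, c ∈ [60, 23, 24, 2]) → eqW run ρ [] = true → ev e ρ ∈ gen e [0, 1] :=
    fun ρ a b => h.cent a1 h.pre.sf2 (U := R14) (I := IRn) (by decide +kernel)
      (and2_true.2 ⟨by decide +kernel, and2_true.2 ⟨by decide +kernel, b⟩⟩) ⟨a, by decide +kernel⟩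
  have i1 : e 60 = (e 60)⁻¹ := h.trE.inv (by decide +kernel)
  have i2 : e 24 = (e 23)⁻¹ := h.trH.inv (by decide +kernel)
  have a3 : e 60 ∈ C{e 23} := by
    rw [← tr_lt e (show 23 < 60 by norm_num)]
    refine h.pre.cube (by simpa using h.iso.eqW.1 (by decide +kernel : eqW runH (pw 3 [23]) [] = true))
      (h.pre.cs1 (by decide +kernel)) ?_
    rw [gen_tr e (by decide +kernel), tr_lt e (show 23 < 60 by norm_num), ← i1, ← i2]
    simpa [mul_assoc] using a2 [60, 23, 60, 24] (by decide) (by decide +kernel)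
  have a4 := h.kill a1 (cs := [2, 60]) (w := [2, 60]) (n := 3) (I := IV2) (by decide +kernel)
    (by decide +kernel) (by decide) (a2 _ (by decide +kernel) (by decide +kernel))
  refine h.step (a1.or (eqs_pr (R := [([60, 23], [23, 60]), ([60, 24], [24, 60]), (pw 3 [2, 60], [])])
    (by decide +kernel) ?_)) CoV.ok CoV.hii CoV.der (U := B0c) (J := [0]) (I := IB) (reps := rV)
    (cl := clN) (by decide +kernel) (by decide +kernel) (by decide +kernel) (by decide +kernel)
  simp only [List.forall_mem_cons]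
  exact ⟨by simpa using mem_C1.1 a3, by simpa [i2] using mem_C1.1 (mem_C1_comm.1 (inv_mem
    (mem_C1_comm.1 a3))), a4, by simp⟩

theorem eN : Eqs okN (pr m e) := h.eH.or (h.trN.pair Co.iso).eqs

theorem trP : TrM run kP e := by
  have a1 : chkNI okN CoP.cols Uc IU = true := by decide +kernel
  have a2 : ∀ w : List ℕ, (∀ c ∈ w, c ∈ [60, 45, 46, 28]) → (∀ c ∈ pw 5 w, c ∈ CoP.cols) →
      eqW run (pw 5 w) [] = true → and2 (okW kH V4) (and2 (chkPC run iv V4) (allP iv V4 fun x _ =>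
        imp2 (eqW run (app x w) (app w x)) (eqW run x []))) = true → ev e (pw 5 w) = 1 :=
    fun w a b c d => h.kill h.eN (I := IV4) (by decide +kernel) d a (h.cent h.eN h.pre.sf3 a1
      (and2_true.2 ⟨by decide +kernel, and2_true.2 ⟨by decide +kernel, c⟩⟩) ⟨b, by decide +kernel⟩)
  refine h.step (h.eN.or (eqs_pr (R := [(pw 5 [60, 45, 28, 46], []), (pw 5 [28, 60, 46, 60, 46], [])])
    (by decide +kernel) ?_)) CoP.ok CoP.hii CoP.der (U := Uc) (J := JP) (I := IU) (reps := rP)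
    (cl := clP) (by decide +kernel) (by decide +kernel) (by decide +kernel) (by decide +kernel)
  simp only [List.forall_mem_cons]
  exact ⟨a2 _ (by decide) (by decide +kernel) (by decide +kernel) (by decide +kernel),
    a2 _ (by decide) (by decide +kernel) (by decide +kernel) (by decide +kernel), by simp⟩

theorem eP : Eqs okP (pr m e) := h.eN.or (h.trP.pair Co.iso).eqs

theorem trK : TrM run kK e :=
  h.step h.eP CoK.ok CoK.hii CoK.der (U := Al) (J := JK) (I := IA) (reps := rK)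
    (cl := clK) (by decide +kernel) (by decide +kernel) (by decide +kernel) (by decide +kernel)

end B1

end H15.Co
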