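import Mathlib
import Cfsg.Agent.H15.KM4

/-!
# Counting by words
-/

set_option autoImplicit false
set_option linter.unusedSectionVars false

namespace H15.KM

open H29 H24 Subgroup

section

variable {G : Type*} [Group G] {S : Type*} [Group S]
variable {run : List ℕ → ℕ} {iv : ℕ → ℕ} {m : ℕ → S} {e : ℕ → G}

theorem Iso.map (h : Iso run m) (f : S →* G) (hf : Function.Injective f) :
    Iso run fun c => f (m c) := fun u v => by
  rw [h, ← map_ev, ← map_ev, hf.eq_iff]

theorem ivOK_map (h : IvOK m iv) (f : S →* G) : IvOK (fun c => f (m c)) iv := fun c => by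
  simp [h c]

/-- Words in distinct right cosets of `L`. -/
theorem card_mul_le_val [Finite G] {K L : Subgroup G} {W : List (List ℕ)} {val : List ℕ → ℕ}
    (hW : ∀ w ∈ W, ev e w ∈ K)
    (hv : ∀ u ∈ W, ∀ v ∈ W, ev e u * (ev e v)⁻¹ ∈ K ⊓ L → val u = val v)
    (hn : incr (mapL val W) 0 = true) : W.length * Nat.card ↥(K ⊓ L) ≤ Nat.card K := by
  rw [mapL_eq] at hn
  have hn := (incr_spec _ _ hn).2
  let φ : Fin W.length × ↥(K ⊓ L) → K := fun p =>
    ⟨p.2 * ev e W[p.1], mul_mem p.2.2.1 (hW _ (List.getElem_mem _))⟩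
  have hφ : Function.Injective φ := by
    rintro ⟨i, a⟩ ⟨j, b⟩ hab
    simp only [φ, Subtype.mk.injEq] at hab
    have h1 := hv W[i] (List.getElem_mem _) W[j] (List.getElem_mem _) (by
      rw [show ev e W[i] * (ev e W[j])⁻¹ = (a : G)⁻¹ * b by
        rw [mul_inv_eq_iff_eq_mul, mul_assoc, ← hab, inv_mul_cancel_left]]
      exact mul_mem (inv_mem a.2) b.2)
    have h2 : (i : ℕ) = j := by
      refine (List.Nodup.getElem_inj_iff hn (i := i) (j := j) (hi := by simp) (hj := by simp)).1 ?_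
      simpa using h1
    obtain rfl : i = j := Fin.ext h2
    rw [Subtype.ext (mul_right_cancel hab)]
  simpa using Nat.card_le_card_of_injective φ hφ

theorem Iso.le_card [Finite G] (h : Iso run e) {K : Subgroup G} {W : List (List ℕ)}
    (hW : ∀ w ∈ W, ev e w ∈ K) (hn : incr (mapL run W) 0 = true) : W.length ≤ Nat.card K := by
  simpa using card_mul_le_val (L := ⊥) hW
    (fun u _ v _ a => (h u v).2 (mul_inv_eq_one.1 (mem_bot.1 a.2))) hn

/-- All letters of the words lie in the list `l`. -/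
noncomputable def overL (l : List ℕ) (W : List (List ℕ)) : Bool :=
  allL W fun w => allL w fun c => memL c l

theorem overL_mem {l : List ℕ} {W : List (List ℕ)} (h : overL l W = true) :
    ∀ w ∈ W, ev e w ∈ gen e l := fun w hw => by
  simp only [overL, allL_true, memL_true] at h
  exact ev_mem_gen (h w hw)

/-- `W` lists the members of the group generated by `l`. -/
noncomputable def chkCd (run : List ℕ → ℕ) (iv : ℕ → ℕ) (l : List ℕ) (W : List (List ℕ)) : Bool :=
  and2 (chkEn run iv l W) (and2 (overL l W) (incr (mapL run W) 0))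

theorem Iso.all (h : Iso run e) (hi : IvOK e iv) {l : List ℕ} {W : List (List ℕ)}
    (hc : chkCd run iv l W = true) {f : List ℕ → Bool} (hf : allL W f = true) {g : G}
    (hg : g ∈ gen e l) : ∃ w, ev e w = g ∧ f w = true := by
  obtain ⟨w, h1, h2⟩ := h.enum hi (and2_true.1 hc).1 hg
  exact ⟨w, h2, allL_true.1 hf w h1⟩

theorem Iso.card_enum [Finite G] (h : Iso run e) (hi : IvOK e iv) {l : List ℕ}
    {W : List (List ℕ)} (hc : chkCd run iv l W = true) : Nat.card (gen e l) = W.length := by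
  have hc' := hc
  simp only [chkCd, and2_true] at hc'
  refine le_antisymm ?_ (h.le_card (overL_mem hc'.2.1) hc'.2.2)
  have : Function.Surjective fun i : Fin W.length =>
      (⟨ev e W[i], overL_mem hc'.2.1 _ (List.getElem_mem _)⟩ : gen e l) := fun g => by
    obtain ⟨w, h1, h2⟩ := h.enum hi hc'.1 g.2
    obtain ⟨i, h3, rfl⟩ := List.getElem_of_mem h1
    exact ⟨⟨i, h3⟩, Subtype.ext h2⟩
  simpa using Nat.card_le_card_of_surjective _ this

theorem Iso.memV (h : Iso run e) {l : List ℕ} {W : List (List ℕ)} (hW : overL l W = true)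
    {w : List ℕ} (hw : inV run (mapL run W) w = true) : ev e w ∈ gen e l := by
  simp only [inV, lit_eq, memL_true, mapL_eq, List.mem_map] at hw
  obtain ⟨u, h1, h2⟩ := hw
  exact (h _ _).1 h2 ▸ overL_mem hW u h1

theorem Iso.not_memV (h : Iso run e) (hi : IvOK e iv) {l : List ℕ} {W : List (List ℕ)}
    (hc : chkCd run iv l W = true) {w : List ℕ} (hw : ev e w ∈ gen e l) :
    inV run (mapL run W) w = true := by
  obtain ⟨u, h1, h2⟩ := h.enum hi (and2_true.1 hc).1 hw
  simp only [inV, lit_eq, memL_true, mapL_eq, List.mem_map]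
  exact ⟨u, h1, (h _ _).2 h2⟩

/-- The letters `cs` normalise the group listed by `W`. -/
noncomputable def chkNW (run : List ℕ → ℕ) (iv : ℕ → ℕ) (cs l : List ℕ) (W : List (List ℕ)) :
    Bool := and2 (overL l W)
  (frc (mapL run W) fun V => allL cs fun c => allL l fun d => inV run V [c, d, iv c])

theorem Iso.normW [Finite G] (h : Iso run e) (hi : IvOK e iv) {cs l : List ℕ} {W : List (List ℕ)}
    (hc : chkNW run iv cs l W = true) : gen e cs ≤ N[gen e l] := by
  simp only [chkNW, frc_eq, allL_true, and2_true] at hc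
  refine gen_le.2 fun c h1 => mem_N_of_finite fun x hx => conj_mem_gen (fun d hd => ?_) hx
  simpa [hi c, mul_assoc] using h.memV hc.1 (hc.2 c h1 d hd)

theorem Iso.cents (h : Iso run e) {cs l : List ℕ}
    (hc : (allL l fun d => chkC run cs [d]) = true) : gen e cs ≤ C[gen e l] :=
  cents_symm (gen_le.2 fun d hd => mem_C_iff_le_C1.2 (by
    simpa using h.cent (allL_true.1 hc d hd)))

/-! ### Images of sets of points -/

noncomputable def msk (tabs : ℕ → ℕ) (O : List ℕ) (w : List ℕ) : ℕ :=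
  List.rec (motive := fun _ => ℕ) 0 (fun o _ ih => Nat.lor (bit (run1 tabs w o)) ih) O

theorem testBit_msk {tabs : ℕ → ℕ} {w : List ℕ} {i : ℕ} : ∀ {O : List ℕ},
    (msk tabs O w).testBit i = true ↔ ∃ o ∈ O, run1 tabs w o = i
  | [] => by simp [msk]
  | o :: O => by
    rw [show msk tabs (o :: O) w = Nat.lor (bit (run1 tabs w o)) (msk tabs O w) from rfl, lor_eq,
      Nat.testBit_or, Bool.or_eq_true, testBit_bit, testBit_msk]
    simp

theorem msk_eq {ρ : S →* Equiv.Perm ℕ} {N : ℕ} {tabs : ℕ → ℕ} (hl : ∀ g, ∀ i < N, ρ g i < N)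
    (ht : ∀ c, TabOK ρ N (m c) (tabs c)) {O : List ℕ} (hO : ∀ o ∈ O, o < N) {L : Subgroup S}
    (hL : ∀ l ∈ L, ∀ o ∈ O, ρ l o ∈ O) {u v : List ℕ} (h : ev m u * (ev m v)⁻¹ ∈ L) :
    msk tabs O u = msk tabs O v := by
  have k : ∀ {u v : List ℕ}, ev m u * (ev m v)⁻¹ ∈ L → ∀ i, (msk tabs O u).testBit i = true →
      (msk tabs O v).testBit i = true := fun {u v} h i hi => by
    rw [testBit_msk] at hi ⊢
    obtain ⟨o, h1, rfl⟩ := hi
    refine ⟨_, hL _ (inv_mem h) o h1, ?_⟩
    rw [run1_spec hl (fun c _ => ht c) _ (hl _ _ (hO o h1)), run1_spec hl (fun c _ => ht c) _ (hO o h1),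
      ← Equiv.Perm.mul_apply, ← map_mul]
    simp
  exact Nat.eq_of_testBit_eq fun i => Bool.eq_iff_iff.2
    ⟨k h i, k (by simpa using inv_mem h) i⟩

noncomputable def mn (a b : ℕ) : ℕ := lit a fun a => lit b fun b => Bool.rec b a (Nat.ble a b)

theorem mn_eq (a b : ℕ) : mn a b = min a b := by
  simp only [mn, lit_eq]
  by_cases h : a ≤ b
  · rw [ble_true.2 h, min_eq_left h]
  · rw [show Nat.ble a b = false by rw [← Bool.not_eq_true, ble_true]; exact h,
      min_eq_right (le_of_not_ge h)]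

theorem mem_zp3 {t c : G} (h3 : t ^ 3 = 1) : c ∈ zpowers t ↔ c = 1 ∨ c = t ∨ c = t⁻¹ := by
  refine ⟨?_, by rintro (rfl | rfl | rfl); exacts [one_mem _, mem_zpowers _, inv_mem (mem_zpowers _)]⟩
  rintro ⟨n, rfl⟩
  change t ^ n = 1 ∨ t ^ n = t ∨ t ^ n = t⁻¹
  have h4 : t ^ (3 : ℤ) = 1 := by exact_mod_cast h3
  rw [← Int.mul_ediv_add_emod n 3, zpow_add, zpow_mul, h4, one_zpow, one_mul]
  have := Int.emod_nonneg n (b := 3) (by norm_num)
  have := Int.emod_lt_of_pos n (b := 3) (by norm_num)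
  interval_cases n % 3
  · simp
  · simp
  · exact .inr (.inr (eq_inv_of_mul_eq_one_left (by rw [← h4, ← zpow_add_one]; rfl)))

/-- A number attached to the conjugate of the group of order three of the letter `c`. -/
noncomputable def cval (run : List ℕ → ℕ) (iv : ℕ → ℕ) (c : ℕ) (w : List ℕ) : ℕ :=
  frc (invW iv w) fun y => mn (run (app y (c :: w))) (run (app y (iv c :: w)))

theorem Iso.cval (h : Iso run e) (hi : IvOK e iv) {c : ℕ} (h3 : e c ^ 3 = 1) (h1 : e c ≠ 1)
    {u v : List ℕ} (huv : ev e u * (ev e v)⁻¹ ∈ N[zpowers (e c)]) :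
    cval run iv c u = cval run iv c v := by
  simp only [KM.cval, frc_eq, mn_eq, app_eq]
  have k : ∀ {a b : ℕ}, (ev e u * (ev e v)⁻¹)⁻¹ * e a * (ev e u * (ev e v)⁻¹) = e b →
      run (invW iv u ++ a :: u) = run (invW iv v ++ b :: v) := fun a => by
    rw [h, ev_append, ev_append, ev_invW hi, ev_invW hi, ev_cons, ev_cons, ← a]; group
  have k' : ∀ {x y : G}, (ev e u * (ev e v)⁻¹)⁻¹ * x * (ev e u * (ev e v)⁻¹) = y →
      (ev e u * (ev e v)⁻¹)⁻¹ * x⁻¹ * (ev e u * (ev e v)⁻¹) = y⁻¹ := fun a => by rw [← a]; group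
  rcases (mem_zp3 h3).1 (conj_mem' huv (mem_zpowers _)) with a | a | a
  · exact absurd (conj_eq_one_iff'.1 (by rw [← a, inv_inv])) h1
  · rw [k a, k (a := iv c) (b := iv c) (by rw [hi]; exact k' a)]
  · rw [k (b := iv c) (by rw [hi]; exact a), k (a := iv c) (b := c) (by
      rw [hi]; simpa using k' a), min_comm]

end

end H15.KM
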