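import Mathlib
import Cfsg.Agent.H15.KM5

/-!
# Index certificates, quotient tables and coded normal subgroups
-/

set_option autoImplicit false
set_option linter.unusedSectionVars false

namespace H15.KM

open H29 H24 Subgroup

/-- A test on two lists in parallel. -/
noncomputable def all2 {α β : Type} (f : α → β → Bool) (l : List α) : List β → Bool :=
  List.rec (motive := fun _ => List β → Bool) (fun _ => true)
    (fun a _ ih t => List.rec (motive := fun _ => Bool) false (fun b t' _ => and2 (f a b) (ih t')) t) l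

theorem all2_true {α β : Type} {f : α → β → Bool} : ∀ {l : List α} {t : List β},
    all2 f l t = true → ∀ a ∈ l, ∃ b ∈ t, f a b = true
  | [], _, _ => by simp
  | _ :: _, [], h => absurd h (by simp [all2])
  | a :: l, b :: t, h => by
    rw [show all2 f (a :: l) (b :: t) = and2 (f a b) (all2 f l t) from rfl, and2_true] at h
    intro y hy
    rcases List.mem_cons.1 hy with rfl | hy
    · exact ⟨b, List.mem_cons_self, h.1⟩
    · obtain ⟨c, h1, h2⟩ := all2_true h.2 y hy
      exact ⟨c, List.mem_cons_of_mem _ h1, h2⟩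

section

variable {G : Type*} [Group G] {S : Type*} [Group S]
variable {run : List ℕ → ℕ} {iv : ℕ → ℕ} {m : ℕ → S} {e : ℕ → G}

/-- `ok` certifies identities between words. -/
def Eqs (ok : List ℕ → List ℕ → Bool) (e : ℕ → G) : Prop := ∀ u v, ok u v = true → ev e u = ev e v

theorem TrM.eqs {L : ℕ} (h : TrM run L e) : Eqs (chkE run L) e := fun _ _ => h.eq
theorem Iso.eqs (h : Iso run e) : Eqs (KM.eqW run) e := fun _ _ => h.eqW.1

noncomputable def orE (f g : List ℕ → List ℕ → Bool) (u v : List ℕ) : Bool := or2 (f u v) (g u v)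

theorem Eqs.or {f g : List ℕ → List ℕ → Bool} (h1 : Eqs f e) (h2 : Eqs g e) : Eqs (orE f g) e :=
  fun u v h => (or2_true.1 h).elim (h1 u v) (h2 u v)

noncomputable def relE (R : List (List ℕ)) (u v : List ℕ) : Bool := and2 (eqL v []) (memLL u R)

theorem eqs_rel {R : List (List ℕ)} (h : ∀ r ∈ R, ev e r = 1) : Eqs (relE R) e := fun u v a => by
  rw [relE, and2_true] at a
  rw [eqL_true a.1, h u (memLL_true a.2), ev_nil]

noncomputable def defE (defs : List (List ℕ)) (u v : List ℕ) : Bool :=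
  and2 (eqL u [nth 0 u 0]) (eqL (nth [] defs (nth 0 u 0)) v)

theorem Def.eqs {defs : List (List ℕ)} (h : Def e defs) : Eqs (defE defs) e := fun u v a => by
  rw [defE, and2_true] at a
  rw [eqL_true a.1, ← eqL_true a.2, ← h]; simp

variable {ok : List ℕ → List ℕ → Bool}

theorem Eqs.clo (h : Eqs ok e) {l : List (ℕ × List ℕ)} {cols : List ℕ} {L : ℕ}
    (hc : chkClo (fun c w => ok [c] w) l L (TCData.bitsOf cols) = true) :
    ∀ c, L.testBit c = true → e c ∈ gen e cols :=
  mem_gen_of_clo (fun c w a => by simpa using h _ _ a) hc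

theorem Eqs.memI (h : Eqs ok e) {l w : List ℕ} {n : ℕ} (hc : ok w (mw l n) = true) :
    ev e w ∈ gen e l := h _ _ hc ▸ ev_mem_gen (mem_mw l n)

theorem Eqs.rels (h : Eqs ok e) {l : List ℕ} {R : List (List ℕ)} {I : List ℕ}
    (hc : all2 (fun r n => ok r (mw l n)) R I = true) : ∀ r ∈ R, ev e r ∈ gen e l := fun r hr => by
  obtain ⟨n, -, h1⟩ := all2_true hc r hr
  exact h.memI h1

theorem Eqs.inv (h : Eqs ok e) {cs : List ℕ} (hc : (allL cs fun c => ok [c, iv c] []) = true) :
    ∀ c ∈ cs, e c * e (iv c) = 1 := fun c a => by simpa using h _ _ (allL_true.1 hc c a)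

/-- The letters `cs` normalise the group of the list `l`. -/
noncomputable def chkNI (ok : List ℕ → List ℕ → Bool) (cs l : List ℕ) (I : List (List ℕ)) : Bool :=
  all2 (fun c t => all2 (fun d n => ok [c, d] (app (mw l n) [c])) l t) cs I

theorem Eqs.norm [Finite G] (h : Eqs ok e) {cs l : List ℕ} {I : List (List ℕ)}
    (hc : chkNI ok cs l I = true) : ∀ c ∈ cs, e c ∈ N[gen e l] := fun c h1 =>
  mem_N_of_finite fun x hx => conj_mem_gen (fun d hd => by
    obtain ⟨t, -, h2⟩ := all2_true hc c h1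
    obtain ⟨n, -, h3⟩ := all2_true h2 d hd
    have := h _ _ h3
    simp only [ev_cons, ev_nil, mul_one, app_eq, ev_append] at this
    rw [this, mul_inv_cancel_right]
    exact ev_mem_gen (mem_mw l n)) hx

/-- The letters `cs` commute with the letters `l`. -/
noncomputable def chkCI (ok : List ℕ → List ℕ → Bool) (cs l : List ℕ) : Bool :=
  allL cs fun c => allL l fun d => ok [c, d] [d, c]

theorem Eqs.cent (h : Eqs ok e) {cs l : List ℕ} (hc : chkCI ok cs l = true) :
    gen e cs ≤ C[gen e l] := gen_le.2 fun c h1 => mem_C_iff_le_C1.2 (gen_le.2 fun d hd =>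
  mem_C1.2 (by simpa using (h _ _ (allL_true.1 (allL_true.1 hc c h1) d hd)).symm))

theorem Eqs.cent1 (h : Eqs ok e) {c d : ℕ} (hc : ok [c, d] [d, c] = true) : e c ∈ C{e d} :=
  mem_C1.2 (by simpa using h _ _ hc)

/-! ### Weakly polycyclic lists -/

/-- Each letter normalises the group of the later ones and of `b`, and has its square there. -/
def WP (e : ℕ → G) (b : List ℕ) : List ℕ → Prop
  | [] => True
  | c :: l => WP e b l ∧ e c * e c ∈ gen e (l ++ b) ∧
      ∀ d ∈ l ++ b, e c * e d * (e c)⁻¹ ∈ gen e (l ++ b)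

theorem WP.cover {b : List ℕ} : ∀ {l : List ℕ}, WP e b l → ∀ {g : G}, g ∈ gen e (l ++ b) →
    ∃ n < 2 ^ l.length, ∃ a ∈ gen e b, ev e (mw l n) * a = g
  | [], _, g, hg => ⟨0, by simp, g, hg, by simp [mw]⟩
  | c :: l, h, g, hg => by
    rcases two_cosets h.2.1 (fun _ hk => conj_mem_gen h.2.2 hk) (gen_cons e c _ ▸ hg) with h1 | h1
    · obtain ⟨n, h2, a, h3, h4⟩ := h.1.cover h1
      exact ⟨2 * n, by rw [List.length_cons, pow_succ]; omega, a, h3, by rw [mw_even, h4]⟩
    · obtain ⟨n, h2, a, h3, h4⟩ := h.1.cover h1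
      exact ⟨2 * n + 1, by rw [List.length_cons, pow_succ]; omega, a, h3,
        by rw [mw_odd, ev_cons, mul_assoc, h4]; simp⟩

theorem WP.cover0 {l : List ℕ} (h : WP e [] l) {g : G} (hg : g ∈ gen e l) :
    ∃ n < 2 ^ l.length, ev e (mw l n) = g := by
  obtain ⟨n, h1, a, h2, h3⟩ := h.cover (by rwa [List.append_nil])
  rw [gen_nil, mem_bot] at h2
  exact ⟨n, h1, by simpa [h2] using h3⟩

theorem card_le_of_cover {K : Subgroup G} {N : ℕ} {f : ℕ → G} (h : ∀ g ∈ K, ∃ n < N, f n = g) :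
    Nat.card K ≤ N := by
  choose φ h1 h2 using h
  simpa using Nat.card_le_card_of_injective (fun g : K => (⟨φ g g.2, h1 _ _⟩ : Fin N))
    fun a b hab => Subtype.ext (by rw [← h2 a a.2, ← h2 b b.2, Fin.mk.inj hab])

theorem WP.pi [Finite G] {b : List ℕ} (hb : IsPi {2} (gen e b)) : ∀ {l : List ℕ}, WP e b l →
    IsPi {2} (gen e (l ++ b))
  | [], _ => hb
  | c :: l, h => by
    have hn : e c ∈ N[gen e (l ++ b)] := mem_N_of_finite fun _ hk => conj_mem_gen h.2.2 hk
    rw [List.cons_append, gen_cons]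
    refine isPi_of_quo (sup_le (zpowers_le.2 hn) (norm_self _)) (h.1.pi hb) ?_
    rw [quo_sup_right (zpowers_le.2 hn), show quo (zpowers (e c)) _ = _ from img_zpowers _ hn]
    refine (piElt_of_pow_eq_one (n := 2) (piNat_self Nat.prime_two) ?_).isPi
    rw [pow_two, ← ap_mul _ hn hn]; exact cs_of_mem h.2.1

noncomputable def chkW (ok : List ℕ → List ℕ → Bool) (b l : List ℕ) : List (List ℕ) → Bool :=
  List.rec (motive := fun _ => List (List ℕ) → Bool) (fun _ => true)
    (fun c l ih I => List.rec (motive := fun _ => Bool) false (fun t I' _ => and2 (ih I')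
      (frc (app l b) fun y => and2 (ok [c, c] (mw y (nth 0 t 0)))
        (all2 (fun d n => ok [c, d] (app (mw y n) [c])) y t.tail))) I) l

theorem Eqs.wp (h : Eqs ok e) {b : List ℕ} : ∀ {l : List ℕ} {I : List (List ℕ)},
    chkW ok b l I = true → WP e b l
  | [], _, _ => trivial
  | _ :: _, [], hc => absurd hc (by simp [chkW])
  | c :: l, t :: I, hc => by
    rw [show chkW ok b (c :: l) (t :: I) = and2 (chkW ok b l I)
      (frc (app l b) fun y => and2 (ok [c, c] (mw y (nth 0 t 0)))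
        (all2 (fun d n => ok [c, d] (app (mw y n) [c])) y t.tail)) from rfl] at hc
    simp only [and2_true, frc_eq, app_eq] at hc
    refine ⟨h.wp hc.1, by simpa using h.memI hc.2.1, fun d hd => ?_⟩
    obtain ⟨n, -, h3⟩ := all2_true hc.2.2 d hd
    have := h _ _ h3
    simp only [ev_cons, ev_nil, mul_one, ev_append] at this
    rw [this, mul_inv_cancel_right]
    exact ev_mem_gen (mem_mw _ n)

theorem WP.allQ {b l : List ℕ} (hl : WP e b l) {f : List ℕ → Bool} (hc : allQ l f = true) {g : G}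
    (hg : g ∈ gen e (l ++ b)) : ∃ x, ∃ a ∈ gen e b, (∀ c ∈ x, c ∈ l) ∧ ev e x * a = g ∧ f x = true := by
  obtain ⟨n, h1, a, h2, rfl⟩ := hl.cover hg
  have := allN_true.1 hc n (by rwa [lenL_eq])
  simp only [lit_eq, frc_eq] at this
  exact ⟨_, a, h2, mem_mw l n, rfl, this⟩

theorem WP.allQ0 {l : List ℕ} (hl : WP e [] l) {f : List ℕ → Bool} (hc : KM.allQ l f = true) {g : G}
    (hg : g ∈ gen e l) : ∃ x, (∀ c ∈ x, c ∈ l) ∧ ev e x = g ∧ f x = true := by
  obtain ⟨x, a, h1, h2, h3, h4⟩ := hl.allQ hc (by rwa [List.append_nil])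
  rw [gen_nil, mem_bot] at h1
  exact ⟨x, h2, by simpa [h1] using h3, h4⟩

/-- a test on a range of numbers -/
noncomputable def allR (a n : ℕ) (f : ℕ → Bool) : Bool := allN n fun i => lit (Nat.add a i) f

theorem allR_true {a n : ℕ} {f : ℕ → Bool} (h : allR a n f = true) {i : ℕ} (h1 : a ≤ i)
    (h2 : i < a + n) : f i = true := by
  have := allN_true.1 h (i - a) (by omega)
  rwa [lit_eq, Nat.add_eq, Nat.add_sub_cancel' h1] at this

/-! ### Tables in a quotient -/

theorem sat_quo [Finite G] {U : Subgroup G} {T : TCData} (hT : T.OK)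
    (hii : ∀ c, T.iv (T.iv c) = c) {R : List (List ℕ)} (hd : Derives T.iv R T.R)
    (h0 : (allL R fun r => allL r fun c => memL c T.cols) = true)
    (hN : ∀ c ∈ T.cols, e c ∈ N[U]) (h1 : ∀ c ∈ T.cols, e c * e (T.iv c) = 1)
    (h2 : ∀ r ∈ R, ev e r ∈ U) : Sat T fun c => cs U (e c) :=
  sat_fin hT hii hd h0 (fun c hc => by
      rw [cs, cs, ← ap_mul _ (hN c hc) (hN _ (hT.col c hc).1), h1 c hc, ap_one]) fun r hr => by
    rw [ev_ap _ fun c hc => hN c (memL_true.1 (allL_true.1 (allL_true.1 h0 r hr) c hc))]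
    exact cs_of_mem (h2 r hr)

theorem card_le_quo {U : Subgroup G} {l : List ℕ} {n : ℕ} (hN : ∀ c ∈ l, e c ∈ N[U])
    (hb : Bd (gen (fun c => cs U (e c)) l) n) : Nat.card ↥(gen e l ⊔ U) ≤ n * Nat.card U := by
  rw [← coq_quo (gen_le.2 hN), card_coq, mul_comm]
  exact Nat.mul_le_mul_right _ ((congrArg (fun K : Subgroup _ => Nat.card K)
    (gen_ap (coset U) hN)).ge.trans hb.2)

theorem cover_quo {U : Subgroup G} {T : TCData} (h : Sat T fun c => cs U (e c))
    (hN : ∀ c ∈ T.cols, e c ∈ N[U]) {reps : List (List ℕ)} (hc : chkReps T reps = true) {g : G}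
    (hg : g ∈ gen e T.cols ⊔ U) : ∃ i < T.N, (ev e (nth [] reps i))⁻¹ * g ∈ gen e T.hcols ⊔ U := by
  have hN' : ∀ c ∈ T.hcols, e c ∈ N[U] := fun c a => hN c (h.1.tree.hsub c a)
  rw [← coq_quo (gen_le.2 hN), mem_coq, show quo (gen e T.cols) U = _ from
    (gen_ap (coset U) hN).symm] at hg
  obtain ⟨i, a1, a2⟩ := h.cover hc hg.2
  simp only [chkReps, allN_true, lit_eq, frc_eq, and2_true, allL_true, memL_true] at hc
  have a3 := fun c a => hN c ((hc.2 i a1).1 c a)
  refine ⟨i, a1, ?_⟩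
  rw [← coq_quo (gen_le.2 hN'), mem_coq, show quo (gen e T.hcols) U = _ from
    (gen_ap (coset U) hN').symm]
  refine ⟨mul_mem (inv_mem (ev_mem a3)) hg.1, ?_⟩
  rwa [cs, ap_mul _ (inv_mem (ev_mem a3)) hg.1, ap_inv _ (ev_mem a3), ← ev_ap _ a3]

theorem gr_quo {U : Subgroup (S × G)} {T : TCData} (h : Sat T fun c => cs U (pr m e c))
    (hN : ∀ c ∈ T.cols, pr m e c ∈ N[U]) {reps : List (List ℕ)} (hc : chkReps T reps = true)
    {D : Subgroup (S × G)} (hD : Gr D) (h1 : gen (pr m e) T.hcols ⊔ U ≤ D) {K : Subgroup S}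
    (hK : ∀ d ∈ D, d.1 ∈ K) (h2 : ∀ i < T.N, i ≠ 0 → ev m (nth [] reps i) ∉ K) :
    Gr (gen (pr m e) T.cols ⊔ U) := fun d hd h3 => by
  obtain ⟨i, a1, a2⟩ := cover_quo h hN hc hd
  by_cases h0 : i = 0
  · subst h0
    rw [eqL_true (and2_true.1 hc).1] at a2
    exact hD d (by simpa using h1 a2) h3
  · exact absurd (by simpa [h3] using hK _ (h1 a2)) (h2 i a1 h0)

noncomputable def chkNC (run : List ℕ → ℕ) (v : List ℕ) (reps : List (List ℕ)) : Bool :=
  allL reps.tail fun w => not1 (eqW run (app w v) (app v w))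

theorem Iso.notC (h : Iso run m) {v : List ℕ} {reps : List (List ℕ)} {N : ℕ}
    (hc : and2 (Nat.beq (lenL reps) N) (chkNC run v reps) = true) :
    ∀ i < N, i ≠ 0 → ev m (nth [] reps i) ∉ C{ev m v} := fun i h1 h2 h3 => by
  rw [and2_true, H29.beq_true, lenL_eq] at hc
  obtain ⟨j, rfl⟩ := Nat.exists_eq_succ_of_ne_zero h2
  rcases reps with _ | ⟨w, reps⟩
  · simp at hc; omega
  · refine h.ne (allL_true.1 hc.2 (nth [] reps j) (nth_mem _ (by
      rw [← hc.1] at h1; simpa using h1))) ?_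
    rw [app_eq, app_eq, ev_append, ev_append]; exact mem_C1.1 h3

theorem ev_map (σ : ℕ → ℕ) (w : List ℕ) : ev (fun c => e (σ c)) w = ev e (mapL σ w) := by
  simp [ev, Function.comp_def]

theorem gen_map (σ : ℕ → ℕ) (l : List ℕ) : gen (fun c => e (σ c)) l = gen e (l.map σ) :=
  le_antisymm (gen_le.2 fun c hc => mem_gen (List.mem_map_of_mem hc)) (gen_le.2 fun c hc => by
    obtain ⟨d, h1, rfl⟩ := List.mem_map.1 hc
    exact mem_gen (e := fun c => e (σ c)) h1)

theorem Eqs.sat [Finite G] (h : Eqs ok e) (σ : ℕ → ℕ) {T : TCData} (hT : T.OK)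
    (hii : ∀ c, T.iv (T.iv c) = c) {R : List (List ℕ)} (hd : Derives T.iv R T.R)
    (hc : and2 (allL R fun r => allL r fun c => memL c T.cols)
      (and2 (allL T.cols fun c => ok [σ c, σ (T.iv c)] []) (allL R fun r => ok (mapL σ r) [])) = true) :
    Sat T fun c => e (σ c) := by
  simp only [and2_true] at hc
  exact sat_fin hT hii hd hc.1 (fun c a => by simpa using h _ _ (allL_true.1 hc.2.1 c a))
    fun r hr => by rw [ev_map]; exact h _ _ (allL_true.1 hc.2.2 r hr)

/-- substitution of words for letters -/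
noncomputable def subW (U : ℕ → List ℕ) (w : List ℕ) : List ℕ :=
  List.rec (motive := fun _ => List ℕ) [] (fun c _ ih => app (U c) ih) w

theorem ev_subW (U : ℕ → List ℕ) : ∀ w, ev (fun c => ev e (U c)) w = ev e (subW U w)
  | [] => rfl
  | c :: w => by
    rw [show subW U (c :: w) = app (U c) (subW U w) from rfl, app_eq, ev_append, ev_cons, ev_subW U w]

end

end H15.KM
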