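import Mathlib
import Cfsg.Agent.H15.KM6

/-!
# Coded subgroups and the conjugation action on them
-/

set_option autoImplicit false
set_option linter.unusedSectionVars false

namespace H15.KM

open H29 H24 Subgroup

noncomputable def ins (c : ℕ) (w : List ℕ) : List ℕ :=
  List.rec (motive := fun _ => List ℕ) [c] (fun d t ih =>
    Bool.rec (d :: ih) (Bool.rec (c :: d :: t) t (Nat.beq c d)) (Nat.ble c d)) w

noncomputable def xo (a b : Bool) : Bool := Bool.rec b (not1 b) a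

noncomputable def sgn (β : ℕ → ℕ → Bool) (c : ℕ) (w : List ℕ) : Bool :=
  List.rec (motive := fun _ => Bool) false (fun d _ ih => Bool.rec (xo (β c d) ih) false (Nat.ble c d)) w

noncomputable def nfW (lm : ℕ → ℕ → ℕ) (w : List ℕ) (n : ℕ) : ℕ :=
  List.rec (motive := fun _ => ℕ) n (fun c _ ih => lit ih (lm c)) w

noncomputable def actW (F : ℕ → ℕ → ℕ) (w : List ℕ) : ℕ → ℕ :=
  List.rec (motive := fun _ => ℕ → ℕ) (fun n => n) (fun c _ ih n => lit (F c n) ih) w

noncomputable def actI (l : List ℕ) (mq : ℕ → ℕ → ℕ) (img : ℕ → ℕ) (n : ℕ) : ℕ :=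
  nfW (fun c => lit (img c) mq) (mw l n) 0

noncomputable def lk (T i : ℕ) : ℕ := Nat.land (Nat.shiftRight T (Nat.mul 9 i)) 511

theorem mw_zero : ∀ l : List ℕ, mw l 0 = []
  | [] => rfl
  | c :: l => (mw_even c l 0).trans (mw_zero l)

section

variable {G : Type*} [Group G] {x : ℕ → G} {l : List ℕ} {N : ℕ} {mq : ℕ → ℕ → ℕ}

/-- the element with the code `n` -/
noncomputable abbrev qv (x : ℕ → G) (l : List ℕ) (n : ℕ) : G := ev x (mw l n)

theorem qv_zero : qv x l 0 = 1 := by rw [qv, mw_zero, ev_nil]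
theorem qv_mem (n : ℕ) : qv x l n ∈ gen x l := ev_mem_gen (mem_mw l n)

structure Cd (x : ℕ → G) (l : List ℕ) (N : ℕ) (mq : ℕ → ℕ → ℕ) : Prop where
  pos : 0 < N
  mul : ∀ a < N, ∀ b < N, mq a b < N ∧ qv x l a * qv x l b = qv x l (mq a b)
  one : ∀ c ∈ l, x c * x c = 1 ∧ ∃ n < N, qv x l n = x c

def Inj (x : ℕ → G) (l : List ℕ) (N : ℕ) : Prop := ∀ a < N, ∀ b < N, qv x l a = qv x l b → a = b

theorem Cd.cover (h : Cd x l N mq) {g : G} (hg : g ∈ gen x l) : ∃ n < N, qv x l n = g := by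
  induction hg using Subgroup.closure_induction_left with
  | one => exact ⟨0, h.pos, qv_zero⟩
  | mul_left a ha y _ ih =>
    obtain ⟨c, hc, rfl⟩ := ha
    obtain ⟨n, h1, rfl⟩ := ih
    obtain ⟨-, k, h2, h3⟩ := h.one c hc
    exact ⟨_, (h.mul k h2 n h1).1, by rw [← (h.mul k h2 n h1).2, h3]⟩
  | inv_mul_cancel a ha y _ ih =>
    obtain ⟨c, hc, rfl⟩ := ha
    obtain ⟨n, h1, rfl⟩ := ih
    obtain ⟨h0, k, h2, h3⟩ := h.one c hc
    exact ⟨_, (h.mul k h2 n h1).1, by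
      rw [← (h.mul k h2 n h1).2, h3, inv_eq_of_mul_eq_one_right h0]⟩

theorem Cd.card_le (h : Cd x l N mq) : Nat.card (gen x l) ≤ N :=
  card_le_of_cover fun _ => h.cover

theorem Cd.inj (h : Cd x l N mq) (hc : N ≤ Nat.card (gen x l)) : Inj x l N := by
  intro a ha b hb hab
  have hs : Function.Surjective fun i : Fin N => (⟨qv x l i, qv_mem i⟩ : gen x l) := fun g => by
    obtain ⟨n, h1, h2⟩ := h.cover g.2
    exact ⟨⟨n, h1⟩, Subtype.ext h2⟩
  exact Fin.mk.inj ((hs.bijective_of_nat_card_le (by simpa using hc)).1 (a₁ := ⟨a, ha⟩)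
    (a₂ := ⟨b, hb⟩) (Subtype.ext hab))

theorem Inj.le_card [Finite G] (h : Inj x l N) : N ≤ Nat.card (gen x l) := by
  simpa using Nat.card_le_card_of_injective (fun i : Fin N => (⟨qv x l i, qv_mem i⟩ : gen x l))
    fun a b hab => Fin.ext (h _ a.2 _ b.2 (Subtype.mk.inj hab))

/-- It is enough that no nonzero code is trivial. -/
theorem Cd.inj' (h : Cd x l N mq) (h1 : ∀ a < N, ∃ a' < N, qv x l a' = (qv x l a)⁻¹ ∧
    ∀ b < N, mq a' b = 0 → a = b) (h2 : ∀ n < N, qv x l n = 1 → n = 0) : Inj x l N :=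
  fun a ha b hb hab => by
    obtain ⟨a', h3, h4, h5⟩ := h1 a ha
    exact h5 b hb (h2 _ (h.mul a' h3 b hb).1 (by rw [← (h.mul a' h3 b hb).2, h4, hab, inv_mul_cancel]))

theorem ins_sound {β : ℕ → ℕ → Bool} (h1 : ∀ c ∈ l, x c * x c = 1)
    (h2 : ∀ c ∈ l, ∀ d ∈ l, x c * x d = (if β c d then x 0 else 1) * (x d * x c))
    (h3 : ∀ c ∈ l, x c * x 0 = x 0 * x c) (h0 : 0 ∈ l) {c : ℕ} (hc : c ∈ l) : ∀ {w : List ℕ},
    (∀ d ∈ w, d ∈ l) → x c * ev x w = (if sgn β c w then x 0 else 1) * ev x (ins c w)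
  | [], _ => by simp [sgn, ins]
  | d :: w, hw => by
    have ih := ins_sound h1 h2 h3 h0 hc fun y hy => hw y (List.mem_cons_of_mem _ hy)
    have hd := hw d List.mem_cons_self
    rw [show ins c (d :: w) = Bool.rec (d :: ins c w) (Bool.rec (c :: d :: w) w (Nat.beq c d))
      (Nat.ble c d) from rfl, show sgn β c (d :: w) = Bool.rec (xo (β c d) (sgn β c w)) false
      (Nat.ble c d) from rfl]
    cases Nat.ble c d
    · simp only [ev_cons]
      rw [← mul_assoc, h2 c hc d hd, mul_assoc, mul_assoc, ih]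
      cases β c d <;> cases sgn β c w <;> simp [xo, not1, ← mul_assoc, h3 d hd, h1 0 h0]
    · cases h : Nat.beq c d
      · simp
      · rw [← H29.beq_true.1 h]; simp [← mul_assoc, h1 c hc]

theorem mem_ins {c : ℕ} (hc : c ∈ l) : ∀ {w : List ℕ}, (∀ d ∈ w, d ∈ l) → ∀ d ∈ ins c w, d ∈ l
  | [], _ => by simpa [ins] using hc
  | d :: w, hw => by
    have ih := mem_ins hc fun y hy => hw y (List.mem_cons_of_mem _ hy)
    rw [show ins c (d :: w) = Bool.rec (d :: ins c w) (Bool.rec (c :: d :: w) w (Nat.beq c d))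
      (Nat.ble c d) from rfl]
    cases Nat.ble c d
    · exact List.forall_mem_cons.2 ⟨hw d List.mem_cons_self, ih⟩
    · cases Nat.beq c d
      · exact List.forall_mem_cons.2 ⟨hc, hw⟩
      · exact fun y hy => hw y (List.mem_cons_of_mem _ hy)

theorem nfW_sound {lm : ℕ → ℕ → ℕ} {y : ℕ → G} {n : ℕ} (hn : n < N) : ∀ {w : List ℕ},
    (∀ c ∈ w, ∀ n < N, lm c n < N ∧ y c * qv x l n = qv x l (lm c n)) →
      nfW lm w n < N ∧ ev y w * qv x l n = qv x l (nfW lm w n)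
  | [], _ => ⟨hn, by simp [nfW]⟩
  | c :: w, h => by
    obtain ⟨h1, h2⟩ := nfW_sound hn fun y hy => h y (List.mem_cons_of_mem _ hy)
    rw [ev_cons, mul_assoc, h2]
    exact h c List.mem_cons_self _ h1

noncomputable def chkCd' (β : ℕ → ℕ → Bool) (l : List ℕ) (N : ℕ) (lm : ℕ → ℕ → ℕ) : Bool :=
  allL l fun c => and2 (eqL (mw l (lm c 0)) [c]) (allN N fun n => lit n fun n => frc (mw l n) fun w =>
    lit (lm c n) fun k => and2 (Nat.ble (Nat.succ k) N) (frc (ins c w) fun v =>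
      eqL (Bool.rec v (ins 0 v) (sgn β c w)) (mw l k)))

theorem cd_of_chk {β : ℕ → ℕ → Bool} (h1 : ∀ c ∈ l, x c * x c = 1)
    (h2 : ∀ c ∈ l, ∀ d ∈ l, x c * x d = (if β c d then x 0 else 1) * (x d * x c))
    (h3 : ∀ c ∈ l, x c * x 0 = x 0 * x c) (h0 : 0 ∈ l) (hN : 0 < N) {lm : ℕ → ℕ → ℕ}
    (hc : chkCd' β l N lm = true) : Cd x l N fun a b => nfW lm (mw l a) b := by
  simp only [chkCd', allL_true, and2_true, allN_true, lit_eq, frc_eq, ble_true] at hc
  refine ⟨hN, fun a _ b hb => nfW_sound hb fun c a1 n hn => ⟨((hc c (mem_mw l a c a1)).2 n hn).1, ?_⟩,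
    fun c a1 => ⟨h1 c a1, _, ((hc c a1).2 0 hN).1, by rw [qv, eqL_true (hc c a1).1]; simp⟩⟩
  have a2 := mem_mw l a c a1
  rw [qv, qv, ← eqL_true ((hc c a2).2 n hn).2, ins_sound h1 h2 h3 h0 a2 (mem_mw l n)]
  cases sgn β c (mw l n)
  · simp
  · have := ins_sound h1 h2 h3 h0 h0 (mem_ins a2 (mem_mw l n))
    rw [show sgn β 0 (ins c (mw l n)) = false by cases ins c (mw l n) <;> rfl] at this
    simpa using this

theorem ev_mw_xor : ∀ {l : List ℕ}, (∀ c ∈ l, x c * x c = 1) →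
    (∀ c ∈ l, ∀ d ∈ l, x c * x d = x d * x c) → ∀ a b, qv x l a * qv x l b = qv x l (Nat.xor a b)
  | [], _, _, _, _ => mul_one _
  | c :: l, h1, h2, a, b => by
    have ih := ev_mw_xor (fun y hy => h1 y (List.mem_cons_of_mem _ hy))
      fun y hy z hz => h2 y (List.mem_cons_of_mem _ hy) z (List.mem_cons_of_mem _ hz)
    have k : ∀ n, qv x l n * x c = x c * qv x l n := fun n => mem_C1.1 (gen_le.2 (fun d hd =>
      mem_C1.2 (h2 d (List.mem_cons_of_mem _ hd) c List.mem_cons_self)) (qv_mem n))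
    have e : ∀ (a b : ℕ) (p q : Bool), Nat.xor (2 * a + p.toNat) (2 * b + q.toNat) =
        2 * Nat.xor a b + (p ^^ q).toNat := fun a b p q => by
      have := Nat.xor_bit p a q b
      simp only [Nat.bit_val] at this
      exact this
    obtain ⟨a, rfl | rfl⟩ := Nat.even_or_odd' a <;> obtain ⟨b, rfl | rfl⟩ := Nat.even_or_odd' b
    · rw [show Nat.xor (2 * a) (2 * b) = 2 * Nat.xor a b from e a b false false]
      simp only [qv, mw_even]; exact ih a b
    · rw [show Nat.xor (2 * a) (2 * b + 1) = 2 * Nat.xor a b + 1 from e a b false true]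
      simp only [qv, mw_even, mw_odd, ev_cons]
      rw [← mul_assoc, k, mul_assoc, ih]
    · rw [show Nat.xor (2 * a + 1) (2 * b) = 2 * Nat.xor a b + 1 from e a b true false]
      simp only [qv, mw_even, mw_odd, ev_cons]
      rw [mul_assoc, ih]
    · rw [show Nat.xor (2 * a + 1) (2 * b + 1) = 2 * Nat.xor a b from e a b true true]
      simp only [qv, mw_even, mw_odd, ev_cons]
      rw [mul_assoc, ← mul_assoc (ev x (mw l a)), k, ← mul_assoc, ← mul_assoc,
        h1 c List.mem_cons_self, one_mul, ih]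

theorem cd_xor {k : ℕ} (h1 : ∀ c ∈ l, x c * x c = 1) (h2 : ∀ c ∈ l, ∀ d ∈ l, x c * x d = x d * x c)
    (h3 : ∀ c ∈ l, ∃ i < k, mw l (2 ^ i) = [c]) : Cd x l (2 ^ k) Nat.xor :=
  ⟨by positivity, fun a ha b hb => ⟨Nat.xor_lt_two_pow ha hb, ev_mw_xor h1 h2 a b⟩, fun c hc => by
    obtain ⟨i, a1, a2⟩ := h3 c hc
    exact ⟨h1 c hc, _, Nat.pow_lt_pow_right (by norm_num) a1, by simp [qv, a2]⟩⟩

/-- `f` is the action of `g` on the codes. -/
def Tb (x : ℕ → G) (l : List ℕ) (N : ℕ) (g : G) (f : ℕ → ℕ) : Prop :=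
  ∀ n < N, f n < N ∧ g⁻¹ * qv x l n * g = qv x l (f n)

theorem Cd.act (h : Cd x l N mq) {g : G} {img : ℕ → ℕ}
    (hi : ∀ c ∈ l, img c < N ∧ x c * g = g * qv x l (img c)) : Tb x l N g (actI l mq img) := by
  intro n _
  have := nfW_sound (x := x) (l := l) (y := fun c => (MulAut.conj g⁻¹).toMonoidHom (x c))
    (lm := fun c => lit (img c) mq) h.pos (w := mw l n) fun c hc k hk => by
      have a := hi c (mem_mw l n c hc)
      refine ⟨(h.mul _ a.1 k hk).1, ?_⟩
      rw [lit_eq, ← (h.mul _ a.1 k hk).2]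
      simp [mul_assoc, a.2]
  rw [← map_ev, qv_zero, mul_one] at this
  exact ⟨this.1, Eq.trans (by simp [qv]) this.2⟩

theorem Tb.congr {g : G} {f f' : ℕ → ℕ} (h : Tb x l N g f)
    (hc : (allN N fun n => lit n fun n => Nat.beq (f' n) (f n)) = true) : Tb x l N g f' :=
  fun n hn => by
    have := allN_true.1 hc n hn
    rw [lit_eq, H29.beq_true] at this
    rw [this]; exact h n hn

theorem tb_word {y : ℕ → G} {F : ℕ → ℕ → ℕ} : ∀ {w : List ℕ}, (∀ c ∈ w, Tb x l N (y c) (F c)) →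
    Tb x l N (ev y w) (actW F w)
  | [], _ => fun n hn => ⟨hn, by simp [actW]⟩
  | c :: w, h => fun n hn => by
    obtain ⟨h1, h2⟩ := h c List.mem_cons_self n hn
    obtain ⟨h3, h4⟩ := tb_word (fun y hy => h y (List.mem_cons_of_mem _ hy)) _ h1
    exact ⟨h3, by rw [show actW F (c :: w) n = actW F w (F c n) from rfl, ← h4, ← h2, ev_cons]; group⟩

theorem Tb.norm [Finite G] (hc : Cd x l N mq) {g : G} {f : ℕ → ℕ} (h : Tb x l N g f) :
    g ∈ N[gen x l] := by
  rw [← inv_mem_iff]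
  refine mem_N_of_finite fun y hy => ?_
  obtain ⟨n, h1, rfl⟩ := hc.cover hy
  rw [inv_inv, (h n h1).2]; exact qv_mem _

theorem tb_slp {F : ℕ → ℕ → ℕ} {defs : List (List ℕ)} (hs : chkSlp defs = true) (hd : Def x defs)
    (h0 : ∀ c, nth [] defs c = [c] → Tb x l N (x c) (F c))
    (hc : ∀ c, nth [] defs c = [c] ∨ (allN N fun n => lit n fun n =>
      Nat.beq (F c n) (actW F (nth [] defs c) n)) = true) (c : ℕ) : Tb x l N (x c) (F c) := by
  induction c using Nat.strong_induction_on with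
  | _ c ih =>
    by_cases h1 : nth [] defs c = [c]
    · exact h0 c h1
    · rw [hd c]
      exact (tb_word fun y hy => ih y ((chkSlp_spec hs c).resolve_left h1 y hy)).congr
        ((hc c).resolve_left h1)

/-- the letters of `L` lie in `K` and act by `F` -/
def Ac (x : ℕ → G) (l : List ℕ) (N : ℕ) (F : ℕ → ℕ → ℕ) (L : ℕ) (K : Subgroup G) : Prop :=
  ∀ c, L.testBit c = true → x c ∈ K ∧ Tb x l N (x c) (F c)

variable {F : ℕ → ℕ → ℕ} {L : ℕ} {K : Subgroup G}

theorem Ac.word (h : Ac x l N F L K) {w : List ℕ} (hw : okW L w = true) :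
    ev x w ∈ K ∧ Tb x l N (ev x w) (actW F w) :=
  ⟨ev_mem fun c hc => (h c (okW_true.1 hw c hc)).1, tb_word fun c hc => (h c (okW_true.1 hw c hc)).2⟩

def fixS (x : ℕ → G) (l B : List ℕ) : Subgroup G := ⨅ f ∈ B, C{qv x l f}

theorem mem_fixS {B : List ℕ} {g : G} : g ∈ fixS x l B ↔ ∀ f ∈ B, g ∈ C{qv x l f} := by
  simp [fixS, mem_iInf]

theorem mem_C1_of_conj {g a : G} (h : g⁻¹ * a * g = a) : g ∈ C{a} :=
  mem_C1.2 (by rw [mul_assoc, inv_mul_eq_iff_eq_mul] at h; exact h.symm)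

theorem conj_of_mem_C1 {g a : G} (h : g ∈ C{a}) : g⁻¹ * a * g = a := by
  rw [mul_assoc, ← mem_C1.1 h, inv_mul_cancel_left]

noncomputable def chkFx (F : ℕ → ℕ → ℕ) (L : ℕ) (W : List (List ℕ)) (B : List ℕ) : Bool :=
  allL W fun w => and2 (okW L w) (allL B fun f => Nat.beq (actW F w f) f)

theorem Ac.fix (h : Ac x l N F L K) {W : List (List ℕ)} {B : List ℕ} (hB : ∀ f ∈ B, f < N)
    (hc : chkFx F L W B = true) : ∀ w ∈ W, okW L w = true ∧ ev x w ∈ K ⊓ fixS x l B := by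
  intro w hw
  simp only [chkFx, allL_true, and2_true, H29.beq_true] at hc
  obtain ⟨h1, h2⟩ := h.word (hc w hw).1
  exact ⟨(hc w hw).1, h1, mem_fixS.2 fun f hf => mem_C1_of_conj (by
    rw [(h2 f (hB f hf)).2, (hc w hw).2 f hf])⟩

noncomputable def chkCn (F : ℕ → ℕ → ℕ) (N L : ℕ) (ch : List (ℕ × List (List ℕ))) :
    List ℕ → Bool :=
  List.rec (motive := fun _ => List ℕ → Bool) (fun _ => true) (fun a _ ih B =>
    and2 (and2 (Nat.ble (Nat.succ a.1) N) (chkFx F L a.2 B))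
      (and2 (incr (mapL (fun w => actW F w a.1) a.2) 0) (ih (a.1 :: B)))) ch

theorem Ac.chain [Finite G] (h : Ac x l N F L K) (hI : Inj x l N) {Y : Subgroup G} :
    ∀ (ch : List (ℕ × List (List ℕ))) (B : List ℕ), (∀ f ∈ B, f < N) → chkCn F N L ch B = true →
      Y ≤ K ⊓ fixS x l (ch.map (·.1) ++ B) →
      (ch.map (·.2.length)).prod * Nat.card Y ≤ Nat.card ↥(K ⊓ fixS x l B)
  | [], B, _, _, hY => by simpa using H24.card_le hY
  | a :: ch, B, hB, hc, hY => by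
    rw [show chkCn F N L (a :: ch) B = and2 (and2 (Nat.ble (Nat.succ a.1) N) (chkFx F L a.2 B))
      (and2 (incr (mapL (fun w => actW F w a.1) a.2) 0) (chkCn F N L ch (a.1 :: B))) from rfl] at hc
    simp only [and2_true, ble_true] at hc
    have h1 := h.fix hB hc.1.2
    have ih := h.chain hI ch (a.1 :: B) (List.forall_mem_cons.2 ⟨hc.1.1, hB⟩) hc.2.2
      fun y hy => ⟨(hY hy).1, mem_fixS.2 fun f hf => mem_fixS.1 (hY hy).2 f (by
        simp only [List.map_cons, List.mem_append, List.mem_cons] at hf ⊢; tauto)⟩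
    rw [List.map_cons, List.prod_cons, mul_assoc]
    refine (Nat.mul_le_mul_left _ (ih.trans (H24.card_le fun y hy => ?_))).trans
      (card_mul_le_val (L := C{qv x l a.1}) (fun w hw => (h1 w hw).2) (fun u hu v hv huv => ?_) hc.2.1)
    · have := mem_fixS.1 hy.2
      exact ⟨⟨hy.1, mem_fixS.2 fun f hf => this f (List.mem_cons_of_mem _ hf)⟩,
        this _ List.mem_cons_self⟩
    · obtain ⟨a1, a2⟩ := (h.word (h1 u hu).1).2 _ hc.1.1
      obtain ⟨a3, a4⟩ := (h.word (h1 v hv).1).2 _ hc.1.1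
      refine hI _ a1 _ a3 ?_
      rw [← a2, ← a4]
      conv_rhs => rw [← conj_of_mem_C1 huv.2]
      group

noncomputable def chkOb (F : ℕ → ℕ → ℕ) (N : ℕ) (b : ℕ) (W : List (List ℕ)) (t : ℕ → Bool) : Bool :=
  frc (mapL (fun w => actW F w b) W) fun V => allN N fun n => lit n fun n => imp2 (t n) (memL n V)

theorem chkOb_true {b : ℕ} {W : List (List ℕ)} {t : ℕ → Bool} (hc : chkOb F N b W t = true)
    {n : ℕ} (hn : n < N) (ht : t n = true) : ∃ w ∈ W, actW F w b = n := by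
  simp only [chkOb, frc_eq, allN_true, lit_eq, imp2_true, memL_true, mapL_eq, List.mem_map] at hc
  exact hc n hn ht

noncomputable def cmq (mq : ℕ → ℕ → ℕ) (a b : ℕ) : Bool := Nat.beq (mq a b) (mq b a)

theorem Cd.cmq (h : Cd x l N mq) (hI : Inj x l N) {a b : ℕ} (ha : a < N) (hb : b < N) :
    cmq mq a b = true ↔ qv x l a ∈ C{qv x l b} := by
  rw [KM.cmq, H29.beq_true, mem_C1, (h.mul a ha b hb).2, (h.mul b hb a ha).2]
  exact ⟨fun e => by rw [e], hI _ (h.mul a ha b hb).1 _ (h.mul b hb a ha).1⟩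

theorem Cd.sq (h : Cd x l N mq) (hI : Inj x l N) {a : ℕ} (ha : a < N) :
    Nat.beq (mq a a) 0 = true ↔ qv x l a * qv x l a = 1 := by
  rw [H29.beq_true, (h.mul a ha a ha).2, ← qv_zero (x := x) (l := l)]
  exact ⟨fun e => by rw [e], hI _ (h.mul a ha a ha).1 _ h.pos⟩

noncomputable def chkSf (mq F : ℕ → ℕ → ℕ) (N L : ℕ) (ex : ℕ → ℕ → Bool)
    (st : List (ℕ × List (List ℕ))) : List ℕ → Bool :=
  List.rec (motive := fun _ => List ℕ → Bool) (fun _ => true) (fun a _ ih B =>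
    and2 (and2 (and2 (Nat.ble (Nat.succ a.1) N) (Nat.beq (mq a.1 a.1) 0)) (chkFx F L a.2 B))
      (and2 (chkOb F N a.1 a.2 fun n => and2 (ex a.1 n) (and2 (Nat.beq (mq n n) 0)
        (allL B fun f => not1 (xo (cmq mq n f) (cmq mq a.1 f))))) (ih (a.1 :: B)))) st

theorem Ac.sift (h : Ac x l N F L K) (hd : Cd x l N mq) (hI : Inj x l N) {Y : Subgroup G}
    (hK : K ≤ Y) (hY : Y ≤ N[gen x l]) {ex : ℕ → ℕ → Bool} :
    ∀ (st : List (ℕ × List (List ℕ))) (B : List ℕ), (∀ f ∈ B, f < N) →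
      chkSf mq F N L ex st B = true →
      (∀ y ∈ Y, ∀ a ∈ st, ∀ n < N, y⁻¹ * qv x l a.1 * y = qv x l n → ex a.1 n = true) →
      Y ⊓ fixS x l (st.map (·.1) ++ B) ≤ K → Y ⊓ fixS x l B ≤ K
  | [], _, _, _, _, h1 => h1
  | a :: st, B, hB, hc, hex, h1 => fun y hy => by
    rw [show chkSf mq F N L ex (a :: st) B = and2 (and2 (and2 (Nat.ble (Nat.succ a.1) N)
      (Nat.beq (mq a.1 a.1) 0)) (chkFx F L a.2 B))
      (and2 (chkOb F N a.1 a.2 fun n => and2 (ex a.1 n) (and2 (Nat.beq (mq n n) 0)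
        (allL B fun f => not1 (xo (cmq mq n f) (cmq mq a.1 f))))) (chkSf mq F N L ex st (a.1 :: B)))
      from rfl] at hc
    simp only [and2_true, ble_true] at hc
    obtain ⟨⟨⟨c1, c2⟩, c3⟩, c4, c5⟩ := hc
    have ih := h.sift hd hI hK hY st (a.1 :: B) (List.forall_mem_cons.2 ⟨c1, hB⟩) c5
      (fun y hy b hb => hex y hy b (List.mem_cons_of_mem _ hb))
      fun y hy => h1 ⟨hy.1, mem_fixS.2 fun f hf => mem_fixS.1 hy.2 f (by
        simp only [List.map_cons, List.mem_append, List.mem_cons] at hf ⊢; tauto)⟩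
    obtain ⟨n, hn, e⟩ := hd.cover (conj_mem' (hY hy.1) (qv_mem a.1))
    obtain ⟨w, hw, e'⟩ := chkOb_true c4 hn (by
      simp only [and2_true, allL_true, hd.sq hI hn]
      refine ⟨hex y hy.1 a List.mem_cons_self n hn e.symm, by
        rw [e, show ∀ p : G, y⁻¹ * p * y * (y⁻¹ * p * y) = y⁻¹ * (p * p) * y from fun p => by group,
          (hd.sq hI c1).1 c2]; simp, fun f hf => ?_⟩
      rw [show cmq mq n f = cmq mq a.1 f from Bool.eq_iff_iff.2 (by
        rw [hd.cmq hI hn (hB f hf), hd.cmq hI c1 (hB f hf), e, mem_C1_comm, mem_C1_comm (g := qv x l a.1)]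
        conv_lhs => rw [← conj_of_mem_C1 (mem_fixS.1 hy.2 f hf)]
        simp [mem_C1, mul_assoc]
        simp only [← mul_assoc, mul_left_inj])]
      cases cmq mq a.1 f <;> rfl)
    obtain ⟨a1, a2⟩ := h.fix hB c3 w hw
    have a3 := ((h.word a1).2 _ c1).2
    have := ih (x := y * (ev x w)⁻¹) ⟨Y.mul_mem hy.1 (Y.inv_mem (hK a2.1)), mem_fixS.2
      (List.forall_mem_cons.2 ⟨mem_C1_of_conj (by
        rw [show (y * (ev x w)⁻¹)⁻¹ * qv x l a.1 * (y * (ev x w)⁻¹) =
          ev x w * (y⁻¹ * qv x l a.1 * y) * (ev x w)⁻¹ by group, ← e, ← e', ← a3]; group),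
        mem_fixS.1 ((fixS x l B).mul_mem (mem_inf.1 hy).2 ((fixS x l B).inv_mem (mem_inf.1 a2).2))⟩)⟩
    simpa using K.mul_mem this a2.1

/-- Points reached one after the other. -/
noncomputable def chkRe (F : ℕ → ℕ → ℕ) (L : ℕ) (st : List (ℕ × ℕ)) (M : ℕ) : ℕ → Bool :=
  List.rec (motive := fun _ => ℕ → Bool) (fun V => sub M V) (fun a _ ih V =>
    and2 (and2 (bitL L a.1) (bitL V a.2)) (lit (Nat.lor V (bit (F a.1 a.2))) ih)) st

theorem Ac.reach (h : Ac x l N F L K) {b : G} {M : ℕ} : ∀ (st : List (ℕ × ℕ)) (V : ℕ),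
    chkRe F L st M V = true → (∀ n, V.testBit n = true → n < N ∧ ∃ g ∈ K, g⁻¹ * b * g = qv x l n) →
      ∀ n, M.testBit n = true → n < N ∧ ∃ g ∈ K, g⁻¹ * b * g = qv x l n
  | [], _, hc, hV => fun n hn => hV n (sub_true hc hn)
  | a :: st, V, hc, hV => by
    rw [show chkRe F L (a :: st) M V = and2 (and2 (bitL L a.1) (bitL V a.2))
      (chkRe F L st M (Nat.lor V (bit (F a.1 a.2)))) from rfl] at hc
    simp only [and2_true, bitL_true] at hc
    refine h.reach st _ hc.2 fun n hn => ?_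
    rw [lor_eq, Nat.testBit_or, Bool.or_eq_true, testBit_bit, decide_eq_true_eq] at hn
    rcases hn with hn | rfl
    · exact hV n hn
    · obtain ⟨a1, g, a2, a3⟩ := hV _ hc.1.2
      obtain ⟨a4, a5⟩ := h _ hc.1.1
      exact ⟨(a5 _ a1).1, g * x a.1, mul_mem a2 a4, by rw [← (a5 _ a1).2, ← a3]; group⟩

/-! ### Eight base points at once -/

noncomputable def run8 (tabs : ℕ → ℕ) (w : List ℕ) : ℕ → ℕ → ℕ → ℕ → ℕ → ℕ → ℕ → ℕ → ℕ :=
  List.rec (motive := fun _ => ℕ → ℕ → ℕ → ℕ → ℕ → ℕ → ℕ → ℕ → ℕ)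
    (fun a b c d e f g h => Nat.add a (Nat.mul 512 (Nat.add b (Nat.mul 512 (Nat.add c (Nat.mul 512
      (Nat.add d (Nat.mul 512 (Nat.add e (Nat.mul 512 (Nat.add f (Nat.mul 512 (Nat.add g
        (Nat.mul 512 h))))))))))))))
    (fun y _ ih a b c d e f g h => lit (tabs y) fun T => lit (lk T a) fun a => lit (lk T b) fun b =>
      lit (lk T c) fun c => lit (lk T d) fun d => lit (lk T e) fun e => lit (lk T f) fun f =>
        lit (lk T g) fun g => lit (lk T h) fun h => ih a b c d e f g h) w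

theorem run8_eq (tabs : ℕ → ℕ) : ∀ (w : List ℕ) (a b c d e f g h : ℕ), run8 tabs w a b c d e f g h =
    actW (fun c => lk (tabs c)) w a + 512 * (actW (fun c => lk (tabs c)) w b + 512 *
      (actW (fun c => lk (tabs c)) w c + 512 * (actW (fun c => lk (tabs c)) w d + 512 *
      (actW (fun c => lk (tabs c)) w e + 512 * (actW (fun c => lk (tabs c)) w f + 512 *
      (actW (fun c => lk (tabs c)) w g + 512 * actW (fun c => lk (tabs c)) w h))))))
  | [], _, _, _, _, _, _, _, _ => rfl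
  | _ :: w, _, _, _, _, _, _, _, _ => run8_eq tabs w _ _ _ _ _ _ _ _

theorem iso_run8 {tabs : ℕ → ℕ} (hI : Inj x l 512) (hA : ∀ c, Tb x l 512 (x c) (lk (tabs c)))
    (hc : ∀ c, x c ∈ C{x 0}) (hz : ∀ g ∈ C{x 0}, g ∈ fixS x l [2, 4, 8, 16, 32, 64, 128, 256] ↔
      g ∈ zpowers (x 0)) : Iso (fun w => run8 tabs w 2 4 8 16 32 64 128 256) (bar x) := by
  intro u v
  have n1 : ∀ w, ev x w ∈ C{x 0} := fun w => ev_mem fun c _ => hc c
  have T : ∀ w, Tb x l 512 (ev x w) (actW (fun c => lk (tabs c)) w) := fun w => tb_word fun c _ => hA c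
  have k : ∀ i < 512, actW (fun c => lk (tabs c)) u i = actW (fun c => lk (tabs c)) v i ↔
      ev x v * (ev x u)⁻¹ ∈ C{qv x l i} := fun i hi => by
    refine (⟨fun e => by rw [e], hI _ (T u i hi).1 _ (T v i hi).1⟩ : _ ↔ qv x l _ = qv x l _).trans ?_
    rw [← (T u i hi).2, ← (T v i hi).2, mem_C1]
    constructor <;> intro e
    · rw [← mul_left_cancel_iff (a := (ev x v)⁻¹), ← mul_right_cancel_iff (a := ev x u)]
      simpa [mul_assoc] using e
    · rw [← mul_left_cancel_iff (a := (ev x v)⁻¹), ← mul_right_cancel_iff (a := ev x u)] at e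
      simpa [mul_assoc] using e
  rw [ev_bar hc, ev_bar hc, cs_eq_cs (C1_le_N _ (n1 u)) (C1_le_N _ (n1 v)),
    ← conj_mem_iff (C1_le_N _ (n1 u)), mul_inv_cancel_left, ← hz _ (mul_mem (n1 v) (inv_mem (n1 u))),
    mem_fixS]
  simp only [List.forall_mem_cons, List.not_mem_nil, false_imp_iff, implies_true, and_true, run8_eq]
  rw [← k 2 (by norm_num), ← k 4 (by norm_num), ← k 8 (by norm_num), ← k 16 (by norm_num),
    ← k 32 (by norm_num), ← k 64 (by norm_num), ← k 128 (by norm_num), ← k 256 (by norm_num)]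
  have a := fun i (hi : i < 512) => And.intro (T u i hi).1 (T v i hi).1
  have a1 := a 2 (by norm_num)
  have a2 := a 4 (by norm_num)
  have a3 := a 8 (by norm_num)
  have a4 := a 16 (by norm_num)
  have a5 := a 32 (by norm_num)
  have a6 := a 64 (by norm_num)
  have a7 := a 128 (by norm_num)
  omega

end

end H15.KM
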