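import Mathlib
import Cfsg.Agent.H15.KM7
import Cfsg.Agent.H9.GF2
import Cfsg.Agent.H10.MGrp
import Cfsg.Agent.H10.MGen
import Cfsg.Agent.H10.CoW

/-!
# The first Conway group as a group of matrices over the field with two elements
-/

set_option autoImplicit false
set_option maxRecDepth 100000
set_option Elab.async false
set_option exponentiation.threshold 5000

namespace H15.Co

open H29 H24 Subgroup KM H9.GF2 H10 H10.Mon Cfsg

abbrev S : Type := G0 ⧸ center G0

abbrev mk : G0 →* S := QuotientGroup.mk' _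

abbrev P : Par := ⟨24, 25, 0x800000400000200000100000080000040000020000010000008000004000002000001000000800000400000200000100000080000040000020000010000008000004000002000001, 16777215, 0x400000100000040000010000004000001000000400000100000040000010000004000001000000400000100000040000010000004000001000000400000100000040000010000004000001⟩

theorem Pok : P.OK := P.ok_of (by decide +kernel)

def mu0 (c A B : ℕ) : ℕ := (Nat.xor (Nat.xor (Nat.xor (Nat.xor (Nat.xor (Nat.xor (Nat.xor (Nat.xor (Nat.xor (Nat.xor (Nat.xor (Nat.xor (Nat.xor (Nat.xor (Nat.xor (Nat.xor (Nat.xor (Nat.xor (Nat.xor (Nat.xor (Nat.xor (Nat.xor (Nat.xor (Nat.xor 0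
    (Nat.mul (Nat.land (Nat.shiftRight A 23) c) (Nat.land (Nat.shiftRight B 575) 16777215)))
    (Nat.mul (Nat.land (Nat.shiftRight A 22) c) (Nat.land (Nat.shiftRight B 550) 16777215)))
    (Nat.mul (Nat.land (Nat.shiftRight A 21) c) (Nat.land (Nat.shiftRight B 525) 16777215)))
    (Nat.mul (Nat.land (Nat.shiftRight A 20) c) (Nat.land (Nat.shiftRight B 500) 16777215)))
    (Nat.mul (Nat.land (Nat.shiftRight A 19) c) (Nat.land (Nat.shiftRight B 475) 16777215)))
    (Nat.mul (Nat.land (Nat.shiftRight A 18) c) (Nat.land (Nat.shiftRight B 450) 16777215)))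
    (Nat.mul (Nat.land (Nat.shiftRight A 17) c) (Nat.land (Nat.shiftRight B 425) 16777215)))
    (Nat.mul (Nat.land (Nat.shiftRight A 16) c) (Nat.land (Nat.shiftRight B 400) 16777215)))
    (Nat.mul (Nat.land (Nat.shiftRight A 15) c) (Nat.land (Nat.shiftRight B 375) 16777215)))
    (Nat.mul (Nat.land (Nat.shiftRight A 14) c) (Nat.land (Nat.shiftRight B 350) 16777215)))
    (Nat.mul (Nat.land (Nat.shiftRight A 13) c) (Nat.land (Nat.shiftRight B 325) 16777215)))
    (Nat.mul (Nat.land (Nat.shiftRight A 12) c) (Nat.land (Nat.shiftRight B 300) 16777215)))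
    (Nat.mul (Nat.land (Nat.shiftRight A 11) c) (Nat.land (Nat.shiftRight B 275) 16777215)))
    (Nat.mul (Nat.land (Nat.shiftRight A 10) c) (Nat.land (Nat.shiftRight B 250) 16777215)))
    (Nat.mul (Nat.land (Nat.shiftRight A 9) c) (Nat.land (Nat.shiftRight B 225) 16777215)))
    (Nat.mul (Nat.land (Nat.shiftRight A 8) c) (Nat.land (Nat.shiftRight B 200) 16777215)))
    (Nat.mul (Nat.land (Nat.shiftRight A 7) c) (Nat.land (Nat.shiftRight B 175) 16777215)))
    (Nat.mul (Nat.land (Nat.shiftRight A 6) c) (Nat.land (Nat.shiftRight B 150) 16777215)))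
    (Nat.mul (Nat.land (Nat.shiftRight A 5) c) (Nat.land (Nat.shiftRight B 125) 16777215)))
    (Nat.mul (Nat.land (Nat.shiftRight A 4) c) (Nat.land (Nat.shiftRight B 100) 16777215)))
    (Nat.mul (Nat.land (Nat.shiftRight A 3) c) (Nat.land (Nat.shiftRight B 75) 16777215)))
    (Nat.mul (Nat.land (Nat.shiftRight A 2) c) (Nat.land (Nat.shiftRight B 50) 16777215)))
    (Nat.mul (Nat.land (Nat.shiftRight A 1) c) (Nat.land (Nat.shiftRight B 25) 16777215)))
    (Nat.mul (Nat.land (Nat.shiftRight A 0) c) (Nat.land (Nat.shiftRight B 0) 16777215)))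

def mu (A B : ℕ) : ℕ := mu0 0x800000400000200000100000080000040000020000010000008000004000002000001000000800000400000200000100000080000040000020000010000008000004000002000001 A B

theorem mu_eq (A B : ℕ) : mu A B = P.mul A B := by
  simp only [Par.mul, Par.mulAux, seqN_eq]
  rfl

def full : ℕ := 0x7fffffbfffffdfffffeffffff7fffffbfffffdfffffeffffff7fffffbfffffdfffffeffffff7fffffbfffffdfffffeffffff7fffffbfffffdfffffeffffff7fffffbfffffdfffffeffffff

noncomputable def evF (L : ℕ → ℕ) (w : List ℕ) : ℕ → ℕ :=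
  List.rec (motive := fun _ => ℕ → ℕ) (fun a => Nat.land a full)
    (fun c _ ih a => lit (L c) fun b => lit (mu a b) ih) w

/-- the code of the value of a word -/
noncomputable def runL (L : ℕ → ℕ) (w : List ℕ) : ℕ :=
  List.rec (motive := fun _ => ℕ) P.one (fun c t _ => lit (L c) (evF L t)) w

theorem evF_eq (L : ℕ → ℕ) : ∀ (w : List ℕ) (a : ℕ), evF L w a = Nat.land (P.evA L w a) full
  | [], _ => rfl
  | c :: w, a => (evF_eq L w _).trans (by
    rw [mu_eq, show P.evA L (c :: w) a = seqN (P.mul a (L c)) (P.evA L w) from rfl, seqN_eq])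

theorem runL_eq (L : ℕ → ℕ) : ∀ w, runL L w = Nat.land (P.evW L w) full
  | [] => (by decide +kernel : P.one = Nat.land P.one full)
  | c :: w => evF_eq L w _

theorem full_bit (n : ℕ) : full.testBit n = decide (n / 25 < 24 ∧ n % 25 < 24) := by
  by_cases h : n < 600
  · revert n; decide +kernel
  · rw [Nat.testBit_lt_two_pow (lt_of_lt_of_le (by decide +kernel : full < 2 ^ 600)
      (Nat.pow_le_pow_right two_pos (not_lt.1 h))), decide_eq_false (by omega)]

theorem mat_eq {X Y : ℕ} : Nat.land X full = Nat.land Y full ↔ P.mat X = P.mat Y := by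
  constructor
  · intro h
    ext i j
    have := congrArg (fun x => Nat.testBit x (25 * i + j)) h
    have hi : (i : ℕ) < 24 := i.2
    have hj : (j : ℕ) < 24 := j.2
    simp only [land_eq, Nat.testBit_and, full_bit] at this
    rw [decide_eq_true (by omega), Bool.and_true, Bool.and_true] at this
    exact congrArg bz this
  · intro h
    refine Nat.eq_of_testBit_eq fun n => ?_
    simp only [land_eq, Nat.testBit_and, full_bit]
    by_cases a : n / 25 < 24 ∧ n % 25 < 24
    · have := bz_inj (congrFun (congrFun h ⟨_, a.1⟩) ⟨_, a.2⟩)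
      simp only [Nat.div_add_mod] at this
      rw [this]
    · simp [a]

/-- coordinates -/
noncomputable def ι : C ≃ₗ[ZMod 2] (Fin 24 → ZMod 2) :=
  (LinearEquiv.sumArrowLequivProdArrow (Fin 12) (Fin 12) (ZMod 2) (ZMod 2)).symm ≪≫ₗ
    LinearEquiv.funCongrLeft (ZMod 2) (ZMod 2) (finSumFinEquiv (m := 12) (n := 12)).symm

def bC : List ℕ := eC ++ fC
def dC : List ℕ := fC ++ eC
noncomputable def bs (j : ℕ) : L := lv (bC.getD j 0)
noncomputable def ds (j : ℕ) : L := lv (dC.getD j 0)

theorem bs_coe (j : Fin 24) : (bs j : V) = vc (bC.getD j 0) := lv_coe (by revert j; decide +kernel)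
theorem ds_coe (j : Fin 24) : (ds j : V) = vc (dC.getD j 0) := lv_coe (by revert j; decide +kernel)

theorem ι_kap (x : L) (i : Fin 24) : ι (kap x) i = ip x (ds i) := by fin_cases i <;> rfl

theorem ι_bs (j : Fin 24) : ι.symm (Pi.single j 1) = kap (bs j) := by
  rw [LinearEquiv.symm_apply_eq]
  ext i
  rw [ι_kap, ip_apply, bs_coe, ds_coe, dot_vc]; revert i j; decide +kernel

noncomputable def lin (g : G0) : (Fin 24 → ZMod 2) →ₗ[ZMod 2] Fin 24 → ZMod 2 :=
  ι.toLinearMap ∘ₗ (DistribSMul.toAddMonoidHom C g).toZModLinearMap 2 ∘ₗ ι.symm.toLinearMap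

theorem lin_apply (g : G0) (v : Fin 24 → ZMod 2) : lin g v = ι (g • ι.symm v) := rfl

noncomputable def val0 : G0 →* Matrix (Fin 24) (Fin 24) (ZMod 2) where
  toFun g := LinearMap.toMatrix' (lin g)
  map_one' := by
    rw [← LinearMap.toMatrix'_id]; congr 1; ext1 v; ext; simp [lin_apply]
  map_mul' g h := by
    rw [← LinearMap.toMatrix'_comp]; congr 1
    exact LinearMap.ext fun v => by simp [lin_apply, mul_smul]

theorem val0_apply (g : G0) (i j : Fin 24) : val0 g i j = ip (g • bs j) (ds i) := by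
  rw [← ι_kap, ← smul_kap, ← ι_bs]; rfl

theorem val0_eq_one {g : G0} : val0 g = 1 ↔ g ∈ center G0 := by
  constructor
  · intro h
    have h1 : lin g = LinearMap.id := LinearMap.toMatrix'.injective (by
      rw [LinearMap.toMatrix'_id]; exact h)
    exact center_of_fix fun c => by simpa [lin_apply] using LinearMap.congr_fun h1 (ι c)
  · intro h
    rcases mem_center_G0.1 h with rfl | rfl
    · exact map_one _
    · rw [← LinearMap.toMatrix'_id]
      exact congrArg LinearMap.toMatrix' (LinearMap.ext fun v => by simp [lin_apply, neg1_smul_C])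

noncomputable def val : S →* Matrix (Fin P.n) (Fin P.n) (ZMod 2) :=
  QuotientGroup.lift _ val0 fun _ h => val0_eq_one.2 h

theorem val_mk (g : G0) : val (mk g) = val0 g := rfl

theorem val_inj : Function.Injective val := fun a b h => by
  obtain ⟨g, rfl⟩ := QuotientGroup.mk'_surjective _ a
  obtain ⟨k, rfl⟩ := QuotientGroup.mk'_surjective _ b
  refine QuotientGroup.eq.2 (val0_eq_one.1 ?_)
  rw [map_mul, show val0 k = val0 g from h.symm, ← map_mul, inv_mul_cancel, map_one]

theorem val_ev {L : ℕ → ℕ} {x : ℕ → S} {w : List ℕ} (h : ∀ c ∈ w, val (x c) = P.mat (L c)) :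
    val (ev x w) = P.mat (P.evW L w) := by
  rw [Par.mat_evW Pok, ev, map_list_prod, List.map_map]
  exact congrArg _ (List.map_congr_left h)

theorem iso_runL {L : ℕ → ℕ} {x : ℕ → S} (h : ∀ c, val (x c) = P.mat (L c)) : Iso (runL L) x :=
  fun u v => by
    rw [runL_eq, runL_eq, mat_eq, ← val_ev fun c _ => h c, ← val_ev fun c _ => h c, val_inj.eq_iff]

noncomputable def chkB (M : List ℕ) (X : ℕ) : Bool :=
  and2 (isCo M) (allN 24 fun j => lit j fun j => lit (H10.app M (bC.getD j 0)) fun y =>
    allN 24 fun i => lit i fun i => Nat.beq (dotC y (dC.getD i 0) / 8 % 2).toNat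
      (Nat.land (Nat.shiftRight X (Nat.add (Nat.mul 25 i) j)) 1))

theorem val_coM {M : List ℕ} {X : ℕ} (h : chkB M X = true) : val0 (coM M) = P.mat X := by
  simp only [chkB, and2_true, allN_true, lit_eq, H29.beq_true] at h
  ext i j
  have h1 := h.2 j j.2 i i.2
  rw [val0_apply, ip_apply, coM_smul h.1 (bs_coe j) (by
    rw [bs_coe, norm_vc]; clear h1; revert j; decide +kernel), ds_coe, dot_vc, ← ZMod.intCast_mod _ 2]
  rw [land_eq, shr_eq, Nat.and_one_is_mod, Nat.shiftRight_eq_div_pow, ← Nat.toNat_testBit] at h1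
  change _ = bz (X.testBit (Nat.add (Nat.mul 25 i) j))
  generalize X.testBit _ = b at h1
  rw [show _ % ((2 : ℕ) : ℤ) = (b.toNat : ℤ) by omega]
  cases b <;> rfl

theorem val_slp {bl : List (List ℕ)} {defs : List (List ℕ)} (hs : chkSlp defs = true) {L : ℕ → ℕ}
    (h0 : ∀ c, nth [] defs c = [c] → chkB (nth [] bl c) (L c) = true)
    (h1 : ∀ c, nth [] defs c = [c] ∨ runL L (nth [] defs c) = runL L [c]) (c : ℕ) :
    val (mk (slp (coE bl) defs c)) = P.mat (L c) := by
  induction c using Nat.strong_induction_on with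
  | _ c ih =>
    by_cases h : nth [] defs c = [c]
    · rw [slp_base _ h]; exact val_coM (h0 c h)
    · rw [slp_def _ hs c, map_ev, val_ev (L := L) fun y hy =>
        ih y ((chkSlp_spec hs c).resolve_left h y hy), ← mat_eq, ← runL_eq, (h1 c).resolve_left h,
        runL_eq, mat_eq]
      rfl

/-- the image of the monomial group -/
noncomputable def K0 : Subgroup S := N0.map mk

theorem mk_mem_K0 {g : G0} : mk g ∈ K0 ↔ g • Om = Om := by
  rw [fix_Om]
  refine ⟨?_, mem_map_of_mem _⟩
  rintro ⟨k, h1, h2⟩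
  rcases mem_center_G0.1 (QuotientGroup.eq.1 h2) with h | h <;> rw [inv_mul_eq_iff_eq_mul.1 h]
  · simpa using h1
  · exact mul_mem h1 neg1_mem_N0

theorem card_K0 : Nat.card K0 = 2048 * 244823040 := by
  have h1 : center G0 ≤ N0 := fun g hg => by
    rcases mem_center_G0.1 hg with rfl | rfl
    exacts [one_mem _, neg1_mem_N0]
  have h2 := card_mul_index (mk.comp N0.subtype).ker
  rw [index_ker, MonoidHom.range_comp, range_subtype, card_N0, ← MonoidHom.comap_ker,
    QuotientGroup.ker_mk', ← subgroupOf, Nat.card_congr (subgroupOfEquivOfLe h1).toEquiv,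
    card_center] at h2
  change _ * Nat.card K0 = _ at h2
  omega

theorem coatom_K0 {D : Subgroup S} (h1 : K0 ≤ D) {x : S} (h2 : x ∈ D) (h3 : x ∉ K0) : D = ⊤ := by
  obtain ⟨g, rfl⟩ := QuotientGroup.mk'_surjective _ x
  have := isCoatom_N0.2 (D.comap mk) (lt_of_le_of_ne (map_le_iff_le_comap.1 h1) fun h =>
    h3 (mem_map_of_mem _ (h.ge h2)))
  rw [← map_comap_eq_self_of_surjective (QuotientGroup.mk'_surjective _) D, this,
    map_top_of_surjective _ (QuotientGroup.mk'_surjective _)]

noncomputable def fixO (X : ℕ) : Bool :=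
  allN 24 fun i => lit i fun i => Nat.beq (Nat.land (Nat.shiftRight X (Nat.add (Nat.mul 25 i) 23)) 1)
    (Bool.rec 0 1 (Nat.beq i 23))

theorem Om_bs : Om = kap (bs (23 : Fin 24)) := Om_eq.trans (kap_fL 11).symm

theorem mem_K0 {x : S} {X : ℕ} (h : val x = P.mat X) : x ∈ K0 ↔ fixO X = true := by
  obtain ⟨g, rfl⟩ := QuotientGroup.mk'_surjective _ x
  have e : ι Om = Pi.single 23 1 := by rw [Om_bs, ← ι_bs 23, LinearEquiv.apply_symm_apply]
  have k : ∀ (i : Fin 24) (b : Bool), bz b = (Pi.single 23 1 : Fin 24 → ZMod 2) i ↔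
      b.toNat = Bool.rec 0 1 (Nat.beq i 23) := by decide +kernel
  have k2 : ∀ i : Fin 24, ι (g • Om) i = bz (X.testBit (Nat.add (Nat.mul 25 i) 23)) := fun i => by
    rw [Om_bs, smul_kap, ι_kap, ← val0_apply g i 23, ← val_mk, h]; rfl
  rw [mk_mem_K0, ← ι.injective.eq_iff, e, funext_iff, fixO, allN_true]
  simp only [k2, k, lit_eq, H29.beq_true, land_eq, shr_eq, Nat.and_one_is_mod,
    Nat.shiftRight_eq_div_pow, ← Nat.toNat_testBit]
  exact ⟨fun a i hi => a ⟨i, hi⟩, fun a i => a i i.2⟩

end H15.Co
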