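import Mathlib
import Cfsg.Agent.H15.CoD2

/-!
# A search in the Golay code modulo the all-one word
-/

set_option autoImplicit false
set_option maxRecDepth 100000
set_option Elab.async false

namespace H15.Co

open H29 KM

noncomputable def tlW (w : List ℕ) : ℕ → ℕ :=
  List.rec (motive := fun _ => ℕ → ℕ) (fun M => M)
    (fun i _ ih M => lit (dswap (bit i) (nth 0 LMk i) M) ih) w

def xW : List ℕ → ℕ
  | [] => 0
  | i :: w => Nat.xor (bit i) (xW w)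

def I11 : List ℕ := [0, 1, 2, 3, 4, 5, 6, 7, 8, 9, 10]

/-- translation of a set of codes -/
noncomputable def tl1 (a : ℕ) : ℕ → ℕ := frc (mw I11 a) tlW

theorem xor_lt {a b : ℕ} (ha : a < 2048) (hb : b < 2048) : Nat.xor a b < 2048 :=
  Nat.xor_lt_two_pow (n := 11) ha hb

theorem swap_eq (d m x : ℕ) : swapFun d m x = Bool.rec (Bool.rec x (Nat.sub x d)
    (and2 (Nat.ble d x) (bitL m (Nat.sub x d)))) (Nat.add x d) (bitL m x) := by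
  unfold swapFun
  split_ifs with h1 h2
  · rw [bitL_true.2 h1]; rfl
  · rw [Bool.eq_false_iff.2 (mt bitL_true.1 h1), show and2 (Nat.ble d x) (bitL m (Nat.sub x d)) = true
      from and2_true.2 ⟨ble_true.2 h2.1, bitL_true.2 h2.2⟩]; rfl
  · rw [Bool.eq_false_iff.2 (mt bitL_true.1 h1), show and2 (Nat.ble d x) (bitL m (Nat.sub x d)) = false
      from Bool.eq_false_iff.2 fun a => h2 ⟨ble_true.1 (and2_true.1 a).1, bitL_true.1 (and2_true.1 a).2⟩]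

theorem swap_ok : (allL I11 fun i => lit (nth 0 LMk i) fun m => lit (bit i) fun d =>
    and2 (Nat.ble (Nat.succ d) 2048) (and2 (Nat.beq (Nat.land m (Nat.shiftLeft m d)) 0)
      (allN 2048 fun x => lit x fun x => Nat.beq (Bool.rec (Bool.rec x (Nat.sub x d)
        (and2 (Nat.ble d x) (bitL m (Nat.sub x d)))) (Nat.add x d) (bitL m x)) (Nat.xor d x)))) = true := by
  decide +kernel

theorem tlW_bit : ∀ {w : List ℕ}, (∀ i ∈ w, i ∈ I11) → xW w < 2048 ∧ ∀ M, ∀ x < 2048,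
    (tlW w M).testBit x = M.testBit (Nat.xor x (xW w))
  | [], _ => ⟨by decide, fun M x _ => by simp [tlW, xW]⟩
  | i :: w, h => by
    obtain ⟨h1, h2⟩ := tlW_bit fun y hy => h y (List.mem_cons_of_mem _ hy)
    have := allL_true.1 swap_ok i (h i List.mem_cons_self)
    simp only [lit_eq, and2_true, allN_true, ble_true, H29.beq_true, ← swap_eq] at this
    obtain ⟨a1, a2, a3⟩ := this
    refine ⟨xor_lt a1 h1, fun M x hx => ?_⟩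
    rw [show tlW (i :: w) M = tlW w (dswap (bit i) (nth 0 LMk i) M) from rfl, h2 _ x hx,
      testBit_dswap a2, a3 _ (xor_lt hx h1), xW]
    simp only [xor_eq, Nat.xor_left_comm]

theorem tl1_bit {a x : ℕ} (ha : a < 2048) (hx : x < 2048) (M : ℕ) :
    (tl1 a M).testBit x = M.testBit (Nat.xor x a) := by
  rw [tl1, frc_eq, (tlW_bit (mem_mw _ _)).2 M x hx, H29.beq_true.1 (allN_true.1 (by decide +kernel :
    (allN 2048 fun a => lit a fun a => Nat.beq (xW (mw I11 a)) a) = true) a ha)]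

noncomputable def hb (C : ℕ) : ℕ :=
  List.rec (motive := fun _ => ℕ) 0 (fun k _ ih => lit ih fun a => lit (Nat.add a k) fun b =>
    Bool.rec b a (Nat.beq (Nat.shiftRight C b) 0)) [1, 2, 4, 8, 16, 32, 64, 128, 256, 512, 1024]

noncomputable def allB (f : ℕ → Bool) (n : ℕ) : ℕ → Bool :=
  Nat.rec (motive := fun _ => ℕ → Bool) (fun C => Nat.beq C 0) (fun _ ih C => or2 (Nat.beq C 0)
    (lit (hb C) fun v => and2 (f v) (lit (Nat.xor C (bit v)) ih))) n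

theorem allB_true {f : ℕ → Bool} {v : ℕ} : ∀ {n C : ℕ}, allB f n C = true → C.testBit v = true →
    f v = true
  | 0, C, h, hv => by simp [H29.beq_true.1 h] at hv
  | n + 1, C, h, hv => by
    rw [show allB f (n + 1) C = or2 (Nat.beq C 0) (and2 (f (hb C)) (allB f n (Nat.xor C (bit (hb C)))))
      from rfl, or2_true, and2_true, H29.beq_true] at h
    rcases h with rfl | h
    · simp at hv
    · by_cases a : (hb C) = v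
      · exact a ▸ h.1
      · exact allB_true h.2 (by simp [testBit_bit, hv, a])

noncomputable def srch (n : ℕ) : ℕ → ℕ → ℕ → Bool :=
  Nat.rec (motive := fun _ => ℕ → ℕ → ℕ → Bool) (fun _ _ _ => false) (fun _ ih P U W =>
    lit (hb U) fun o => and2 (and2 (bitL U o) (Nat.ble (Nat.succ o) 2048))
      (lit (Nat.land P (tl1 o mO)) (allB (fun v => lit (tl1 v W) fun X => lit (Nat.land P (tl1 v P))
        fun P' => lit (Nat.xor U (Nat.land U X)) fun U' => lit (Nat.lor W X) (ih P' U')) 2048))) n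

variable {B : Set ℕ}

structure Inv (B C : Set ℕ) (P U W : ℕ) : Prop where
  sub : C ⊆ B
  p : ∀ u ∈ B, u ∉ C → P.testBit u = true
  u : ∀ o < 2048, U.testBit o = true → ∃ u ∈ B, u ∉ C ∧ mO.testBit (Nat.xor u o) = true
  w : ∀ b ∈ C, ∀ x < 2048, mO.testBit (Nat.xor x b) = true → W.testBit x = true

theorem Inv.step (hB : ∀ a ∈ B, a < 2048 ∧ ∀ b ∈ B, Nat.xor a b ∈ B) {C : Set ℕ} {P U W v : ℕ}
    (h : Inv B C P U W) (hv : v ∈ B) : Inv B (C ∪ {x | x < 2048 ∧ Nat.xor x v ∈ C})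
      (Nat.land P (tl1 v P)) (Nat.xor U (Nat.land U (tl1 v W))) (Nat.lor W (tl1 v W)) := by
  have v1 := (hB v hv).1
  refine ⟨?_, fun u a b => ?_, fun o a b => ?_, fun b a x c d => ?_⟩
  · rintro x (a | a)
    · exact h.sub a
    · simpa [xor_eq] using (hB _ (h.sub a.2)).2 v hv
  · rw [land_eq, Nat.testBit_and, h.p u a fun c => b (.inl c), tl1_bit v1 (hB u a).1,
      h.p _ ((hB u a).2 v hv) fun c => b (.inr ⟨(hB u a).1, c⟩)]; rfl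
  · rw [xor_eq, land_eq, Nat.testBit_xor, Nat.testBit_and, tl1_bit v1 a] at b
    obtain ⟨u, c1, c2, c3⟩ := h.u o a (by cases d : U.testBit o <;> simp_all)
    refine ⟨u, c1, fun d => d.elim c2 fun d => ?_, c3⟩
    rw [h.w _ d.2 _ (xor_lt a v1) (by
      rwa [xor_eq, xor_eq, xor_eq, Nat.xor_comm u, ← Nat.xor_assoc, Nat.xor_xor_cancel_right,
        Nat.xor_comm])] at b
    simp at b
  · rw [lor_eq, Nat.testBit_or, tl1_bit v1 c, Bool.or_eq_true]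
    exact a.imp (fun a => h.w b a x c d) fun a => h.w _ a.2 _ (xor_lt c v1) (by
      rwa [xor_eq, xor_eq, xor_eq, Nat.xor_comm b, ← Nat.xor_assoc, Nat.xor_xor_cancel_right])

theorem Inv.no (hB : ∀ a ∈ B, a < 2048 ∧ ∀ b ∈ B, Nat.xor a b ∈ B) : ∀ {n : ℕ} {C : Set ℕ} {P U W : ℕ},
    Inv B C P U W → srch n P U W ≠ true
  | 0, _, _, _, _, _ => Bool.false_ne_true
  | n + 1, C, P, U, W, h => fun hc => by
    rw [show srch (n + 1) P U W = and2 (and2 (bitL U (hb U)) (Nat.ble (Nat.succ (hb U)) 2048))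
      (allB (fun v => srch n (Nat.land P (tl1 v P)) (Nat.xor U (Nat.land U (tl1 v W)))
        (Nat.lor W (tl1 v W))) 2048 (Nat.land P (tl1 (hb U) mO))) from rfl] at hc
    simp only [and2_true, bitL_true, ble_true] at hc
    obtain ⟨u, a1, a2, a3⟩ := h.u _ hc.1.2 hc.1.1
    have := allB_true hc.2 (v := u) (by
      rw [land_eq, Nat.testBit_and, h.p u a1 a2, tl1_bit hc.1.2 (hB u a1).1, a3]; rfl)
    exact (h.step hB a1).no hB this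

noncomputable def srch2 (n a b P U W : ℕ) : Bool :=
  lit U fun U => lit (tl1 a W) fun X => lit (Nat.land P (tl1 a P)) fun P =>
    lit (Nat.xor U (Nat.land U X)) fun U => lit (Nat.lor W X) fun W => lit (tl1 b W) fun X =>
      lit (Nat.land P (tl1 b P)) fun P => lit (Nat.xor U (Nat.land U X)) fun U =>
        lit (Nat.lor W X) (srch n P U)

theorem Inv.no2 (hB : ∀ a ∈ B, a < 2048 ∧ ∀ b ∈ B, Nat.xor a b ∈ B) {n a b : ℕ} {C : Set ℕ}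
    {P U W : ℕ} (h : Inv B C P U W) (ha : a ∈ B) (hb : b ∈ B) (hc : srch2 n a b P U W = true) :
    False := by
  simp only [srch2, lit_eq] at hc
  exact ((h.step hB ha).step hB hb).no hB hc

theorem srch_ok : srch2 2 40 76 mD (Nat.land mO (tl1 40 mD)) mO = true := by decide +kernel

theorem no_pure (hB : ∀ a ∈ B, a < 2048 ∧ ∀ b ∈ B, Nat.xor a b ∈ B) (h0 : 76 ∈ B) (h1 : 40 ∈ B)
    (h2 : ∀ a ∈ B, a ≠ 0 → mD.testBit a = true)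
    (h3 : ∀ o < 2048, mO.testBit o = true → mD.testBit (Nat.xor o 40) = true →
      ∃ u ∈ B, u ≠ 0 ∧ mO.testBit (Nat.xor u o) = true) : False := by
  refine Inv.no2 hB (C := {0}) ⟨?_, h2, fun o a b => ?_, ?_⟩ h1 h0 srch_ok
  · simpa using (hB _ h1).2 _ h1
  · rw [land_eq, Nat.testBit_and, tl1_bit (by norm_num) a, Bool.and_eq_true] at b
    exact h3 o a b.1 b.2
  · rintro _ rfl x _ a
    simpa using a

def RW : List (ℕ × List ℕ) := [(322, [53, 46, 2, 60, 26, 52, 25, 52, 46, 53, 46]),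
  (327, [32, 53, 46, 2, 60, 26, 52, 25, 53, 46, 2]),
  (329, [52, 4, 46, 6, 60, 26, 52, 25, 53, 46, 2]),
  (332, [53, 46, 2, 60, 26, 52, 25, 53, 46, 34]),
  (339, [52, 46, 4, 33, 60, 26, 52, 25, 53, 46, 2]),
  (343, [28, 45, 53, 4, 60, 26, 52, 25, 45, 52, 28]),
  (346, [52, 30, 46, 6, 60, 26, 52, 25, 53, 46, 2]),
  (350, [53, 46, 34, 60, 26, 52, 25, 53, 46, 2]),
  (353, [53, 46, 8, 2, 60, 26, 52, 25, 53, 46, 2]),
  (356, [53, 46, 2, 60, 26, 52, 25, 53, 46, 2]),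
  (362, [53, 45, 53, 45, 60, 26, 52, 25, 45, 52, 28]),
  (367, [53, 46, 2, 60, 26, 52, 25, 46, 28, 45, 33]),
  (370, [53, 46, 34, 60, 26, 52, 25, 28, 45, 53, 4]),
  (374, [53, 46, 34, 60, 26, 52, 25, 53, 46, 34]),
  (379, [53, 46, 33, 6, 60, 26, 52, 25, 53, 46, 2]),
  (383, [53, 6, 46, 33, 60, 26, 52, 25, 53, 46, 2]),
  (450, [2, 45, 53, 60, 26, 52, 25, 45, 52, 28]),
  (453, [2, 45, 53, 60, 26, 52, 25, 45, 53, 34, 4]),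
  (458, [33, 45, 52, 2, 60, 26, 52, 25, 45, 52, 28]),
  (461, [46, 53, 46, 53, 60, 26, 52, 25, 53, 46, 2]),
  (467, [45, 53, 34, 4, 60, 26, 52, 25, 45, 52, 28]),
  (469, [45, 4, 53, 34, 60, 26, 52, 25, 45, 52, 28]),
  (473, [34, 45, 53, 60, 26, 52, 25, 45, 52, 28]),
  (479, [45, 52, 28, 60, 26, 52, 25, 53, 46, 2]),
  (482, [2, 30, 45, 52, 60, 26, 52, 25, 45, 52, 28]),
  (485, [2, 32, 45, 53, 60, 26, 52, 25, 45, 52, 28]),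
  (490, [45, 53, 2, 28, 60, 26, 52, 25, 53, 46, 2]),
  (493, [2, 45, 53, 60, 26, 52, 25, 2, 45, 53]),
  (497, [34, 45, 53, 60, 26, 52, 25, 33, 45, 52, 2]),
  (503, [45, 52, 28, 60, 26, 52, 25, 53, 46, 34]),
  (507, [30, 45, 53, 28, 60, 26, 52, 25, 53, 46, 2]),
  (509, [32, 45, 52, 28, 60, 26, 52, 25, 53, 46, 2]),
  (641, [60, 26, 52, 25, 53, 46, 2]),
  (642, [8, 60, 26, 52, 25, 53, 46, 2]),
  (653, [60, 26, 52, 25, 46, 28, 45, 33]),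
  (654, [8, 60, 26, 52, 25, 46, 28, 45, 33]),
  (661, [2, 28, 33, 60, 26, 52, 25, 45, 52, 28]),
  (663, [33, 6, 2, 60, 26, 52, 25, 53, 46, 2]),
  (669, [34, 2, 60, 26, 52, 25, 28, 45, 53, 4]),
  (671, [34, 2, 60, 26, 52, 25, 53, 46, 34]),
  (677, [8, 60, 26, 52, 25, 52, 46, 53, 46]),
  (678, [60, 26, 52, 25, 52, 46, 53, 46]),
  (681, [60, 26, 52, 25, 53, 46, 34]),
  (682, [60, 26, 52, 25, 28, 45, 53, 4]),
  (693, [34, 8, 2, 60, 26, 52, 25, 53, 46, 2]),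
  (695, [34, 2, 60, 26, 52, 25, 53, 46, 2]),
  (701, [33, 30, 4, 2, 60, 26, 52, 25, 53, 46, 2]),
  (703, [33, 28, 2, 60, 26, 52, 25, 45, 52, 28]),
  (705, [60, 26, 52, 25, 53, 45, 53, 45]),
  (706, [8, 60, 26, 52, 25, 53, 45, 53, 45]),
  (716, [60, 26, 52, 25, 33, 45, 52, 2]),
  (719, [60, 26, 52, 25, 2, 45, 53]),
  (720, [34, 2, 60, 26, 52, 25, 2, 45, 53]),
  (722, [34, 2, 60, 26, 52, 25, 33, 45, 52, 2]),
  (729, [2, 28, 33, 60, 26, 52, 25, 53, 46, 2]),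
  (731, [33, 6, 2, 60, 26, 52, 25, 45, 52, 28]),
  (740, [60, 26, 52, 25, 45, 52, 28]),
  (743, [60, 26, 52, 25, 45, 53, 34, 4]),
  (745, [8, 60, 26, 52, 25, 45, 53, 45, 52]),
  (746, [60, 26, 52, 25, 45, 53, 45, 52]),
  (753, [2, 28, 33, 60, 26, 52, 25, 53, 46, 34]),
  (755, [33, 28, 2, 60, 26, 52, 25, 53, 46, 2]),
  (760, [34, 2, 60, 26, 52, 25, 45, 53, 34, 4]),
  (762, [34, 2, 60, 26, 52, 25, 45, 52, 28]),
  (833, [53, 46, 34, 60, 26, 52, 25, 45, 52, 28]),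
  (837, [53, 30, 46, 28, 60, 26, 52, 25, 53, 46, 2]),
  (841, [28, 45, 53, 4, 60, 26, 52, 25, 53, 46, 2]),
  (845, [52, 46, 4, 33, 60, 26, 52, 25, 45, 52, 28]),
  (851, [53, 46, 2, 60, 26, 52, 25, 45, 52, 28]),
  (854, [52, 46, 2, 28, 60, 26, 52, 25, 53, 46, 2]),
  (857, [53, 45, 53, 45, 60, 26, 52, 25, 53, 46, 2]),
  (860, [53, 46, 2, 60, 26, 52, 25, 45, 53, 45, 52]),
  (865, [53, 46, 28, 33, 60, 26, 52, 25, 53, 46, 2]),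
  (869, [52, 46, 33, 28, 60, 26, 52, 25, 53, 46, 2]),
  (873, [53, 46, 34, 60, 26, 52, 25, 33, 45, 52, 2]),
  (877, [53, 46, 34, 60, 26, 52, 25, 2, 45, 53]),
  (881, [32, 53, 46, 2, 60, 26, 52, 25, 45, 52, 28]),
  (884, [32, 52, 46, 2, 28, 60, 26, 52, 25, 53, 46, 2]),
  (891, [53, 46, 2, 60, 26, 52, 25, 33, 45, 52, 2]),
  (894, [53, 46, 2, 60, 26, 52, 25, 2, 45, 53]),
  (898, [33, 45, 53, 6, 60, 26, 52, 25, 53, 46, 2]),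
  (900, [45, 53, 34, 30, 60, 26, 52, 25, 53, 46, 2]),
  (905, [34, 45, 53, 60, 26, 52, 25, 53, 46, 34]),
  (911, [45, 52, 6, 4, 60, 26, 52, 25, 53, 46, 2]),
  (915, [2, 45, 53, 60, 26, 52, 25, 53, 46, 2]),
  (916, [2, 45, 53, 8, 60, 26, 52, 25, 53, 46, 2]),
  (922, [33, 45, 52, 2, 60, 26, 52, 25, 53, 46, 2]),
  (925, [2, 32, 45, 53, 60, 26, 52, 25, 53, 46, 34]),
  (929, [34, 45, 53, 60, 26, 52, 25, 53, 46, 2]),
  (935, [45, 52, 28, 60, 26, 52, 25, 45, 52, 28]),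
  (938, [45, 53, 34, 4, 60, 26, 52, 25, 53, 46, 2]),
  (940, [45, 4, 53, 34, 60, 26, 52, 25, 53, 46, 2]),
  (946, [2, 30, 45, 52, 60, 26, 52, 25, 53, 46, 2]),
  (949, [2, 32, 45, 53, 60, 26, 52, 25, 53, 46, 2]),
  (955, [2, 45, 53, 60, 26, 52, 25, 53, 46, 34]),
  (956, [45, 53, 30, 2, 60, 26, 52, 25, 53, 46, 2]),
  (1057, [53, 45, 53, 45, 60, 26, 52, 25, 53, 46, 34, 60, 26, 52, 25, 53, 46, 2]),
  (1058, [34, 45, 53, 60, 26, 52, 25, 34, 45, 53, 60, 26, 52, 25, 45, 52, 28]),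
  (1063, [60, 26, 52, 25, 52, 4, 46, 6, 60, 26, 52, 25, 53, 46, 2]),
  (1064, [53, 46, 2, 60, 26, 52, 25, 52, 46, 2, 28, 60, 26, 52, 25, 53, 46, 2]),
  (1067, [45, 52, 28, 60, 26, 52, 25, 52, 4, 46, 6, 60, 26, 52, 25, 53, 46, 2]),
  (1070, [60, 26, 52, 25, 53, 45, 53, 45, 60, 26, 52, 25, 45, 52, 28]),
  (1075, [60, 26, 52, 25, 45, 53, 2, 28, 60, 26, 52, 25, 53, 46, 2]),
  (1077, [53, 46, 32, 2, 60, 26, 52, 25, 2, 45, 53, 60, 26, 52, 25, 53, 46, 2]),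
  (1078, [34, 45, 53, 60, 26, 52, 25, 52, 30, 46, 6, 60, 26, 52, 25, 53, 46, 2]),
  (1083, [60, 26, 52, 25, 33, 45, 52, 2, 60, 26, 52, 25, 45, 52, 28]),
  (1085, [53, 46, 2, 60, 26, 52, 25, 2, 45, 53, 8, 60, 26, 52, 25, 53, 46, 2]),
  (1086, [34, 45, 53, 60, 26, 52, 25, 53, 46, 33, 6, 60, 26, 52, 25, 53, 46, 2]),
  (1121, [34, 45, 53, 60, 26, 52, 25, 53, 46, 2, 60, 26, 52, 25, 45, 52, 28]),
  (1122, [53, 46, 2, 60, 26, 52, 25, 34, 45, 53, 60, 26, 52, 25, 45, 52, 28]),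
  (1124, [60, 26, 52, 25, 53, 46, 2, 60, 26, 52, 25, 53, 46, 34]),
  (1128, [45, 52, 28, 60, 26, 52, 25, 45, 52, 6, 4, 60, 26, 52, 25, 53, 46, 2]),
  (1131, [53, 46, 32, 2, 60, 26, 52, 25, 45, 52, 28, 60, 26, 52, 25, 53, 46, 2]),
  (1133, [60, 26, 52, 25, 53, 46, 2, 60, 26, 52, 25, 46, 28, 45, 33]),
  (1138, [60, 26, 52, 25, 2, 45, 53, 60, 26, 52, 25, 2, 45, 53]),
  (1140, [53, 46, 2, 60, 26, 52, 25, 52, 30, 46, 6, 60, 26, 52, 25, 53, 46, 2]),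
  (1143, [34, 45, 53, 60, 26, 52, 25, 2, 45, 53, 60, 26, 52, 25, 53, 46, 2]),
  (1146, [60, 26, 52, 25, 46, 53, 46, 53, 60, 26, 52, 25, 53, 46, 2]),
  (1148, [53, 46, 2, 60, 26, 52, 25, 53, 46, 33, 6, 60, 26, 52, 25, 53, 46, 2]),
  (1151, [45, 32, 53, 34, 60, 26, 52, 25, 53, 46, 34, 60, 26, 52, 25, 53, 46, 2]),
  (1153, [46, 28, 45, 33, 60, 26, 52, 25, 45, 52, 28, 60, 26, 52, 25, 53, 46, 2]),
  (1154, [53, 46, 34, 60, 26, 52, 25, 53, 46, 34, 60, 26, 52, 25, 2, 45, 53]),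
  (1157, [60, 26, 52, 25, 53, 46, 34, 60, 26, 52, 25, 53, 46, 2]),
  (1161, [53, 46, 28, 33, 60, 26, 52, 25, 53, 46, 34, 60, 26, 52, 25, 53, 46, 2]),
  (1162, [2, 45, 53, 60, 26, 52, 25, 53, 46, 34, 60, 26, 52, 25, 2, 45, 53]),
  (1166, [60, 26, 52, 25, 53, 6, 46, 33, 60, 26, 52, 25, 53, 46, 2]),
  (1169, [8, 60, 26, 52, 25, 45, 52, 28, 60, 26, 52, 25, 53, 46, 2]),
  (1173, [2, 45, 53, 60, 26, 52, 25, 45, 52, 6, 4, 60, 26, 52, 25, 53, 46, 2]),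
  (1174, [53, 32, 46, 28, 60, 26, 52, 25, 45, 52, 28, 60, 26, 52, 25, 53, 46, 2]),
  (1179, [60, 26, 52, 25, 45, 52, 28, 60, 26, 52, 25, 53, 46, 2]),
  (1180, [53, 46, 34, 60, 26, 52, 25, 45, 52, 6, 4, 60, 26, 52, 25, 53, 46, 2]),
  (1183, [33, 45, 52, 2, 60, 26, 52, 25, 53, 46, 34, 60, 26, 52, 25, 53, 46, 2]),
  (1217, [2, 45, 53, 60, 26, 52, 25, 2, 45, 53, 60, 26, 52, 25, 2, 45, 53]),
  (1218, [53, 46, 34, 60, 26, 52, 25, 45, 53, 2, 28, 60, 26, 52, 25, 53, 46, 2]),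
  (1221, [60, 26, 52, 25, 52, 30, 46, 6, 60, 26, 52, 25, 53, 46, 2]),
  (1225, [52, 46, 4, 33, 60, 26, 52, 25, 53, 46, 2, 60, 26, 52, 25, 45, 52, 28]),
  (1226, [45, 32, 53, 2, 60, 26, 52, 25, 45, 52, 28, 60, 26, 52, 25, 53, 46, 2]),
  (1230, [60, 26, 52, 25, 53, 46, 33, 6, 60, 26, 52, 25, 53, 46, 2]),
  (1235, [60, 26, 52, 25, 30, 45, 53, 28, 60, 26, 52, 25, 53, 46, 2]),
  (1236, [53, 30, 46, 28, 60, 26, 52, 25, 45, 52, 28, 60, 26, 52, 25, 53, 46, 2]),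
  (1239, [46, 28, 45, 33, 60, 26, 52, 25, 2, 45, 53, 60, 26, 52, 25, 53, 46, 2]),
  (1241, [60, 26, 52, 25, 34, 45, 53, 60, 26, 52, 25, 45, 52, 28]),
  (1245, [2, 45, 53, 60, 26, 52, 25, 53, 46, 2, 60, 26, 52, 25, 53, 46, 34]),
  (1246, [53, 46, 34, 60, 26, 52, 25, 52, 4, 46, 6, 60, 26, 52, 25, 53, 46, 2]),
  (1314, [34, 2, 60, 26, 52, 25, 28, 45, 53, 4, 60, 26, 52, 25, 53, 46, 2]),
  (1317, [53, 46, 2, 60, 26, 52, 25, 45, 52, 6, 4, 60, 26, 52, 25, 53, 46, 2]),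
  (1319, [46, 53, 46, 53, 60, 26, 52, 25, 45, 52, 28, 60, 26, 52, 25, 53, 46, 2]),
  (1321, [53, 46, 2, 60, 26, 52, 25, 45, 4, 53, 34, 60, 26, 52, 25, 53, 46, 2]),
  (1323, [2, 45, 53, 60, 26, 52, 25, 2, 45, 53, 8, 60, 26, 52, 25, 53, 46, 2]),
  (1326, [34, 2, 60, 26, 52, 25, 53, 46, 34, 60, 26, 52, 25, 33, 45, 52, 2]),
  (1328, [53, 4, 46, 30, 60, 26, 52, 25, 53, 46, 2, 60, 26, 52, 25, 45, 52, 28]),
  (1330, [2, 30, 45, 52, 60, 26, 52, 25, 45, 52, 28, 60, 26, 52, 25, 53, 46, 2]),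
  (1335, [34, 2, 60, 26, 52, 25, 45, 53, 34, 4, 60, 26, 52, 25, 53, 46, 2]),
  (1338, [34, 2, 60, 26, 52, 25, 34, 45, 53, 60, 26, 52, 25, 53, 46, 34]),
  (1341, [53, 46, 2, 60, 26, 52, 25, 53, 46, 34, 60, 26, 52, 25, 2, 45, 53]),
  (1343, [2, 45, 53, 60, 26, 52, 25, 52, 46, 2, 28, 60, 26, 52, 25, 53, 46, 2]),
  (1346, [34, 2, 60, 26, 52, 25, 53, 46, 34, 60, 26, 52, 25, 2, 45, 53]),
  (1349, [52, 46, 2, 28, 60, 26, 52, 25, 45, 52, 28, 60, 26, 52, 25, 53, 46, 2]),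
  (1351, [2, 45, 53, 60, 26, 52, 25, 53, 46, 34, 60, 26, 52, 25, 53, 46, 2]),
  (1353, [53, 46, 2, 60, 26, 52, 25, 52, 4, 46, 6, 60, 26, 52, 25, 53, 46, 2]),
  (1355, [2, 45, 53, 60, 26, 52, 25, 53, 6, 46, 33, 60, 26, 52, 25, 53, 46, 2]),
  (1358, [2, 28, 33, 60, 26, 52, 25, 53, 46, 34, 60, 26, 52, 25, 53, 46, 2]),
  (1360, [2, 45, 53, 60, 26, 52, 25, 45, 52, 28, 60, 26, 52, 25, 53, 46, 2]),
  (1362, [53, 46, 2, 60, 26, 52, 25, 45, 53, 2, 28, 60, 26, 52, 25, 53, 46, 2]),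
  (1365, [34, 2, 60, 26, 52, 25, 45, 52, 6, 4, 60, 26, 52, 25, 53, 46, 2]),
  (1368, [34, 2, 60, 26, 52, 25, 45, 4, 53, 34, 60, 26, 52, 25, 53, 46, 2]),
  (1373, [2, 45, 53, 8, 60, 26, 52, 25, 45, 52, 28, 60, 26, 52, 25, 53, 46, 2]),
  (1375, [52, 34, 4, 46, 60, 26, 52, 25, 45, 52, 28, 60, 26, 52, 25, 53, 46, 2]),
  (1410, [33, 6, 2, 60, 26, 52, 25, 53, 46, 34, 60, 26, 52, 25, 53, 46, 2]),
  (1412, [53, 46, 34, 60, 26, 52, 25, 52, 46, 2, 28, 60, 26, 52, 25, 53, 46, 2]),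
  (1414, [45, 52, 28, 60, 26, 52, 25, 52, 30, 46, 6, 60, 26, 52, 25, 53, 46, 2]),
  (1416, [45, 52, 28, 60, 26, 52, 25, 53, 46, 33, 6, 60, 26, 52, 25, 53, 46, 2]),
  (1418, [53, 46, 33, 6, 60, 26, 52, 25, 45, 52, 28, 60, 26, 52, 25, 53, 46, 2]),
  (1420, [34, 2, 60, 26, 52, 25, 2, 45, 53, 8, 60, 26, 52, 25, 53, 46, 2]),
  (1425, [53, 46, 34, 60, 26, 52, 25, 2, 45, 53, 8, 60, 26, 52, 25, 53, 46, 2]),
  (1427, [45, 52, 28, 60, 26, 52, 25, 34, 45, 53, 60, 26, 52, 25, 45, 52, 28]),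
  (1431, [34, 2, 60, 26, 52, 25, 52, 46, 2, 28, 60, 26, 52, 25, 53, 46, 2]),
  (1432, [33, 6, 2, 60, 26, 52, 25, 45, 52, 28, 60, 26, 52, 25, 53, 46, 2]),
  (1436, [34, 45, 53, 60, 26, 52, 25, 52, 4, 46, 6, 60, 26, 52, 25, 53, 46, 2]),
  (1438, [45, 53, 45, 52, 60, 26, 52, 25, 45, 52, 28, 60, 26, 52, 25, 53, 46, 2]),
  (1505, [34, 2, 60, 26, 52, 25, 2, 45, 53, 60, 26, 52, 25, 53, 46, 2]),
  (1509, [45, 52, 28, 60, 26, 52, 25, 2, 45, 53, 8, 60, 26, 52, 25, 53, 46, 2]),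
  (1511, [53, 46, 34, 60, 26, 52, 25, 34, 45, 53, 60, 26, 52, 25, 45, 52, 28]),
  (1513, [52, 46, 34, 30, 60, 26, 52, 25, 45, 52, 28, 60, 26, 52, 25, 53, 46, 2]),
  (1515, [34, 45, 53, 60, 26, 52, 25, 28, 45, 53, 4, 60, 26, 52, 25, 53, 46, 2]),
  (1519, [33, 28, 2, 60, 26, 52, 25, 45, 52, 28, 60, 26, 52, 25, 53, 46, 2]),
  (1520, [53, 46, 34, 60, 26, 52, 25, 52, 30, 46, 6, 60, 26, 52, 25, 53, 46, 2]),
  (1522, [34, 45, 53, 60, 26, 52, 25, 45, 53, 34, 4, 60, 26, 52, 25, 53, 46, 2]),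
  (1526, [33, 28, 2, 60, 26, 52, 25, 53, 46, 34, 60, 26, 52, 25, 53, 46, 2]),
  (1529, [34, 2, 60, 26, 52, 25, 53, 46, 2, 60, 26, 52, 25, 45, 52, 28]),
  (1533, [34, 45, 53, 60, 26, 52, 25, 34, 45, 53, 60, 26, 52, 25, 53, 46, 34]),
  (1535, [53, 46, 34, 60, 26, 52, 25, 53, 46, 33, 6, 60, 26, 52, 25, 53, 46, 2]),
  (1569, [32, 53, 46, 2, 60, 26, 52, 25, 53, 46, 34, 60, 26, 52, 25, 53, 46, 2]),
  (1570, [45, 52, 28, 60, 26, 52, 25, 28, 45, 53, 4, 60, 26, 52, 25, 53, 46, 2]),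
  (1575, [60, 26, 52, 25, 28, 45, 53, 4, 60, 26, 52, 25, 53, 46, 2]),
  (1577, [53, 46, 2, 60, 26, 52, 25, 2, 45, 53, 60, 26, 52, 25, 53, 46, 2]),
  (1578, [34, 45, 53, 60, 26, 52, 25, 2, 45, 53, 8, 60, 26, 52, 25, 53, 46, 2]),
  (1583, [60, 26, 52, 25, 53, 46, 34, 60, 26, 52, 25, 33, 45, 52, 2]),
  (1585, [32, 53, 46, 2, 60, 26, 52, 25, 45, 52, 28, 60, 26, 52, 25, 53, 46, 2]),
  (1586, [45, 52, 28, 60, 26, 52, 25, 34, 45, 53, 60, 26, 52, 25, 53, 46, 34]),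
  (1591, [60, 26, 52, 25, 45, 53, 34, 4, 60, 26, 52, 25, 53, 46, 2]),
  (1592, [53, 46, 2, 60, 26, 52, 25, 53, 46, 2, 60, 26, 52, 25, 45, 52, 28]),
  (1595, [45, 52, 28, 60, 26, 52, 25, 45, 53, 34, 4, 60, 26, 52, 25, 53, 46, 2]),
  (1598, [60, 26, 52, 25, 34, 45, 53, 60, 26, 52, 25, 53, 46, 34]),
  (1633, [53, 46, 2, 60, 26, 52, 25, 53, 46, 34, 60, 26, 52, 25, 53, 46, 2]),
  (1634, [28, 53, 46, 4, 60, 26, 52, 25, 45, 52, 28, 60, 26, 52, 25, 53, 46, 2]),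
  (1639, [60, 26, 52, 25, 52, 46, 4, 33, 60, 26, 52, 25, 45, 52, 28]),
  (1641, [53, 46, 2, 60, 26, 52, 25, 53, 6, 46, 33, 60, 26, 52, 25, 53, 46, 2]),
  (1642, [34, 45, 53, 60, 26, 52, 25, 53, 46, 34, 60, 26, 52, 25, 53, 46, 2]),
  (1647, [60, 26, 52, 25, 53, 46, 34, 60, 26, 52, 25, 2, 45, 53]),
  (1648, [45, 52, 28, 60, 26, 52, 25, 53, 46, 2, 60, 26, 52, 25, 53, 46, 34]),
  (1651, [53, 46, 2, 60, 26, 52, 25, 45, 52, 28, 60, 26, 52, 25, 53, 46, 2]),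
  (1653, [60, 26, 52, 25, 45, 4, 53, 34, 60, 26, 52, 25, 53, 46, 2]),
  (1657, [34, 45, 53, 60, 26, 52, 25, 45, 52, 28, 60, 26, 52, 25, 53, 46, 2]),
  (1658, [53, 46, 8, 2, 60, 26, 52, 25, 45, 52, 28, 60, 26, 52, 25, 53, 46, 2]),
  (1660, [60, 26, 52, 25, 45, 52, 6, 4, 60, 26, 52, 25, 53, 46, 2]),
  (1697, [45, 53, 30, 2, 60, 26, 52, 25, 53, 46, 34, 60, 26, 52, 25, 53, 46, 2]),
  (1698, [53, 46, 34, 60, 26, 52, 25, 34, 45, 53, 60, 26, 52, 25, 53, 46, 34]),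
  (1701, [60, 26, 52, 25, 52, 46, 2, 28, 60, 26, 52, 25, 53, 46, 2]),
  (1704, [53, 46, 34, 60, 26, 52, 25, 45, 53, 34, 4, 60, 26, 52, 25, 53, 46, 2]),
  (1707, [2, 45, 53, 60, 26, 52, 25, 52, 4, 46, 6, 60, 26, 52, 25, 53, 46, 2]),
  (1711, [8, 60, 26, 52, 25, 52, 46, 2, 28, 60, 26, 52, 25, 53, 46, 2]),
  (1713, [2, 45, 53, 60, 26, 52, 25, 45, 53, 2, 28, 60, 26, 52, 25, 53, 46, 2]),
  (1714, [53, 46, 34, 60, 26, 52, 25, 28, 45, 53, 4, 60, 26, 52, 25, 53, 46, 2]),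
  (1717, [60, 26, 52, 25, 2, 32, 45, 53, 60, 26, 52, 25, 53, 46, 2]),
  (1721, [53, 2, 32, 46, 60, 26, 52, 25, 45, 52, 28, 60, 26, 52, 25, 53, 46, 2]),
  (1722, [33, 45, 52, 2, 60, 26, 52, 25, 53, 46, 2, 60, 26, 52, 25, 45, 52, 28]),
  (1726, [60, 26, 52, 25, 2, 45, 53, 8, 60, 26, 52, 25, 53, 46, 2]),
  (1761, [53, 46, 34, 60, 26, 52, 25, 53, 46, 2, 60, 26, 52, 25, 53, 46, 34]),
  (1762, [2, 45, 53, 60, 26, 52, 25, 34, 45, 53, 60, 26, 52, 25, 53, 46, 34]),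
  (1766, [60, 26, 52, 25, 53, 46, 2, 60, 26, 52, 25, 45, 52, 28]),
  (1768, [2, 45, 53, 60, 26, 52, 25, 45, 53, 34, 4, 60, 26, 52, 25, 53, 46, 2]),
  (1771, [53, 32, 46, 28, 60, 26, 52, 25, 53, 46, 2, 60, 26, 52, 25, 45, 52, 28]),
  (1772, [8, 60, 26, 52, 25, 53, 46, 2, 60, 26, 52, 25, 45, 52, 28]),
  (1776, [2, 45, 53, 60, 26, 52, 25, 28, 45, 53, 4, 60, 26, 52, 25, 53, 46, 2]),
  (1779, [52, 46, 34, 4, 60, 26, 52, 25, 45, 52, 28, 60, 26, 52, 25, 53, 46, 2]),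
  (1780, [60, 26, 52, 25, 2, 30, 45, 52, 60, 26, 52, 25, 53, 46, 2]),
  (1784, [53, 46, 34, 60, 26, 52, 25, 2, 45, 53, 60, 26, 52, 25, 2, 45, 53]),
  (1787, [2, 45, 53, 60, 26, 52, 25, 53, 46, 34, 60, 26, 52, 25, 33, 45, 52, 2]),
  (1791, [60, 26, 52, 25, 2, 45, 53, 60, 26, 52, 25, 53, 46, 2]),
  (1826, [34, 2, 60, 26, 52, 25, 52, 4, 46, 6, 60, 26, 52, 25, 53, 46, 2]),
  (1829, [53, 46, 2, 60, 26, 52, 25, 28, 45, 53, 4, 60, 26, 52, 25, 53, 46, 2]),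
  (1831, [2, 45, 53, 60, 26, 52, 25, 34, 45, 53, 60, 26, 52, 25, 45, 52, 28]),
  (1832, [52, 46, 2, 28, 60, 26, 52, 25, 2, 45, 53, 60, 26, 52, 25, 53, 46, 2]),
  (1834, [2, 45, 53, 60, 26, 52, 25, 30, 45, 53, 28, 60, 26, 52, 25, 53, 46, 2]),
  (1839, [34, 2, 60, 26, 52, 25, 53, 45, 53, 45, 60, 26, 52, 25, 45, 52, 28]),
  (1843, [34, 2, 60, 26, 52, 25, 45, 53, 2, 28, 60, 26, 52, 25, 53, 46, 2]),
  (1844, [53, 46, 2, 60, 26, 52, 25, 34, 45, 53, 60, 26, 52, 25, 53, 46, 34]),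
  (1846, [2, 45, 53, 60, 26, 52, 25, 52, 30, 46, 6, 60, 26, 52, 25, 53, 46, 2]),
  (1848, [53, 46, 2, 60, 26, 52, 25, 45, 53, 34, 4, 60, 26, 52, 25, 53, 46, 2]),
  (1850, [2, 45, 53, 60, 26, 52, 25, 53, 46, 33, 6, 60, 26, 52, 25, 53, 46, 2]),
  (1855, [34, 2, 60, 26, 52, 25, 33, 45, 52, 2, 60, 26, 52, 25, 45, 52, 28]),
  (1857, [34, 2, 60, 26, 52, 25, 53, 46, 2, 60, 26, 52, 25, 46, 28, 45, 33]),
  (1860, [45, 53, 2, 28, 60, 26, 52, 25, 2, 45, 53, 60, 26, 52, 25, 53, 46, 2]),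
  (1862, [53, 46, 2, 60, 26, 52, 25, 2, 45, 53, 60, 26, 52, 25, 2, 45, 53]),
  (1865, [2, 45, 53, 60, 26, 52, 25, 53, 46, 2, 60, 26, 52, 25, 45, 52, 28]),
  (1867, [52, 6, 4, 46, 60, 26, 52, 25, 45, 52, 28, 60, 26, 52, 25, 53, 46, 2]),
  (1868, [34, 2, 60, 26, 52, 25, 53, 46, 2, 60, 26, 52, 25, 53, 46, 34]),
  (1874, [34, 2, 60, 26, 52, 25, 46, 53, 46, 53, 60, 26, 52, 25, 53, 46, 2]),
  (1877, [52, 4, 46, 6, 60, 26, 52, 25, 53, 46, 34, 60, 26, 52, 25, 53, 46, 2]),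
  (1879, [2, 45, 53, 60, 26, 52, 25, 2, 30, 45, 52, 60, 26, 52, 25, 53, 46, 2]),
  (1881, [53, 46, 2, 60, 26, 52, 25, 53, 46, 2, 60, 26, 52, 25, 53, 46, 34]),
  (1883, [2, 45, 53, 60, 26, 52, 25, 2, 45, 53, 60, 26, 52, 25, 53, 46, 2]),
  (1886, [34, 2, 60, 26, 52, 25, 2, 45, 53, 60, 26, 52, 25, 2, 45, 53]),
  (1954, [34, 8, 2, 60, 26, 52, 25, 45, 52, 28, 60, 26, 52, 25, 53, 46, 2]),
  (1956, [52, 32, 46, 6, 60, 26, 52, 25, 53, 46, 34, 60, 26, 52, 25, 53, 46, 2]),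
  (1958, [34, 45, 53, 60, 26, 52, 25, 45, 52, 6, 4, 60, 26, 52, 25, 53, 46, 2]),
  (1961, [45, 52, 28, 60, 26, 52, 25, 53, 46, 2, 60, 26, 52, 25, 45, 52, 28]),
  (1963, [53, 46, 34, 60, 26, 52, 25, 2, 45, 53, 60, 26, 52, 25, 53, 46, 2]),
  (1965, [34, 2, 60, 26, 52, 25, 45, 52, 28, 60, 26, 52, 25, 53, 46, 2]),
  (1971, [34, 2, 60, 26, 52, 25, 53, 46, 34, 60, 26, 52, 25, 53, 46, 2]),
  (1973, [52, 32, 46, 6, 60, 26, 52, 25, 45, 52, 28, 60, 26, 52, 25, 53, 46, 2]),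
  (1975, [30, 45, 53, 28, 60, 26, 52, 25, 53, 46, 34, 60, 26, 52, 25, 53, 46, 2]),
  (1977, [45, 52, 28, 60, 26, 52, 25, 2, 45, 53, 60, 26, 52, 25, 53, 46, 2]),
  (1979, [53, 46, 34, 60, 26, 52, 25, 53, 46, 2, 60, 26, 52, 25, 45, 52, 28]),
  (1981, [34, 2, 60, 26, 52, 25, 53, 6, 46, 33, 60, 26, 52, 25, 53, 46, 2]),
  (1986, [34, 2, 60, 26, 52, 25, 34, 45, 53, 60, 26, 52, 25, 45, 52, 28]),
  (1988, [53, 46, 34, 60, 26, 52, 25, 53, 6, 46, 33, 60, 26, 52, 25, 53, 46, 2]),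
  (1990, [34, 45, 53, 60, 26, 52, 25, 53, 46, 2, 60, 26, 52, 25, 53, 46, 34]),
  (1993, [45, 52, 28, 60, 26, 52, 25, 45, 52, 28, 60, 26, 52, 25, 53, 46, 2]),
  (1995, [53, 46, 34, 60, 26, 52, 25, 53, 46, 34, 60, 26, 52, 25, 53, 46, 2]),
  (1997, [34, 32, 2, 60, 26, 52, 25, 45, 52, 28, 60, 26, 52, 25, 53, 46, 2]),
  (2001, [34, 2, 60, 26, 52, 25, 53, 46, 33, 6, 60, 26, 52, 25, 53, 46, 2]),
  (2005, [45, 52, 28, 60, 26, 52, 25, 53, 6, 46, 33, 60, 26, 52, 25, 53, 46, 2]),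
  (2007, [52, 30, 46, 6, 60, 26, 52, 25, 45, 52, 28, 60, 26, 52, 25, 53, 46, 2]),
  (2009, [53, 46, 34, 60, 26, 52, 25, 45, 52, 28, 60, 26, 52, 25, 53, 46, 2]),
  (2011, [45, 52, 28, 60, 26, 52, 25, 53, 46, 34, 60, 26, 52, 25, 53, 46, 2]),
  (2015, [34, 2, 60, 26, 52, 25, 52, 30, 46, 6, 60, 26, 52, 25, 53, 46, 2])]

end H15.Co
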