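import Mathlib
import Cfsg.Agent.H15.CoQ
import Cfsg.Agent.H15.CoD1
import Cfsg.Agent.H15.CoSr

/-!
# The involutions of the first Conway group
-/

set_option autoImplicit false
set_option maxRecDepth 100000
set_option Elab.async false
set_option linter.unusedSectionVars false

namespace H15.Co

open H29 H24 Subgroup KM XP H10 H10.Mon

noncomputable def FA (c : ℕ) : ℕ → ℕ := look (nth 0 tA c)
noncomputable abbrev qa (n : ℕ) : S := qv m Al n
noncomputable abbrev AA : Subgroup S := gen m Al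

theorem sqA : ∀ c ∈ Al, m c * m c = 1 := iso.eqs.inv (iv := id) (by decide +kernel)
theorem abA : AA ≤ C[AA] := iso.eqs.cent (by decide +kernel)
theorem cdA : Cd m Al 2048 Nat.xor :=
  cd_xor (k := 11) sqA (fun _ a _ b => comm_of_cent abA (mem_gen a) (mem_gen b)) (by decide +kernel)
theorem qa_mul (a b : ℕ) : qa a * qa b = qa (Nat.xor a b) :=
  ev_mw_xor sqA (fun _ a _ b => comm_of_cent abA (mem_gen a) (mem_gen b)) a b
theorem qa_sq (a : ℕ) : qa a * qa a = 1 := by rw [qa_mul, xor_eq, Nat.xor_self, qa, qv_zero]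
theorem qa1 : qa 1 = m 0 := by rw [qa, qv, show mw Al 1 = [0] by decide +kernel]; simp
theorem qa40 : qa 40 = m 51 := by
  simpa using iso.eqW.1 (by decide +kernel : eqW run (mw Al 40) [51] = true)

theorem tA1 : (allL KL fun c => allL Al fun d => lit (FA c (nth 0 posL d)) fun n =>
    and2 (Nat.ble (Nat.succ n) 2048) (eqW run [d, c] (c :: mw Al n))) = true := by decide +kernel
theorem tA2 : (allL KL fun c => allN 2048 fun n => lit n fun n =>
    Nat.beq (FA c n) (actI Al Nat.xor (fun d => FA c (nth 0 posL d)) n)) = true := by decide +kernel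

theorem tbA {c : ℕ} (hc : c ∈ KL) : Tb m Al 2048 (m c) (FA c) := by
  have := allL_true.1 tA1 c hc
  simp only [allL_true, lit_eq, and2_true, ble_true, iso.eqW] at this
  exact (cdA.act fun d hd => ⟨(this d hd).1, by simpa using (this d hd).2⟩).congr
    (allL_true.1 tA2 c hc)

theorem acA {l l' : List ℕ} (h : ∀ c ∈ l, c ∈ KL) :
    Ac m Al 2048 FA (TCData.bitsOf l) (gen m (l ++ l')) := fun c a =>
  ⟨mem_gen (List.mem_append_left _ (testBit_bitsOf a)), tbA (h c (testBit_bitsOf a))⟩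

theorem reach {b M : ℕ} {st : List (ℕ × ℕ)} (hb : b < 2048)
    (hc : chkRe FA (TCData.bitsOf KL) st M (bit b) = true) {n : ℕ} (hn : M.testBit n = true) :
    ∃ g, g⁻¹ * qa b * g = qa n := by
  obtain ⟨-, g, -, a⟩ := (acA (l' := []) fun _ a => a).reach (b := qa b) st _ hc (fun k a => by
    rw [testBit_bit, decide_eq_true_eq] at a
    exact ⟨a ▸ hb, 1, one_mem _, by simp [a]⟩) n hn
  exact ⟨g, a⟩

theorem clO {n : ℕ} (hn : mO.testBit n = true) : ∃ g, g⁻¹ * m 0 * g = qa n :=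
  qa1 ▸ reach (st := sO) (by norm_num) (by decide +kernel) hn
theorem clD {n : ℕ} (hn : mD.testBit n = true) : ∃ g, g⁻¹ * m 51 * g = qa n :=
  qa40 ▸ reach (st := sD) (by norm_num) (by decide +kernel) hn
theorem clA {n : ℕ} (hn : n < 2048) : n = 0 ∨ mO.testBit n = true ∨ mD.testBit n = true := by
  have := sub_true (by decide +kernel : sub (ones 2048) (Nat.lor 1 (Nat.lor mO mD)) = true) (i := n)
    (by simpa [testBit_ones] using hn)
  simpa [lor_eq, Nat.testBit_one_eq_true_iff_self_eq_zero] using this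

theorem ne0 : m 0 ≠ 1 := by simpa using iso.ne (u := [0]) (v := []) (by decide +kernel)
theorem ne51 : m 51 ≠ 1 := by simpa using iso.ne (u := [51]) (v := []) (by decide +kernel)

theorem injA : Inj m Al 2048 := cdA.inj' (fun a ha => ⟨a, ha,
    eq_inv_of_mul_eq_one_right (qa_sq a), fun b _ h => by simpa [xor_eq] using h⟩) fun n hn h => by
  rcases clA hn with a | a | a
  · exact a
  · obtain ⟨g, b⟩ := clO a
    exact absurd (by simpa [h, mul_assoc, inv_mul_eq_iff_eq_mul] using b) ne0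
  · obtain ⟨g, b⟩ := clD a
    exact absurd (by simpa [h, mul_assoc, inv_mul_eq_iff_eq_mul] using b) ne51

theorem fixK {l : List ℕ} (h : (allL l fun c => fixO (lc c)) = true) : gen m l ≤ K0 :=
  gen_le.2 fun c a => (mem_K0 (val_m c)).2 (allL_true.1 h c a)

theorem chainA {l : List ℕ} (h : ∀ c ∈ l, c ∈ KL) {ch : List (ℕ × List (List ℕ))}
    (hc : chkCn FA 2048 (TCData.bitsOf l) ch [] = true) :
    (ch.map (·.2.length)).prod * 2048 ≤ Nat.card (gen m (l ++ Al)) :=
  (Nat.mul_le_mul_left _ injA.le_card).trans (((acA h).chain injA ch [] (by simp) hc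
    (le_inf (gen_mono fun _ => List.mem_append_right _) fun y a => mem_fixS.2 fun f _ =>
      C_le_C1 (qv_mem f) (abA a))).trans (H24.card_le inf_le_left))

theorem genK : gen m (KL ++ Al) = K0 := eq_of_card_ge (fixK (by decide +kernel)) (by
  have := chainA (fun _ a => a) (ch := chK) (by decide +kernel)
  rwa [show (chK.map (·.2.length)).prod = 244823040 by decide +kernel, mul_comm, ← card_K0] at this)

theorem normA : K0 ≤ N[AA] := by
  rw [← genK, gen_append]
  exact sup_le (gen_le.2 fun c a => (tbA a).norm cdA) (norm_self _)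

theorem leK : AA ≤ K0 := fixK (by decide +kernel)

theorem wpT : WP m Al TL := iso.eqs.wp (I := IT) (by decide +kernel)

theorem sylT : Syl 2 K0 (gen m (TL ++ Al)) ∧ Syl 2 ⊤ (gen m (TL ++ Al)) := by
  have a1 := wpT.pi (isPi_iff_piElt.2 fun x a => by
    obtain ⟨n, -, rfl⟩ := cdA.cover a
    exact piElt_of_pow_eq_one (piNat_self Nat.prime_two) ((pow_two _).trans (qa_sq n)))
  have a2 := chainA (l := TL) (by decide) (ch := chT) (by decide +kernel)
  rw [show (chT.map (·.2.length)).prod = 1024 by decide +kernel] at a2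
  obtain ⟨k, a3⟩ := a1.card_eq_pow Nat.prime_two
  have a4 : 2 ^ 21 ∣ Nat.card (gen m (TL ++ Al)) := a3 ▸ pow_dvd_pow 2
    ((Nat.pow_le_pow_iff_right (by norm_num)).1 (a3 ▸ a2 : 2 ^ 21 ≤ 2 ^ k))
  have a5 : gen m (TL ++ Al) ≤ K0 := fixK (by decide +kernel)
  refine ⟨Syl.mk' Nat.prime_two a5 a1 fun b => ?_, Syl.mk' Nat.prime_two le_top a1 fun b => ?_⟩
  · have := Nat.mul_dvd_mul a4 b
    rw [card_mul_relIndex a5, card_K0] at this
    omega
  · have := Nat.mul_dvd_mul a4 b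
    rw [card_mul_relIndex le_top, Subgroup.card_top, card_Co1] at this
    omega

theorem wT : allQ TL (fun x => or2 (eqL x []) (or2 (anyL [1, 2, 4, 8, 16, 32, 64, 128, 256, 512, 1024]
    fun p => not1 (Nat.beq (actW FA (app x x) p) p)) (anyL Wt fun d => and2 (eqL d.1 x)
      (and2 (memL d.2.1 [2, 52]) (and2 (okW (TCData.bitsOf KL) d.2.2.2)
        (eqW run (app x d.2.2.2) (app d.2.2.2 (d.2.1 :: mw Al d.2.2.1)))))))) = true := by
  decide +kernel

theorem clT {y : S} (hy : y ∈ gen m (TL ++ Al)) (h2 : y * y = 1) :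
    y ∈ AA ∨ ∃ k ∈ K0, ∃ σ ∈ [2, 52], ∃ n < 2048, k⁻¹ * y * k = m σ * qa n := by
  obtain ⟨x, a, a1, a2, rfl, a3⟩ := wpT.allQ wT hy
  simp only [or2_true, anyL_true, and2_true, not1_true, H29.beq_true, memL_true, iso.eqW, app_eq,
    ev_append, ev_cons] at a3
  rcases a3 with a3 | ⟨p, b1, b2⟩ | ⟨d, -, -, b1, b2, b3⟩
  · exact .inl (by simpa [eqL_true a3] using a1)
  · have c1 : ∀ c ∈ x, c ∈ KL := fun c b => (by decide : ∀ c ∈ TL, c ∈ KL) c (a2 c b)
    have c0 : p < 2048 := by clear b2; revert p; decide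
    have c2 := tb_word (F := FA) (w := x ++ x) (fun c b => tbA (c1 c (by simpa using b))) p c0
    have c3 : ev m x ∈ N[AA] := ev_mem fun c b => (tbA (c1 c b)).norm cdA
    have c4 : ev m (x ++ x) ∈ AA := by
      rw [← inv_mem_iff, ev_append, show (ev m x * ev m x)⁻¹ = (ev m x)⁻¹ * a * ev m x * a by
        rw [← mul_left_cancel_iff (a := ev m x * ev m x), mul_inv_cancel, ← h2]; group]
      exact mul_mem (conj_mem' c3 a1) a1
    exact absurd (injA _ c2.1 _ c0 (by rw [← c2.2, conj_of_mem_C1 (C_le_C1 (qv_mem p) (abA c4))])) b2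
  · have c1 : ev m d.2.2.2 ∈ K0 := genK ▸ ((acA fun _ a => a).word b2).1
    obtain ⟨n, c2, c3⟩ := cdA.cover (mul_mem (qv_mem d.2.2.1) (conj_mem' (normA c1) a1))
    refine .inr ⟨_, c1, _, b1, n, c2, ?_⟩
    rw [qa, c3, ← mul_assoc (m _), ← inv_mul_eq_iff_eq_mul.2 b3]; group

theorem cC : (allL [2, 52] fun σ => allN 2048 fun n => lit n fun n => imp2 (Nat.beq (FA σ n) n)
    (anyL CC fun d => and2 (Nat.beq d.1 σ) (and2 (Nat.beq d.2.1 n)
      (eqW run (σ :: app (mw Al n) d.2.2.2) (app d.2.2.2 [d.2.2.1]))))) = true := by decide +kernel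

theorem clσ {σ n : ℕ} (h1 : σ ∈ [2, 52]) (h2 : n < 2048) (h3 : m σ * qa n * (m σ * qa n) = 1) :
    ∃ d ∈ CC, d.2.1 = n ∧ d.1 = σ ∧ ∃ g, g⁻¹ * (m σ * qa n) * g = m d.2.2.1 := by
  have a1 := allN_true.1 (allL_true.1 cC σ h1) n h2
  simp only [lit_eq, imp2_true, anyL_true, and2_true, H29.beq_true, iso.eqW, app_eq, ev_append,
    ev_cons, ev_nil, mul_one] at a1
  have a2 := tbA (c := σ) (by clear a1 h3; revert σ; decide) n h2
  have a3 : m σ * m σ = 1 := iso.eqs.inv (iv := id) (cs := [2, 52]) (by decide +kernel) σ h1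
  obtain ⟨d, b1, b2, b3, b4⟩ := a1 (injA _ a2.1 _ h2 (by
    rw [← a2.2, inv_eq_of_mul_eq_one_right a3, ← mul_left_inj (qa n), mul_assoc, h3, qa_sq]))
  exact ⟨d, b1, b3, b2, ev m d.2.2.2, by rw [mul_assoc, mul_assoc, b4, inv_mul_cancel_left]⟩

theorem e2 {X : Type*} [Group X] {x : X} (h : x * x = 1) : IsPi {2} (zpowers x) :=
  (piElt_of_pow_eq_one (piNat_self Nat.prime_two) ((pow_two _).trans h)).isPi

theorem clS {x : S} (h1 : x * x = 1) (h2 : x ≠ 1) : ∃ t ∈ [0, 51, 52], IsConj (m t) x := by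
  obtain ⟨g, -, a⟩ := Sylow_Jsub Nat.prime_two sylT.2 (e2 h1) le_top
  have a1 : g * x * g⁻¹ * (g * x * g⁻¹) = 1 := by rw [conj_mul, h1]; simp
  have a2 : IsConj (g * x * g⁻¹) x := (isConj_iff.2 ⟨g, rfl⟩).symm
  rcases clT (a (conj_mem_cj g (mem_zpowers x))) a1 with b | ⟨k, -, σ, b1, n, b2, b3⟩
  · obtain ⟨n, b1, b2⟩ := cdA.cover b
    rcases clA b1 with rfl | c | c
    · exact absurd (conj_eq_one_iff'.1 (b2.symm.trans qv_zero)) h2
    · obtain ⟨k, d⟩ := clO c
      exact ⟨0, by simp, (isConj_iff.2 ⟨k⁻¹, by rw [inv_inv, d]; exact b2⟩).trans a2⟩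
    · obtain ⟨k, d⟩ := clD c
      exact ⟨51, by simp, (isConj_iff.2 ⟨k⁻¹, by rw [inv_inv, d]; exact b2⟩).trans a2⟩
  · obtain ⟨d, c1, -, -, l, c2⟩ := clσ b1 b2 (by
      rw [← b3, show ∀ y : S, k⁻¹ * y * k * (k⁻¹ * y * k) = k⁻¹ * (y * y) * k from fun y => by group, a1]
      simp)
    exact ⟨_, (by decide +kernel : ∀ d ∈ CC, d.2.2.1 ∈ [0, 51, 52]) d c1,
      (isConj_iff.2 ⟨k * l, by rw [← c2, ← b3]; group⟩).trans a2⟩

theorem centW : C{m 51} ≤ K0 := fun x hx => by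
  obtain ⟨g, rfl⟩ := QuotientGroup.mk'_surjective _ x
  let β : C → C → ZMod 2 := fun c d => bb c d + bb d c
  have a1 : ∀ c, β c (M0 51 • c) = β c Om := by
    have sy : ∀ c d, β c (M0 51 • d) = β d (M0 51 • c) := fun c d => by
      have b : M0 51 * M0 51 ∈ center G0 := (QuotientGroup.eq_one_iff _).1 (by
        simpa [m] using iso.eqW.1 (by decide +kernel : eqW run [51, 51] [] = true))
      have := bb_smul (M0 51) c (M0 51 • d)
      rw [← mul_smul, show (M0 51 * M0 51) • d = d by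
        rcases mem_center_G0.1 b with e | e <;> simp [e, neg1_smul_C]] at this
      simp only [β]
      rw [← this, add_comm]
    let φ : C →+ ZMod 2 := AddMonoidHom.mk' (fun c => β c (M0 51 • c) + β c Om) fun c d => by
      have := sy c d
      simp only [β, smul_add, bb_add_left, bb_add_right] at this ⊢
      linear_combination this + (bb d (M0 51 • c) + bb (M0 51 • c) d) * (by decide : (2 : ZMod 2) = 0)
    have b : φ.toZModLinearMap 2 ∘ₗ ι.symm.toLinearMap = 0 := by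
      refine (Pi.basisFun (ZMod 2) (Fin 24)).ext fun j => ?_
      obtain ⟨i, c1, c2⟩ : ∃ i : Fin 24, bs j = ds i ∧
          P.mat (lc 51) i j + (1 : Matrix (Fin 24) (Fin 24) (ZMod 2)) i 23 = 0 := by
        refine ⟨⟨(j + 12) % 24, by omega⟩, congrArg lv ?_, ?_⟩ <;> revert j <;> decide +kernel
      rw [← val_m, m, val_mk, val0_apply, ← map_one val0, val0_apply, one_smul, ← c1] at c2
      simpa [ι_bs, φ, β, Om_bs, smul_kap, ← ip_kap, ip_comm] using c2
    intro c
    have := LinearMap.congr_fun b (ι c)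
    simpa [φ, CharTwo.add_eq_zero] using this
  have a2 : ∀ c : C, g⁻¹ • M0 51 • c = M0 51 • g⁻¹ • c := fun c => by
    have b : (g⁻¹ * M0 51)⁻¹ * (M0 51 * g⁻¹) ∈ center G0 := QuotientGroup.eq.1 (by
      simpa [m] using mem_C1.1 (inv_mem hx))
    rw [← mul_smul, ← mul_smul]
    rcases mem_center_G0.1 b with e | e <;> rw [inv_mul_eq_iff_eq_mul.1 e]
    · simp
    · simp [mul_smul, neg1_smul_C]
  rw [mk_mem_K0, ← add_eq_zero_C]
  refine polar_nondeg fun d => ?_
  have b1 := bb_smul g⁻¹ d (g • Om)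
  have b2 := bb_smul g⁻¹ d (M0 51 • d)
  have b3 := a1 (g⁻¹ • d)
  have b4 := a1 d
  simp only [β, inv_smul_smul, a2] at b1 b2 b3 b4
  rw [bb_add_left, bb_add_right]
  linear_combination b2 + b4 - b1 - b3 + (bb Om d + bb d Om) * (by decide : (2 : ZMod 2) = 0)

theorem lemX {Z : S → Prop} (hZ : ∀ a b, IsConj a b → Z a → Z b) (h0 : Z (m 0)) (h1 : ¬ Z (m 51))
    (h2 : ¬ Z (m 52)) {x : S} (hx : x ∈ C{m 51}) (h3 : x * x = 1) (h4 : Z x) (h5 : Z (x * m 51)) : x ∈ AA := by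
  obtain ⟨g, a0, a⟩ := Sylow_Jsub Nat.prime_two sylT.1 (e2 h3) (zpowers_le.2 (centW hx))
  rcases clT (a (conj_mem_cj g (mem_zpowers x))) (by rw [conj_mul, h3]; simp) with
    b | ⟨k, b0, σ, b1, n, b2, b3⟩
  · exact (conj_mem_iff (normA a0)).1 b
  exfalso
  have c0 : k⁻¹ * g ∈ K0 := mul_mem (inv_mem b0) a0
  replace b3 : k⁻¹ * g * x * (k⁻¹ * g)⁻¹ = m σ * qa n := by rw [← b3]; group
  generalize k⁻¹ * g = l at c0 b3
  obtain ⟨p, c1, c2⟩ := cdA.cover (conj_mem (normA c0) (qa40 ▸ qv_mem 40 : m 51 ∈ AA))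
  have key : ∀ y n, n < 2048 → l * y * l⁻¹ = m σ * qa n → y * y = 1 → Z y →
      ∃ d ∈ CC, d.2.1 = n ∧ d.2.2.1 = 0 := fun y n d1 d2 d3 d4 => by
    obtain ⟨d, e1, e2, -, r, e3⟩ := clσ b1 d1 (by rw [← d2, conj_mul, d3]; simp)
    have := hZ y (m d.2.2.1) (isConj_iff.2 ⟨r⁻¹ * l, by rw [← e3, ← d2]; group⟩) d4
    refine ⟨d, e1, e2, ?_⟩
    rcases (by decide +kernel : ∀ d ∈ CC, d.2.2.1 = 0 ∨ d.2.2.1 = 51 ∨ d.2.2.1 = 52) d e1 with e | e | e
    exacts [e, absurd (e ▸ this) h1, absurd (e ▸ this) h2]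
  obtain ⟨d, d1, d2, d3⟩ := key x n b2 b3 h3 h4
  obtain ⟨d', d4, d5, d6⟩ := key (x * m 51) (Nat.xor n p) (xor_lt b2 c1)
    (by rw [← conj_mul, b3, ← c2, mul_assoc, qa_mul]) (by
      rw [mul_assoc, ← mul_assoc (m 51), ← mem_C1.1 hx, mul_assoc, ← qa40, qa_sq, mul_one, h3]) h5
  have := allL_true.1 (imp2_true.1 (allL_true.1 (by decide +kernel : (allL CC fun d =>
    imp2 (Nat.beq d.2.2.1 0) (allL CC fun d' => imp2 (Nat.beq d'.2.2.1 0)
      (not1 (bitL mD (Nat.xor d.2.1 d'.2.1))))) = true) d d1) (H29.beq_true.2 d3)) d' d4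
  rw [imp2_true, not1_true, bitL_true, d2, d5, xor_eq, xor_eq, Nat.xor_xor_cancel_left] at this
  rcases clA c1 with rfl | e | e
  · exact ne51 (conj_eq_one_iff'.1 (c2.symm.trans qv_zero))
  · obtain ⟨r, e⟩ := clO e
    exact h1 (hZ _ _ (isConj_iff.2 ⟨l⁻¹ * r⁻¹, by
      rw [← mul_left_cancel_iff (a := l), ← mul_right_cancel_iff (a := l⁻¹), ← c2, ← show _ = qv m Al p from e]
      group⟩) h0)
  · exact this (H29.beq_true.2 d6) e

theorem repW {u : ℕ} (h0 : u < 2048) (h1 : mD.testBit u = true) (h2 : mD.testBit (Nat.xor u 40) = true)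
    (h3 : mO.testBit (Nat.xor u 1) = true) : ∃ k ∈ C{m 51}, k⁻¹ * qa u * k = qa 76 := by
  have := allN_true.1 (by decide +kernel : (allN 2048 fun u => lit u fun u =>
    imp2 (and2 (bitL mD u) (and2 (bitL mD (Nat.xor u 40)) (bitL mO (Nat.xor u 1)))) (anyL RW fun d =>
      and2 (Nat.beq d.1 u) (and2 (okW (TCData.bitsOf KL) d.2) (and2 (Nat.beq (actW FA d.2 u) 76)
        (Nat.beq (actW FA d.2 40) 40))))) = true) u h0
  simp only [lit_eq, imp2_true, and2_true, bitL_true, anyL_true, H29.beq_true] at this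
  obtain ⟨d, -, -, a1, a2, a3⟩ := this ⟨h1, h2, h3⟩
  have := ((acA (l' := []) fun _ a => a).word a1).2
  exact ⟨_, by rw [← qa40]; exact mem_C1_of_conj (by rw [(this 40 (by norm_num)).2, a3]),
    by rw [(this u h0).2, a2]⟩

/-- the element is the image of an element of order at most two -/
def Lf (x : S) : Prop := ∃ g : G0, mk g = x ∧ g * g = 1

theorem Lf.sq {g : G0} (h : Lf (mk g)) : g * g = 1 := by
  obtain ⟨k, h1, h2⟩ := h
  rcases mem_center_G0.1 (QuotientGroup.eq.1 h1) with a | a <;> rw [inv_mul_eq_iff_eq_mul.1 a]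
  · simpa using h2
  · rw [mul_assoc, ← mul_assoc neg1, ← mem_center_iff.1 (mem_center_G0.2 (.inr rfl)), mul_assoc,
      neg1_mul_self, mul_one, h2]

theorem Lf.conj {x y : S} (h : Lf x) (a : IsConj x y) : Lf y := by
  obtain ⟨k, rfl, h2⟩ := h
  obtain ⟨c, rfl⟩ := isConj_iff.1 a
  obtain ⟨g, rfl⟩ := QuotientGroup.mk'_surjective _ c
  exact ⟨g * k * g⁻¹, by simp, by rw [conj_mul, h2]; simp⟩

def B16 : List ℕ := [0, 1, 2, 3, 4, 5, 6, 7, 8, 9, 11, 13, 15, 17, 19, 21]

noncomputable def bl2 : List (List ℕ) :=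
  [0, 1, 2, 3, 4, 5, 6, 7, 8, 9, 0, 11, 0, 13, 0, 15, 0, 17, 0, 19, 0, 21].map (nth [] bl)

theorem blok : ∀ M ∈ bl2, isCo M = true := allL_true.1 (by decide +kernel)

theorem M0_ev {w : List ℕ} (h : ∀ c ∈ w, c ∈ B16) : ev M0 w = ev (coE bl2) w := ev_congr fun c a => by
  obtain ⟨a1, a2⟩ := (by decide +kernel : ∀ c ∈ B16, nth [] defs0 c = [c] ∧
    nth [] bl c = nth [] bl2 c) c (h c a)
  exact (slp_base _ a1).trans (congrArg coM a2)

theorem relM {r : List ℕ} (h1 : ∀ c ∈ r, c ∈ B16) (h2 : chkRelC bl2 [r] = true) : ev M0 r = 1 :=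
  (M0_ev h1).trans (rels_coE blok h2 r (by simp))

theorem defM (c : ℕ) : M0 c = ev M0 (nth [] defs0 c) := slp_def _ hs0 c

theorem sq0 : M0 0 * M0 0 = 1 := by simpa using relM (r := [0, 0]) (by decide) (by decide +kernel)

theorem liftH : gen M0 HL ≤ C{M0 0} := gen_le.2 fun c a => by
  rw [defM c]
  refine ev_mem fun d b => ?_
  have b1 : d ∈ B16 := by revert d c; decide +kernel
  have b2 : chkRelC bl2 [[d, d, d, d, d, d]] = true ∧ chkRelC bl2 [[d, 0, d, d, d, d, d, 0]] = true := by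
    clear b; revert d; decide +kernel
  have c1 := relM (by simpa using b1) b2.1
  have c2 := relM (by simpa [show 0 ∈ B16 by decide] using b1) b2.2
  rw [ev_cons, mul_eq_one_iff_inv_eq] at c1
  rw [mem_C1_iff_conj, c1, ← mul_left_inj (M0 0), sq0, ← c2]
  simp [mul_assoc]

theorem lf0 : Lf (m 0) := ⟨_, rfl, sq0⟩

theorem lf51 : Lf (m 51) := ⟨_, rfl, by
  rw [defM 51, show nth [] defs0 51 = [5, 27] by decide +kernel, ev_cons, ev_cons, defM 27,
    show nth [] defs0 27 = [3, 16, 19, 18, 15, 17, 19, 17] by decide +kernel]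
  simp only [ev_cons, defM 16, defM 18, show nth [] defs0 16 = [15, 15] by decide +kernel,
    show nth [] defs0 18 = [17, 17] by decide +kernel]
  simpa [pow_two, mul_assoc] using relM (r := pw 2 [5, 3, 15, 15, 19, 17, 17, 15, 17, 19, 17])
    (by decide +kernel) (by decide +kernel)⟩

theorem lf52 : ¬ Lf (m 52) := fun a => by
  have := a.sq
  rw [defM 52, show nth [] defs0 52 = [11, 13] by decide +kernel, ← ev_append, M0_ev (by decide)] at this
  exact ev_coE_ne blok (k := 0) (by norm_num) (by decide +kernel) this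

theorem clB {u : S} (h1 : u ∈ gen m HL) (h2 : IsConj (m 52) u) : ¬ Lf (u * m 0) := fun a => by
  obtain ⟨g, b1, rfl⟩ : u ∈ (gen M0 HL).map mk := by rwa [map_gen]
  have b2 := Lf.sq (g := g * M0 0) a
  rw [mul_assoc, ← mul_assoc (M0 0), ← mem_C1.1 (liftH b1), mul_assoc, sq0, mul_one] at b2
  exact lf52 (Lf.conj ⟨g, rfl, b2⟩ h2.symm)

theorem ord11 : orderOf (m 76) = 11 ∧ m 76 ∈ C{m 51} :=
  ⟨haveI := Fact.mk (by norm_num : Nat.Prime 11); orderOf_eq_prime
    (by simpa using iso.eqW.1 (by decide +kernel : eqW run (pw 11 [76]) [] = true))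
    (by simpa using iso.ne (u := [76]) (v := []) (by decide +kernel)), iso.cent1 (by decide +kernel)⟩

theorem ord13 : orderOf (m 78) = 13 ∧ m 78 ∈ C{m 52} :=
  ⟨haveI := Fact.mk (by norm_num : Nat.Prime 13); orderOf_eq_prime
    (by simpa using iso.eqW.1 (by decide +kernel : eqW run (pw 13 [78]) [] = true))
    (by simpa using iso.ne (u := [78]) (v := []) (by decide +kernel)), iso.cent1 (by decide +kernel)⟩

end H15.Co
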