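import Mathlib
import Cfsg.Agent.H29.Ext

set_option autoImplicit false
set_option maxRecDepth 100000
set_option Elab.async false
set_option linter.all false

namespace H15.CoX1

open H29

noncomputable def n1 : Net := ben 5 [(nat_lit 0x130c0c),
 (nat_lit 0xa0202),
 (nat_lit 0x881100),
 (nat_lit 0x48090),
 (nat_lit 0x80)]
noncomputable def t1 : List ℕ := [(nat_lit 0x30208c0),
 (nat_lit 0x1cbb048),
 (nat_lit 0x24bd000),
 (nat_lit 0x38000),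
 (nat_lit 0x18838a0),
 (nat_lit 0x24838a0)]
noncomputable def d1 : ℕ := (nat_lit 0x4200504)
noncomputable def n2 : Net := ben 5 [(nat_lit 0x3cc0014),
 (nat_lit 0x520200),
 (nat_lit 0x230000),
 (nat_lit 0x20000),
 (nat_lit 0x0)]
noncomputable def t2 : List ℕ := [(nat_lit 0x109142),
 (nat_lit 0x3607140),
 (nat_lit 0x2583180),
 (nat_lit 0x2580100),
 (nat_lit 0x418f4c0),
 (nat_lit 0x3600500)]
noncomputable def d2 : ℕ := (nat_lit 0x840828)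
noncomputable def n3 : Net := ben 5 [(nat_lit 0x1030cf0),
 (nat_lit 0xfa010),
 (nat_lit 0x440208),
 (nat_lit 0x4848),
 (nat_lit 0x48)]
noncomputable def t3 : List ℕ := [(nat_lit 0xd4a212),
 (nat_lit 0x41240b4),
 (nat_lit 0x7d6cb00),
 (nat_lit 0x92f200),
 (nat_lit 0x103000),
 (nat_lit 0x7ac0800)]
noncomputable def d3 : ℕ := (nat_lit 0x10040)
noncomputable def n4 : Net := ben 5 [(nat_lit 0x33c0000),
 (nat_lit 0xf550a0),
 (nat_lit 0x370000),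
 (nat_lit 0x290f0),
 (nat_lit 0x90)]
noncomputable def t4 : List ℕ := [(nat_lit 0x437a98a),
 (nat_lit 0x270b20),
 (nat_lit 0x7860f14),
 (nat_lit 0x3c2063c),
 (nat_lit 0x4230228),
 (nat_lit 0x7e50900)]
noncomputable def d4 : ℕ := (nat_lit 0x81000)
noncomputable def n5 : Net := ben 5 [(nat_lit 0x17c0910),
 (nat_lit 0xf50ca0),
 (nat_lit 0xbf8811),
 (nat_lit 0x318f9),
 (nat_lit 0x18)]
noncomputable def t5 : List ℕ := [(nat_lit 0x42b3da4),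
 (nat_lit 0x40c1006),
 (nat_lit 0x2086),
 (nat_lit 0x81008),
 (nat_lit 0x83080),
 (nat_lit 0x4378000)]
noncomputable def d5 : ℕ := (nat_lit 0x3004200)
noncomputable def n6 : Net := ben 5 [(nat_lit 0xc5041),
 (nat_lit 0x5000f0),
 (nat_lit 0x15000c),
 (nat_lit 0x3030808),
 (nat_lit 0x308)]
noncomputable def t6 : List ℕ := [(nat_lit 0x2a40c28),
 (nat_lit 0x1a10000),
 (nat_lit 0x4000000),
 (nat_lit 0x3a10400),
 (nat_lit 0x4000000),
 (nat_lit 0x7200000)]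
noncomputable def d6 : ℕ := (nat_lit 0x52a092)
def ivl : List ℕ := [0, 1, 2, 3, 4, 5, 6, 7, 8, 10, 9]
def cols : List ℕ := [1, 2, 3, 4, 5, 6]
def hcols : List ℕ := [1, 2, 3, 4, 5]
def G0 : List (List ℕ) := [[1, 3, 1, 3],
 [1, 5, 1, 5],
 [2, 5, 2, 5],
 [2, 6, 2, 6],
 [3, 6, 3, 6],
 [4, 6, 4, 6],
 [1, 2, 1, 2, 1, 2],
 [3, 4, 3, 4, 3, 4],
 [2, 3, 5, 6, 3, 4, 5, 3, 6, 5, 3],
 [1, 4, 6, 1, 5, 6, 1, 5, 6, 5, 1, 6, 5, 1, 6, 5]]
def R0 : List (List ℕ) := G0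
theorem hii : ∀ c, ivOf ivl (ivOf ivl c) = c := ivOf_ivOf (by decide +kernel)
theorem der : Derives (ivOf ivl) R0 R0 := Derives.refl _ _
noncomputable def nl : List Net := [Net.nil, n1, n2, n3, n4, n5, n6]
noncomputable def T : TCData := ⟨27, 27, 5, 6, nth Net.nil nl, ivOf ivl, cols, hcols, R0,
  nth [] [[], t1, t2, t3, t4, t5, t6], nth 0 [0, d1, d2, d3, d4, d5, d6]⟩
theorem hn : NetsOK 27 (nth Net.nil nl) := netsOK_of_all (by decide +kernel)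
theorem hiv : IvOK (sg (nth Net.nil nl)) (ivOf ivl) :=
  ivOK_of_chk (k := 5) hn (by decide) (n := 11) (by decide) (by decide) (allN_true.1 (by decide +kernel))
theorem hb : T.Basic := TCData.basic_of_chk hn hiv (by decide +kernel)
theorem hG0 : ∀ r ∈ G0, ev (sg (nth Net.nil nl)) r = 1 :=
  rels_of_chk (k := 5) hn (by decide) hiv (allN_true.1 (by decide +kernel))
noncomputable def s1 : List TCData.Step := [.all 0 0 0,
 .pts 1 0 0 4 [14],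
 .pts 1 0 0 19 [24],
 .pts 1 0 0 38 [22],
 .pts 1 0 0 50 [13],
 .pts 6 0 0 2 [3],
 .pts 6 0 0 18 [23],
 .pts 6 0 0 48 [5],
 .pts 6 0 0 49 [11],
 .pts 9 10 0 54 [12, 19]]
noncomputable def s2 : List TCData.Step := [.all 2 0 0,
 .all 3 0 0,
 .pts 6 1 0 16 [26],
 .pts 8 0 0 17 [15],
 .pts 8 0 0 46 [22, 25]]
noncomputable def s3 : List TCData.Step := [.pts 0 1 0 2 [2],
 .pts 0 1 0 4 [8],
 .pts 0 1 0 32 [21],
 .pts 0 1 0 38 [26],
 .all 4 0 0,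
 .pts 7 0 0 31 [20],
 .pts 7 0 0 45 [23],
 .pts 8 4 0 24 [12],
 .pts 8 7 0 13 [9],
 .pts 8 10 0 36 [11, 25]]
noncomputable def s4 : List TCData.Step := [.pts 5 0 0 1 [1, 7, 15],
 .pts 5 0 0 26 [5],
 .pts 5 0 0 31 [17],
 .pts 5 0 0 40 [22],
 .pts 7 1 0 25 [3],
 .pts 8 5 0 30 [9],
 .pts 8 5 0 39 [8, 11, 18],
 .pts 8 5 0 51 [16],
 .pts 8 5 0 53 [26],
 .pts 9 1 0 12 [2, 4, 10],
 .pts 9 1 0 44 [24, 25]]
noncomputable def s5 : List TCData.Step := [.pts 1 1 0 1 [8],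
 .pts 1 1 0 7 [2],
 .pts 1 1 0 33 [16],
 .pts 1 1 0 35 [26],
 .pts 2 1 0 1 [5],
 .pts 2 1 0 8 [3],
 .pts 2 1 0 34 [18],
 .pts 8 6 0 6 [1],
 .pts 8 6 0 21 [13],
 .pts 8 6 0 27 [19],
 .pts 8 6 0 32 [15],
 .pts 8 6 0 33 [17]]
noncomputable def s6 : List TCData.Step := [.pts 3 1 0 1 [3, 11],
 .pts 3 1 0 11 [23],
 .pts 3 1 0 43 [21],
 .pts 4 1 0 10 [16],
 .pts 4 1 0 42 [24],
 .pts 9 8 0 9 [10],
 .pts 9 8 0 41 [25],
 .pts 9 8 0 52 [26]]
theorem hR0 : ∀ r ∈ R0, ev (sg (nth Net.nil nl)) r = 1 := hG0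
theorem col1 : T.ColOK 1 := TCData.colOK_of_chk (U := (T.stepsMask 1 s1 (T.mask0 1))) (V := (T.stepsMask 1 s1 (T.mask0 1))) hb (TCData.cov_stepsMask hb (by decide) s1 _ (T.cov_mask0 1)) (TCData.cov_stepsMask hb (by decide) s1 _ (T.cov_mask0 1)) (by decide +kernel)
theorem col2 : T.ColOK 2 := TCData.colOK_of_chk (U := (T.stepsMask 2 s2 (T.mask0 2))) (V := (T.stepsMask 2 s2 (T.mask0 2))) hb (TCData.cov_stepsMask hb (by decide) s2 _ (T.cov_mask0 2)) (TCData.cov_stepsMask hb (by decide) s2 _ (T.cov_mask0 2)) (by decide +kernel)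
theorem col3 : T.ColOK 3 := TCData.colOK_of_chk (U := (T.stepsMask 3 s3 (T.mask0 3))) (V := (T.stepsMask 3 s3 (T.mask0 3))) hb (TCData.cov_stepsMask hb (by decide) s3 _ (T.cov_mask0 3)) (TCData.cov_stepsMask hb (by decide) s3 _ (T.cov_mask0 3)) (by decide +kernel)
theorem col4 : T.ColOK 4 := TCData.colOK_of_chk (U := (T.stepsMask 4 s4 (T.mask0 4))) (V := (T.stepsMask 4 s4 (T.mask0 4))) hb (TCData.cov_stepsMask hb (by decide) s4 _ (T.cov_mask0 4)) (TCData.cov_stepsMask hb (by decide) s4 _ (T.cov_mask0 4)) (by decide +kernel)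
theorem col5 : T.ColOK 5 := TCData.colOK_of_chk (U := (T.stepsMask 5 s5 (T.mask0 5))) (V := (T.stepsMask 5 s5 (T.mask0 5))) hb (TCData.cov_stepsMask hb (by decide) s5 _ (T.cov_mask0 5)) (TCData.cov_stepsMask hb (by decide) s5 _ (T.cov_mask0 5)) (by decide +kernel)
theorem col6 : T.ColOK 6 := TCData.colOK_of_chk (U := (T.stepsMask 6 s6 (T.mask0 6))) (V := (T.stepsMask 6 s6 (T.mask0 6))) hb (TCData.cov_stepsMask hb (by decide) s6 _ (T.cov_mask0 6)) (TCData.cov_stepsMask hb (by decide) s6 _ (T.cov_mask0 6)) (by decide +kernel)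
theorem ok : T.OK := ⟨hb, TCData.treeOK_of_chk hn (by decide +kernel), (List.forall_mem_cons.2 ⟨col1, (List.forall_mem_cons.2 ⟨col2, (List.forall_mem_cons.2 ⟨col3, (List.forall_mem_cons.2 ⟨col4, (List.forall_mem_cons.2 ⟨col5, (List.forall_mem_cons.2 ⟨col6, (fun _ h => absurd h List.not_mem_nil)⟩)⟩)⟩)⟩)⟩)⟩), der _ _ hiv hR0⟩
theorem bd {G : Type} [Group G] {e : ℕ → G} (h1 : IvOK e (ivOf ivl)) (h2 : ∀ r ∈ R0, ev e r = 1)
    {m : ℕ} (h : Bd (gen e hcols) m) : Bd (gen e cols) (27 * m) := ok.bd h1 (der G e h1 h2) h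
theorem cm {G : Type} [Group G] {e : ℕ → G} (h1 : IvOK e (ivOf ivl)) (h2 : ∀ r ∈ R0, ev e r = 1)
    (h3 : gen e cols = ⊤) {ρ : G →* Equiv.Perm ℕ} (h4 : ∀ c, ρ (e c) = sg (nth Net.nil nl) c) :
    CosetModel ρ (gen e hcols) 27 := ok.cosetModel h1 (der G e h1 h2) h3 fun c _ => h4 c

end H15.CoX1
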