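import Mathlib
import Cfsg.Agent.H29.Ext

set_option autoImplicit false
set_option maxRecDepth 100000
set_option Elab.async false
set_option linter.all false

namespace H15.CoX3

open H29

noncomputable def n1 : Net := ben 7 [(nat_lit 0xf000c30dfc0f03152805555444855),
 (nat_lit 0xa0afb5afa287a01000ff9099f00060),
 (nat_lit 0x48fb220c260f040033000012008b0c),
 (nat_lit 0x7878f8bc44000404cbfb20100084),
 (nat_lit 0x4000403042b04f8c3fccb00000000),
 (nat_lit 0xfb07ff0000000000f30000),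
 (nat_lit 0x4f80000000000)]
noncomputable def t1 : List ℕ := [(nat_lit 0x307a0e26008049980c2b6000221100),
 (nat_lit 0x700000638036000004116006100880),
 (nat_lit 0x7026006204402880c0000000000000),
 (nat_lit 0x0)]
noncomputable def d1 : ℕ := (nat_lit 0x8f81f1002101000223c40a5108a452)
noncomputable def n2 : Net := ben 7 [(nat_lit 0x9aa5656d999a7b3ec6943df33f0300),
 (nat_lit 0x3cccc36f9969fb5153c5a0bb4bb131),
 (nat_lit 0x6f180668ff1242bcf9690d20161c00),
 (nat_lit 0x60f0437f8dbd90fe216560600052),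
 (nat_lit 0x608d10ed800120065000004018),
 (nat_lit 0x130042001300422100000026a02000),
 (nat_lit 0x130042ad000000)]
noncomputable def t2 : List ℕ := [(nat_lit 0x5b49840a81202698c112414e026800),
 (nat_lit 0x598ba60000000600019b0944482a40),
 (nat_lit 0x5fe2009b81ad40028a000200000000),
 (nat_lit 0xa00000000000000000000000000000)]
noncomputable def d2 : ℕ := (nat_lit 0x1408644a02196404209080311184)
noncomputable def n3 : Net := ben 7 [(nat_lit 0x40c30140dccc0041a5a656a09d9a15),
 (nat_lit 0xffaa00f0a0a013a5840a53c0aac553),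
 (nat_lit 0x833041d9d07884de144879ff9c506),
 (nat_lit 0x47ffcddf0008bffd434ab7d80024),
 (nat_lit 0x470100c5204b00b40000004fb0),
 (nat_lit 0x10000000100080000000b004800),
 (nat_lit 0x10008000000)]
noncomputable def t3 : List ℕ := [(nat_lit 0xe2004400c8db20026330121304ac52),
 (nat_lit 0xef554ce800530028623010d0201800),
 (nat_lit 0xeb4400e868802ac004004800000000),
 (nat_lit 0x0)]
noncomputable def d3 : ℕ := (nat_lit 0x102a021314044411980a212c824008)
noncomputable def n4 : Net := ben 7 [(nat_lit 0x30c330055e249d04099ab21fc41555),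
 (nat_lit 0x223311353553a53a33ca5532755021),
 (nat_lit 0x275f0a660057ee008817aeae15110f),
 (nat_lit 0x2878086824a20000cdd500010000),
 (nat_lit 0x2857065f015c02548300000018),
 (nat_lit 0x40822000408221500000049028100),
 (nat_lit 0x408225f000000)]
noncomputable def t4 : List ℕ := [(nat_lit 0x660512a074850004809c01980d6),
 (nat_lit 0xab88803610000500968300d023000),
 (nat_lit 0xa2e725246004002a4800000000000),
 (nat_lit 0x900000000000000000000000000000)]
noncomputable def d4 : ℕ := (nat_lit 0x6040048880f8a28840114402440a20)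
def ivl : List ℕ := [0, 1, 2, 3, 4, 5, 6, 7, 8, 10, 9]
def cols : List ℕ := [1, 2, 3, 4]
def hcols : List ℕ := []
def G0 : List (List ℕ) := [[1, 3, 1, 3],
 [1, 4, 1, 4],
 [2, 4, 2, 4],
 [1, 2, 1, 2, 1, 2],
 [2, 3, 2, 3, 2, 3],
 [3, 4, 3, 4, 3, 4]]
def R0 : List (List ℕ) := G0
theorem hii : ∀ c, ivOf ivl (ivOf ivl c) = c := ivOf_ivOf (by decide +kernel)
theorem der : Derives (ivOf ivl) R0 R0 := Derives.refl _ _
noncomputable def nl : List Net := [Net.nil, n1, n2, n3, n4]
noncomputable def T : TCData := ⟨120, 120, 7, 4, nth Net.nil nl, ivOf ivl, cols, hcols, R0,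
  nth [] [[], t1, t2, t3, t4], nth 0 [0, d1, d2, d3, d4]⟩
theorem hn : NetsOK 120 (nth Net.nil nl) := netsOK_of_all (by decide +kernel)
theorem hiv : IvOK (sg (nth Net.nil nl)) (ivOf ivl) :=
  ivOK_of_chk (k := 7) hn (by decide) (n := 11) (by decide) (by decide) (allN_true.1 (by decide +kernel))
theorem hb : T.Basic := TCData.basic_of_chk hn hiv (by decide +kernel)
theorem hG0 : ∀ r ∈ G0, ev (sg (nth Net.nil nl)) r = 1 :=
  rels_of_chk (k := 7) hn (by decide) hiv (allN_true.1 (by decide +kernel))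
noncomputable def s1 : List TCData.Step := [.all 0 0 0,
 .all 1 0 0,
 .pts 3 0 0 1 [8, 21, 64, 90],
 .pts 3 0 0 3 [40],
 .pts 3 0 0 4 [69]]
noncomputable def s2 : List TCData.Step := [.all 2 0 0,
 .all 3 1 0,
 .all 4 0 0]
noncomputable def s3 : List TCData.Step := [.all 0 1 0,
 .all 4 1 0,
 .all 5 0 0]
noncomputable def s4 : List TCData.Step := [.all 1 1 0,
 .all 2 1 0,
 .all 5 1 0]
theorem hR0 : ∀ r ∈ R0, ev (sg (nth Net.nil nl)) r = 1 := hG0
theorem col1 : T.ColOK 1 := TCData.colOK_of_chk (U := (T.stepsMask 1 s1 (T.mask0 1))) (V := (T.stepsMask 1 s1 (T.mask0 1))) hb (TCData.cov_stepsMask hb (by decide) s1 _ (T.cov_mask0 1)) (TCData.cov_stepsMask hb (by decide) s1 _ (T.cov_mask0 1)) (by decide +kernel)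
theorem col2 : T.ColOK 2 := TCData.colOK_of_chk (U := (T.stepsMask 2 s2 (T.mask0 2))) (V := (T.stepsMask 2 s2 (T.mask0 2))) hb (TCData.cov_stepsMask hb (by decide) s2 _ (T.cov_mask0 2)) (TCData.cov_stepsMask hb (by decide) s2 _ (T.cov_mask0 2)) (by decide +kernel)
theorem col3 : T.ColOK 3 := TCData.colOK_of_chk (U := (T.stepsMask 3 s3 (T.mask0 3))) (V := (T.stepsMask 3 s3 (T.mask0 3))) hb (TCData.cov_stepsMask hb (by decide) s3 _ (T.cov_mask0 3)) (TCData.cov_stepsMask hb (by decide) s3 _ (T.cov_mask0 3)) (by decide +kernel)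
theorem col4 : T.ColOK 4 := TCData.colOK_of_chk (U := (T.stepsMask 4 s4 (T.mask0 4))) (V := (T.stepsMask 4 s4 (T.mask0 4))) hb (TCData.cov_stepsMask hb (by decide) s4 _ (T.cov_mask0 4)) (TCData.cov_stepsMask hb (by decide) s4 _ (T.cov_mask0 4)) (by decide +kernel)
theorem ok : T.OK := ⟨hb, TCData.treeOK_of_chk hn (by decide +kernel), (List.forall_mem_cons.2 ⟨col1, (List.forall_mem_cons.2 ⟨col2, (List.forall_mem_cons.2 ⟨col3, (List.forall_mem_cons.2 ⟨col4, (fun _ h => absurd h List.not_mem_nil)⟩)⟩)⟩)⟩), der _ _ hiv hR0⟩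
theorem bd {G : Type} [Group G] {e : ℕ → G} (h1 : IvOK e (ivOf ivl)) (h2 : ∀ r ∈ R0, ev e r = 1)
    {m : ℕ} (h : Bd (gen e hcols) m) : Bd (gen e cols) (120 * m) := ok.bd h1 (der G e h1 h2) h
theorem cm {G : Type} [Group G] {e : ℕ → G} (h1 : IvOK e (ivOf ivl)) (h2 : ∀ r ∈ R0, ev e r = 1)
    (h3 : gen e cols = ⊤) {ρ : G →* Equiv.Perm ℕ} (h4 : ∀ c, ρ (e c) = sg (nth Net.nil nl) c) :
    CosetModel ρ (gen e hcols) 120 := ok.cosetModel h1 (der G e h1 h2) h3 fun c _ => h4 c

end H15.CoX3
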