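import Mathlib
import Cfsg.Agent.H15.CoG
import Cfsg.Agent.H15.CoT
import Cfsg.Agent.H15.CoB
import Cfsg.Agent.H15.CoC
import Cfsg.Agent.H15.CoU
import Cfsg.Agent.H15.CoX1
import Cfsg.Agent.H15.CoX2
import Cfsg.Agent.H15.CoX3

/-!
# The first Conway group maps into the group
-/

set_option autoImplicit false
set_option maxRecDepth 100000
set_option Elab.async false
set_option linter.unusedSectionVars false

namespace H15.Co

open H29 H24 Subgroup KM XP

variable {G : Type*} [Group G] [Finite G] {e : ℕ → G}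

def BL : List ℕ := [37, 38, 39, 40, 41, 42, 43, 61, 44, 45, 46]
noncomputable def okK : List ℕ → List ℕ → Bool := orE okP (chkE run kK)

namespace B1

variable (h : B1 e)
include h

theorem eK : Eqs okK (pr m e) := h.eP.or (h.trK.pair Co.iso).eqs

theorem bdB : Nat.card (gen (pr m e) BL) ≤ 4157776806543360000 := by
  have t : ∀ c < 60, pr mH (tr e) c = pr m e c := fun c a => Prod.ext (tr_lt m a) (tr_lt e a)
  have qa := qa0.pair h.pre.qa
  have gQ : gen (pr mH (tr e)) Qc = gen (pr m e) Qc := gen_congr fun c a => t c (by revert c; decide)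
  have a1 := (h.eK.sat (nth 99 BL) CoX1.ok CoX1.hii CoX1.der (by decide +kernel)).bd
    ((h.eK.sat (nth 99 BL) CoX2.ok CoX2.hii CoX2.der (by decide +kernel)).bd
    ((h.eK.sat (nth 99 BL) CoX3.ok CoX3.hii CoX3.der (by decide +kernel)).bd (bd_nil _)))
  have a2 := card_sup (A := gen (pr m e) Qc) (B := gen (fun c => pr m e (nth 99 BL c)) CoX1.T.cols)
    (gen_le.2 fun c a => by
      rw [← gQ, ← t _ (by revert c; decide +kernel)]
      exact (qa.tb (defH.pair h.pre.df) _).norm qa.cd)
  have a3 : Bd (gen (fun c => pr m e (nth 99 BL c)) CoU.T.hcols) (512 * 51840) := by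
    refine Bd.of_le ⟨inferInstance, (Nat.le_mul_of_pos_right _ (card_pos _)).trans (a2.le.trans
      (Nat.mul_le_mul (gQ ▸ qa.cd.card_le) a1.2))⟩ (gen_le.2 fun c a => ?_)
    rcases (by revert c; decide +kernel : c ∈ CoX1.T.cols ∨ c = 8) with b | rfl
    · exact mem_sup_right (mem_gen b)
    · refine mem_sup_left ?_
      rw [show pr m e (nth 99 BL 8) = ev (pr m e) [4, 8] from defm.pair h.df 44]
      exact ev_mem_gen (by decide)
  have a4 := (h.eK.sat (nth 99 BL) CoB.ok CoB.hii CoB.der (by decide +kernel)).bd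
    ((h.eK.sat (nth 99 BL) CoC.ok CoC.hii CoC.der (by decide +kernel)).bd
    ((h.eK.sat (nth 99 BL) CoU.ok CoU.hii CoU.der (by decide +kernel)).bd a3))
  rw [gen_map, show CoB.T.cols.map (nth 99 BL) = BL by decide +kernel] at a4
  exact a4.2

theorem psi : ∃ ψ : S →* G, Function.Injective ψ ∧ ∀ c < 62, ψ (m c) = e c := by
  have a1 : ∀ c < 62, pr m e c ∈ gen (pr m e) BL := fun c a => h.eK.clo (l := clG) (L := 2 ^ 62 - 1)
    (by decide +kernel) c (by rw [Nat.testBit_two_pow_sub_one]; simpa using a)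
  have a2 : (gen (pr m e) BL).map (MonoidHom.fst S G) = ⊤ := by
    rw [map_fst]
    refine coatom_K0 (genK ▸ gen_le.2 fun c a => fst_mem (a1 c (by revert c; decide)))
      (mem_gen (c := 43) (by decide)) fun a => ?_
    exact absurd ((mem_K0 (val_m 43)).1 a) (by decide +kernel)
  have a3 : Gr (gen (pr m e) BL) := gr_of_card (by
    rw [a2, Subgroup.card_top, H10.card_Co1]; exact h.bdB)
  let f := MulEquiv.ofBijective ((MonoidHom.fst S G).comp (gen (pr m e) BL).subtype)
    ⟨fun a b c => Subtype.ext (a3.eq a.2 b.2 c), fun x => by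
      obtain ⟨d, b1, b2⟩ := a2.ge (mem_top x)
      exact ⟨⟨d, b1⟩, b2⟩⟩
  let ψ := ((MonoidHom.snd S G).comp (gen (pr m e) BL).subtype).comp f.symm.toMonoidHom
  have k : ∀ c < 62, ψ (m c) = e c := fun c a =>
    congrArg (fun d : gen (pr m e) BL => d.1.2) (f.symm_apply_apply ⟨_, a1 c a⟩)
  have := H10.simple_Co1
  refine ⟨ψ, (MonoidHom.ker_eq_bot_iff ψ).1 ((IsSimpleGroup.eq_bot_or_eq_top_of_normal _
    inferInstance).resolve_right fun a => h.pre.lx.ne_one ?_), k⟩
  exact (tr_lt e (by norm_num)).trans ((k 0 (by norm_num)).symm.trans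
    (show m 0 ∈ ψ.ker from a ▸ mem_top _))

end B1

end H15.Co
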