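import Mathlib
import Cfsg.Agent.H15.CoS
import Cfsg.Agent.H15.Fin

/-!
# Recognition of the first Conway group
-/

set_option autoImplicit false
set_option maxRecDepth 100000
set_option Elab.async false
set_option linter.unusedSectionVars false

namespace H15.Co

open H29 H24 Subgroup KM XP

variable {G : Type*} [Group G] [Finite G]

theorem dih {a b : G} (ha : a * a = 1) (hb : b * b = 1) (h : ∀ r ∈ zpowers (a * b), r * b * r⁻¹ ≠ a) :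
    ∃ u ∈ zpowers (a * b), u ≠ 1 ∧ u * u = 1 ∧ u ∈ C{a} ∧ u ∈ C{b} ∧ ∃ r ∈ zpowers (a * b),
      (r * a * r⁻¹ = u * a ∧ r * b * r⁻¹ = u * b) ∨ r * b * r⁻¹ = u * a := by
  obtain ⟨u, a1, a2, a3, a4, a5⟩ := H21.exists_invol_comm_of_not_odd ha hb (isOfFinOrder_of_finite _)
    fun ho => by
      obtain ⟨k, hk⟩ := H21.conj_of_odd_mul ha hb ho (pow_orderOf_eq_one _)
      exact h _ (npow_mem_zpowers _ _) hk
  refine ⟨u, a5, a1, a2, mem_C1.2 a3.eq, mem_C1.2 a4.eq, ?_⟩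
  have i1 := H21.invol_inv ha
  have i2 := H21.invol_inv hb
  have k : ∀ t : G, t * (a * b) * t⁻¹ = (a * b)⁻¹ → ∀ n : ℤ,
      (a * b) ^ n * t * ((a * b) ^ n)⁻¹ = (a * b) ^ (n + n) * t := fun t ht n => by
    have : t * (a * b) ^ (-n) * t⁻¹ = (a * b) ^ n := by rw [← conj_zpow, ht, inv_zpow', neg_neg]
    rw [zpow_add, mul_assoc, mul_assoc, ← zpow_neg, mul_inv_eq_iff_eq_mul.1 this]
  have ka := k a (by rw [mul_inv_rev, i1, i2, ← mul_assoc, ha, one_mul])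
  have kb := k b (by rw [mul_inv_rev, i1, i2, mul_assoc, mul_assoc, hb, mul_one])
  obtain ⟨n, rfl⟩ := mem_zpowers_iff.1 a5
  rcases Int.even_or_odd' n with ⟨j, rfl | rfl⟩
  · exact ⟨_, zpow_mem_zpowers _ j, .inl ⟨by rw [ka, two_mul], by rw [kb, two_mul]⟩⟩
  · refine ⟨_, zpow_mem_zpowers _ (j + 1), .inr ?_⟩
    rw [kb, show j + 1 + (j + 1) = 2 * j + 1 + 1 by ring, zpow_add_one, mul_assoc, mul_assoc, hb, mul_one]

theorem cj_sq {a b : G} (h : IsConj a b) (ha : a * a = 1) : b * b = 1 := by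
  obtain ⟨g, rfl⟩ := isConj_iff.1 h
  rw [conj_mul, ha]; simp

theorem cj_dvd {a b y : G} (h : IsConj a b) (hy : y ∈ C{b}) : orderOf y ∣ Nat.card C{a} := by
  obtain ⟨g, rfl⟩ := isConj_iff.1 h
  rw [← card_cj g, cj_C1]
  exact orderOf_dvd_natCard _ hy

theorem cj_of (g a : G) : IsConj a (g * a * g⁻¹) := isConj_iff.2 ⟨g, rfl⟩

theorem bO {n : ℕ} (h : mO.testBit n = true) : IsConj (m 0) (qa n) := by
  obtain ⟨g, a⟩ := clO h
  exact isConj_iff.2 ⟨g⁻¹, by rwa [inv_inv]⟩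

theorem bD {n : ℕ} (h : mD.testBit n = true) : IsConj (m 51) (qa n) := by
  obtain ⟨g, a⟩ := clD h
  exact isConj_iff.2 ⟨g⁻¹, by rwa [inv_inv]⟩

/-- the Conway group is embedded over the centraliser -/
structure En (ψ : S →* G) : Prop where
  inj : Function.Injective ψ
  cz : C{ψ (m 0)} ≤ (gen m HL).map ψ
  card : Nat.card C{ψ (m 0)} = 89181388800

namespace En

variable {ψ : S →* G} (h : En ψ)
include h

theorem cm {x y : S} : ψ x ∈ C{ψ y} ↔ x ∈ C{y} := by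
  rw [mem_C1, mem_C1, ← map_mul, ← map_mul, h.inj.eq_iff]

theorem n51 : ¬ IsConj (ψ (m 0)) (ψ (m 51)) := fun a => by
  have := cj_dvd a (h.cm.2 ord11.2)
  rw [orderOf_injective ψ h.inj, ord11.1, h.card] at this
  omega

theorem n52 : ¬ IsConj (ψ (m 0)) (ψ (m 52)) := fun a => by
  have := cj_dvd a (h.cm.2 ord13.2)
  rw [orderOf_injective ψ h.inj, ord13.1, h.card] at this
  omega

theorem z2 : ψ (m 0) * ψ (m 0) = 1 := by rw [← map_mul, ← qa1, qa_sq, map_one]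
theorem z1 : ψ (m 0) ≠ 1 := fun a => ne0 (h.inj (a.trans (map_one ψ).symm))
theorem w2 : ψ (m 51) * ψ (m 51) = 1 := by rw [← map_mul, ← qa40, qa_sq, map_one]
theorem w1 : ψ (m 51) ≠ 1 := fun a => ne51 (h.inj (a.trans (map_one ψ).symm))

theorem cls {x : S} (h1 : ψ x * ψ x = 1) (h2 : ψ x ≠ 1) :
    IsConj (m 0) x ∨ IsConj (m 51) x ∨ IsConj (m 52) x := by
  simpa using clS (x := x) (h.inj (by rw [map_mul, h1, map_one])) fun a => h2 (by rw [a, map_one])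

theorem zc {x : S} (hx : IsConj (ψ (m 0)) (ψ x)) : IsConj (m 0) x :=
  (h.cls (cj_sq hx h.z2) fun a => h.z1 (isConj_one_left.1 (a ▸ hx))).elim id fun a => a.elim
    (fun a => absurd (hx.trans (ψ.map_isConj a).symm) h.n51)
    fun a => absurd (hx.trans (ψ.map_isConj a).symm) h.n52

theorem U {x : S} (hx : IsConj (m 0) x) {g : G} (hg : g * ψ x * g⁻¹ ∈ ψ.range) : g ∈ ψ.range := by
  obtain ⟨y, hy⟩ := hg
  obtain ⟨l, a⟩ := isConj_iff.1 (h.zc (x := y) (hy ▸ (ψ.map_isConj hx).trans (cj_of g _)))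
  obtain ⟨k, rfl⟩ := isConj_iff.1 hx
  have : (ψ l)⁻¹ * g * ψ k ∈ ψ.range := map_le_range _ _ (h.cz (mem_C1_iff_conj.2 (by
    rw [← mul_left_cancel_iff (a := ψ l), ← mul_right_cancel_iff (a := (ψ l)⁻¹), ← map_inv, ← map_mul,
      ← map_mul, a, hy]
    simp [mul_assoc])))
  rwa [mul_mem_cancel_right (ψ.mem_range.2 ⟨_, rfl⟩),
    mul_mem_cancel_left (inv_mem (ψ.mem_range.2 ⟨_, rfl⟩))] at this

theorem cz' {x : S} (hx : IsConj (m 0) x) : C{ψ x} ≤ ψ.range := fun g hg =>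
  h.U hx (by rw [mem_C1_iff_conj.1 hg]; exact ⟨_, rfl⟩)

theorem X {y : G} (h1 : y ∈ ψ.range) (h2 : y ∈ C{ψ (m 51)}) (h3 : IsConj (ψ (m 0)) y)
    (h4 : IsConj (ψ (m 0)) (y * ψ (m 51))) : y ∈ AA.map ψ := by
  obtain ⟨x, rfl⟩ := h1
  exact mem_map_of_mem ψ (lemX (Z := fun x => IsConj (ψ (m 0)) (ψ x))
    (fun _ _ a b => b.trans (ψ.map_isConj a)) (IsConj.refl _) h.n51 h.n52 (h.cm.1 h2)
    (h.inj (by rw [map_mul, cj_sq h3 h.z2, map_one])) h3 (by rwa [map_mul]))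

theorem step {c : G} (hc : c ∈ C{ψ (m 51)}) {o : ℕ} (h0 : o < 2048) (h1 : mO.testBit o = true)
    (h2 : mD.testBit (Nat.xor o 40) = true) : ∃ n < 2048, c⁻¹ * ψ (qa n) * c ∈ AA.map ψ ∧ n ≠ 0 ∧
      mO.testBit (Nat.xor n o) = true := by
  have p2 := Nat.prime_two
  have cw : ∀ n, ψ (qa n) ∈ C{ψ (m 51)} := fun n =>
    h.cm.2 (C_le_C1 (qa40 ▸ qv_mem 40) (abA (qv_mem n)))
  have mw : ∀ n, ψ (qa n) * ψ (m 51) = ψ (qa (Nat.xor n 40)) := fun n => by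
    rw [← qa40, ← map_mul, qa_mul]
  have o8 : IsConj (m 0) (qa 8) := bO (by decide +kernel)
  have za := ψ.map_isConj (bO h1)
  have zb := (ψ.map_isConj o8).trans (cj_of c _)
  have cb : c * ψ (qa 8) * c⁻¹ ∈ C{ψ (m 51)} := mul_mem (mul_mem hc (cw 8)) (inv_mem hc)
  have le : zpowers (ψ (qa o) * (c * ψ (qa 8) * c⁻¹)) ≤ C{ψ (m 51)} := zpowers_le.2 (mul_mem (cw o) cb)
  have cw' : ∀ r ∈ C{ψ (m 51)}, ∀ y, r * y * r⁻¹ * ψ (m 51) = r * (y * ψ (m 51)) * r⁻¹ := fun r a y => by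
    rw [← conj_mul, mem_C1_iff_conj.1 a]
  have zw : ∀ r ∈ C{ψ (m 51)}, IsConj (ψ (m 0)) (r * (c * ψ (qa 8) * c⁻¹) * r⁻¹ * ψ (m 51)) :=
    fun r a => by
      rw [cw' r a, cw' c hc, mw]
      exact ((ψ.map_isConj (bO (by decide +kernel))).trans (cj_of c _)).trans (cj_of r _)
  obtain ⟨u, a0, a1, a2, a3, a4, r, a5, a6⟩ := dih (cj_sq za h.z2) (cj_sq zb h.z2) fun r a b =>
    h.n51 ((b ▸ zw r (le a)).trans (by rw [mw]; exact (ψ.map_isConj (bD h2)).symm))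
  have uG := h.cz' (bO h1) a3
  have uw := le a0
  obtain ⟨P, b1, b2⟩ := Sylow_superset p2 (M := C{u} ⊓ C{ψ (m 51)} ⊓ ψ.range) (e2 (cj_sq za h.z2))
    (zpowers_le.2 ⟨⟨mem_C1_comm.1 a3, cw o⟩, _, rfl⟩)
  obtain ⟨g, b3, b4⟩ := Sylow_Jsub p2 (b1.of_norm_le p2 inf_le_left fun g a =>
    ⟨a.1, h.U (bO h1) (b1.le (conj_mem a.2 (b2 (mem_zpowers _)))).2⟩) (e2 (cj_sq zb h.z2))
    (zpowers_le.2 ⟨mem_C1_comm.1 a4, cb⟩)
  obtain ⟨k, b5⟩ := h.U o8 (g := g * c) (by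
    simpa [mul_assoc] using (b1.le (b4 (conj_mem_cj g (mem_zpowers _)))).2)
  have b6 : ψ k ∈ N[AA.map ψ] := le_normalizer_map ψ (mem_map_of_mem ψ
    (normA (centW (h.cm.1 (b5 ▸ mul_mem b3.2 hc)))))
  have b7 : c⁻¹ * u * c ∈ AA.map ψ ↔ u ∈ AA.map ψ := by
    rw [← conj_mem_iff' (x := u) b6, b5, mul_inv_rev, mul_assoc c⁻¹ g⁻¹, mul_assoc c⁻¹ (_ * _), ← mul_assoc _ g, conj_of_mem_C1 b3.1, mul_assoc]
  have b8 : IsConj (ψ (m 0)) (u * ψ (qa o)) :=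
    a6.elim (fun a => a.1 ▸ za.trans (cj_of r _)) fun a => a ▸ zb.trans (cj_of r _)
  have qm : ∀ n, ψ (qa n) ∈ AA.map ψ := fun n => mem_map_of_mem ψ (qv_mem n)
  have b9 : u ∈ AA.map ψ := by
    rcases a6 with ⟨-, a⟩ | a
    · have d : c⁻¹ * u * c * ψ (qa 8) = c⁻¹ * (r * (c * ψ (qa 8) * c⁻¹) * r⁻¹) * c⁻¹⁻¹ := by
        rw [a]; group
      refine b7.1 ((mul_mem_cancel_right (qm 8)).1 (h.X (mul_mem (h.cz' o8 ?_) ⟨_, rfl⟩)
        (mul_mem (mul_mem (mul_mem (inv_mem hc) uw) hc) (cw 8)) ?_ ?_))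
      · rw [← cj_C1, mem_cj] at a4; exact a4
      · exact d ▸ (zb.trans (cj_of r _)).trans (cj_of _ _)
      · rw [d, cw' _ (inv_mem hc)]
        exact (zw r (le a5)).trans (cj_of _ _)
    · exact (mul_mem_cancel_right (qm o)).1 (h.X (mul_mem uG ⟨_, rfl⟩) (mul_mem uw (cw o)) b8
        (a ▸ zw r (le a5)))
  obtain ⟨x, c1, rfl⟩ := id b9
  obtain ⟨n, c2, rfl⟩ := cdA.cover c1
  refine ⟨n, c2, b7.2 b9, fun a => a1 (by rw [a, qv_zero, map_one]), ?_⟩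
  rw [← map_mul, qa_mul] at b8
  rcases clA (xor_lt c2 h0) with a | a | a
  · rw [a, qa, qv_zero, map_one] at b8
    exact absurd (isConj_one_left.1 b8) h.z1
  · exact a
  · exact absurd (b8.trans (ψ.map_isConj (bD a)).symm) h.n51

theorem cw : C{ψ (m 51)} ≤ ψ.range := fun c hc => by
  by_contra hn
  have k : ∀ c ∉ ψ.range, ∀ n < 2048, c⁻¹ * ψ (qa n) * c ∈ AA.map ψ → n ≠ 0 → mD.testBit n = true :=
    fun c a n b d e => ((clA b).resolve_left e).resolve_left fun f =>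
      a (inv_mem_iff.1 (h.U (bO f) (by simpa using map_le_range _ _ d)))
  have x : ∀ (c : G) a b, c⁻¹ * ψ (qa a) * c ∈ AA.map ψ → c⁻¹ * ψ (qa b) * c ∈ AA.map ψ →
      c⁻¹ * ψ (qa (Nat.xor a b)) * c ∈ AA.map ψ := fun c a b d e => by
    rw [← qa_mul]
    simpa [mul_assoc] using mul_mem d e
  have w : ∀ c ∈ C{ψ (m 51)}, c⁻¹ * ψ (qa 40) * c ∈ AA.map ψ := fun c a => by
    rw [qa40, conj_of_mem_C1 a, ← qa40]; exact mem_map_of_mem ψ (qv_mem _)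
  obtain ⟨u, a1, a2, a3, a4⟩ := h.step hc (o := 1) (by norm_num) (by decide +kernel) (by decide +kernel)
  obtain ⟨l, b1, b2⟩ := repW a1 (k c hn u a1 a2 a3)
    (k c hn _ (xor_lt a1 (by norm_num)) (x c _ _ a2 (w c hc)) fun a => by
      rw [xor_eq, Nat.xor_eq_zero_iff] at a
      rw [a] at a4
      exact absurd a4 (by decide +kernel)) a4
  have b3 := mul_mem (inv_mem (h.cm.2 b1)) hc
  refine no_pure (B := {n | n < 2048 ∧ ((ψ l)⁻¹ * c)⁻¹ * ψ (qa n) * ((ψ l)⁻¹ * c) ∈ AA.map ψ})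
    (fun a d => ⟨d.1, fun b e => ⟨xor_lt d.1 e.1, x _ _ _ d.2 e.2⟩⟩) ⟨by norm_num, ?_⟩
    ⟨by norm_num, w _ b3⟩ (fun a d => k _ (fun e => hn ((mul_mem_cancel_left
      (inv_mem (ψ.mem_range.2 ⟨_, rfl⟩))).1 e)) a d.1 d.2) fun o d e f => ?_
  · simpa [← b2, mul_assoc] using a2
  · obtain ⟨n, c1, c2, c3⟩ := h.step b3 d e f
    exact ⟨n, ⟨c1, c2⟩, c3⟩

theorem nwb : ¬ IsConj (ψ (m 51)) (ψ (m 52)) := fun a => by
  have := (cj_dvd a (h.cm.2 ord13.2)).trans (card_dvd_of_le (K := K0.map ψ) fun c hc => by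
    obtain ⟨x, rfl⟩ := h.cw hc
    exact mem_map_of_mem ψ (centW (h.cm.1 hc)))
  rw [orderOf_injective ψ h.inj, ord13.1, card_map_of_injective h.inj, card_K0] at this
  omega

theorem cjw (g : G) : g * ψ (m 51) * g⁻¹ ∈ ψ.range := by
  have wb := cj_of g (ψ (m 51))
  obtain ⟨u, -, a1, a2, a3, a4, r, -, a6⟩ := dih h.z2 (cj_sq wb h.w2) fun r _ b =>
    h.n51 (b ▸ wb.trans (cj_of r _)).symm
  obtain ⟨y, b1, rfl⟩ := h.cz a3
  rcases h.cls a2 a1 with a | a | a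
  · exact h.cz' a (mem_C1_comm.1 a4)
  · obtain ⟨k, rfl⟩ := isConj_iff.1 a
    have := cj_le_of_mem h.cw (ψ.mem_range.2 ⟨k, rfl⟩)
    rw [cj_C1] at this
    exact this (by simpa using mem_C1_comm.1 a4)
  have b2 : IsConj (ψ (m 0)) (ψ (y * m 0)) ∨ IsConj (ψ (m 51)) (ψ (y * m 0)) := by
    rw [map_mul]
    rcases a6 with a | a
    exacts [.inl (a.1 ▸ cj_of r _), .inr (a ▸ wb.trans (cj_of r _))]
  rcases h.cls (b2.elim (cj_sq · h.z2) (cj_sq · h.w2)) (fun a => b2.elim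
    (fun b => h.z1 (isConj_one_left.1 (a ▸ b))) fun b => h.w1 (isConj_one_left.1 (a ▸ b))) with b | b | b
  · exact absurd (lf0.conj b) (clB b1 a)
  · exact absurd (lf51.conj b) (clB b1 a)
  · exact (b2.elim (fun c => h.n52 (c.trans (ψ.map_isConj b).symm))
      fun c => h.nwb (c.trans (ψ.map_isConj b).symm)).elim

theorem surj : Function.Surjective ψ := fun g => by
  have := H10.simple_Co1
  have a : (normalClosure {ψ (m 51)}).comap ψ = ⊤ :=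
    (IsSimpleGroup.eq_bot_or_eq_top_of_normal _ inferInstance).resolve_left fun a =>
      ne51 (mem_bot.1 (a ▸ (subset_normalClosure rfl : m 51 ∈ (normalClosure {ψ (m 51)}).comap ψ)))
  refine h.U (IsConj.refl _) ((closure_le _).2 (fun x hx => ?_)
    ((normalClosure_normal (s := {ψ (m 51)})).conj_mem _ (a.ge (mem_top (m 0))) g))
  obtain ⟨y, rfl, hy⟩ := Group.mem_conjugatesOfSet_iff.1 hx
  obtain ⟨g, rfl⟩ := isConj_iff.1 hy
  exact h.cjw g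

end En

theorem B1.equiv {e : ℕ → G} (h : B1 e) : ∃ φ : S ≃* G, φ (m 0) = e 0 := by
  obtain ⟨ψ, h1, h2⟩ := h.psi
  have a : ψ (m 0) = tr e 0 := (h2 0 (by norm_num)).trans (tr_lt e (by norm_num)).symm
  refine ⟨MulEquiv.ofBijective ψ ⟨h1, En.surj ⟨h1, ?_, a ▸ h.pre.card⟩⟩, h2 0 (by norm_num)⟩
  rw [a, ← h.pre.top.1, gen_tr e (by decide +kernel)]
  exact gen_le.2 fun c b => ⟨_, mem_gen b, h2 c (by revert c; decide)⟩

theorem recog {z : G} {Q : Subgroup G} (h : LX z Q) (h1 : Nat.card Q = 2 ^ 9)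
    (h2 : Nat.card C{z} = 89181388800) {g : G} (h3 : g * z * g⁻¹ ∈ Q) (h4 : g * z * g⁻¹ ≠ z) :
    ∃ φ : S ≃* G, φ (m 0) = z := by
  obtain ⟨e, a1, rfl, rfl⟩ := exists_pre h h1 h2
  obtain ⟨c, a2⟩ := a1.fuse h3 (by rw [conj_mul, h.sq]; simp) (by simpa using h.ne_one) h4
  obtain ⟨e', a3, a4⟩ := a1.exists_B1 (g := c * g) (by
    rw [← mul_left_cancel_iff (a := c⁻¹), ← mul_right_cancel_iff (a := c), a2]; group)
  obtain ⟨φ, a5⟩ := a3.equiv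
  exact ⟨φ, a5.trans a4⟩

theorem recog' {z : G} (hz : orderOf z = 2) (Q : Subgroup C{z}) [Q.Normal] (hC : C[Q] ≤ Q)
    (hQ : Cfsg.IsExtraspecial 2 Q) (hcard : Nat.card Q = 2 ^ 9)
    (f : C{z} ⧸ Q ≃* Cfsg.Omega (ZMod 2) (Cfsg.quadFormPlus 4 (ZMod 2)))
    (hn : ∃ g : G, (∃ hq : g * z * g⁻¹ ∈ C{z}, (⟨g * z * g⁻¹, hq⟩ : C{z}) ∈ Q) ∧ g * z * g⁻¹ ≠ z) :
    ∃ φ : S ≃* G, φ (m 0) = z := by
  obtain ⟨g, ⟨a1, a2⟩, a3⟩ := hn
  refine recog (lx_of hz Q hC hQ) (by rw [card_map_of_injective (subtype_injective _), hcard]) ?_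
    ⟨_, a2, rfl⟩ a3
  rw [card_eq_card_quotient_mul_card_subgroup Q, Nat.card_congr f.toEquiv, card_omega8p, hcard]
  rfl

end H15.Co
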