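import Mathlib
import Cfsg.Agent.H15.CoZ

/-!
# The first Conway group as a section over a normal subgroup of odd order
-/

set_option autoImplicit false
set_option maxRecDepth 100000
set_option Elab.async false
set_option linter.unusedSectionVars false

namespace H15.Co

open H29 H24 Subgroup KM XP

variable {G : Type*} [Group G] [Finite G]

/-- `Γ` maps onto the Conway group with a kernel of odd order -/
structure Eo (Γ : Subgroup G) (p : G → S) : Prop where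
  mul : ∀ {a b}, a ∈ Γ → b ∈ Γ → p (a * b) = p a * p b
  surj : ∀ x, ∃ a ∈ Γ, p a = x
  odd : ∀ {a}, a ∈ Γ → p a = 1 → Odd (orderOf a)
  uniq : ∀ {a b}, a ∈ Γ → b ∈ Γ → a * a = 1 → b * b = 1 → p a = p b → a = b
  U0 : ∀ {a g}, a ∈ Γ → a * a = 1 → p a = m 0 → g * a * g⁻¹ ∈ Γ → g ∈ Γ
  cz : C{m 0} ≤ gen m HL
  card : Nat.card C{m 0} = 89181388800

/-- the involution over `x` -/
noncomputable def lf (Γ : Subgroup G) (p : G → S) (x : S) : G :=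
  Classical.epsilon fun a => a ∈ Γ ∧ a * a = 1 ∧ p a = x

theorem s0 : m 0 * m 0 = 1 := by rw [← qa1, qa_sq]
theorem s51 : m 51 * m 51 = 1 := by rw [← qa40, qa_sq]
theorem sA {x : S} (h : x ∈ AA) : x * x = 1 := by
  obtain ⟨n, -, rfl⟩ := cdA.cover h
  exact qa_sq n

namespace Eo

variable {Γ : Subgroup G} {p : G → S} (h : Eo Γ p) {a b g : G} {x y : S}
include h

/-- the homomorphism -/
def hom : Γ →* S := MonoidHom.mk' (fun a => p a) fun a b => h.mul a.2 b.2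

theorem one : p 1 = 1 := h.hom.map_one
theorem inv (ha : a ∈ Γ) : p a⁻¹ = (p a)⁻¹ := h.hom.map_inv ⟨a, ha⟩
theorem pow (ha : a ∈ Γ) (n : ℕ) : p (a ^ n) = p a ^ n := h.hom.map_pow ⟨a, ha⟩ n
theorem pc (hg : g ∈ Γ) (ha : a ∈ Γ) : p (g * a * g⁻¹) = p g * p a * (p g)⁻¹ := by
  rw [h.mul (mul_mem hg ha) (inv_mem hg), h.mul hg ha, h.inv hg]
theorem ps (ha : a ∈ Γ) (h2 : a * a = 1) : p a * p a = 1 := by rw [← h.mul ha ha, h2, h.one]

theorem ex (ha : a ∈ Γ) (h2 : p a * p a = 1) : ∃ n : ℕ, a ^ n * a ^ n = 1 ∧ p (a ^ n) = p a := by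
  obtain ⟨k, hk⟩ := h.odd (mul_mem ha ha) ((h.mul ha ha).trans h2)
  refine ⟨2 * k + 1, by rw [← (Commute.refl a).mul_pow, ← hk, pow_orderOf_eq_one], ?_⟩
  rw [h.pow ha, pow_succ, pow_mul, pow_two, h2, one_pow, one_mul]

theorem sp (hx : x * x = 1) : lf Γ p x ∈ Γ ∧ lf Γ p x * lf Γ p x = 1 ∧ p (lf Γ p x) = x := by
  obtain ⟨a, ha, rfl⟩ := h.surj x
  obtain ⟨n, h1, h2⟩ := h.ex ha hx
  exact Classical.epsilon_spec (p := fun b => b ∈ Γ ∧ b * b = 1 ∧ p b = p a) ⟨_, pow_mem ha n, h1, h2⟩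

theorem eq (ha : a ∈ Γ) (h2 : a * a = 1) (e : p a = x) : lf Γ p x = a := by
  obtain ⟨a1, a2, a3⟩ := h.sp (e ▸ h.ps ha h2 : x * x = 1)
  exact h.uniq a1 ha a2 h2 (a3.trans e.symm)

theorem lc (hg : g ∈ Γ) (hx : x * x = 1) : lf Γ p (p g * x * (p g)⁻¹) = g * lf Γ p x * g⁻¹ := by
  obtain ⟨a1, a2, a3⟩ := h.sp hx
  exact h.eq (mul_mem (mul_mem hg a1) (inv_mem hg)) (by rw [conj_mul, a2]; simp) (by rw [h.pc hg a1, a3])

theorem ic (hx : x * x = 1) (c : IsConj x y) : IsConj (lf Γ p x) (lf Γ p y) := by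
  obtain ⟨k, rfl⟩ := isConj_iff.1 c
  obtain ⟨g, hg, rfl⟩ := h.surj k
  rw [h.lc hg hx]; exact cj_of _ _

theorem cm (hg : g ∈ Γ) (hx : x * x = 1) : g ∈ C{lf Γ p x} ↔ p g ∈ C{x} := by
  rw [mem_C1_iff_conj, mem_C1_iff_conj]
  exact ⟨fun e => by rw [← (h.sp hx).2.2, ← h.pc hg (h.sp hx).1, e], fun e => by rw [← h.lc hg hx, e]⟩

theorem lm (hx : x * x = 1) (hy : y * y = 1) (c : x ∈ C{y}) :
    lf Γ p x * lf Γ p y = lf Γ p (x * y) := by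
  obtain ⟨a1, a2, a3⟩ := h.sp hx
  obtain ⟨b1, b2, b3⟩ := h.sp hy
  have e := mem_C1.1 ((h.cm a1 hy).2 (a3.symm ▸ c))
  refine (h.eq (mul_mem a1 b1) ?_ (by rw [h.mul a1 b1, a3, b3])).symm
  rw [mul_assoc, ← mul_assoc (lf Γ p y), ← e, mul_assoc, b2, mul_one, a2]

theorem qm (k n : ℕ) : lf Γ p (qa k) * lf Γ p (qa n) = lf Γ p (qa (Nat.xor k n)) := by
  rw [h.lm (qa_sq k) (qa_sq n) (C_le_C1 (qv_mem n) (abA (qv_mem k))), qa_mul]

theorem U (hx : IsConj (m 0) x) (hg : g * lf Γ p x * g⁻¹ ∈ Γ) : g ∈ Γ := by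
  obtain ⟨k, rfl⟩ := isConj_iff.1 hx
  obtain ⟨l, hl, rfl⟩ := h.surj k
  obtain ⟨a1, a2, a3⟩ := h.sp s0
  rw [h.lc hl s0] at hg
  exact (mul_mem_cancel_right hl).1 (h.U0 a1 a2 a3 (by simpa [mul_assoc] using hg))

theorem zc (ha : a ∈ Γ) (c : IsConj (lf Γ p (m 0)) a) : IsConj (m 0) (p a) := by
  obtain ⟨g, rfl⟩ := isConj_iff.1 c
  rw [h.pc (h.U (IsConj.refl _) ha) (h.sp s0).1, (h.sp s0).2.2]
  exact cj_of _ _

theorem m51 : ¬ IsConj (m 0) (m 51) := fun a => by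
  have := cj_dvd a ord11.2
  rw [ord11.1, h.card] at this
  omega

theorem m52 : ¬ IsConj (m 0) (m 52) := fun a => by
  have := cj_dvd a ord13.2
  rw [ord13.1, h.card] at this
  omega

theorem n51 : ¬ IsConj (lf Γ p (m 0)) (lf Γ p (m 51)) := fun a =>
  h.m51 ((h.sp s51).2.2 ▸ h.zc (h.sp s51).1 a)

theorem z2 : lf Γ p (m 0) * lf Γ p (m 0) = 1 := (h.sp s0).2.1
theorem z1 : lf Γ p (m 0) ≠ 1 := fun a => ne0 (by rw [← (h.sp s0).2.2, a, h.one])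
theorem w2 : lf Γ p (m 51) * lf Γ p (m 51) = 1 := (h.sp s51).2.1
theorem w1 : lf Γ p (m 51) ≠ 1 := fun a => ne51 (by rw [← (h.sp s51).2.2, a, h.one])

theorem cls (ha : a ∈ Γ) (h1 : a * a = 1) (h2 : a ≠ 1) :
    IsConj (m 0) (p a) ∨ IsConj (m 51) (p a) ∨ IsConj (m 52) (p a) := by
  simpa using clS (h.ps ha h1) fun e => h2 (h.uniq ha (one_mem _) h1 (one_mul _) (e.trans h.one.symm))

theorem cz' (hx : IsConj (m 0) x) : C{lf Γ p x} ≤ Γ := fun g hg =>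
  h.U hx (by rw [mem_C1_iff_conj.1 hg]; exact (h.sp (cj_sq hx s0)).1)

/-- the lift of the cocode group -/
def A : Subgroup G where
  carrier := {a | a ∈ Γ ∧ a * a = 1 ∧ p a ∈ AA}
  one_mem' := ⟨one_mem _, one_mul _, h.one ▸ one_mem _⟩
  inv_mem' := fun {a} ha => by rwa [inv_eq_of_mul_eq_one_right ha.2.1]
  mul_mem' := fun {a b} ha hb => by
    have := h.lm (sA ha.2.2) (sA hb.2.2) (C_le_C1 hb.2.2 (abA ha.2.2))
    rw [h.eq ha.1 ha.2.1 rfl, h.eq hb.1 hb.2.1 rfl] at this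
    exact ⟨mul_mem ha.1 hb.1, this ▸ (h.sp (sA (mul_mem ha.2.2 hb.2.2))).2.1,
      h.mul ha.1 hb.1 ▸ mul_mem ha.2.2 hb.2.2⟩

theorem qA (n : ℕ) : lf Γ p (qa n) ∈ h.A :=
  ⟨(h.sp (qa_sq n)).1, (h.sp (qa_sq n)).2.1, (h.sp (qa_sq n)).2.2.symm ▸ qv_mem n⟩

theorem nA (hg : g ∈ Γ) (h1 : p g ∈ N[AA]) : g ∈ N[h.A] := mem_N_of_finite fun x hx =>
  ⟨mul_mem (mul_mem hg hx.1) (inv_mem hg), by rw [conj_mul, hx.2.1]; simp,
    h.pc hg hx.1 ▸ conj_mem h1 hx.2.2⟩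

theorem X {y : G} (h1 : y ∈ Γ) (h2 : y ∈ C{lf Γ p (m 51)}) (h3 : IsConj (lf Γ p (m 0)) y)
    (h4 : IsConj (lf Γ p (m 0)) (y * lf Γ p (m 51))) : y ∈ h.A :=
  ⟨h1, cj_sq h3 h.z2, lemX (Z := IsConj (m 0)) (fun _ _ a b => b.trans a) (IsConj.refl _) h.m51 h.m52
    ((h.cm h1 s51).1 h2) (h.ps h1 (cj_sq h3 h.z2)) (h.zc h1 h3) (by
      have := h.zc (mul_mem h1 (h.sp s51).1) h4
      rwa [h.mul h1 (h.sp s51).1, (h.sp s51).2.2] at this)⟩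

theorem step {c : G} (hc : c ∈ C{lf Γ p (m 51)}) {o : ℕ} (h0 : o < 2048) (h1 : mO.testBit o = true)
    (h2 : mD.testBit (Nat.xor o 40) = true) : ∃ n < 2048, c⁻¹ * lf Γ p (qa n) * c ∈ h.A ∧ n ≠ 0 ∧
      mO.testBit (Nat.xor n o) = true := by
  have p2 := Nat.prime_two
  have mw : ∀ n, lf Γ p (qa n) * lf Γ p (m 51) = lf Γ p (qa (Nat.xor n 40)) := fun n => by
    rw [← qa40, h.qm]
  have qm := h.qA
  have cw : ∀ n, lf Γ p (qa n) ∈ C{lf Γ p (m 51)} := fun n => (h.cm (qm n).1 s51).2 (by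
    rw [(h.sp (qa_sq n)).2.2]; exact C_le_C1 (qa40 ▸ qv_mem 40) (abA (qv_mem n)))
  have o8 : IsConj (m 0) (qa 8) := bO (by decide +kernel)
  have za := h.ic s0 (bO h1)
  have zb := (h.ic s0 o8).trans (cj_of c _)
  have wd := h.ic s51 (bD h2)
  have z48 := h.ic s0 (bO (n := Nat.xor 8 40) (by decide +kernel))
  have n51 := h.n51
  have z1 := h.z1
  have z2 := h.z2
  have hX := fun {y : G} => h.X (y := y)
  generalize lf Γ p (m 0) = z at *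
  generalize hw : lf Γ p (m 51) = w at *
  have cb : c * lf Γ p (qa 8) * c⁻¹ ∈ C{w} := mul_mem (mul_mem hc (cw 8)) (inv_mem hc)
  have le : zpowers (lf Γ p (qa o) * (c * lf Γ p (qa 8) * c⁻¹)) ≤ C{w} := zpowers_le.2 (mul_mem (cw o) cb)
  have cw' : ∀ r ∈ C{w}, ∀ y, r * y * r⁻¹ * w = r * (y * w) * r⁻¹ := fun r a y => by
    rw [← conj_mul, mem_C1_iff_conj.1 a]
  have zw : ∀ r ∈ C{w}, IsConj z (r * (c * lf Γ p (qa 8) * c⁻¹) * r⁻¹ * w) :=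
    fun r a => by
      rw [cw' r a, cw' c hc, mw]
      exact (z48.trans (cj_of c _)).trans (cj_of r _)
  obtain ⟨u, a0, a1, a2, a3, a4, r, a5, a6⟩ := dih (cj_sq za z2) (cj_sq zb z2) fun r a b =>
    n51 ((b ▸ zw r (le a)).trans (by rw [mw]; exact wd.symm))
  have uG := h.cz' (bO h1) a3
  have uw := le a0
  obtain ⟨P, b1, b2⟩ := Sylow_superset p2 (M := C{u} ⊓ C{w} ⊓ Γ) (e2 (cj_sq za z2))
    (zpowers_le.2 ⟨⟨mem_C1_comm.1 a3, cw o⟩, (qm o).1⟩)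
  obtain ⟨g, b3, b4⟩ := Sylow_Jsub p2 (b1.of_norm_le p2 inf_le_left fun g a =>
    ⟨a.1, h.U (bO h1) (b1.le (conj_mem a.2 (b2 (mem_zpowers _)))).2⟩) (e2 (cj_sq zb z2))
    (zpowers_le.2 ⟨mem_C1_comm.1 a4, cb⟩)
  have b5 := h.U o8 (g := g * c) (by
    simpa [mul_assoc] using (b1.le (b4 (conj_mem_cj g (mem_zpowers _)))).2)
  have b6 : g * c ∈ N[h.A] := h.nA b5 (normA (centW ((h.cm b5 s51).1 (hw ▸ mul_mem b3.2 hc))))
  have b7 : c⁻¹ * u * c ∈ h.A ↔ u ∈ h.A := by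
    rw [← conj_mem_iff' (x := u) b6, mul_inv_rev, mul_assoc c⁻¹ g⁻¹, mul_assoc c⁻¹ (_ * _),
      ← mul_assoc _ g, conj_of_mem_C1 b3.1, mul_assoc]
  have b8 : IsConj z (u * lf Γ p (qa o)) :=
    a6.elim (fun a => a.1 ▸ za.trans (cj_of r _)) fun a => a ▸ zb.trans (cj_of r _)
  have b9 : u ∈ h.A := by
    rcases a6 with ⟨-, a⟩ | a
    · have d : c⁻¹ * u * c * lf Γ p (qa 8) =
          c⁻¹ * (r * (c * lf Γ p (qa 8) * c⁻¹) * r⁻¹) * c⁻¹⁻¹ := by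
        rw [a]; group
      refine b7.1 ((mul_mem_cancel_right (qm 8)).1 (hX (mul_mem (h.cz' o8 ?_) (qm 8).1)
        (mul_mem (mul_mem (mul_mem (inv_mem hc) uw) hc) (cw 8)) ?_ ?_))
      · rw [← cj_C1, mem_cj] at a4; exact a4
      · exact d ▸ (zb.trans (cj_of r _)).trans (cj_of _ _)
      · rw [d, cw' _ (inv_mem hc)]
        exact (zw r (le a5)).trans (cj_of _ _)
    · exact (mul_mem_cancel_right (qm o)).1 (hX (mul_mem uG (qm o).1) (mul_mem uw (cw o)) b8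
        (a ▸ zw r (le a5)))
  obtain ⟨n, c2, c3⟩ := cdA.cover b9.2.2
  obtain rfl : lf Γ p (qa n) = u := h.eq b9.1 b9.2.1 c3.symm
  have q0 : lf Γ p (qa 0) = 1 := h.eq (one_mem _) (one_mul _) (h.one.trans qv_zero.symm)
  refine ⟨n, c2, b7.2 b9, fun a => a1 (by rw [a, q0]), ?_⟩
  rw [h.qm] at b8
  rcases clA (xor_lt c2 h0) with a | a | a
  · rw [a, q0] at b8
    exact absurd (isConj_one_left.1 b8) z1
  · exact a
  · exact absurd (b8.trans (hw ▸ h.ic s51 (bD a)).symm) n51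

theorem cw : C{lf Γ p (m 51)} ≤ Γ := fun c hc => by
  by_contra hn
  have k : ∀ c ∉ Γ, ∀ n < 2048, c⁻¹ * lf Γ p (qa n) * c ∈ h.A → n ≠ 0 → mD.testBit n = true :=
    fun c a n b d e => ((clA b).resolve_left e).resolve_left fun f =>
      a (inv_mem_iff.1 (h.U (bO f) (by simpa using d.1)))
  have x : ∀ (c : G) a b, c⁻¹ * lf Γ p (qa a) * c ∈ h.A → c⁻¹ * lf Γ p (qa b) * c ∈ h.A →
      c⁻¹ * lf Γ p (qa (Nat.xor a b)) * c ∈ h.A := fun c a b d e => by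
    rw [← h.qm]
    simpa [mul_assoc] using mul_mem d e
  have w : ∀ c ∈ C{lf Γ p (m 51)}, c⁻¹ * lf Γ p (qa 40) * c ∈ h.A := fun c a => by
    rw [qa40, conj_of_mem_C1 a, ← qa40]; exact h.qA _
  obtain ⟨u, a1, a2, a3, a4⟩ := h.step hc (o := 1) (by norm_num) (by decide +kernel) (by decide +kernel)
  obtain ⟨l, b1, b2⟩ := repW a1 (k c hn u a1 a2 a3)
    (k c hn _ (xor_lt a1 (by norm_num)) (x c _ _ a2 (w c hc)) fun a => by
      rw [xor_eq, Nat.xor_eq_zero_iff] at a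
      rw [a] at a4
      exact absurd a4 (by decide +kernel)) a4
  obtain ⟨l, hl, rfl⟩ := h.surj l
  have b3 := mul_mem (inv_mem ((h.cm hl s51).2 b1)) hc
  have b4 := h.lc (inv_mem hl) (qa_sq u)
  rw [h.inv hl, inv_inv, b2] at b4
  refine no_pure (B := {n | n < 2048 ∧ (l⁻¹ * c)⁻¹ * lf Γ p (qa n) * (l⁻¹ * c) ∈ h.A})
    (fun a d => ⟨d.1, fun b e => ⟨xor_lt d.1 e.1, x _ _ _ d.2 e.2⟩⟩) ⟨by norm_num, ?_⟩
    ⟨by norm_num, w _ b3⟩ (fun a d => k _ (fun e => hn ((mul_mem_cancel_left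
      (inv_mem hl)).1 e)) a d.1 d.2) fun o d e f => ?_
  · simpa [b4, mul_assoc] using a2
  · obtain ⟨n, c1, c2, c3⟩ := h.step b3 d e f
    exact ⟨n, ⟨c1, c2⟩, c3⟩

theorem cardC (hx : x * x = 1) :
    Nat.card ↥(Γ ⊓ C{lf Γ p x}) = Nat.card C{x} * Nat.card h.hom.ker := by
  have hs : Function.Surjective h.hom := fun y => by
    obtain ⟨a, ha, e⟩ := h.surj y
    exact ⟨⟨a, ha⟩, e⟩
  have e : Γ ⊓ C{lf Γ p x} = (C{x}.comap h.hom).map Γ.subtype := by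
    ext a
    exact ⟨fun b => ⟨⟨a, b.1⟩, (h.cm b.1 hx).1 b.2, rfl⟩, by
      rintro ⟨b, c, rfl⟩; exact ⟨b.2, (h.cm b.2 hx).2 c⟩⟩
  have h1 := card_mul_index (C{x}.comap h.hom)
  have h2 := card_mul_index h.hom.ker
  have h3 := card_mul_index C{x}
  rw [index_comap_of_surjective _ hs] at h1
  rw [index_ker, MonoidHom.range_eq_top.2 hs, Subgroup.card_top, ← h3, ← h1] at h2
  rw [e, card_map_of_injective (subtype_injective _)]
  refine Nat.eq_of_mul_eq_mul_right (Nat.pos_of_ne_zero (index_ne_zero_of_finite (H := C{x}))) ?_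
  rw [← h2]; ring

theorem nwb (hx : x * x = 1) (c : IsConj (m 52) x) : ¬ IsConj (lf Γ p (m 51)) (lf Γ p x) := fun a => by
  obtain ⟨g, e⟩ := isConj_iff.1 a
  have h1 := card_dvd_of_le (inf_le_right : Γ ⊓ C{lf Γ p x} ≤ _)
  rw [h.cardC hx, ← e, ← cj_C1, card_cj, ← inf_eq_right.2 h.cw, h.cardC s51] at h1
  have := ((cj_dvd c.symm ord13.2).trans (Nat.dvd_of_mul_dvd_mul_right Nat.card_pos h1)).trans
    (card_dvd_of_le centW)
  rw [ord13.1, card_K0] at this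
  omega

theorem cjw (g : G) : g * lf Γ p (m 51) * g⁻¹ ∈ Γ := by
  have wb := cj_of g (lf Γ p (m 51))
  obtain ⟨u, -, a1, a2, a3, a4, r, -, a6⟩ := dih h.z2 (cj_sq wb h.w2) fun r _ b =>
    h.n51 (b ▸ wb.trans (cj_of r _)).symm
  have uG := h.cz' (IsConj.refl _) a3
  have b1 := h.cz ((h.cm uG s0).1 a3)
  have eu := h.eq uG a2 rfl
  rcases h.cls uG a2 a1 with a | a | a
  · exact h.cz' a (eu.symm ▸ mem_C1_comm.1 a4)
  · obtain ⟨k, e⟩ := isConj_iff.1 a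
    obtain ⟨k, hk, rfl⟩ := h.surj k
    have := cj_le_of_mem h.cw hk
    rw [cj_C1, ← h.lc hk s51, e, eu] at this
    exact this (mem_C1_comm.1 a4)
  have zG := (h.sp s0).1
  have b2 : IsConj (lf Γ p (m 0)) (u * lf Γ p (m 0)) ∨ IsConj (lf Γ p (m 51)) (u * lf Γ p (m 0)) := by
    rcases a6 with a | a
    exacts [.inl (a.1 ▸ cj_of r _), .inr (a ▸ wb.trans (cj_of r _))]
  have b3 := b2.elim (cj_sq · h.z2) (cj_sq · h.w2)
  have b4 : p (u * lf Γ p (m 0)) = p u * m 0 := by rw [h.mul uG zG, (h.sp s0).2.2]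
  rcases h.cls (mul_mem uG zG) b3 (fun a => b2.elim
    (fun b => h.z1 (isConj_one_left.1 (a ▸ b))) fun b => h.w1 (isConj_one_left.1 (a ▸ b))) with b | b | b
  · exact absurd (lf0.conj (b4 ▸ b)) (clB b1 a)
  · exact absurd (lf51.conj (b4 ▸ b)) (clB b1 a)
  · exact (b2.elim (fun c => h.m52 ((h.zc (mul_mem uG zG) c).trans b.symm))
      fun c => h.nwb (h.ps (mul_mem uG zG) b3) b ((h.eq (mul_mem uG zG) b3 rfl).symm ▸ c)).elim

theorem top : Γ = ⊤ := by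
  have := H10.simple_Co1
  have hs : Function.Surjective h.hom := fun y => by
    obtain ⟨a, ha, e⟩ := h.surj y
    exact ⟨⟨a, ha⟩, e⟩
  have a : ((normalClosure {lf Γ p (m 51)}).subgroupOf Γ).map h.hom = ⊤ :=
    (IsSimpleGroup.eq_bot_or_eq_top_of_normal _ (Normal.map inferInstance _ hs)).resolve_left fun a =>
      ne51 (mem_bot.1 (a ▸ (⟨⟨_, (h.sp s51).1⟩, subset_normalClosure rfl, (h.sp s51).2.2⟩ :
        m 51 ∈ ((normalClosure {lf Γ p (m 51)}).subgroupOf Γ).map h.hom)))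
  obtain ⟨⟨n, b1⟩, b2, b3 : p n = m 0⟩ := a.ge (mem_top (m 0))
  obtain ⟨k, b4, b5⟩ := h.ex b1 (b3 ▸ s0)
  refine eq_top_iff.2 fun g _ => h.U0 (pow_mem b1 k) b4 (b5.trans b3) ((closure_le _).2 (fun x hx => ?_)
    ((normalClosure_normal (s := {lf Γ p (m 51)})).conj_mem _ (pow_mem b2 k) g))
  obtain ⟨y, rfl, hy⟩ := Group.mem_conjugatesOfSet_iff.1 hx
  obtain ⟨g, rfl⟩ := isConj_iff.1 hy
  exact h.cjw g

end Eo

end H15.Co
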