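import Mathlib
import Cfsg.Agent.H15.CoO1
import Cfsg.Agent.H13.Basic
import Cfsg.Agent.H2.Cores

/-!
# Recognition of the first Conway group with an unknown odd core of the centraliser
-/

set_option autoImplicit false
set_option maxRecDepth 100000
set_option Elab.async false
set_option linter.unusedSectionVars false

namespace H15.Co

open H29 H24 Subgroup KM XP

variable {G : Type*} [Group G] [Finite G]

theorem card_comap' {A B : Type*} [Group A] [Group B] [Finite A] {f : A →* B}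
    (hs : Function.Surjective f) (K : Subgroup B) :
    Nat.card (K.comap f) = Nat.card K * Nat.card f.ker := by
  have := Finite.of_surjective f hs
  have h1 := card_mul_index (K.comap f)
  have h2 := card_mul_index f.ker
  have h3 := card_mul_index K
  rw [index_comap_of_surjective _ hs] at h1
  rw [index_ker, MonoidHom.range_eq_top.2 hs, Subgroup.card_top, ← h3, ← h1] at h2
  refine Nat.eq_of_mul_eq_mul_right (Nat.pos_of_ne_zero (index_ne_zero_of_finite (H := K))) ?_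
  rw [← h2]; ring

theorem recogE {z : G} {Q : Subgroup G} (h : LX z Q) (h1 : Nat.card Q = 2 ^ 9)
    (h2 : Nat.card C{z} = 89181388800) {g : G} (h3 : g * z * g⁻¹ ∈ Q) (h4 : g * z * g⁻¹ ≠ z) :
    ∃ φ : S ≃* G, φ (m 0) = z ∧ C{m 0} ≤ gen m HL ∧ Nat.card C{m 0} = 89181388800 := by
  obtain ⟨e, a1, rfl, rfl⟩ := exists_pre h h1 h2
  obtain ⟨c, a2⟩ := a1.fuse h3 (by rw [conj_mul, h.sq]; simp) (by simpa using h.ne_one) h4
  obtain ⟨e', a3, a4⟩ := a1.exists_B1 (g := c * g) (by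
    rw [← mul_left_cancel_iff (a := c⁻¹), ← mul_right_cancel_iff (a := c), a2]; group)
  obtain ⟨ψ, b1, b2⟩ := a3.psi
  have a : ψ (m 0) = tr e' 0 := (b2 0 (by norm_num)).trans (tr_lt e' (by norm_num)).symm
  have E : En ψ := ⟨b1, by
    rw [a, ← a3.pre.top.1, gen_tr e' (by decide +kernel)]
    exact gen_le.2 fun c b => ⟨_, mem_gen b, b2 c (by revert c; decide)⟩, a ▸ a3.pre.card⟩
  refine ⟨MulEquiv.ofBijective ψ ⟨b1, E.surj⟩, (b2 0 (by norm_num)).trans a4, fun x hx => ?_, ?_⟩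
  · obtain ⟨y, c1, c2⟩ := E.cz (E.cm.2 hx)
    exact b1 c2 ▸ c1
  · have := card_comap' E.surj C{ψ (m 0)}
    rw [(MonoidHom.ker_eq_bot_iff ψ).2 b1, card_bot, mul_one, E.card] at this
    rw [← this]
    congr 2
    ext x
    exact E.cm.symm

theorem cz0 {x : S} (h1 : x * x = 1) : ∃ k, k * x * k⁻¹ ∈ C{m 0} := by
  by_cases h2 : x = 1
  · exact ⟨1, by simp [h2]⟩
  obtain ⟨t, ht, c⟩ := clS h1 h2
  obtain ⟨k, e⟩ := isConj_iff.1 c.symm
  refine ⟨k, e ▸ ?_⟩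
  simp only [List.mem_cons, List.not_mem_nil, or_false] at ht
  rcases ht with rfl | rfl | rfl
  · exact self_mem_C1 _
  · exact iso.cent1 (by decide +kernel)
  · exact iso.cent1 (by decide +kernel)

theorem odd4 {D : Subgroup G} (hD : Odd (Nat.card D)) {a : G} (h : a ^ 4 = 1) :
    a ∈ zpowers (a ^ Nat.card D) :=
  mem_zpowers_pow_iff.2 (Nat.Coprime.coprime_dvd_right (orderOf_dvd_of_pow_eq_one h)
    ((Nat.coprime_two_right.2 hD).pow_right 2))

theorem one4 {D : Subgroup G} (hD : Odd (Nat.card D)) {a : G} (ha : a ∈ D) (h : a ^ 4 = 1) : a = 1 := by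
  have := odd4 hD h
  rwa [show a ^ Nat.card D = 1 from congrArg Subtype.val (pow_card_eq_one' (x := (⟨a, ha⟩ : D))),
    zpowers_one_eq_bot, mem_bot] at this

theorem sq4 {a : G} (h : a * a = 1) : a ^ 4 = 1 := by
  rw [show 4 = 2 * 2 from rfl, pow_mul, pow_two a, h, one_pow]

theorem xs4 {z q : G} {Q : Subgroup G} (xs : H3.XS 2 z Q) (h : q ∈ Q) : q ^ 4 = 1 := by
  rw [show 4 = 2 * 2 from rfl, pow_mul]; exact xs.pow_of_mem (xs.pow q h)

theorem xs_top {z : G} {Q : Subgroup G} (xs : H3.XS 2 z Q) :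
    H3.XS 2 (⟨z, xs.mem⟩ : Q) (⊤ : Subgroup Q) := by
  have k : ∀ x : Q, (x : G) ∈ zpowers z → x ∈ zpowers (⟨z, xs.mem⟩ : Q) := by
    rintro x ⟨n, e⟩
    exact ⟨n, Subtype.ext e⟩
  exact ⟨by rw [← orderOf_coe]; exact xs.ord, trivial, fun x _ => Subtype.ext (xs.central x x.2),
    fun x _ y _ => k _ (xs.comm x x.2 y y.2), fun x _ => k _ (xs.pow x x.2),
    fun x _ h => k _ (xs.center_le x x.2 fun y hy => congrArg Subtype.val (h ⟨y, hy⟩ trivial))⟩

theorem quo {z g : G} {Q D : Subgroup G} (xs : H3.XS 2 z Q) (h1 : Nat.card Q = 2 ^ 9)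
    (hn : C{z} ≤ N[Q]) (hD : Odd (Nat.card D)) (hDn : C{z} ≤ N[D]) (hDQ : D ≤ C[Q])
    (hc : C[Q] ≤ zpowers z ⊔ D) (h2 : Nat.card C{z} = 89181388800 * Nat.card D) (hg : g ∈ N[D])
    (h3 : g * z * g⁻¹ ∈ Q) (h4 : g * z * g⁻¹ ≠ z) :
    ∃ ρ : N[D] →* S, Function.Surjective ρ ∧ (∀ a, ρ a = 1 ↔ (a : G) ∈ D) ∧
      ρ ⟨z, hDn (self_mem_C1 z)⟩ = m 0 ∧ C{m 0} ≤ gen m HL ∧ Nat.card C{m 0} = 89181388800 := by
  have z2 : z * z = 1 := (pow_two z).symm.trans xs.z_pow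
  have QΓ : Q ≤ N[D] := norm_of_cent (cents_symm hDQ)
  have Dz : D ≤ C{z} := hDQ.trans (C_le_C1 xs.mem)
  let π := QuotientGroup.mk' (D.subgroupOf N[D])
  have hπ : ∀ a, π a = 1 ↔ (a : G) ∈ D := fun a => QuotientGroup.eq_one_iff a
  have hs : Function.Surjective π := QuotientGroup.mk'_surjective _
  let f := π.comp (inclusion QΓ)
  have hf : Function.Injective f := (injective_iff_map_eq_one f).2 fun a ha =>
    Subtype.ext (one4 hD ((hπ _).1 ha) (xs4 xs a.2))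
  have cz : ∀ a : N[D], π a ∈ C{f ⟨z, xs.mem⟩} ↔ (a : G) ∈ C{z} := fun a => by
    refine ⟨fun e => ?_, fun e => mem_C1.2 ?_⟩
    · have d : (a : G) * z * (a : G)⁻¹ * z⁻¹ ∈ D := (hπ (a * inclusion QΓ ⟨z, xs.mem⟩ * a⁻¹ *
        (inclusion QΓ ⟨z, xs.mem⟩)⁻¹)).1 (by
          simp only [map_mul, map_inv]
          exact mul_inv_eq_one.2 (mem_C1_iff_conj.1 e))
      refine mem_C1_iff_conj.2 (mul_inv_eq_one.1 (one4 hD d (sq4 ?_)))
      have d2 := mem_C1.1 (Dz d)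
      generalize hy : (a : G) * z * (a : G)⁻¹ = y at d d2
      have y2 : y * y = 1 := by rw [← hy, conj_mul, z2]; simp
      rw [inv_eq_of_mul_eq_one_right z2] at d2 ⊢
      rw [mul_assoc, z2, mul_one] at d2
      rw [mul_assoc, ← mul_assoc z, mul_assoc z, ← d2, y2]
    · exact (π.map_mul _ _).symm.trans ((congrArg π (Subtype.ext (mem_C1.1 e))).trans (π.map_mul _ _))
  have lx : LX (f ⟨z, xs.mem⟩) (map f ⊤) := by
    refine ⟨(xs_top xs).map f hf, fun e => ?_, fun x hx => ?_, fun x hx => ?_⟩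
    · have := congrArg (fun H : Subgroup _ => Nat.card H) e
      simp only [Nat.card_zpowers, ((xs_top xs).map f hf).ord, card_map_of_injective hf,
        Subgroup.card_top, h1] at this
      omega
    · obtain ⟨a, rfl⟩ := hs x
      refine mem_N_of_finite ?_
      rintro _ ⟨q, -, rfl⟩
      exact ⟨⟨_, conj_mem (hn ((cz a).1 hx)) q.2⟩, trivial,
        (π.map_mul (a * inclusion QΓ q) a⁻¹).trans (congrArg₂ _ (π.map_mul _ _) (π.map_inv _))⟩
    · obtain ⟨a, rfl⟩ := hs x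
      have az := (cz a).1 (C_le_C1 (mem_map_of_mem f (mem_top _)) hx)
      have aQ : (a : G) ∈ C[Q] := mem_C'.2 fun q hq => by
        have d : (a : G) * q * (a : G)⁻¹ * q⁻¹ ∈ D := (hπ (a * inclusion QΓ ⟨q, hq⟩ * a⁻¹ *
          (inclusion QΓ ⟨q, hq⟩)⁻¹)).1 (by
            simp only [map_mul, map_inv]
            exact mul_inv_eq_one.2 (mul_inv_eq_iff_eq_mul.2
              (mem_C'.1 hx _ (mem_map_of_mem f (mem_top (⟨q, hq⟩ : Q))))))
        exact mul_inv_eq_iff_eq_mul.1 (mul_inv_eq_one.1 (one4 hD d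
          (xs4 xs (mul_mem (conj_mem (hn az) hq) (inv_mem hq)))))
      obtain ⟨_, ⟨n, rfl⟩, d, hd, e⟩ := (mem_sup_of_norm (norm_zpowers_of_cent Dz)).1 (hc aQ)
      refine ⟨n, ?_⟩
      have : a = inclusion QΓ ⟨z, xs.mem⟩ ^ n * ⟨d, norm_self D hd⟩ := Subtype.ext e
      rw [this, map_mul, (hπ ⟨d, _⟩).2 hd, mul_one, map_zpow]
      rfl
  have hk : Nat.card π.ker = Nat.card D := by
    rw [QuotientGroup.ker_mk', Nat.card_congr (subgroupOfEquivOfLe (norm_self D)).toEquiv]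
  have c2 := card_comap' hs C{f ⟨z, xs.mem⟩}
  rw [show comap π C{f ⟨z, xs.mem⟩} = C{z}.subgroupOf N[D] from Subgroup.ext cz,
    Nat.card_congr (subgroupOfEquivOfLe hDn).toEquiv, h2, hk] at c2
  have e : π ⟨g, hg⟩ * f ⟨z, xs.mem⟩ * (π ⟨g, hg⟩)⁻¹ = f ⟨_, h3⟩ :=
    ((π.map_mul _ _).trans (congrArg₂ _ (π.map_mul _ _) (π.map_inv _))).symm
  obtain ⟨φ, a1, a2⟩ := recogE lx (by rw [card_map_of_injective hf, Subgroup.card_top, h1])
    (Nat.eq_of_mul_eq_mul_right Nat.card_pos c2).symm (g := π ⟨g, hg⟩)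
    (e ▸ mem_map_of_mem f (mem_top _)) (e ▸ fun a => h4 (congrArg Subtype.val (hf a)))
  exact ⟨φ.symm.toMonoidHom.comp π, φ.symm.surjective.comp hs, fun a =>
    (φ.symm.map_eq_one_iff).trans (hπ a), φ.symm_apply_eq.2 a1.symm, a2⟩

theorem recogO (hO : Cfsg.oddCore G = ⊥) {z g : G} {Q D : Subgroup G} (xs : H3.XS 2 z Q)
    (h1 : Nat.card Q = 2 ^ 9) (hn : C{z} ≤ N[Q]) (hD : Odd (Nat.card D)) (hDn : C{z} ≤ N[D])
    (hDQ : D ≤ C[Q]) (hc : C[Q] ≤ zpowers z ⊔ D) (h2 : Nat.card C{z} = 89181388800 * Nat.card D)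
    (hg : g ∈ N[D]) (h3 : g * z * g⁻¹ ∈ Q) (h4 : g * z * g⁻¹ ≠ z) : Cfsg.Spor.IsoCo1 G := by
  classical
  obtain ⟨ρ, r1, r2, r3, r4, r5⟩ := quo xs h1 hn hD hDn hDQ hc h2 hg h3 h4
  have := H10.simple_Co1
  have z2 : z * z = 1 := (pow_two z).symm.trans xs.z_pow
  have Dz : D ≤ C{z} := hDQ.trans (C_le_C1 xs.mem)
  have zD : z ∈ C[D] := mem_C_iff_le_C1.2 Dz
  have nC := (C_nml_N D).normal
  have K : (C[D].subgroupOf N[D]).map ρ = ⊤ :=
    (IsSimpleGroup.eq_bot_or_eq_top_of_normal _ (Normal.map nC _ r1)).resolve_left fun a =>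
      ne0 (mem_bot.1 (a ▸ (⟨_, zD, r3⟩ : m 0 ∈ (C[D].subgroupOf N[D]).map ρ)))
  have two : ∀ a ∈ N[D], a ^ 4 = 1 → a ∈ C[D] := fun a ha a4 => by
    obtain ⟨c, c1, c2⟩ := K.ge (mem_top (ρ ⟨a, ha⟩))
    have d : (c : G)⁻¹ * a ∈ D := (r2 (c⁻¹ * ⟨a, ha⟩)).1 (by rw [map_mul, map_inv, c2, inv_mul_cancel])
    refine zpowers_le.2 ?_ (odd4 hD a4)
    have e : Commute (c : G) ((c : G)⁻¹ * a) := mem_C'.1 c1 _ d
    rw [← mul_inv_cancel_left (c : G) a, e.mul_pow, show ((c : G)⁻¹ * a) ^ Nat.card D = 1 from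
      congrArg Subtype.val (pow_card_eq_one' (x := (⟨_, d⟩ : D))), mul_one]
    exact pow_mem c1 _
  have key : ∀ x, x * z * x⁻¹ ∈ C{z} → x ∈ N[D] := fun x hx => by
    have k : ∀ y ∈ C{x * z * x⁻¹}, y ^ 4 = 1 → y ∈ C[cj x D] := fun y hy y4 => by
      rw [← cj_C1, mem_cj] at hy
      rw [← cj_C, mem_cj]
      exact two _ (hDn hy) (by rw [← inv_inv x, inv_inv x⁻¹, conj_pow, y4]; simp)
    have y2 : x * z * x⁻¹ * (x * z * x⁻¹) = 1 := by rw [conj_mul, z2]; simp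
    have := Fact.mk Nat.prime_two
    have le := (H13.p_times_q (p := 2) ((e2 y2).isPGroup Nat.prime_two) (Q := cj x D)
      (by rw [card_cj]; exact Nat.coprime_two_right.2 hD)
      (zpowers_le.2 (k _ (self_mem_C1 _) (sq4 y2))) Q xs.isPGroup (zpowers_le.2 (hn hx))
      ((mem_C_iff_le_C1.1 (k z (mem_C1_comm.1 hx) (sq4 z2))).trans hn)
      fun q hq => k q (C_le_C1 (mem_zpowers _) hq.2) (xs4 xs hq.1)).trans hc
    refine mem_N_of_finite fun d hd => ?_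
    have h5 := conj_mem_cj x hd
    obtain ⟨c, c1, b, hb, e⟩ := (mem_sup_of_norm (norm_zpowers_of_cent Dz)).1 (le h5)
    have e2 : (x * d * x⁻¹) ^ Nat.card D = 1 := by
      rw [conj_pow, show d ^ Nat.card D = 1 from
        congrArg Subtype.val (pow_card_eq_one' (x := (⟨_, hd⟩ : D)))]; simp
    rcases mem_zp xs.ord c1 with rfl | rfl
    · rwa [e, one_mul]
    · rw [e, (show Commute c b from (mem_C1.1 (Dz hb)).symm).mul_pow, show b ^ Nat.card D = 1 from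
        congrArg Subtype.val (pow_card_eq_one' (x := (⟨_, hb⟩ : D))), mul_one] at e2
      have := odd4 hD (sq4 z2)
      rw [e2, zpowers_one_eq_bot, mem_bot] at this
      exact absurd this xs.z_ne_one
  let p : G → S := fun a => if h : a ∈ N[D] then ρ ⟨a, h⟩ else 1
  have hp : ∀ {a} (h : a ∈ N[D]), p a = ρ ⟨a, h⟩ := fun h => dif_pos h
  have uq : ∀ {a b}, a ∈ N[D] → b ∈ N[D] → a * a = 1 → b * b = 1 → p a = p b → a = b :=
    fun {a b} ha hb a2 b2 e => by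
      have d : a⁻¹ * b ∈ D := (r2 (⟨a, ha⟩⁻¹ * ⟨b, hb⟩)).1 (by
        rw [map_mul, map_inv, ← hp ha, ← hp hb, e, inv_mul_cancel])
      have c := mem_C.1 (two a ha (sq4 a2)) _ d
      refine inv_mul_eq_one.1 (one4 hD d (sq4 ?_))
      rw [inv_eq_of_mul_eq_one_right a2] at c ⊢
      rw [← mul_assoc, c, ← mul_assoc, a2, one_mul, b2]
  have E : Eo N[D] p := ⟨fun ha hb => by rw [hp ha, hp hb, hp (mul_mem ha hb), ← map_mul]; rfl,
    fun x => by obtain ⟨a, rfl⟩ := r1 x; exact ⟨a, a.2, hp a.2⟩,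
    fun ha e => hD.of_dvd_nat (orderOf_dvd_natCard _ ((r2 _).1 ((hp ha).symm.trans e))), uq,
    fun {a x} ha a2 e hx => ?_, r4, r5⟩
  · have hN : D.Normal := normalizer_eq_top_iff.1 E.top
    obtain rfl : D = ⊥ := eq_bot_iff.2 (hO ▸ H2.le_pPrimeCore hN (Nat.coprime_two_right.2 hD))
    rw [card_bot, mul_one] at h2
    obtain ⟨φ, -⟩ := recog ⟨xs, fun e => by
      rw [← e, Nat.card_zpowers, xs.ord] at h1; omega, hn, by simpa using hc⟩ h1 h2 h3 h4
    exact ⟨φ.symm⟩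
  · have zN := hDn (self_mem_C1 z)
    obtain rfl : z = a := uq zN ha z2 a2 ((hp zN).trans (r3.trans e.symm))
    have y2 : x * z * x⁻¹ * (x * z * x⁻¹) = 1 := by rw [conj_mul, z2]; simp
    obtain ⟨k, hk⟩ := cz0 (x := ρ ⟨_, hx⟩) (by rw [← map_mul, ← map_one ρ]; exact congrArg ρ (Subtype.ext y2))
    obtain ⟨k, rfl⟩ := r1 k
    have hy := mul_mem (mul_mem k.2 hx) (inv_mem k.2)
    refine (mul_mem_cancel_left k.2).1 (key _ (mem_C1_iff_conj.2 ?_))
    rw [show k * x * z * (k * x)⁻¹ = k * (x * z * x⁻¹) * (k : G)⁻¹ by group]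
    refine uq (mul_mem (mul_mem hy zN) (inv_mem hy)) zN (cj_sq (cj_of _ z) z2) z2 ?_
    rw [hp zN, hp (mul_mem (mul_mem hy zN) (inv_mem hy)), r3, ← mem_C1_iff_conj.1 hk, ← r3]
    simp only [← map_mul, ← map_inv]
    rfl

end H15.Co
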