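import Mathlib
import Cfsg.Agent.H24.Gw2
import Cfsg.Agent.H24.GwB
import Cfsg.Agent.S1173

/-! Standard `G₂(4)`: an inner pair exists, and long involutions are not conjugate into `K`. -/

set_option autoImplicit false
set_option linter.unusedSectionVars false
set_option linter.unusedVariables false
set_option synthInstance.maxSize 4000

namespace H15.GC

open H24 H24.G4 H24.G4.Dat H26 H26.Gold Subgroup
open H9 (F4)
open H7.SJ (p2)
open H24.Sz (om f4_add_self)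
open scoped commutatorElement

variable {G : Type*} [Group G] [Finite G] {X Y : Dat G} {g u v l k : G}

theorem cj_cj (X : Dat G) (g k : G) : (X.cj g).cj k = X.cj (k * g) := by
  simp only [Dat.cj, H24.cj_mul, mul_assoc, mul_inv_rev]

/-- a conjugate frame -/
def Fm (X Y : Dat G) : Prop := ∃ g, Y = X.cj g

theorem Fm.refl (X : Dat G) : Fm X X := ⟨1, by simp [Dat.cj]⟩
theorem Fm.cj (h : Fm X Y) (g : G) : Fm X (Y.cj g) := let ⟨k, e⟩ := h; ⟨g * k, by rw [e, cj_cj]⟩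
theorem Fm.trans {Y' : Dat G} (h : Fm X Y) (h' : Fm Y Y') : Fm X Y' := let ⟨k, e⟩ := h'; e ▸ h.cj k
theorem Fm.st (h : Fm X Y) (s : X.St) : Y.St := let ⟨k, e⟩ := h; e ▸ s.cj k
theorem Fm.I (h : Fm X Y) : Y.I u ↔ X.I u := let ⟨k, e⟩ := h; e ▸ cj_I

theorem fm_of_I (h : X.I u) : ∃ Y, Fm X Y ∧ u ∈ Y.K :=
  let ⟨_, _, g, e⟩ := h; ⟨_, ⟨g⁻¹, rfl⟩, by rw [cj_K, mem_cj]; simpa using e⟩

theorem Fm.I_of (h : Fm X Y) (hu : u ∈ Y.K) (u1 : u ≠ 1) (u2 : u * u = 1) : X.I u :=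
  h.I.1 ⟨u1, u2, 1, by simpa using hu⟩

theorem Fm.eq (h : Fm X Y) (s : X.St) (h1 : u ∈ X.K) (h2 : u ∈ Y.K) (u1 : u ≠ 1) (u2 : u * u = 1) :
    Y.K = X.K := by
  obtain ⟨g, rfl⟩ := h
  rw [cj_K] at h2 ⊢
  exact cj_of_mem_N (s.N_K ▸ s.ti h1 u1 u2 h2)

theorem K_CL : X.K ≤ C[X.L] := le_rfl
theorem L_CK : X.L ≤ C[X.K] := cents_symm K_CL
theorem K_NL : X.K ≤ N[X.L] := C_le_N _
theorem LK_N : X.L ⊔ X.K ≤ N[X.L] := sup_le (norm_self _) K_NL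
theorem NK : N[X.L] ≤ N[X.K] := N_le_NC _

/-- an inner pair -/
def IP (X : Dat G) : Prop := ∃ Y, Fm X Y ∧ ∃ u, X.I u ∧ u ∈ Y.L ⊔ Y.K ∧ u ∉ Y.K

theorem key (s : X.St) (h : Fm X Y) (hu : u ∈ Y.K) (h1 : v ∈ X.L) (v1 : v ≠ 1) (v2 : v * v = 1)
    (h2 : X.I (u * v)) (h3 : v ∈ Y.L ⊔ Y.K) : IP X := by
  by_cases k : v ∈ Y.K
  · exact ⟨X, Fm.refl X, v, h.I_of k v1 v2, mem_sup_left h1, s.not_K h1 v1⟩
  · exact ⟨Y, h, _, h2, mul_mem (mem_sup_right hu) h3, fun e => k ((mul_mem_cancel_left hu).1 e)⟩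

theorem N_top (s : X.St) {M : Subgroup G} (hM : M.Normal) (h1 : X.L ≤ M) (h2 : M ≤ N[X.L]) :
    N[X.L] = ⊤ := eq_top_iff.2 fun g _ => by
  have a : H24.cj g X.L ≤ N[X.L] := fun x hx => by
    obtain ⟨y, hy, rfl⟩ := mem_cj'.1 hx
    exact h2 (hM.conj_mem _ (h1 hy) g)
  have b : X.L ≤ N[H24.cj g X.L] := fun x hx => by
    rw [← cj_N, mem_cj]
    exact h2 (by simpa using hM.conj_mem _ (h1 hx) g⁻¹)
  rcases s.simple _ (nml_inf_of_norm b) with e | e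
  · exact (s.nc g (cents_of_inf_eq_bot a b (by rwa [inf_comm]))).elim
  · exact mem_N_iff_cj.2 (eq_of_card_eq (e.ge.trans inf_le_right) (card_cj _ _).symm).symm

theorem exists_IP (s : X.St) (hO : Cfsg.oddCore G = ⊥) (hN : N[X.L] ≠ ⊤) : IP X := by
  have f := s.toFr
  obtain ⟨T, hT, ST⟩ := Sylow_superset p2 f.twoS (f.S_L.trans (norm_self _))
  have KN : X.K ⊴ N[X.L] := C_nml_N _
  have hR := hT.inf_nml KN
  obtain ⟨u0, hu0, u1, u2⟩ := s.ev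
  have R1 : T ⊓ X.K ≠ ⊥ := fun e => u1 ((twoE_of_sq u2).eq_one ((hR.isPi_compl_of_eq_bot e).piElt hu0))
  by_cases hS : Syl 2 ⊤ T
  · obtain ⟨r, hr, g, h1, h2⟩ : ∃ r ∈ T ⊓ X.K, ∃ g : G, g * r * g⁻¹ ∈ T ∧ g * r * g⁻¹ ∉ T ⊓ X.K := by
      by_contra k
      push Not at k
      obtain ⟨P, hP⟩ := hS.exists_sylow_top p2
      have LC : X.L ≤ C[T ⊓ X.K] := L_CK.trans (C_anti inf_le_right)
      have LD : ∀ n, X.L ≤ der n C[T ⊓ X.K] := fun n => by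
        induction n with
        | zero => exact LC
        | succ n ih => rw [der_succ, ← f.L_perf]; exact der1_mono ih
      obtain ⟨v, hv, v1, v2⟩ := TwoG.exists_inv hR.pi R1
      refine hN (N_top s (Cfsg.Agent.S1173.result hO P (T ⊓ X.K) (by rw [hP]; exact ⟨inf_le_left, k⟩))
        (fun x hx => ⟨⟨_, LC hx⟩, mem_iInf.2 fun n => ?_, rfl⟩)
        ((map_subtype_le _).trans ((C_le_C1 hv).trans (s.C_N hv.2 v1 v2))))
      have := LD n hx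
      rw [der_eq_map] at this
      obtain ⟨y, hy, e⟩ := this
      exact (Subtype.ext e : y = ⟨_, LC hx⟩) ▸ hy
    obtain ⟨n, n1, n2⟩ := exists_pow_inv (hR.pi.piElt hr) fun e => h2 (by simp [e])
    have uT : g * r ^ n * g⁻¹ ∈ T := by rw [← conj_pow]; exact pow_mem h1 n
    have uI : X.I (g * r ^ n * g⁻¹) := ((Fm.refl X).I_of (pow_mem hr.2 n) n1 n2).conj g
    have uK : g * r ^ n * g⁻¹ ∉ X.K := fun e =>
      h2 ⟨h1, KN.conj_mem (s.tight g _ (pow_mem hr.2 n) n1 n2 e) hr.2⟩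
    have eS : T ⊓ X.L = X.S := f.syl.eq_of_le (hT.pi.inf_left _) (le_inf ST f.S_L) inf_le_right
    have uS : g * r ^ n * g⁻¹ ∈ N[X.S] := eS ▸ norm_inf (norm_self T) hT.le uT
    by_cases k : g * r ^ n * g⁻¹ ∈ X.S ⊔ X.K
    · exact ⟨X, Fm.refl X, _, uI, sup_le_sup_right f.S_L _ k, uK⟩
    · obtain ⟨m, -, n', -, c, c0, a1, a2, a3, d, a4⟩ := f.outer (hT.le uT) uS uI.2.1 k
      obtain ⟨Y, hY, hK⟩ := fm_of_I uI
      have sY := hY.st s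
      have CN := sY.C_N hK uI.1 uI.2.1
      refine key s hY hK (f.zL c) (fun e => c0 (f.z_inj _ e)) (f.zz c)
        (by have := uI.conj (X.z d); rwa [a4] at this) (sY.toFr.der_N ?_)
      have : X.z c = ⁅m⁻¹, n'⁻¹⁆ := by
        rw [commutatorElement_def, inv_inv, inv_inv, mul_assoc, a3]; group
      rw [this]
      exact commutator_mem_commutator (inv_mem (CN (mem_C1.2 a1.symm)))
        (inv_mem (CN (mem_C1.2 a2.symm)))
  · obtain ⟨Q, hQ, h1, -, h2⟩ := exists_lt_norm_of_not_syl p2 hT.pi le_top hS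
    obtain ⟨x, hx, hx'⟩ : ∃ x ∈ Q, x ∉ N[X.L] := by
      by_contra k
      push Not at k
      exact h1.ne' (hT.eq_of_le hQ h1.le k)
    have n : H24.cj x (T ⊓ X.K) ⊴ T := by
      have := (KN.inf_left hT.le).cj x
      rwa [cj_of_mem_N (h2 hx)] at this
    obtain ⟨u, hu, u1, u2⟩ := TwoG.exists_inv ((hT.pi.of_le n.le).inf_left _)
      (meet_center_nil (IsPi.nil p2 hT.pi) n (by simpa using R1))
    have uK : u ∈ H24.cj x X.K := cj_mono x inf_le_right hu.1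
    exact ⟨X, Fm.refl X, u, ((Fm.refl X).cj x).I_of (by rwa [cj_K]) u1 u2,
      sup_le_sup_right (Z_S.trans f.S_L) _ (f.cent_S (hT.le hu.2.1) (C_anti ST hu.2.2)),
      fun e => hx' (s.ti e u1 u2 uK)⟩

theorem LK_comm (hl : l ∈ X.L) (hk : k ∈ X.K) : l * k = k * l := mem_C.1 hk l hl

theorem sq_of (f : X.Fr) (hl : l ∈ X.L) (hk : k ∈ X.K) (h : l * k * (l * k) = 1) : l * l = 1 ∧ k * k = 1 := by
  have c : Commute k l := (LK_comm hl hk).symm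
  rw [c.mul_mul_mul_comm, ← mul_one 1] at h
  exact mul_eq_mul_of_inf f.LK (mul_mem hl hl) (one_mem _) (mul_mem hk hk) (one_mem _) h

theorem conj_K (hk : k ∈ X.K) (hl : l ∈ X.L) (v : G) : l * (k * v) * l⁻¹ = k * (l * v * l⁻¹) := by
  rw [← mul_assoc, LK_comm hl hk]; group

theorem proj {L K A : Subgroup G} (h : L ≤ C[K]) (hi : L ⊓ K = ⊥) (hA : A ≤ L ⊔ K) :
    ♯(L ⊓ (K ⊔ A)) * ♯(K ⊓ A) = ♯A := by
  have m : K ⊔ L ⊓ (K ⊔ A) = K ⊔ A := by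
    rw [group_modl (norm_of_cent h) le_sup_left, inf_eq_right]
    exact sup_le le_sup_left (hA.trans (sup_comm _ _).le)
  have a := card_sup_of_inf (A := K) (B := L ⊓ (K ⊔ A)) (inf_le_left.trans (norm_of_cent h))
    (eq_bot_of_le hi fun v hv => ⟨hv.2.1, hv.1⟩)
  have b := card_sup (hA.trans (sup_le (norm_of_cent h) (norm_self K)))
  rw [m] at a
  rw [a, mul_assoc] at b
  exact Nat.eq_of_mul_eq_mul_left (card_pos _) b

theorem P_LK (f : X.Fr) (fY : Y.Fr) (h : X.P ≤ N[Y.L]) : X.P ≤ Y.L ⊔ Y.K :=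
  f.P_perf.trans ((der1_mono h).trans fY.der_N)

theorem IL (s : X.St) : ¬ X.I (X.z 1) := fun h => by
  have f := s.toFr
  obtain ⟨Y, hY, hz⟩ := fm_of_I h
  have sY := hY.st s
  have fY := sY.toFr
  have PN : X.P ≤ N[Y.L] := fun v hv => sY.C_N hz f.z1 (f.zz 1) (mem_C1_iff_conj.2 (f.P_z hv 1))
  have PL := P_LK f fY PN
  have SN : X.S ≤ N[Y.K] := S_P.trans (PN.trans NK)
  have a : Y.K ⊓ X.S ≤ X.Z := by
    by_contra k
    obtain ⟨h1, y, c, y0, h2⟩ := f.nml_Z inf_le_right (norm_inf SN (norm_self _)) k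
    have h3 : X.xc y ∈ Y.K := (Subgroup.mul_mem_cancel_right _ (h1 (z_Z c)).1).1 h2.1
    have := f.gen N[Y.K] (fun x => SN (a_S x)) (fun x => SN (b_S x)) (NK (PN wa_P))
      (NK (sY.tight _ _ (h1 (z_Z y)).1 (fun e => y0 (f.z_inj y e)) (f.zz y) (f.wb_z y ▸ h3)))
    rcases f.simple _ (nml_inf_of_norm this) with k | k
    · exact f.z1 (k.le ⟨f.zL 1, hz⟩)
    · obtain ⟨g, rfl⟩ := hY
      exact s.nc g⁻¹ (by rw [← le_cj_iff, ← cj_K]; exact k.ge.trans inf_le_right)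
  by_cases b : X.Z ≤ Y.K
  · have p := proj L_CK fY.LK (Q_P.trans PL)
    have r := fY.rank6 (E := Y.L ⊓ (Y.K ⊔ X.Q)) (ea_of_sq fun v hv => by
      obtain ⟨k, hk, t, ht, rfl⟩ := (mem_sup_of_norm (Q_S.trans SN)).1 hv.2
      obtain ⟨w, c, rfl⟩ := f.mem_Q.1 ht
      refine mem_bot.1 (fY.LK.le ⟨mul_mem hv.1 hv.1, ?_⟩)
      rw [show ∀ t : G, k * t * (k * t) = k * (t * k * t⁻¹) * (t * t) from fun t => by group, f.qz_sq]
      exact mul_mem (mul_mem hk (conj_mem (SN (Q_S ht)) hk)) (b (z_Z _))) inf_le_left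
    have q := card_le ((inf_le_inf_left Y.K Q_S).trans a)
    rw [f.card_Z] at q
    rw [f.card_Q] at p
    nlinarith
  have a2 : ∀ c, X.z c ∈ Y.K → c = 0 ∨ c = 1 := fun c hc => by
    by_contra k
    refine b (Z_le fun x => ?_)
    rcases (by decide : ∀ c x : F4, ¬ (c = 0 ∨ c = 1) → x = 0 ∨ x = 1 ∨ x = c ∨ x = 1 + c) c x k with
      rfl | rfl | rfl | rfl
    · rw [f.z0]; exact one_mem _
    · exact hz
    · exact hc
    · rw [f.z_add]; exact mul_mem hz hc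
  have p := proj L_CK fY.LK (S_P.trans PL)
  have q : ♯(Y.K ⊓ X.S) ≤ 2 := by
    have : Y.K ⊓ X.S ≤ zpowers (X.z 1) := fun v hv => by
      obtain ⟨c, rfl⟩ := f.mem_Z.1 (a hv)
      rcases a2 c hv.1 with rfl | rfl
      · rw [f.z0]; exact one_mem _
      · exact mem_zpowers _
    refine (card_le this).trans ?_
    rw [Nat.card_zpowers]
    exact orderOf_le_of_pow_eq_one two_pos ((pow_two _).trans (f.zz 1))
  obtain ⟨l, hl, e⟩ := Sylow_Jsub p2 fY.syl (Q := Y.L ⊓ (Y.K ⊔ X.S))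
    (PiNat.dvd f.twoS (Dvd.intro _ p)) inf_le_left
  rw [cj_le_iff, ← cj_S] at e
  have eL : (Y.cj l⁻¹).L = Y.L := cj_of_mem (inv_mem hl)
  have f' := fY.cj l⁻¹
  generalize Y.cj l⁻¹ = Y' at e eL f'
  have i := card_mul_relIndex e
  rw [f'.card_S] at i
  rw [f.card_S] at p
  have sq : ∀ t ∈ Y'.S, t * t ∈ Y.L ⊓ (Y.K ⊔ X.S) := fun t ht => by
    have i2 : (Y.L ⊓ (Y.K ⊔ X.S)).relIndex Y'.S = 1 ∨ (Y.L ⊓ (Y.K ⊔ X.S)).relIndex Y'.S = 2 := by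
      have h0 := card_pos (Y.K ⊓ X.S)
      have : (Y.L ⊓ (Y.K ⊔ X.S)).relIndex Y'.S = ♯(Y.K ⊓ X.S) :=
        Nat.eq_of_mul_eq_mul_left (card_pos _) (i.trans p.symm)
      omega
    rcases i2 with i2 | i2
    · exact relIndex_eq_one.1 i2 (mul_mem ht ht)
    · exact mul_self_mem_of_index_two i2 ⟨t, ht⟩
  have w : ∀ c, ∃ k ∈ Y.K, ∃ d, Y'.z c = k * X.z d := fun c => by
    have h1 := sq _ (Q_S (mul_mem (q_Q (X := Y') (0, 1, c, 0)) (z_Q 0)))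
    rw [f'.qz_sq, show be (0, 1, c, 0) (0, 1, c, 0) = c by simp [be]] at h1
    obtain ⟨k, hk, t, ht, e1⟩ := (mem_sup_of_norm SN).1 h1.2
    have cm : ∀ t' ∈ X.S, t * t' * t⁻¹ * t'⁻¹ ∈ Y.K := fun t' ht' => by
      obtain ⟨l', hl', k', hk', rfl⟩ := fY.mem_LK.1 (PL (S_P ht'))
      have h2 : l' ∈ Y'.S := e ⟨hl', (mul_mem_cancel_right (mem_sup_left hk')).1 (mem_sup_right ht')⟩
      have h3 : Y'.z c ∈ Y.L := eL ▸ f'.zL c
      rw [eq_inv_mul_of_mul_eq e1.symm, show k⁻¹ * Y'.z c * (l' * k') * (k⁻¹ * Y'.z c)⁻¹ * (l' * k')⁻¹ =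
        k⁻¹ * (Y'.z c * l' * k' * (Y'.z c)⁻¹) * k * (l' * k')⁻¹ by group, ← f'.S_z h2, mul_assoc l',
        LK_comm h3 hk', ← mul_assoc l', mul_inv_cancel_right]
      exact mul_mem (inv_mem hk) (conj_mem (NK (LK_N (PL (S_P ht')))) hk) |> fun x => by
        simpa only [mul_assoc] using x
    obtain ⟨y, d, rfl⟩ := f.mem_Z2.1 (f.mem_Z2' ht fun t' ht' => a ⟨cm t' ht',
      X.S.mul_mem (conj_mem (norm_self _ ht) ht') (X.S.inv_mem ht')⟩)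
    obtain rfl : y = 0 := by
      by_contra y0
      have h4 := inv_mem (cm _ (b_S (y⁻¹ * om)))
      rw [show ∀ a b : G, (a * b * a⁻¹ * b⁻¹)⁻¹ = b * a * b⁻¹ * a⁻¹ from fun a b => by group, f.b_c,
        f.z_add, mul_inv_rev, ← mul_assoc, mul_assoc (X.xc y), mul_inv_cancel_right, ← f.zc,
        mul_inv_cancel_right, mul_inv_cancel_left₀ y0] at h4
      exact absurd (a2 _ h4) (by decide)
    exact ⟨k, hk, d, by rw [e1, f.c0, one_mul]⟩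
  have w2 : ∀ c, Y'.z c ∈ Y.K → c = 0 := fun c hc =>
    f'.z_inj c (mem_bot.1 (fY.LK.le ⟨eL ▸ f'.zL c, hc⟩))
  have zK : ∀ d, d = 0 ∨ d = 1 → X.z d ∈ Y.K := fun d hd => by
    rcases hd with rfl | rfl
    · rw [f.z0]; exact one_mem _
    · exact hz
  obtain ⟨k1, h1, d1, e1⟩ := w 1
  obtain ⟨k2, h2, d2, e2⟩ := w om
  rcases (by decide : ∀ a b : F4, (a = 0 ∨ a = 1) ∨ (b = 0 ∨ b = 1) ∨ (a + b = 0 ∨ a + b = 1)) d1 d2
    with h3 | h3 | h3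
  · exact one_ne_zero (w2 1 (e1 ▸ mul_mem h1 (zK _ h3)))
  · exact absurd (w2 om (e2 ▸ mul_mem h2 (zK _ h3))) (by decide)
  · refine absurd (w2 (1 + om) ?_) (by decide)
    rw [f'.z_add, e1, e2, show k1 * X.z d1 * (k2 * X.z d2) =
      k1 * (X.z d1 * k2 * (X.z d1)⁻¹) * (X.z d1 * X.z d2) by group, ← f.z_add]
    exact mul_mem (mul_mem h1 (conj_mem (SN (z_S _)) h2)) (zK _ h3)

theorem IL2 (s : X.St) (hu : u ∈ X.Z2) : ¬ X.I u := fun h => by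
  obtain ⟨m, -, e⟩ := s.toFr.long' hu h.1
  exact IL s (e ▸ h.conj m)

theorem S_K (s : X.St) (h : Fm X Y) (h1 : X.S ≤ N[Y.L]) : X.S ⊓ Y.K = ⊥ := by
  by_contra k
  have f := s.toFr
  obtain ⟨v, hv, v1, v2⟩ := TwoG.exists_inv ((f.twoS.inf_left _).inf_left _)
    (meet_center_nil (IsPi.nil p2 f.twoS) (nml_inf_of_norm (h1.trans NK)) k)
  exact IL2 s (Z_Z2 (f.Z_eq ▸ hv.2)) (h.I_of hv.1.2 v1 v2)

end H15.GC
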