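import Mathlib
import Cfsg.Agent.H15.GC1

/-! Standard `G₂(4)`: the Sylow subgroup of `K`. -/

set_option autoImplicit false
set_option linter.unusedSectionVars false
set_option linter.unusedVariables false
set_option synthInstance.maxSize 4000

namespace H15.GC

open H24 H24.G4 H24.G4.Dat H26 H26.Gold Subgroup
open H9 (F4)
open H7.SJ (p2)
open H24.Sz (om f4_add_self)

variable {G : Type*} [Group G] [Finite G] {X Y : Dat G} {g u v l k : G}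

theorem idx (f : Y.Fr) {a : F4 → G} (h : ∀ x y, a (x + y) = a x * a y) (h1 : ∀ x, a x ∈ N[Y.L]) :
    ∃ β, β ≠ 0 ∧ a β ∈ Y.L ⊔ Y.K := by
  by_cases k1 : a 1 ∈ Y.L ⊔ Y.K
  · exact ⟨1, one_ne_zero, k1⟩
  by_cases k2 : a om ∈ Y.L ⊔ Y.K
  · exact ⟨om, by decide, k2⟩
  exact ⟨1 + om, by decide, h 1 om ▸ f.idx2 (h1 _) (h1 _) k1 k2⟩

theorem short (s : X.St) (hk : k ∈ X.K) (hI : X.I (k * X.x2 1)) :
    ∃ Y, Fm X Y ∧ ∃ r ∈ Y.K, Y.I (r * Y.z 1) := by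
  have f := s.toFr
  obtain ⟨Y, hY, hu⟩ := fm_of_I hI
  have sY := hY.st s
  have fY := sY.toFr
  have CN := sY.C_N hu hI.1 hI.2.1
  have cm : ∀ v ∈ X.L, v * X.x2 1 = X.x2 1 * v → v ∈ N[Y.L] := fun v hv e => CN (mem_C1.2 (by
    rw [← mul_assoc, LK_comm hv hk, mul_assoc, e, mul_assoc]))
  obtain ⟨β, β0, hβ⟩ := idx fY f.b_add fun x => cm _ (f.bL x) (f.x2b x 1).symm
  obtain ⟨γ, γ0, hγ⟩ := idx fY f.c_add fun x => cm _ (f.cL x) (f.c2 1 x)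
  obtain ⟨l, hl, k', hk', e⟩ := fY.mem_LK.1 (mul_mem hγ hβ)
  have c0 : γ * β ≠ 0 := mul_ne_zero γ0 β0
  have e1 : X.z (γ * β) = l * l * (k' * k') := by
    have c : Commute k' l := (LK_comm hl hk').symm
    rw [← c.mul_mul_mul_comm, ← e]
    nth_rw 1 [f.cb]
    rw [mul_assoc (X.xb β), mul_assoc (X.xb β), ← f.zc, mul_assoc (X.z _), ← mul_assoc (X.xc γ), f.cc, one_mul,
      f.zb, ← mul_assoc, f.bb, one_mul]
  have z1 : X.z (γ * β) ≠ 1 := fun e => c0 (f.z_inj _ e)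
  have l1 : l * l ≠ 1 := fun e => IL2 s (z_Z2 (γ * β))
    (hY.I_of (by rw [e1, e, one_mul]; exact mul_mem hk' hk') z1 (f.zz _))
  obtain ⟨m, hm, e2⟩ := fY.sq4 hl l1 (sq_of fY (mul_mem hl hl) (mul_mem hk' hk') (e1 ▸ f.zz _)).1
  refine ⟨Y, hY, k * X.x2 1 * (k' * k'), mul_mem hu (mul_mem hk' hk'), ?_⟩
  have h1 := hI.conj (X.x1 (γ * β))
  have e3 : X.x1 (γ * β) * X.x2 1 * (X.x1 (γ * β))⁻¹ = X.x2 1 * X.z (γ * β) := by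
    rw [mul_inv_eq_iff_eq_mul, mul_assoc, f.z1c, ← mul_assoc, f.x21, one_mul, mul_assoc, f.zz, mul_one]
  rw [conj_K hk (f.x1L _), e3, ← mul_assoc, e1, LK_comm (mul_mem hl hl) (mul_mem hk' hk'), ← mul_assoc] at h1
  have h2 := (hY.I.2 h1).conj m
  rwa [conj_K (mul_mem hu (mul_mem hk' hk')) hm, e2] at h2

theorem longp (s : X.St) (p : IP X) : ∃ Y, Fm X Y ∧ ∃ r ∈ Y.K, Y.I (r * Y.z 1) := by
  obtain ⟨Y, hY, u, h1, h2, h3⟩ := p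
  have sY := hY.st s
  obtain ⟨l, hl, k, hk, rfl⟩ := sY.toFr.mem_LK.1 h2
  have a : ∀ m ∈ Y.L, Y.I (k * (m * l * m⁻¹)) := fun m hm => by
    have := (hY.I.2 h1).conj m
    rwa [LK_comm hl hk, conj_K hk hm] at this
  rcases sY.toFr.inv hl (fun e => h3 (by rwa [e, one_mul])) (sq_of sY.toFr hl hk h1.2.1).1 with
    ⟨m, hm, e⟩ | ⟨m, hm, e⟩
  · exact ⟨Y, hY, k, hk, e ▸ a m hm⟩
  · obtain ⟨Y', h, r⟩ := short sY hk (e ▸ a m hm)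
    exact ⟨Y', hY.trans h, r⟩

theorem reframe (f : Y.Fr) {P : Subgroup G} (h1 : P ≤ Y.L) (h2 : ♯P = 4096) :
    ∃ l, (Y.cj l).S = P ∧ (Y.cj l).L = Y.L ∧ (Y.cj l).K = Y.K := by
  obtain ⟨l, hl, e⟩ := Sylow_trans p2 f.syl
    (f.syl.of_card_le h1 (isPi_of_card p2 (n := 12) h2) (by rw [h2, f.card_S]))
  have eL : (Y.cj l).L = Y.L := cj_of_mem hl
  exact ⟨l, by rw [cj_S, e], eL, by rw [Dat.K, eL]; rfl⟩

theorem centS (s : X.St) (h : Fm X Y) (h1 : X.S ≤ Y.L ⊔ Y.K) (hg : g ∈ N[Y.L]) (h2 : g ∈ C[X.S]) :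
    g ∈ X.Z ⊔ Y.K := by
  have f := s.toFr
  have fY := (h.st s).toFr
  have KN : Y.L ⊔ Y.K ≤ N[Y.K] := LK_N.trans NK
  have cd : ∀ P, P ≤ X.S → ♯(Y.K ⊔ P) = ♯Y.K * ♯P := fun P k =>
    card_sup_of_inf (k.trans (h1.trans KN)) (eq_bot_of_le (S_K s h (h1.trans LK_N)) fun v hv => ⟨k hv.2, hv.1⟩)
  have cd' : ∀ P, P ≤ Y.L → ♯(Y.K ⊔ P) = ♯Y.K * ♯P := fun P k =>
    card_sup_of_inf (k.trans (norm_of_cent L_CK)) (eq_bot_of_le fY.LK fun v hv => ⟨k hv.2, hv.1⟩)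
  have m : Y.K ⊔ Y.L ⊓ (Y.K ⊔ X.S) = Y.K ⊔ X.S := by
    rw [group_modl (norm_of_cent L_CK) le_sup_left, inf_eq_right]
    exact sup_le le_sup_left (h1.trans (sup_comm _ _).le)
  obtain ⟨l, e1, e2, e3⟩ := reframe fY (P := Y.L ⊓ (Y.K ⊔ X.S)) inf_le_left (by
    have := cd' _ (inf_le_left (b := Y.K ⊔ X.S))
    rw [m, cd _ le_rfl, f.card_S] at this
    exact (Nat.eq_of_mul_eq_mul_left (card_pos _) this).symm)
  have key : ∀ g ∈ N[Y.L], g ∈ C[X.S] → g ∈ (Y.cj l).Z ⊔ Y.K := fun g hg h2 => by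
    refine e3 ▸ (fY.cj l).cent_S (e2 ▸ hg) (e1 ▸ mem_C'.2 fun v hv => ?_)
    obtain ⟨k, hk, t, ht, rfl⟩ := (mem_sup_of_norm (h1.trans KN)).1 hv.2
    have : g * (k * t) * g⁻¹ * (k * t)⁻¹ = 1 := mem_bot.1 (fY.LK.le (mem_inf.2
      ⟨mul_mem (conj_mem hg hv.1) (inv_mem hv.1), by
        rw [← conj_mul, conj_eq_of_mem_C h2 ht, mul_inv_rev, mul_assoc, mul_inv_cancel_left]
        exact mul_mem (conj_mem (N_le_NC _ hg) hk) (inv_mem hk)⟩))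
    rwa [mul_inv_eq_one, mul_inv_eq_iff_eq_mul] at this
  have : Y.K ⊔ X.Z = Y.K ⊔ (Y.cj l).Z := eq_of_card_ge (sup_le le_sup_left fun v hv => (sup_comm (Y.cj l).Z Y.K).le
    (key v (LK_N (h1 (Z_S hv))) (cents_symm f.S_CZ hv))) (by
      rw [cd _ Z_S, cd' _ (e2 ▸ Z_S.trans (fY.cj l).S_L), f.card_Z, (fY.cj l).card_Z])
  rw [sup_comm, this, sup_comm]
  exact key g hg h2

theorem step3 (s : X.St) {r0 : G} (hr : r0 ∈ X.K) (hI : X.I (r0 * X.z 1)) :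
    ∃ X' : Dx G, X'.toDat = X ∧ X'.S1 ∧ ∃ Y, Fm X Y ∧ ∀ x ∈ X'.Λ, X'.r x * X.z x ∈ Y.K := by
  classical
  have f := s.toFr
  obtain ⟨Y, hY, hu⟩ := fm_of_I hI
  have sY := hY.st s
  have r2 := (sq_of f (f.zL 1) hr (LK_comm (f.zL 1) hr ▸ hI.2.1)).2
  obtain ⟨R, hR, rR⟩ := Sylow_superset p2 (twoE_of_sq r2).isPi (zpowers_le.2 hr)
  replace rR := rR (mem_zpowers r0)
  have CN := sY.C_N hu hI.1 hI.2.1
  have PN : X.P ≤ N[Y.L] := fun v hv => CN (mem_C1.2 (by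
    rw [← mul_assoc, LK_comm (f.P_L hv) hr, mul_assoc, comm_of_cent f.P_CZ hv (z_Z 1), mul_assoc]))
  have SN := S_P.trans PN
  have k1 : ∀ r ∈ X.K, r ∈ N[Y.L] → ∃ c, r * X.z c ∈ Y.K := fun r h1 h2 => by
    obtain ⟨v, hv, k, hk, rfl⟩ := (mem_sup_of_norm' ((Z_S.trans SN).trans (N_le_NC _))).1
      (centS s hY (S_P.trans (P_LK f sY.toFr PN)) h2 (C_anti f.S_L h1))
    obtain ⟨c, rfl⟩ := f.mem_Z.1 hv
    exact ⟨c, by rwa [← LK_comm (f.zL c) h1, ← mul_assoc, f.zz, one_mul]⟩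
  have k2 : ∀ r ∈ R, r ∈ Y.K → r = 1 := fun r h1 h2 => by
    by_contra k
    obtain ⟨v, hv, v1, v2⟩ := TwoG.exists_inv (hR.pi.inf_left Y.K) (ne_bot_of_mem ⟨h1, h2⟩ k)
    rw [hY.eq s (hR.le hv.1) hv.2 v1 v2, Subgroup.mul_mem_cancel_left _ hr] at hu
    exact f.not_K (f.zL 1) f.z1 hu
  have k3 : ∀ r ∈ R, ∃ c, r * X.z c ∈ Y.K := fun r h1 => by
    obtain ⟨v, hv, v1, v2⟩ := TwoG.exists_inv (hR.pi.of_le (center_nml R).le)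
      ((IsPi.nil p2 hR.pi).center_ne_bot (ne_bot_of_mem rR fun e => IL s (by rwa [e, one_mul] at hI)))
    have vK := hR.le hv.1
    obtain ⟨c, hc⟩ := k1 v vK (CN (mem_C1.2 (by
      rw [← mul_assoc, ← mem_C.1 hv.2 r0 rR, mul_assoc, mul_assoc, LK_comm (f.zL 1) vK])))
    have cm : Commute (X.z c) v := LK_comm (f.zL c) vK
    refine k1 r (hR.le h1) (sY.C_N hc (fun e => f.not_K ?_ v1 vK) (by rw [cm.mul_mul_mul_comm, v2, f.zz, mul_one])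
      (mem_C1.2 (by rw [← mul_assoc, mem_C.1 hv.2 r h1, mul_assoc, mul_assoc, LK_comm (f.zL c) (hR.le h1)])))
    rw [eq_inv_of_mul_eq_one_left e]; exact inv_mem (f.zL c)
  have k4 : ∀ r ∈ R, ∀ r' ∈ R, ∀ c c', r * X.z c ∈ Y.K → r' * X.z c' ∈ Y.K → r * r' * X.z (c + c') ∈ Y.K :=
    fun r h1 r' h2 c c' h3 h4 => by
      have cm : Commute (X.z c) r' := LK_comm (f.zL c) (hR.le h2)
      rw [f.z_add, ← cm.mul_mul_mul_comm]; exact mul_mem h3 h4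
  have k5 : ∀ r ∈ R, ∀ r' ∈ R, ∀ c, r * X.z c ∈ Y.K → r' * X.z c ∈ Y.K → r = r' := fun r h1 r' h2 c h3 h4 => by
    have := mul_mem h3 (inv_mem h4)
    rw [mul_inv_rev, mul_assoc, mul_inv_cancel_left] at this
    exact mul_inv_eq_one.1 (k2 _ (mul_mem h1 (inv_mem h2)) this)
  let Λ : AddSubgroup F4 := ⟨⟨⟨{c | ∃ r ∈ R, r * X.z c ∈ Y.K}, fun ⟨r, h1, h2⟩ ⟨r', h3, h4⟩ =>
    ⟨_, mul_mem h1 h3, k4 r h1 r' h3 _ _ h2 h4⟩⟩, 1, one_mem _, by simp [f.z0]⟩, fun {x} hx => by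
      rwa [neg_eq_of_add_eq_zero_left (f4_add_self x)]⟩
  have : ∀ c, ∃ r, c ∈ Λ → r ∈ R ∧ r * X.z c ∈ Y.K := fun c => by
    by_cases h : c ∈ Λ
    · exact let ⟨r, hr⟩ := h; ⟨r, fun _ => hr⟩
    · exact ⟨1, fun e => (h e).elim⟩
  choose r hr using this
  refine ⟨⟨X, Λ, r, fun _ => 1⟩, rfl, ⟨s, ⟨r0, rR, hu⟩, fun x hx y hy => ?_,
    fun x hx => hR.le (hr x hx).1, fun x hx e => ?_, ?_, IL s⟩, Y, hY, fun x hx => (hr x hx).2⟩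
  · exact k5 _ (hr _ (add_mem hx hy)).1 _ (mul_mem (hr x hx).1 (hr y hy).1) _ (hr _ (add_mem hx hy)).2
      (k4 _ (hr x hx).1 _ (hr y hy).1 _ _ (hr x hx).2 (hr y hy).2)
  · have := (hr x hx).2
    rw [show r x = 1 from e, one_mul] at this
    exact f.z_inj x (mem_bot.1 ((S_K s hY SN).le ⟨z_S x, this⟩))
  · suffices (⟨X, Λ, r, fun _ => 1⟩ : Dx G).T = R from this ▸ hR
    refine le_antisymm (Dx.T_le fun x hx => (hr x hx).1) fun v hv => ?_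
    obtain ⟨c, hc⟩ := k3 v hv
    have h : c ∈ Λ := ⟨v, hv, hc⟩
    rw [k5 v hv _ (hr c h).1 c hc (hr c h).2]
    exact Dx.r_T (X := ⟨X, Λ, r, fun _ => 1⟩) h

end H15.GC
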