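import Mathlib
import Cfsg.Agent.H15.GC2

/-! Standard `G₂(4)`: the parabolic subgroup lies in the second copy. -/

set_option autoImplicit false
set_option linter.unusedSectionVars false
set_option linter.unusedVariables false
set_option synthInstance.maxSize 4000

namespace H15.GC

open H24 H24.G4 H24.G4.Dat H26 H26.Gold Subgroup
open H9 (F4)
open H7.SJ (p2)
open H24.Sz (om f4_add_self)

variable {G : Type*} [Group G] [Finite G] {X Y : Dat G} {g g' u v l k k' p p' : G}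

/-- `k` is the component of `p` in `K`. -/
def Rl (Y : Dat G) (p k : G) : Prop := k ∈ Y.K ∧ p * k⁻¹ ∈ Y.L

theorem Rl.ex (f : Y.Fr) (hp : p ∈ Y.L ⊔ Y.K) : ∃ k, Rl Y p k :=
  let ⟨l, hl, k, hk, e⟩ := f.mem_LK.1 hp; ⟨k, hk, by rwa [e, mul_inv_cancel_right]⟩

theorem Rl.mul (h : Rl Y p k) (h' : Rl Y p' k') : Rl Y (p * p') (k * k') := ⟨mul_mem h.1 h'.1, by
  rw [mul_inv_rev, ← mul_assoc, mul_assoc p, mul_assoc p, LK_comm h'.2 (inv_mem h.1), ← mul_assoc]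
  exact mul_mem h.2 h'.2⟩

theorem Rl.inv (h : Rl Y p k) : Rl Y p⁻¹ k⁻¹ := ⟨inv_mem h.1, by
  have := conj_mem (K_NL (inv_mem h.1)) (inv_mem h.2)
  simpa [mul_assoc] using this⟩

theorem Rl.uniq (f : Y.Fr) (h : Rl Y p k) (h' : Rl Y p k') : k = k' := by
  have := mul_mem (inv_mem h.2) h'.2
  rw [mul_inv_rev, inv_inv, mul_assoc, inv_mul_cancel_left] at this
  exact mul_inv_eq_one.1 (mem_bot.1 (f.LK.le ⟨this, Y.K.mul_mem h.1 (Y.K.inv_mem h'.1)⟩))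

theorem Rl.mem (h : Rl Y p 1) : p ∈ Y.L := by simpa using h.2

theorem Rl.self (h : k ∈ Y.K) : Rl Y k k := ⟨h, by simp⟩

theorem four {Y : Dx G} (s : Y.S1) {A : Subgroup G} (hA : TwoG A) (h1 : A ≤ Y.K) :
    (∀ a ∈ A, ∀ b ∈ A, a * b = b * a) ∧
      ∀ a ∈ A, ∀ b ∈ A, ∀ c ∈ A, a ≠ 1 → b ≠ 1 → c ≠ 1 → b ≠ c → a = b ∨ a = c ∨ a = b * c := by
  obtain ⟨l, -, e⟩ := Sylow_Jsub p2 s.sylT hA h1
  rw [cj_le_iff, ← Dx.cj_T] at e
  have s' := s.cj l⁻¹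
  refine ⟨fun a ha b hb => s'.eaT.comm (e ha) (e hb), fun a ha b hb c hc a1 b1 c1 bc => ?_⟩
  obtain ⟨x, hx, rfl⟩ := s'.mem_T.1 (e ha)
  obtain ⟨y, hy, rfl⟩ := s'.mem_T.1 (e hb)
  obtain ⟨w, hw, rfl⟩ := s'.mem_T.1 (e hc)
  rcases (by decide : ∀ x y w : F4, x = 0 ∨ y = 0 ∨ w = 0 ∨ y = w ∨ x = y ∨ x = w ∨ x = y + w) x y w with
    rfl | rfl | rfl | rfl | rfl | rfl | rfl
  exacts [(a1 s'.r0).elim, (b1 s'.r0).elim, (c1 s'.r0).elim, (bc rfl).elim, .inl rfl, .inr (.inl rfl),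
    .inr (.inr (s'.r_add _ hy _ hw))]

theorem P_L {Y : Dx G} (f : X.Fr) (s : Y.S1) (hu : u ∈ Y.K) (u1 : u ≠ 1) (u2 : u * u = 1)
    (h : X.P ≤ C{u}) : X.P ≤ Y.L := by
  have fY := s.toFr
  have PN : X.P ≤ N[Y.L] := h.trans (s.toSt.C_N hu u1 u2)
  have PL := P_LK f fY PN
  have tw : TwoG (X.S ⊔ zpowers u) := IsPi.sup f.twoS (twoE_of_sq u2).isPi
    (norm_of_cent (zpowers_le.2 (mem_C_iff_le_C1.2 (S_P.trans h))))
  have pj := proj (L := Y.K) (K := Y.L) (A := X.S ⊔ zpowers u) K_CL ((inf_comm _ _).trans fY.LK)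
    (sup_le ((S_P.trans PL).trans (sup_comm _ _).le) (zpowers_le.2 (mem_sup_left hu)))
  obtain ⟨ab, fo⟩ := four s (A := Y.K ⊓ (Y.L ⊔ (X.S ⊔ zpowers u))) (PiNat.dvd tw (Dvd.intro _ pj)) inf_le_left
  have mA : ∀ t ∈ X.S, ∀ k, Rl Y.toDat t k → k ∈ Y.K ⊓ (Y.L ⊔ (X.S ⊔ zpowers u)) := fun t ht k hk => ⟨hk.1, by
    have := mul_mem (mem_sup_left (T := X.S ⊔ zpowers u) (inv_mem hk.2)) (mem_sup_right (mem_sup_left ht))
    simpa using this⟩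
  have cm : ∀ a ∈ X.S, ∀ t ∈ X.S, ∀ w, a * t * a⁻¹ = t * w → w ∈ Y.L := fun a ha t ht w e => by
    obtain ⟨k, hk⟩ := Rl.ex fY (PL (S_P ha))
    obtain ⟨k', hk'⟩ := Rl.ex fY (PL (S_P ht))
    have := hk'.inv.mul ((hk.mul hk').mul hk.inv)
    rw [e, inv_mul_cancel_left, ab _ (mA _ ha _ hk) _ (mA _ ht _ hk'), mul_inv_cancel_right, inv_mul_cancel] at this
    exact this.mem
  have hc : ∀ y, X.xc y ∈ Y.L := fun y => by simpa using cm _ (a_S 1) _ (x2_S y) _ (f.a2 1 y)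
  have hz : ∀ y, X.z y ∈ Y.L := fun y => by
    have := cm _ (a_S 1) _ (x1_S (y * y)) _ ((f.a1 1 _).trans (mul_assoc _ _ _))
    rwa [Subgroup.mul_mem_cancel_left _ (hc _), (by decide : ∀ y : F4, 1 * (y * y * (y * y)) = y)] at this
  have h12 : ∀ r y, X.x1 (r * y) * X.x2 (r * r * y) ∈ Y.L := fun r y => by
    have := cm _ (b_S y) _ (a_S r) _ ((f.ba y r).trans (by rw [mul_assoc, mul_assoc]))
    rwa [← mul_assoc, Subgroup.mul_mem_cancel_right _ (hc _)] at this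
  have h2 : ∀ y, X.x2 y ∈ Y.L := fun y => by
    have := mul_mem (inv_mem (h12 1 (om * y))) (h12 om y)
    rwa [one_mul, one_mul, one_mul, mul_inv_rev, mul_assoc, inv_mul_cancel_left, f.x2i, ← f.x2_add,
      (by decide : ∀ y : F4, om * y + om * om * y = y)] at this
  have wN := PN wa_P
  have hQ : X.Q ≤ Y.L := Q_le (fun y => f.wa_c y ▸ conj_mem wN (hc y))
    (Z3_le (fun y => f.wa_2 y ▸ conj_mem wN (h2 y)) h2 hc hz)
  choose κ hκ using fun c => Rl.ex fY (PL (S_P (a_S c)))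
  obtain ⟨j, hj⟩ := Rl.ex fY (PL k_P)
  have κa : ∀ x y, κ (x + y) = κ x * κ y := fun x y => (hκ _).uniq fY (f.a_add x y ▸ (hκ x).mul (hκ y))
  have κk : ∀ x, κ (om * om * x) = j * κ x * j⁻¹ := fun x =>
    (hκ _).uniq fY (f.ka x ▸ (hj.mul (hκ x)).mul hj.inv)
  have ju : j * u * j⁻¹ = u := ((hj.mul (Rl.self hu)).mul hj.inv).uniq fY
    (by rw [mem_C1_iff_conj.1 (h k_P)]; exact Rl.self hu)
  have κ0 : κ 0 = 1 := H24.Sz.Dat.add_zero' κa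
  have κ2 := H24.Sz.Dat.add_sq κa
  have ha : ∀ x, κ x = 1 := by
    obtain ⟨c, c0, e⟩ : ∃ c, c ≠ 0 ∧ κ c = 1 := by
      by_contra n
      push Not at n
      have w : ∀ c, c ≠ 0 → u ≠ κ c := fun c c0 e =>
        n (om * om * c + c) ((by decide : ∀ c : F4, c ≠ 0 → om * om * c + c ≠ 0) c c0)
          (by rw [κa, κk, ← e, ju, u2])
      rcases fo u ⟨hu, mem_sup_right (mem_sup_right (mem_zpowers u))⟩ _ (mA _ (a_S 1) _ (hκ 1)) _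
        (mA _ (a_S om) _ (hκ om)) u1 (n 1 one_ne_zero) (n om (by decide))
        (fun e => n (1 + om) (by decide) (by rw [κa, e, κ2])) with e | e | e
      exacts [w 1 one_ne_zero e, w om (by decide) e, w (1 + om) (by decide) (e.trans (κa _ _).symm)]
    have e1 : κ (om * om * c) = 1 := by rw [κk, e, mul_one, mul_inv_cancel]
    intro x
    rcases (by decide : ∀ c x : F4, c ≠ 0 → x = 0 ∨ x = c ∨ x = om * om * c ∨ x = om * om * c + c) c x c0 with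
      rfl | rfl | rfl | rfl
    exacts [κ0, e, e1, by rw [κa, e1, e, one_mul]]
  have hA : ∀ x, X.xa x ∈ Y.L := fun x => Rl.mem (ha x ▸ hκ x)
  have hw : X.wa ∈ Y.L := by
    have := conj_mem (mul_mem (norm_self _ (hA 1)) wN) (hA 1)
    rwa [← f.bra, show X.wa * X.xa 1 * X.wa * (X.xa 1 * X.wa)⁻¹ = X.wa by group] at this
  refine P_le (S_le hA hQ) ?_ hw
  have := mul_mem hw (conj_mem (PN k_P) (inv_mem hw))
  rwa [← mul_assoc, ← mul_assoc, f.wak, ← mul_inv_rev, inv_eq_of_mul_eq_one_right f.kkk] at this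

/-- `g` normalises `P`, `Q` and centralises `P / Q`. -/
def Tr (X : Dat G) (g : G) : Prop := g ∈ N[X.P] ∧ g ∈ N[X.Q] ∧ ∀ p ∈ X.P, g * p * g⁻¹ * p⁻¹ ∈ X.Q

theorem Tr.mul (h : Tr X g) (h' : Tr X g') : Tr X (g * g') :=
  ⟨mul_mem h.1 h'.1, mul_mem h.2.1 h'.2.1, fun p hp => by
    rw [show g * g' * p * (g * g')⁻¹ * p⁻¹ = g * (g' * p * g'⁻¹ * p⁻¹) * g⁻¹ * (g * p * g⁻¹ * p⁻¹) by group]
    exact mul_mem (conj_mem h.2.1 (h'.2.2 p hp)) (h.2.2 p hp)⟩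

theorem tr_h (f : X.Fr) : Tr X X.h := by
  let M : Subgroup G := ⟨⟨⟨{p | p ∈ N[X.Q] ∧ X.h * p * X.h⁻¹ * p⁻¹ ∈ X.Q}, fun {a b} ha hb =>
    ⟨mul_mem ha.1 hb.1, by
      rw [show X.h * (a * b) * X.h⁻¹ * (a * b)⁻¹ = X.h * a * X.h⁻¹ * a⁻¹ * (a * (X.h * b * X.h⁻¹ * b⁻¹) * a⁻¹) by group]
      exact mul_mem ha.2 (conj_mem ha.1 hb.2)⟩⟩, one_mem _, by simp⟩, fun {a} ha => ⟨inv_mem ha.1, by
      have := conj_mem' ha.1 (inv_mem ha.2)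
      simpa [mul_assoc] using this⟩⟩
  have : X.P ≤ M := P_le (S_le (fun x => ⟨f.P_NQ (S_P (a_S x)), by rw [f.ha, mul_inv_cancel]; exact one_mem _⟩)
    fun x hx => ⟨norm_self _ hx, mul_mem (conj_mem f.h_NQ hx) (inv_mem hx)⟩)
    ⟨f.P_NQ k_P, by rw [f.hk]; simp⟩ ⟨f.P_NQ wa_P, by rw [← mul_inv_eq_iff_eq_mul.1 f.wah]; simp⟩
  exact ⟨f.h_NP, f.h_NQ, fun p hp => (this hp).2⟩

theorem cj_mul'' (g g' u : G) : g * g' * u * (g * g')⁻¹ = g * (g' * u * g'⁻¹) * g⁻¹ := by group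

theorem step4 {X : Dx G} (s : X.S1) (f' : Y.Fr) (hZ : Y.Z = X.Z) (hP : Y.P = X.P) (hQ : Y.Q = X.Q)
    (hr : ∀ x ∈ X.Λ, X.r x * X.z x ∈ Y.K) : X.S2 := by
  have f := s.toFr
  have n3 : Y.h ∈ N[X.Z] := hZ ▸ f'.h_NZ
  choose φ hφ using fun x => f.mem_Z.1 (conj_mem n3 (z_Z x))
  have φ1 : ∀ c, φ c = c → c = 0 := fun c e => by
    obtain ⟨x, hx⟩ := f'.mem_Z.1 (hZ.ge (z_Z c))
    have := hφ c
    rw [e, hx, f'.hz] at this
    rw [(by decide : ∀ x : F4, om * x = x → x = 0) x (f'.z_eq this), f'.z0] at hx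
    exact f.z_inj c hx
  have φ0 : ∀ c, φ c = 0 → c = 0 := fun c e => f.z_inj c (conj_eq_one_iff'.1 (by rw [hφ, e, f.z0]))
  have φa : ∀ x y, φ (x + y) = φ x + φ y := fun x y => f.z_eq (by rw [← hφ, f.z_add, ← conj_mul, hφ, hφ, f.z_add])
  obtain ⟨ε, hε, e1⟩ : ∃ ε, (ε = om ∨ ε = om * om) ∧ ∀ c, φ c = ε * c := by
    have a0 : φ 0 = 0 := by simpa using φa 0 0
    have : ∀ p q : F4, p ≠ 0 → p ≠ 1 → q ≠ 0 → q ≠ om → p + q ≠ 0 → p + q ≠ 1 + om →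
      (p = om ∨ p = om * om) ∧ q = p * om ∧ p + q = p * (1 + om) := by decide
    obtain ⟨h1, h2, h3⟩ := this (φ 1) (φ om) (fun e => one_ne_zero (φ0 _ e)) (fun e => one_ne_zero (φ1 _ e))
      (fun e => absurd (φ0 _ e) (by decide)) (fun e => absurd (φ1 _ e) (by decide))
      (fun e => absurd (φ0 _ ((φa _ _).trans e)) (by decide)) (fun e => absurd (φ1 _ ((φa _ _).trans e)) (by decide))
    refine ⟨φ 1, h1, fun x => ?_⟩
    rcases (by decide : ∀ x : F4, x = 0 ∨ x = 1 ∨ x = om ∨ x = 1 + om) x with rfl | rfl | rfl | rfl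
    · rw [a0, mul_zero]
    · rw [mul_one]
    · exact h2
    · rw [φa, h3]
  simp only [e1] at hφ
  obtain ⟨j, jL, j1, j3⟩ : ∃ j ∈ X.L, Tr X.toDat j ∧ ∀ x, j * X.z x * j⁻¹ = X.z (ε * ε * x) := by
    have o : ∀ x : F4, om * om * (om * om * x) = om * x := by decide
    rcases hε with rfl | rfl
    · exact ⟨X.h * X.h, mul_mem f.hL f.hL, (tr_h f).mul (tr_h f), fun x => by rw [cj_mul'', f.hz, f.hz, mul_assoc]⟩
    · exact ⟨X.h, f.hL, tr_h f, fun x => by rw [f.hz, mul_assoc, o]⟩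
  have t : Tr X.toDat (j * Y.h) := j1.mul (by have := tr_h f'; rwa [Tr, hP, hQ] at this)
  obtain ⟨m, hm, e⟩ := f.autP t.1 (mem_C_iff_le_C1.2 (Z_le fun x => mem_C1_comm.1 (mem_C1_iff_conj.2 (by
    rw [cj_mul'', hφ, j3, (by decide : ∀ ε x : F4, (ε = om ∨ ε = om * om) → ε * ε * (ε * x) = x) ε x hε])))) t.2.2
  have D : ∀ κ, (∃ g ∈ C[X.P], ∀ x ∈ X.Λ, g * X.r x * g⁻¹ = X.r x * X.z (κ * x)) →
      ∃ g ∈ C[X.P], ∀ x ∈ X.Λ, g * X.r x * g⁻¹ = X.r x * X.z (om * κ * x) := fun κ ⟨g, h1, h2⟩ =>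
    ⟨_, conj_mem (N_le_NC _ f.h_NP) h1, fun x hx => by
      rw [cj_mul'', cj_mul'', conj_eq_of_mem_C (L_CK (inv_mem f.hL)) (s.rK x hx), h2 x hx,
        conj_K (s.rK x hx) f.hL, f.hz, mul_assoc]⟩
  have d0 : ∃ g ∈ C[X.P], ∀ x ∈ X.Λ, g * X.r x * g⁻¹ = X.r x * X.z (ε * x) := ⟨_, e, fun x hx => by
    have : Y.h * X.r x * Y.h⁻¹ = X.r x * X.z (x + ε * x) := by
      rw [f.z_add, ← mul_assoc, ← hφ, ← conj_eq_of_mem_C (L_CK f'.hL) (hr x hx), conj_mul, mul_assoc (X.r x), f.zz,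
        mul_one]
    rw [cj_mul'', conj_eq_of_mem_C (L_CK (f.S_L (Q_S hm))) (s.rK x hx), cj_mul'', this, conj_K (s.rK x hx) jL, j3,
      (by decide : ∀ ε x : F4, (ε = om ∨ ε = om * om) → ε * ε * (x + ε * x) = ε * x) ε x hε]⟩
  refine ⟨s, ?_⟩
  rcases hε with rfl | rfl
  · simpa only [show om * (om * om) = 1 by decide, one_mul] using D _ (D _ d0)
  · simpa only [show om * (om * om) = 1 by decide, one_mul] using D _ d0

theorem main (s : X.St) (hO : Cfsg.oddCore G = ⊥) (hN : N[X.L] ≠ ⊤) :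
    ∃ Y : Dx G, Y.S2 ∧ ∃ g, Y.L = H24.cj g X.L := by
  obtain ⟨X1, h1, r0, hr0, hI⟩ := longp s (exists_IP s hO hN)
  obtain ⟨X', rfl, s', Y, ⟨g, rfl⟩, hr⟩ := step3 (h1.st s) hr0 hI
  have f := s'.toFr
  have cm : Commute (X'.z 1) (X'.r 1) := LK_comm (f.zL 1) (s'.rK 1 s'.one)
  have PL : X'.P ≤ (X'.cj g).L := P_L f (s'.cj g) (hr 1 s'.one)
    (fun e => f.not_K (f.zL 1) f.z1 (by rw [eq_inv_of_mul_eq_one_right e]; exact inv_mem (s'.rK 1 s'.one)))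
    (by rw [cm.mul_mul_mul_comm, s'.rr s'.one, f.zz, mul_one]) fun v hv => mem_C1.2 (by
      rw [← mul_assoc, LK_comm (f.P_L hv) (s'.rK 1 s'.one), mul_assoc, comm_of_cent f.P_CZ hv (z_Z 1), mul_assoc])
  obtain ⟨l, e1, e2, e3⟩ := reframe (f.cj g) (S_P.trans PL) f.card_S
  have f' := (f.cj g).cj l
  have hZ : ((X'.toDat.cj g).cj l).Z = X'.Z := by rw [f'.Z_eq, f.Z_eq, e1]
  have hP : ((X'.toDat.cj g).cj l).P = X'.P := (eq_of_card_eq (by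
    rw [f'.P_eq, e2, hZ]; exact le_inf PL f.P_CZ) (by rw [cj_P, cj_P, card_cj, card_cj])).symm
  have hQ : ((X'.toDat.cj g).cj l).Q = X'.Q := le_antisymm
    (f.le_Q (f'.twoS.of_le Q_S) (hP ▸ ⟨Q_P, f'.P_NQ⟩)) (f'.le_Q (f.twoS.of_le Q_S) (hP ▸ ⟨Q_P, f.P_NQ⟩))
  obtain ⟨k, e⟩ := h1
  exact ⟨X', step4 s' f' hZ hP hQ (e3 ▸ hr), k, by rw [e]; rfl⟩

end H15.GC
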