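import Mathlib
import Cfsg.Agent.H26.GBase

/-! `L₂(17)` does not act on a `2`-group with small centralisers of `3`-elements. -/

set_option autoImplicit false
set_option linter.unusedSectionVars false
set_option linter.unusedVariables false

namespace H15
namespace K3

open Cfsg H24 H26 H26.Gold Subgroup

universe u

variable {G : Type u} [Group G] [Finite G] {L Q V : Subgroup G} {g w x y z y1 y2 : G}

theorem card_mod {p : ℕ} (hp : p.Prime) (hy : y ∈ N[V]) (h1 : y ^ p = 1) :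
    ♯V ≡ ♯(V ⊓ C{y} : Subgroup G) [MOD p] := by
  classical
  have : Fact p.Prime := ⟨hp⟩
  let _ : Fintype V := Fintype.ofFinite V
  let f : Function.End V := fun v => ⟨y * v * y⁻¹, H24.conj_mem hy v.2⟩
  have hf : ∀ (n : ℕ) (v : V), ((f ^ n) v : G) = y ^ n * v * (y ^ n)⁻¹ := by
    intro n
    induction n with
    | zero => intro v; simp [Function.End.one_def]
    | succ n ih =>
      intro v
      rw [pow_succ' f]
      change y * ((f ^ n) v : G) * y⁻¹ = _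
      rw [ih, pow_succ']
      group
  have h2 : f ^ p ^ 1 = 1 := by
    funext v
    apply Subtype.ext
    rw [pow_one, hf, h1]
    simp [Function.End.one_def]
  have h3 := Equiv.Perm.card_fixedPoints_modEq h2
  rw [← Nat.card_eq_fintype_card, ← Nat.card_eq_fintype_card] at h3
  have e : Nat.card (Function.fixedPoints f) = ♯(V ⊓ C{y} : Subgroup G) :=
    Nat.card_congr
      { toFun := fun v => ⟨v.1.1, v.1.2, mem_C1_comm.1 (mem_C1_iff_conj.2
          (congrArg Subtype.val v.2))⟩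
        invFun := fun v => ⟨⟨v.1, v.2.1⟩, Subtype.ext (mem_C1_iff_conj.1 (mem_C1_comm.1 v.2.2))⟩
        left_inv := fun v => rfl
        right_inv := fun v => rfl }
  rwa [e] at h3

/-- an elementary abelian `2`-group of order `1 mod 3` -/
theorem fpf_of_mod (hV : EA V) (h3 : ♯V % 3 = 1) (hy : y ∈ N[V]) (h1 : y ^ 3 = 1)
    (h4 : ∀ u ∈ V ⊓ C{y}, ∀ v ∈ V ⊓ C{y}, u ≠ 1 → v ≠ 1 → u = v) : V ⊓ C{y} = ⊥ := by
  by_contra hne
  obtain ⟨u, hu, u1⟩ := (bot_or_exists_ne_one _).resolve_left hne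
  have e : V ⊓ C{y} = zpowers u := le_antisymm (fun v hv => by
    by_cases v1 : v = 1
    · rw [v1]; exact one_mem _
    · rw [h4 v hv u hu v1 u1]; exact mem_zpowers u) (zpowers_le.2 hu)
  have h5 := card_mod Nat.prime_three hy h1
  have : Fact (Nat.Prime 2) := ⟨Nat.prime_two⟩
  rw [e, Nat.card_zpowers, orderOf_eq_prime (p := 2) (by rw [pow_two]; exact hV.sq hu.1) u1] at h5
  unfold Nat.ModEq at h5
  omega

theorem ring_core {R M : Type*} [Ring R] [AddCommGroup M] [Module R M] {a b : R}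
    (ha : a * a + a + 1 = 0) (hb : b * b + b + 1 = 0) (h2 : (1 : R) + 1 = 0)
    (h4 : a * b * (a * b) * (a * b * (a * b)) = 1) {v : M} (hv : v ≠ 0) :
    ∃ w : M, w ≠ 0 ∧ (a * b * (a * b)) • w = w ∧ (a * (a * b * (a * b)) * (a * a)) • w = w := by
  have a3 : a * (a * a) = 1 := by
    have : a * (a * a) = (a - 1) * (a * a + a + 1) + 1 := by noncomm_ring
    rw [this, ha]; simp
  have b3 : b * (b * b) = 1 := by
    have : b * (b * b) = (b - 1) * (b * b + b + 1) + 1 := by noncomm_ring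
    rw [this, hb]; simp
  obtain ⟨g, hg⟩ : ∃ g, g = a * b := ⟨_, rfl⟩
  obtain ⟨k, hk⟩ : ∃ k, k = b * b * (a * a) := ⟨_, rfl⟩
  have gk : g * k = 1 := by
    have : g * k = a * (b * (b * b)) * (a * a) := by rw [hg, hk]; noncomm_ring
    rw [this, b3, mul_one, a3]
  have kg : k * g = 1 := by
    have : k * g = b * b * (a * (a * a)) * b := by rw [hg, hk]; noncomm_ring
    rw [this, a3, mul_one, mul_assoc, b3]
  have ek : k = b * a + a + b + 1 := by
    rw [hk, show b * b = -b - 1 from by rw [← sub_eq_zero, ← hb]; noncomm_ring,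
      show a * a = -a - 1 from by rw [← sub_eq_zero, ← ha]; noncomm_ring]
    noncomm_ring
  rw [← hg] at h4 ⊢
  have kk : k * k = g * g := by
    calc k * k = k * k * (g * g * (g * g)) := by rw [h4, mul_one]
      _ = k * (k * g) * g * (g * g) := by noncomm_ring
      _ = g * g := by rw [kg, mul_one, kg, one_mul]
  have cc : (g + k) * (g + k) = 0 := by
    have : (g + k) * (g + k) = g * g + g * k + k * g + k * k := by noncomm_ring
    rw [this, gk, kg, kk]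
    have : g * g + 1 + 1 + g * g = (1 + 1) * (g * g + 1) := by noncomm_ring
    rw [this, h2, zero_mul]
  have ac : (g + k) * a = a * (g + k) := by
    have : (g + k) * a = a * (g + k) + (b * (a * a + a + 1) - (a * a + a + 1) * b) := by
      rw [hg, ek]; noncomm_ring
    rw [this, ha]; simp
  have key : ∀ w : M, (g + k) • w = 0 → (g * g) • w = w := fun w hw => by
    have e : g * g = g * (g + k) - (1 + 1) + 1 := by rw [mul_add, gk]; noncomm_ring
    rw [e, h2, sub_zero, add_smul, mul_smul, hw, smul_zero, zero_add, one_smul]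
  obtain ⟨w, w0, hw⟩ : ∃ w : M, w ≠ 0 ∧ (g + k) • w = 0 := by
    by_cases h : (g + k) • v = 0
    · exact ⟨v, hv, h⟩
    · exact ⟨_, h, by rw [← mul_smul, cc, zero_smul]⟩
  refine ⟨w, w0, key w hw, ?_⟩
  have h5 : (g + k) • ((a * a) • w) = 0 := by
    rw [← mul_smul, ← mul_assoc, ac, mul_assoc, ac, ← mul_assoc, mul_smul, hw, smul_zero]
  rw [mul_smul, mul_smul, key _ h5, ← mul_smul, a3, one_smul]

theorem grp_core (hV : EA V) (h0 : V ≠ ⊥) (n1 : y1 ∈ N[V]) (n2 : y2 ∈ N[V]) (o1 : y1 ^ 3 = 1)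
    (o2 : y2 ^ 3 = 1) (f1 : V ⊓ C{y1} = ⊥) (f2 : V ⊓ C{y2} = ⊥)
    (h4 : y1 * y2 * (y1 * y2) * (y1 * y2 * (y1 * y2)) ∈ C[V]) :
    ∃ w ∈ V, w ≠ 1 ∧ y1 * y2 * (y1 * y2) ∈ C{w} ∧
      y1 * (y1 * y2 * (y1 * y2)) * (y1 * y1) ∈ C{w} := by
  let _ : CommGroup V := { (inferInstance : Group V) with
    mul_comm := fun x y => Subtype.ext (hV.comm x.2 y.2) }
  let ρ : N[V] →* AddMonoid.End (Additive V) :=
    { toFun := fun g => MonoidHom.toAdditive (V.normalizerMonoidHom g).toMonoidHom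
      map_one' := by rw [map_one]; rfl
      map_mul' := fun g h => by rw [map_mul]; rfl }
  have hρ : ∀ (g : N[V]) (v : Additive V),
      ((Additive.toMul (ρ g • v) : V) : G) = g * (Additive.toMul v : V) * (g : G)⁻¹ :=
    fun g v => rfl
  have ext : ∀ v v' : Additive V, ((Additive.toMul v : V) : G) = (Additive.toMul v' : V) → v = v' :=
    fun v v' e => Additive.toMul.injective (Subtype.ext e)
  have cub : ∀ (y : G) (n : y ∈ N[V]), y ^ 3 = 1 → V ⊓ C{y} = ⊥ →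
      ρ ⟨y, n⟩ * ρ ⟨y, n⟩ + ρ ⟨y, n⟩ + 1 = 0 := fun y n o f => by
    refine AddMonoidHom.ext fun v => ext _ _ ?_
    change ((Additive.toMul ((ρ ⟨y, n⟩ * ρ ⟨y, n⟩) • v + ρ ⟨y, n⟩ • v + v) : V) : G) = 1
    rw [← map_mul, toMul_add, toMul_add, coe_mul, coe_mul, hρ, hρ]
    have hv := (Additive.toMul v).2
    generalize ((Additive.toMul v : V) : G) = x at hv
    have m1 := H24.conj_mem n hv
    have m2 := H24.conj_mem n m1
    change y * y * x * (y * y)⁻¹ * (y * x * y⁻¹) * x = 1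
    rw [← mem_bot, ← f]
    have m3 : y * y * x * (y * y)⁻¹ ∈ V := by
      rwa [show y * (y * x * y⁻¹) * y⁻¹ = y * y * x * (y * y)⁻¹ by group] at m2
    refine ⟨V.mul_mem (V.mul_mem m3 m1) hv, mem_C1_comm.1 (mem_C1_iff_conj.2 ?_)⟩
    calc y * (y * y * x * (y * y)⁻¹ * (y * x * y⁻¹) * x) * y⁻¹
        = y ^ 3 * x * (y ^ 3)⁻¹ * (y * y * x * (y * y)⁻¹ * (y * x * y⁻¹)) := by
          rw [pow_three']; group
      _ = x * (y * y * x * (y * y)⁻¹ * (y * x * y⁻¹)) := by rw [o]; group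
      _ = _ := hV.comm hv (V.mul_mem m3 m1)
  have two : (1 : AddMonoid.End (Additive V)) + 1 = 0 := by
    refine AddMonoidHom.ext fun v => ext _ _ ?_
    change ((Additive.toMul (v + v) : V) : G) = 1
    rw [toMul_add, coe_mul]
    exact hV.sq (Additive.toMul v).2
  obtain ⟨v, hv, v1⟩ := (bot_or_exists_ne_one _).resolve_left h0
  obtain ⟨w, w0, e1, e2⟩ := ring_core (M := Additive V) (cub y1 n1 o1 f1) (cub y2 n2 o2 f2) two
    (by
      simp only [← map_mul]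
      refine AddMonoidHom.ext fun v => ext _ _ ?_
      exact (hρ _ v).trans (conj_eq_of_mem_C h4 (Additive.toMul v).2))
    (v := Additive.ofMul ⟨v, hv⟩) (fun e => v1 (congrArg (fun v => ((Additive.toMul v : V) : G)) e))
  simp only [← map_mul] at e1 e2
  refine ⟨(Additive.toMul w : V), (Additive.toMul w).2, fun e => w0 (ext _ _ e),
    mem_C1_iff_conj.2 ?_, mem_C1_iff_conj.2 ?_⟩
  · exact (hρ _ w).symm.trans (congrArg (fun v => ((Additive.toMul v : V) : G)) e1)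
  · exact (hρ _ w).symm.trans (congrArg (fun v => ((Additive.toMul v : V) : G)) e2)

/-- lifting elements of odd prime order over a `2`-group -/
theorem lift_ord {p : ℕ} (hp : p.Prime) (hp2 : p ≠ 2) (hQ : TwoG Q) (h1 : w ^ p ∈ Q) (h2 : w ∉ Q) :
    ∃ y ∈ zpowers w, orderOf y = p ∧ w⁻¹ * y ∈ Q := by
  have : Fact p.Prime := ⟨hp⟩
  obtain ⟨k, hk⟩ := (hQ.piElt h1).exists_pow Nat.prime_two
  have hc : (2 ^ k).Coprime p := ((Nat.coprime_primes Nat.prime_two hp).2 hp2.symm).pow_left k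
  obtain ⟨m, hm⟩ := Nat.exists_mul_mod_eq_one_of_coprime hc hp.one_lt
  replace hm : 2 ^ k * m % p = 1 := by first | exact hm | exact hm.2
  have e : 2 ^ k * m = 1 + p * (2 ^ k * m / p) := by
    have := Nat.mod_add_div (2 ^ k * m) p
    omega
  have h3 : w⁻¹ * w ^ (2 ^ k * m) ∈ Q := by
    rw [e, pow_add, pow_one, inv_mul_cancel_left, pow_mul]
    exact pow_mem h1 _
  refine ⟨w ^ (2 ^ k * m), pow_mem (mem_zpowers w) _, orderOf_eq_prime ?_ fun e' => h2 ?_, h3⟩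
  · rw [← pow_mul, mul_comm, pow_mul, pow_mul, ← hk, pow_orderOf_eq_one, one_pow]
  · rw [e', mul_one] at h3
    exact inv_mem_iff.1 h3

/-- `Ω₁(Z(Q))` -/
def OZ (Q : Subgroup G) : Subgroup G where
  carrier := {x | x ∈ Q ∧ x ∈ C[Q] ∧ x * x = 1}
  one_mem' := ⟨one_mem _, one_mem _, mul_one 1⟩
  mul_mem' := fun {a b} ha hb => ⟨mul_mem ha.1 hb.1, mul_mem ha.2.1 hb.2.1, by
    calc a * b * (a * b) = a * (b * a) * b := by group
      _ = a * a * (b * b) := by rw [mem_C.1 ha.2.1 b hb.1]; group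
      _ = 1 := by rw [ha.2.2, hb.2.2, mul_one]⟩
  inv_mem' := fun {a} ha => ⟨inv_mem ha.1, inv_mem ha.2.1, by rw [← mul_inv_rev, ha.2.2, inv_one]⟩

theorem ea_OZ (Q : Subgroup G) : EA (OZ Q) := ea_of_sq fun _ h => h.2.2

theorem OZ_le (Q : Subgroup G) : OZ Q ≤ Q := fun _ h => h.1

theorem le_C_OZ (Q : Subgroup G) : Q ≤ C[OZ Q] := fun x hx =>
  mem_C.2 fun v hv => (mem_C.1 hv.2.1 x hx).symm

theorem N_OZ (hg : g ∈ N[Q]) : g ∈ N[OZ Q] := mem_N_of_finite fun x hx =>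
  ⟨H24.conj_mem hg hx.1, mem_C.2 fun q hq => by
    have := mem_C.1 hx.2.1 _ (conj_mem' hg hq)
    calc q * (g * x * g⁻¹) = g * (g⁻¹ * q * g * x) * g⁻¹ := by group
      _ = _ := by rw [this]; group, by
    calc g * x * g⁻¹ * (g * x * g⁻¹) = g * (x * x) * g⁻¹ := by group
      _ = 1 := by rw [hx.2.2]; group⟩

theorem OZ_ne_bot (hQ : TwoG Q) (h : Q ≠ ⊥) : OZ Q ≠ ⊥ := by
  obtain ⟨z, hz, z1, z2⟩ := TwoG.exists_inv (hQ.inf_left C[Q])
    ((hQ.nil Nat.prime_two).center_ne_bot h)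
  exact ne_bot_of_mem (show z ∈ OZ Q from ⟨hz.1, hz.2, z2⟩) z1

theorem mod3_of {p : ℕ} (hp : p = 5 ∨ p = 17) (hV : TwoG V) (h : ♯V % p = 1) : ♯V % 3 = 1 := by
  have : Fact (Nat.Prime 2) := ⟨Nat.prime_two⟩
  obtain ⟨n, hn⟩ := (hV.isPGroup Nat.prime_two).exists_card_eq
  rw [hn] at h ⊢
  have e : ∀ m : ℕ, 255 % m = 0 → 2 ^ n % m = 2 ^ (n % 8) % m := fun m hm => by
    have h1 : 2 ^ 8 ≡ 1 [MOD m] := by
      have : (1 : ℕ) ≡ 2 ^ 8 [MOD m] := (Nat.modEq_iff_dvd' (by norm_num)).2 (Nat.dvd_of_mod_eq_zero hm)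
      exact this.symm
    have h2 := (h1.pow (n / 8)).mul_right (2 ^ (n % 8))
    rw [← pow_mul, ← pow_add, Nat.div_add_mod, one_pow, one_mul] at h2
    exact h2
  rw [e 3 (by norm_num)]
  have h8 : n % 8 < 8 := Nat.mod_lt _ (by norm_num)
  rcases hp with rfl | rfl
  · rw [e 5 (by norm_num)] at h
    generalize n % 8 = r at h h8
    interval_cases r <;> simp_all
  · rw [e 17 (by norm_num)] at h
    generalize n % 8 = r at h h8
    interval_cases r <;> simp_all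

/-- parity: an element of order `5` or `17` without fixed points makes every element of order
three with at most one fixed involution fixed point free -/
theorem fpf3 {p : ℕ} (hp : p = 5 ∨ p = 17) (hV : EA V) (hx : x ∈ N[V]) (o : x ^ p = 1)
    (f : V ⊓ C{x} = ⊥) (hy : y ∈ N[V]) (h1 : y ^ 3 = 1)
    (h4 : ∀ u ∈ V ⊓ C{y}, ∀ v ∈ V ⊓ C{y}, u ≠ 1 → v ≠ 1 → u = v) : V ⊓ C{y} = ⊥ := by
  refine fpf_of_mod hV (mod3_of hp hV.two ?_) hy h1 h4
  have h5 := card_mod (p := p) (by rcases hp with rfl | rfl <;> norm_num) hx o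
  rw [f, card_bot] at h5
  unfold Nat.ModEq at h5
  rw [h5]
  rcases hp with rfl | rfl <;> rfl

/-- matrices over the prime field -/
abbrev S17 : Type := Matrix.SpecialLinearGroup (Fin 2) (ZMod 17)

def ma : S17 := ⟨!![0, 16; 1, 16], by decide⟩
def mb : S17 := ⟨!![0, 10; 5, 16], by decide⟩
def mx : S17 := ⟨!![1, 1; 0, 1], by decide⟩
def mn : S17 := ⟨!![16, 0; 0, 16], by decide⟩

theorem ma1 : ma.1 0 1 ≠ 0 := by decide
theorem mb1 : mb.1 0 1 ≠ 0 := by decide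
theorem mx1 : mx.1 0 1 ≠ 0 := by decide
theorem m16 : (16 : ZMod 17) ^ 2 = 1 := by decide
theorem ma3 : ma ^ 3 = 1 := by decide
theorem mb3 : mb ^ 3 = 1 := by decide
theorem mx17 : mx ^ 17 = 1 := by decide
theorem mg4 : ma * mb * (ma * mb) * (ma * mb * (ma * mb)) = mn := by decide
def mu : S17 := ⟨!![6, 16; 11, 4], by decide⟩
theorem emu : (ma * mb * (ma * mb)) * (ma * (ma * mb * (ma * mb)) * (ma * ma)) = mu := by decide
theorem mu9 : (mu ^ 3) ^ 3 = mn ∨ (mu ^ 3) ^ 3 = 1 := by decide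
theorem mu3 : (mu ^ 3).1 0 1 ≠ 0 := by decide

open Matrix in
/-- explicit elements of `L₂(17)` -/
theorem psl17 {F : Type*} [Field F] [Fintype F] (hF : Fintype.card F = 17) :
    ∃ a b x : Matrix.ProjectiveSpecialLinearGroup (Fin 2) F, a ^ 3 = 1 ∧ a ≠ 1 ∧ b ^ 3 = 1 ∧ b ≠ 1 ∧
      x ^ 17 = 1 ∧ x ≠ 1 ∧ a * b * (a * b) * (a * b * (a * b)) = 1 ∧
      (((a * b * (a * b)) * (a * (a * b * (a * b)) * (a * a))) ^ 3) ^ 3 = 1 ∧
      ((a * b * (a * b)) * (a * (a * b * (a * b)) * (a * a))) ^ 3 ≠ 1 := by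
  have : Fact (Nat.Prime 17) := ⟨by norm_num⟩
  let f : ZMod 17 →+* F := (ZMod.ringEquivOfPrime F (by norm_num) hF).toRingHom
  let π : S17 →* Matrix.ProjectiveSpecialLinearGroup (Fin 2) F :=
    (QuotientGroup.mk' _).comp (SpecialLinearGroup.map f)
  have q : ∀ (A : S17) i j, (SpecialLinearGroup.map f A).1 i j = f (A.1 i j) := fun A i j => rfl
  have h1 : ∀ A : S17, A.1 0 1 ≠ 0 → π A ≠ 1 := fun A hA e => by
    have e' : SpecialLinearGroup.map f A ∈ Subgroup.center (SpecialLinearGroup (Fin 2) F) :=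
      (QuotientGroup.eq_one_iff (SpecialLinearGroup.map f A)).1 e
    obtain ⟨r, -, hr⟩ := Matrix.SpecialLinearGroup.mem_center_iff.1 e'
    have : (scalar (Fin 2) r) 0 1 = (SpecialLinearGroup.map f A).1 0 1 := by rw [hr]
    rw [q] at this
    simp only [scalar_apply, ne_eq, zero_ne_one, not_false_eq_true, diagonal_apply_ne] at this
    exact hA (f.injective (by rw [map_zero]; exact this.symm))
  have h2 : π mn = 1 := by
    refine (QuotientGroup.eq_one_iff (SpecialLinearGroup.map f mn)).2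
      (Matrix.SpecialLinearGroup.mem_center_iff.2 ⟨f 16, ?_, ?_⟩)
    · rw [← map_pow, Fintype.card_fin, m16, map_one]
    · ext i j
      rw [q]
      fin_cases i <;> fin_cases j <;> simp [mn]
  refine ⟨π ma, π mb, π mx, ?_, h1 ma ma1, ?_, h1 mb mb1, ?_, h1 mx mx1, ?_,
    ?_, ?_⟩
  · rw [← map_pow, ma3, map_one]
  · rw [← map_pow, mb3, map_one]
  · rw [← map_pow, mx17, map_one]
  · simp only [← map_mul]
    rw [mg4, h2]
  · simp only [← map_mul]
    rw [emu, ← map_pow, ← map_pow]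
    rcases mu9 with e | e
    · rw [e, h2]
    · rw [e, map_one]
  · simp only [← map_mul]
    rw [emu, ← map_pow]
    exact h1 _ mu3

theorem no17 (hn : Q ⊴ L) (hQ : TwoG Q) (h0 : Q ≠ ⊥) {F : Type*} [Field F] [Fintype F]
    (hF : Fintype.card F = 17) (φ : L →* Matrix.ProjectiveSpecialLinearGroup (Fin 2) F)
    (hs : Function.Surjective φ) (hk : φ.ker = Q.subgroupOf L)
    (h17 : ∀ x ∈ L, orderOf x = 17 → Q ⊓ C{x} = ⊥)
    (h3 : ∀ y ∈ L, orderOf y = 3 → ∀ u ∈ Q ⊓ C{y}, ∀ v ∈ Q ⊓ C{y}, u ≠ 1 → v ≠ 1 → u * u = 1 →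
      v * v = 1 → u * v = v * u → u = v) : False := by
  have mk : ∀ w : L, φ w = 1 ↔ (w : G) ∈ Q := fun w => by
    rw [← MonoidHom.mem_ker, hk, mem_subgroupOf]
  have lift : ∀ p : ℕ, p.Prime → p ≠ 2 → ∀ w : L, φ w ^ p = 1 → φ w ≠ 1 →
      ∃ y : L, (y : G) ∈ zpowers (w : G) ∧ orderOf (y : G) = p ∧ φ y = φ w := fun p hp h2 w e1 e2 => by
    obtain ⟨y, hy, o, hq⟩ := lift_ord (w := (w : G)) hp h2 hQ
      ((mk (w ^ p)).1 (by rw [map_pow, e1])) (fun e => e2 ((mk w).2 e))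
    have hyL : y ∈ L := zpowers_le.2 w.2 hy
    refine ⟨⟨y, hyL⟩, hy, o, ?_⟩
    have := (mk (w⁻¹ * ⟨y, hyL⟩)).2 hq
    rw [map_mul, map_inv, inv_mul_eq_one] at this
    exact this.symm
  obtain ⟨a, b, x, a3, a1, b3, b1, x17, x1, g4, u3, u1⟩ := psl17 hF
  obtain ⟨a, rfl⟩ := hs a
  obtain ⟨b, rfl⟩ := hs b
  obtain ⟨x, rfl⟩ := hs x
  obtain ⟨y1, -, o1, e1⟩ := lift 3 Nat.prime_three (by norm_num) a a3 a1
  obtain ⟨y2, -, o2, e2⟩ := lift 3 Nat.prime_three (by norm_num) b b3 b1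
  obtain ⟨x', -, ox, -⟩ := lift 17 (by norm_num) (by norm_num) x x17 x1
  have fp : ∀ y : L, orderOf (y : G) = 3 → OZ Q ⊓ C{(y : G)} = ⊥ := fun y o =>
    fpf3 (Or.inr rfl) (ea_OZ Q) (N_OZ (hn.norm x'.2)) (ox ▸ pow_orderOf_eq_one _)
      (eq_bot_iff.2 ((inf_le_inf_right _ (OZ_le Q)).trans (h17 _ x'.2 ox).le)) (N_OZ (hn.norm y.2))
      (o ▸ pow_orderOf_eq_one _) fun u hu v hv u1 v1 =>
        h3 _ y.2 o u ⟨hu.1.1, hu.2⟩ v ⟨hv.1.1, hv.2⟩ u1 v1 hu.1.2.2 hv.1.2.2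
          ((ea_OZ Q).comm hu.1 hv.1)
  rw [← e1, ← e2] at g4 u3 u1
  simp only [← map_mul] at g4
  obtain ⟨w, hw, w1, c1, c2⟩ := grp_core (ea_OZ Q) (OZ_ne_bot hQ h0) (N_OZ (hn.norm y1.2))
    (N_OZ (hn.norm y2.2)) (o1 ▸ pow_orderOf_eq_one _) (o2 ▸ pow_orderOf_eq_one _) (fp y1 o1)
    (fp y2 o2) (le_C_OZ Q ((mk _).1 g4))
  simp only [← map_mul] at u3 u1
  rw [← map_pow] at u1
  rw [← map_pow φ _ 3] at u3
  obtain ⟨y, hy, o, -⟩ := lift 3 Nat.prime_three (by norm_num) _ u3 u1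
  have hc : (y : G) ∈ C{w} := zpowers_le.2 (pow_mem (mul_mem c1 c2) 3) hy
  have : w ∈ OZ Q ⊓ C{(y : G)} := ⟨hw, mem_C1_comm.1 hc⟩
  rw [fp y o, mem_bot] at this
  exact w1 this

end K3
end H15
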