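import Mathlib
import Cfsg.Agent.H15.K317
import Cfsg.Agent.H16.K3T0
import Cfsg.Agent.H18.K3Fr0

/-! The case `L₂(17)` of the thin frame. -/

set_option autoImplicit false
set_option linter.unusedSectionVars false
set_option linter.unusedVariables false

namespace H15
namespace K3

open Cfsg H24 H26 H26.Gold Subgroup

universe u

theorem case17 {G : Type u} [Group G] [Finite G] {a b : ℕ} (h : H18.K3.KT G 17 a b)
    (th : H16.K3T.Thin G) {Q L : Subgroup G} {F : Type} [Field F] [Fintype F]
    (hF : Fintype.card F = 17) {φ : L →* Matrix.ProjectiveSpecialLinearGroup (Fin 2) F}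
    (fm : H16.K3T.Fm Q L φ) : False := by
  have : Fact (Nat.Prime 2) := ⟨Nat.prime_two⟩
  refine no17 fm.nmlQ fm.two fm.ne hF φ fm.sur fm.ker (fun x _ ox => ?_)
    fun y _ oy u hu v hv u1 v1 u2 v2 uv => h.no4 th oy (orderOf_eq_prime (by rwa [pow_two]) u1)
      (orderOf_eq_prime (by rwa [pow_two]) v1) hu.2 hv.2 uv
  rw [h.cent_p ox, eq_bot_iff]
  intro z hz
  have h1 := orderOf_dvd_of_mem_zpowers hz.2
  rw [ox] at h1
  rcases (Nat.dvd_prime (by norm_num)).1 h1 with e | e
  · exact mem_bot.2 (orderOf_eq_one_iff.1 e)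
  · have := fm.two.piElt hz.1 17 (by norm_num) (by rw [e])
    simp at this

end K3
end H15
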