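import Mathlib
import Cfsg.Agent.H4.Central
import Cfsg.Agent.H6.Dihedral

/-!
# A Glauberman-type lemma in `D.2` with `D` of odd order
-/

set_option autoImplicit false
set_option linter.all false
open Cfsg MulAction H4
open scoped ComplexConjugate

namespace H21.KSR

namespace KSG
variable {N : Type*} [Group N]

theorem sum_split [Fintype N] (D : Subgroup N) [Fintype D] (hD : D.index = 2) {t : N} (htD : t ∉ D)
    (F : N → ℂ) : ∑ g, F g = ∑ d : D, F d + ∑ d : D, F (t * d) := by
  have hb : Function.Bijective (Sum.elim (fun d : D => (d : N)) fun d : D => t * d) := by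
    constructor
    · rintro (a | a) (b | b) h <;> simp only [Sum.elim_inl, Sum.elim_inr] at h
      · rw [Subtype.ext h]
      · exact (htD ((D.mul_mem_cancel_right b.2).1 (h ▸ a.2))).elim
      · exact (htD ((D.mul_mem_cancel_right a.2).1 (h ▸ b.2))).elim
      · rw [Subtype.ext (mul_left_cancel h)]
    · intro g
      by_cases h : g ∈ D
      · exact ⟨.inl ⟨g, h⟩, rfl⟩
      · exact ⟨.inr ⟨t⁻¹ * g, (Subgroup.mul_mem_iff_of_index_two hD).2
          (iff_of_false (mt D.inv_mem_iff.1 htD) h)⟩, by simp⟩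
  rw [← hb.sum_comp F, Fintype.sum_sum_type]; rfl

theorem ex_kw [Finite N] (D : Subgroup N) (hD : D.index = 2) (hodd : Odd (Nat.card D)) {t : N}
    (ht : t * t = 1) (htD : t ∉ D) (d : D) :
    ∃ k ∈ D, ∃ w ∈ D, t * w = w * t ∧ k * (t * w) * k⁻¹ = t * d := by
  have hm := fun {a b : N} => Subgroup.mul_mem_iff_of_index_two (a := a) (b := b) hD
  have x1 : t * d ∉ D := fun h => htD ((D.mul_mem_cancel_right d.2).1 h)
  have pw : ∀ a ∈ D, a ^ Nat.card D = 1 := fun a ha =>
    congrArg Subtype.val (pow_card_eq_one' (x := (⟨a, ha⟩ : D)))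
  obtain ⟨m, hm'⟩ := hodd
  have x2 : t * d * (t * d) ∈ D := hm.2 Iff.rfl
  have s1 : (t * d) ^ Nat.card D ∉ D := by
    rw [hm', pow_succ, pow_mul, sq, D.mul_mem_cancel_left (D.pow_mem x2 m)]; exact x1
  have s2 : (t * d) ^ Nat.card D * (t * d) ^ Nat.card D = 1 := by
    rw [← (Commute.refl _).mul_pow, pw _ x2]
  have s3 := hm.2 (iff_of_false htD s1)
  obtain ⟨k, hk⟩ := H6.exists_zpow_conj_of_odd ht s2
    (Odd.of_dvd_nat ⟨m, hm'⟩ (orderOf_dvd_of_pow_eq_one (pw _ s3)))
  have k1 := D.zpow_mem s3 k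
  generalize (t * (t * d) ^ Nat.card D) ^ k = u at *
  have c : u⁻¹ * (t * d) * u * t = t * (u⁻¹ * (t * d) * u) := by
    have c0 : t * d * (u * t * u⁻¹) = u * t * u⁻¹ * (t * d) :=
      hk ▸ ((Commute.refl (t * (d : N))).pow_right _).eq
    calc _ = u⁻¹ * (t * d * (u * t * u⁻¹)) * u := by group
      _ = _ := by rw [c0]; group
  refine ⟨u, k1, t * (u⁻¹ * (t * d) * u), hm.2 (iff_of_false htD ?_), by rw [mul_assoc t, c], ?_⟩
  · rwa [D.mul_mem_cancel_right k1, D.mul_mem_cancel_left (D.inv_mem k1)]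
  · rw [← mul_assoc t, ht]; group

/-- The subgroup generated by an involution. -/
def T2 {t : N} (ht : t * t = 1) : Subgroup N where
  carrier := {x | x = 1 ∨ x = t}
  one_mem' := Or.inl rfl
  mul_mem' := by rintro _ _ (rfl | rfl) (rfl | rfl) <;> simp [ht]
  inv_mem' := by rintro _ (rfl | rfl) <;> simp [inv_eq_of_mul_eq_one_right ht]

theorem inner_int [Finite N] {V : Subgroup N} [Fintype V] {t : N} (ht : t * t = 1) (t1 : t ≠ 1)
    (hV : ∀ w ∈ V, t * w = w * t) {χ : N → ℂ} (hχ : IsCharacter N χ) {l : V → ℂ}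
    (hl : IsCharacter V l) : ∃ n : ℤ, classInner (fun w : V => χ (t * w)) l = n := by
  classical
  have := Fintype.ofFinite (T2 ht)
  have hu : (Finset.univ : Finset (T2 ht)) = {1, ⟨t, Or.inr rfl⟩} := by
    ext ⟨x, rfl | rfl⟩ <;> simp [Subtype.ext_iff]
  have hne : (1 : T2 ht) ≠ ⟨t, Or.inr rfl⟩ := fun h => t1 (congrArg Subtype.val h).symm
  have hc : Nat.card (T2 ht) = 2 := by
    rw [Nat.card_eq_fintype_card, ← Finset.card_univ, hu, Finset.card_pair hne]
  obtain ⟨a, ha⟩ := (hχ.comp (MonoidHom.noncommCoprod (T2 ht).subtype V.subtype (by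
    rintro ⟨x, rfl | rfl⟩ w
    exacts [Commute.one_left _, hV w w.2]))).inner_nat (hl.comp (MonoidHom.snd (T2 ht) V))
  obtain ⟨b, hb⟩ := (hχ.restrict V).inner_nat hl
  refine ⟨2 * a - b, mul_left_cancel₀ (card_ne_zero V) ?_⟩
  have h1 := card_mul_classInner (fun w : V => χ w) l
  have h2 := congrArg ((Nat.card (T2 ht × V) : ℂ) * ·) ha
  simp only [card_mul_classInner] at h2
  rw [Fintype.sum_prod_type, hu, Finset.sum_pair hne, Nat.card_prod, hc] at h2
  simp only [MonoidHom.noncommCoprod_apply, Subgroup.coe_subtype, MonoidHom.coe_snd,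
    OneMemClass.coe_one, one_mul] at h2
  rw [card_mul_classInner]
  rw [hb] at h1
  push_cast at h2 ⊢
  linear_combination h2 + h1

end KSG
open KSG

theorem glaub {N : Type*} [Group N] [Finite N] (D : Subgroup N) (hD : D.index = 2)
    (hodd : Odd (Nat.card D)) {t : N} (ht : t * t = 1) (htD : t ∉ D)
    {v : N} (hv : v ∈ D) (hv1 : v ≠ 1) (hvt : t * v = v * t) :
    ∃ (χ : N → ℂ) (e : ℤ), IsIrrCharacter N χ ∧ IsIrrCharacter D (fun d : D => χ d) ∧
      χ t = e ∧ e ≠ 0 ∧ e ∣ (Nat.card D : ℤ) ∧ χ (t * v) ≠ χ t := by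
  classical
  have := Fintype.ofFinite N
  have hf : IsClassFunction N fun g => if IsConj t g then (1 : ℂ) else 0 :=
    isClassFunction_of_isConj fun g h k => if_congr ⟨(·.trans k), (·.trans k.symm)⟩ rfl rfl
  have nc : ¬ IsConj t (t * v) := fun h => by
    obtain ⟨c, hc⟩ := isConj_iff.1 h
    have h1 : t * v * (t * v) = 1 := by rw [← hc, conj_mul, ht]; group
    rw [mul_assoc, ← mul_assoc v, ← hvt, mul_assoc t v, ← mul_assoc, ht, one_mul, ← sq] at h1
    obtain ⟨m, hm⟩ := hodd
    have h2 : v ^ Nat.card D = 1 := congrArg Subtype.val (pow_card_eq_one' (x := (⟨v, hv⟩ : D)))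
    rw [hm, pow_succ, pow_mul, h1, one_pow, one_mul] at h2
    exact hv1 h2
  obtain ⟨χ, hχ, h0, h1⟩ : ∃ χ, IsIrrCharacter N χ ∧ χ t ≠ 0 ∧ χ (t * v) ≠ χ t := by
    by_contra h
    push Not at h
    have e1 := hf.apply_eq_sum t
    have e2 := hf.apply_eq_sum (t * v)
    simp only [if_pos (IsConj.refl t), if_neg nc] at e1 e2
    refine one_ne_zero (e1.trans ((Finset.sum_congr rfl fun χ _ => ?_).trans e2.symm))
    by_cases k : (χ : N → ℂ) t = 0
    · rw [classInner_def, Finset.sum_eq_zero fun g _ => ?_, mul_zero, zero_mul, zero_mul]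
      split_ifs with l
      · rw [← χ.2.classFun.apply_of_isConj l, k, map_zero, mul_zero]
      · exact zero_mul _
    · rw [h χ χ.2 k]
  have hN : Nat.card N = 2 * Nat.card D := by rw [← D.index_mul_card, hD]
  have cD := card_ne_zero D
  have s0 := card_mul_classInner χ χ
  rw [hχ.inner_self, sum_split D hD htD, ← card_mul_classInner (fun d : D => χ d), hN] at s0
  obtain ⟨n, hn⟩ := (hχ.isCharacter.restrict D).inner_nat (hχ.isCharacter.restrict D)
  have n0 : n ≠ 0 := fun k => by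
    rw [k, Nat.cast_zero, classInner_self_eq_zero] at hn
    exact hχ.apply_one_ne_zero (congrFun hn 1)
  have n1 : n = 1 := by
    by_contra k
    have p := classInner_self_re_nonneg fun d : D => χ (t * d)
    have q : classInner (fun d : D => χ (t * d)) (fun d : D => χ (t * d)) = 2 - n := by
      apply mul_left_cancel₀ cD
      rw [card_mul_classInner]
      rw [hn] at s0
      push_cast at s0
      linear_combination -s0
    rw [q] at p
    have n2 : n = 2 := by
      have : (n : ℝ) ≤ 2 := by simpa using p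
      have : n ≤ 2 := by exact_mod_cast this
      omega
    rw [n2, Nat.cast_ofNat, sub_self, classInner_self_eq_zero] at q
    exact h0 (by simpa using congrFun q 1)
  rw [n1, Nat.cast_one] at hn
  have s1 : ∑ d : D, χ (t * d) * conj (χ (t * d)) = Nat.card D := by
    rw [hn] at s0
    push_cast at s0
    linear_combination -s0
  let V := D ⊓ Subgroup.centralizer {t}
  have hV : ∀ w ∈ V, t * w = w * t := fun w hw =>
    (Subgroup.mem_centralizer_singleton_iff.1 hw.2).symm
  choose k k1 w w1 w2 w3 using ex_kw D hD hodd ht htD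
  have w4 : ∀ d, w d ∈ V := fun d => ⟨w1 d, Subgroup.mem_centralizer_singleton_iff.2 (w2 d).symm⟩
  have e0 : ∀ d, ∀ c ∈ V, k d * c * (t * (c⁻¹ * w d * c)) * (k d * c)⁻¹ = t * d := fun d c hc => by
    rw [← w3, mul_assoc (k d) c, ← mul_assoc c, ← hV c hc]; group
  have hb : Function.Bijective fun p : D × V => ((⟨k p.1 * p.2, D.mul_mem (k1 _) p.2.2.1⟩ : D),
      p.2⁻¹ * ⟨w p.1, w4 _⟩ * p.2) := Finite.injective_iff_bijective.1 (by
    rintro ⟨d, c⟩ ⟨d', c'⟩ h
    have a1 : k d * c = k d' * c' := congrArg Subtype.val (congrArg Prod.fst h)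
    have a2 : (c : N)⁻¹ * w d * c = (c' : N)⁻¹ * w d' * c' :=
      congrArg Subtype.val (congrArg Prod.snd h)
    obtain rfl : d = d' := Subtype.ext (mul_left_cancel (a := t) (by
      rw [← e0 d c c.2, ← e0 d' c' c'.2, a1, a2]))
    rw [Subtype.ext (mul_left_cancel a1)])
  have s2 := hb.sum_comp fun p : D × V => χ (t * p.2) * conj (χ (t * p.2))
  have e1 : ∀ (d : D) (c : V), χ (t * (c⁻¹ * ⟨w d, w4 d⟩ * c : V)) = χ (t * d) := fun d c => by
    rw [← e0 d c c.2, hχ.classFun]; rfl
  simp only [e1, Fintype.sum_prod_type, Finset.sum_const, Finset.card_univ, nsmul_eq_mul,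
    ← Finset.mul_sum, ← Nat.card_eq_fintype_card, s1] at s2
  have hφ : IsClassFunction V fun w : V => χ (t * w) := fun g h => by
    show χ (t * (h * g * h⁻¹)) = χ (t * g)
    rw [← hχ.classFun (t * g) h, ← mul_assoc (h : N), ← hV h h.2]
    simp only [mul_assoc, InvMemClass.coe_inv]
  have t1 : t ≠ 1 := fun h => htD (h ▸ D.one_mem)
  have hg := (hφ.isGen_of_inner_int fun l hl =>
    inner_int ht t1 hV hχ.isCharacter hl.isCharacter).irr_or_neg_of_inner_self
    (mul_left_cancel₀ (card_ne_zero V) (mul_left_cancel₀ cD (by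
      rw [card_mul_classInner, ← s2]; ring)))
  have dv : Nat.card V ∣ Nat.card D := Subgroup.card_dvd_of_le inf_le_left
  have hI := (hχ.isCharacter.restrict D).isIrr_of_inner_self hn
  rcases hg with g | g <;> obtain ⟨a, a0, ha⟩ := g.exists_nat_apply_one <;>
    have a1 := Int.natCast_dvd_natCast.2 ((g.degree_dvd_card ha).trans dv)
  · exact ⟨χ, a, hχ, hI, by simpa using ha, by omega, a1, h1⟩
  · exact ⟨χ, -a, hχ, hI, by simpa [neg_eq_iff_eq_neg] using ha, by omega, neg_dvd.2 a1, h1⟩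

end H21.KSR
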