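import Mathlib
import Cfsg.Agent.H15.KM5
import Cfsg.Agent.H15.SzU0
import Cfsg.Agent.H15.SzZ
import Cfsg.Agent.H29.M11s

/-!
# The subgroup `3⁵ : M₁₁` of the Suzuki group
-/

set_option autoImplicit false
set_option maxRecDepth 100000
set_option Elab.async false

namespace H15.Sz.U

open H29 H24 Subgroup KM

noncomputable def m3 : ℕ → S := slp m defs3
theorem hs3 : chkSlp defs3 = true := by decide +kernel
noncomputable def tabs3 : ℕ → ℕ := nth idT tl3

theorem tab_der3 : (allN 69 fun c => lit c fun c => or2 (eqL (nth [] defs3 c) [c])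
    (chkTab 1782 tabs3 (tabs3 c) (nth [] defs3 c))) = true := by decide +kernel

theorem base3 (c : ℕ) (h : nth [] defs3 c = [c]) : c < 49 := by
  by_cases hc : c < 69
  · exact (by decide +kernel : ∀ c < 69, nth [] defs3 c = [c] → c < 49) c hc h
  · rw [nth_default _ (show defs3.length ≤ c from not_lt.1 hc)] at h; simp at h

theorem m3_lt {c : ℕ} (h : c < 49) : m3 c = m c :=
  slp_base _ ((by decide +kernel : ∀ c < 49, nth [] defs3 c = [c]) c h)

theorem tab3 (c : ℕ) : TabOK Suz.ρ 1782 (m3 c) (tabs3 c) := by
  refine tabOK_slp lt0 hs3 (slp_def _ hs3) (fun c h => ?_) (fun c => ?_) c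
  · have : (allN 49 fun c => Nat.beq (tabs3 c) (nth idT tl c)) = true := by decide +kernel
    rw [H29.beq_true.1 (allN_true.1 this c (base3 c h)), slp_base _ h]
    exact tab1 c
  · by_cases hc : c < 69
    · have := tab_der3
      simp only [allN_true, lit_eq, or2_true] at this
      exact (this c hc).imp eqL_true id
    · rw [nth_default _ (show defs3.length ≤ c from not_lt.1 hc), tabs3,
        nth_default _ (show tl3.length ≤ c from not_lt.1 hc)]
      exact .inr (by decide +kernel)

noncomputable def run3 (w : List ℕ) : ℕ := run4 tabs3 w 0 1 1711 1544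

theorem iso3 : Iso run3 m3 :=
  iso_run4 lt0 (by norm_num) (by norm_num) (by norm_num) (by norm_num) (by norm_num) base tab3

noncomputable abbrev iv3 : ℕ → ℕ := ivOf ivl3

theorem ivm3 : IvOK m3 iv3 := fun c => by
  by_cases hc : c < 69
  · have : (allN 69 fun c => eqW run3 [c, iv3 c] []) = true := by decide +kernel
    have := iso3.eqW.1 (allN_true.1 this c hc)
    exact eq_inv_of_mul_eq_one_right (by simpa using this)
  · have : m3 c = 1 := by
      rw [m3, slp_def _ hs3 c, nth_default _ (show defs3.length ≤ c from not_lt.1 hc)]; rfl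
    rw [iv3, ivOf, nth_default _ (show ivl3.length ≤ c from not_lt.1 hc), this, inv_one]

theorem cA : chkCd run3 iv3 Al WA = true := by decide +kernel
theorem cP : chkCd run3 iv3 Pl WP = true := by decide +kernel
theorem cR : chkCd run3 iv3 Rl WR = true := by decide +kernel
theorem c1 : incr (mapL (cval run3 iv3 9) W1) 0 = true := by decide +kernel
theorem c1' : overL F0 W1 = true := by decide +kernel
theorem c2 : incr (mapL (msk tabs3 Ol) W2) 0 = true := by decide +kernel

end H15.Sz.U
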