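import Mathlib
import Cfsg.Agent.H15.SzU1
import Cfsg.Agent.H15.SzY
import Cfsg.Agent.H21.Mat11b
import Cfsg.Agent.H9.M24
import Cfsg.Agent.H2.Cores

/-!
# The normaliser of `3⁵` in the Suzuki group
-/

set_option autoImplicit false
set_option maxRecDepth 100000
set_option Elab.async false
set_option linter.unusedSectionVars false

namespace H15.Sz.U

open H29 H24 Subgroup KM

section

variable {G : Type*} [Group G] [Finite G] {G' : Type*} [Group G'] [Finite G']

structure Cfg (t : G) (A M R : Subgroup G) : Prop where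
  ab : Abl A
  ex : ∀ a ∈ A, a ^ 3 = 1
  cA : Nat.card A = 3 ^ 5
  nM : M ≤ N[A]
  sM : IsSimpleGroup M
  cM : Nat.card M = 7920
  nc : ¬ M ≤ C[A]
  cN : Nat.card N[A] ≤ 243 * 7920
  AR : A ≤ R
  RN : R ≤ N[zpowers t]
  cR : Nat.card R = 3 ^ 7

theorem Cfg.map {t : G} {A M R : Subgroup G} (h : Cfg t A M R) (ψ : G ≃* G') :
    Cfg (ψ t) (A.map ψ.toMonoidHom) (M.map ψ.toMonoidHom) (R.map ψ.toMonoidHom) := by
  have k : ∀ K : Subgroup G, Nat.card (K.map ψ.toMonoidHom) = Nat.card K := fun K =>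
    card_map_of_injective ψ.injective
  have := h.sM
  refine ⟨h.ab.map _, ?_, (k _).trans h.cA, norm_map h.nM _,
    (M.equivMapOfInjective ψ.toMonoidHom ψ.injective).symm.isSimpleGroup, (k _).trans h.cM,
    fun a => h.nc (cent_of_map ψ.injective a), ?_, map_mono h.AR, ?_, (k _).trans h.cR⟩
  · rintro _ ⟨a, h1, rfl⟩
    rw [← map_pow, h.ex a h1, map_one]
  · rw [← map_equiv_normalizer_eq, k]; exact h.cN
  · simpa using norm_map h.RN ψ.toMonoidHom

theorem Cfg.inf {t : G} {A M R : Subgroup G} (h : Cfg t A M R) {K : Subgroup G} (h1 : M ≤ N[K])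
    (h2 : K ≤ C[A]) : K ⊓ M = ⊥ := by
  have := h.sM
  have a : (K ⊓ M) ⊴ M := ⟨inf_le_right, norm_inf h1 (norm_self M)⟩
  rcases IsSimpleGroup.eq_bot_or_eq_top_of_normal _ a.normal with b | b
  · rwa [subgroupOf_eq_bot, disjoint_iff, inf_assoc, inf_idem] at b
  · exact absurd ((subgroupOf_eq_top.1 b).trans (inf_le_left.trans h2)) h.nc

theorem Cfg.fin {t : G} {A M R : Subgroup G} (h : Cfg t A M R) : C[A] = A ∧
    ∃ _ : (A.subgroupOf N[A]).Normal, Cfsg.Spor.IsoM11 (N[A] ⧸ A.subgroupOf N[A]) := by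
  have a1 := h.inf h.nM h.ab.le_C
  have a2 := card_sup_of_inf h.nM a1
  rw [h.cA, h.cM] at a2
  have a3 : A ⊔ M = N[A] := eq_of_card_ge (sup_le (norm_self A) h.nM) (a2 ▸ h.cN)
  refine ⟨le_antisymm (fun c hc => ?_) h.ab.le_C, inferInstance, ?_⟩
  · obtain ⟨a, b1, x, b2, rfl⟩ := (mem_sup_of_norm h.nM).1 (a3.ge (C_le_N A hc))
    have : x ∈ C[A] ⊓ M := ⟨(mul_mem_cancel_left (h.ab.le_C b1)).1 hc, b2⟩
    rw [h.inf (norm_C h.nM) le_rfl, mem_bot] at this
    simpa [this] using b1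
  · have := h.sM
    let f : M →* N[A] ⧸ A.subgroupOf N[A] := (QuotientGroup.mk' _).comp (inclusion h.nM)
    have b1 : Function.Injective f := (injective_iff_map_eq_one f).2 fun x hx => Subtype.ext
      (mem_bot.1 (a1 ▸ (⟨mem_subgroupOf.1 ((QuotientGroup.eq_one_iff (inclusion h.nM x)).1 hx), x.2⟩ :
        (x : G) ∈ A ⊓ M)))
    have b2 := card_eq_card_quotient_mul_card_subgroup (A.subgroupOf N[A])
    rw [card_subgroupOf_of_le (norm_self A), ← a3, a2, h.cA, a3] at b2
    have b3 : Nat.card (N[A] ⧸ A.subgroupOf N[A]) = 7920 := by omega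
    exact H21.m11_unique ⟨(MulEquiv.ofBijective f (b1.bijective_of_nat_card_le
      (by rw [b3, h.cM]))).symm.isSimpleGroup, b3⟩ ⟨H9.simple_M11, H9.card_M11⟩

end

/-- the letters of `M₁₁` -/
def ml : List ℕ := [0, 49, 50, 51, 52, 53, 54]

theorem m3_99 : m3 99 = 1 := slp_def _ hs3 99

theorem simpleM : IsSimpleGroup (gen m3 ml) ∧ Nat.card (gen m3 ml) = 7920 := by
  have := M11s.sub (e := fun c => m3 (nth 99 ml c)) (fun c => by
      by_cases hc : c < 7
      · rw [← ivm3]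
        exact congrArg m3 ((by decide +kernel :
          ∀ c < 7, nth 99 ml (ivOf M11s1.ivl c) = iv3 (nth 99 ml c)) c hc)
      · rw [ivOf, nth_default _ (show M11s1.ivl.length ≤ c from not_lt.1 hc)]
        simp only []
        rw [nth_default _ (show ml.length ≤ c from not_lt.1 hc), m3_99, inv_one])
    (fun r hr => by
      rw [← ev_mapL]
      exact iso3.eqW.1 (allL_true.1 (show (allL M11s1.R0 fun r => eqW run3 (mapL (nth 99 ml) r) []) = true
        by decide +kernel) r hr))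
    (iso3.ne (u := [0]) (v := []) (by decide +kernel))
  rwa [show gen (fun c => m3 (nth 99 ml c)) M11s1.cols = gen m3 ml from le_antisymm
    (gen_le.2 fun c hc => mem_gen ((by decide +kernel : ∀ c ∈ M11s1.cols, nth 99 ml c ∈ ml) c hc))
    (gen_le.2 fun c hc => by
      obtain ⟨d, h1, rfl⟩ := (by decide +kernel : ∀ c ∈ ml, ∃ d ∈ M11s1.cols, nth 99 ml d = c) c hc
      exact mem_gen (e := fun c => m3 (nth 99 ml c)) h1)] at this

theorem t3 : m3 9 ^ 3 = 1 := by simpa using iso3.eqW.1 (show eqW run3 (pw 3 [9]) [] = true by decide +kernel)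
theorem t1 : m3 9 ≠ 1 := by simpa using iso3.ne (u := [9]) (v := []) (by decide +kernel)

theorem run1_eq (w : List ℕ) {i : ℕ} (h : i < 1782) : run1 tabs3 w i = Suz.ρ (ev m3 w)⁻¹ i :=
  run1_spec lt0 (fun c _ => tab3 c) i h

theorem fix0 {l : List ℕ} (h : (allL l fun c => Nat.beq (run1 tabs3 [c] 0) 0) = true) :
    gen m3 l ≤ stab Suz.ρ 0 := gen_le.2 fun c hc => by
  have := H29.beq_true.1 (allL_true.1 h c hc)
  rw [run1_eq _ (by norm_num)] at this
  simpa using inv_mem (mem_stab.2 this)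

theorem normT {l : List ℕ} (h : (allL l fun c => or2 (eqW run3 [c, 9] [9, c])
    (eqW run3 [c, 9] [10, c])) = true) : gen m3 l ≤ N[zpowers (m3 9)] := gen_le.2 fun c hc => by
  refine mem_N_of_cj_le ?_
  rw [cj_zpowers, zpowers_le, mem_zp3 t3, mul_inv_eq_iff_eq_mul (c := m3 9),
    mul_inv_eq_iff_eq_mul (c := (m3 9)⁻¹), ← show m3 10 = _ from ivm3 9]
  simpa [iso3.eqW] using Or.inr (allL_true.1 h c hc)

theorem cardN : Nat.card N[gen m3 Al] ≤ 243 * 7920 := by
  have a0 := Suz.cm.toTrans.card_eq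
  rw [Suz.card.1] at a0
  have a1 := card_mul_le_val (K := stab Suz.ρ 0) (L := N[zpowers (m3 9)])
    (fun w hw => fix0 (by decide +kernel) (overL_mem c1' w hw))
    (fun u _ v _ a => iso3.cval ivm3 t3 t1 a.2) c1
  have b1 : ∀ o ∈ Ol, o < 1782 := by decide +kernel
  have b2 : ∀ a ∈ gen m3 Al, Suz.ρ a 0 ∈ Ol := fun a ha => by
    obtain ⟨w, h1, h2⟩ := iso3.all ivm3 cA (f := fun w => memL (run1 tabs3 w 0) Ol)
      (by decide +kernel) (inv_mem ha)
    rwa [memL_true, run1_eq _ (by norm_num), h1, inv_inv] at h2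
  have b3 : ∀ o ∈ Ol, ∃ a ∈ gen m3 Al, Suz.ρ a 0 = o := fun o ho => by
    have : (frc (mapL (fun w => run1 tabs3 w 0) WA) fun V => allL Ol fun o => memL o V) = true := by
      decide +kernel
    simp only [frc_eq, allL_true, memL_true, mapL_eq, List.mem_map] at this
    obtain ⟨w, h1, h2⟩ := this o ho
    exact ⟨_, inv_mem (overL_mem (and2_true.1 (and2_true.1 cA).2).1 w h1),
      by rw [← run1_eq _ (by norm_num), h2]⟩
  have a2 := card_mul_le_val (K := stab Suz.ρ 0 ⊓ N[zpowers (m3 9)]) (L := N[gen m3 Al]) (W := W2)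
    (fun w hw => le_inf (fix0 (l := F1) (by decide +kernel)) (normT (by decide +kernel))
      (overL_mem (by decide +kernel) w hw))
    (fun u _ v _ a => msk_eq (L := stab Suz.ρ 0 ⊓ N[gen m3 Al]) lt0 tab3 b1 (fun l hl o ho => by
      obtain ⟨a, h1, rfl⟩ := b3 o ho
      have := b2 _ (conj_mem hl.2 h1)
      rwa [map_mul, Equiv.Perm.mul_apply, mem_stab.1 (inv_mem hl.1), map_mul] at this) ⟨a.1.1, a.2⟩) c2
  have b4 : stab Suz.ρ 0 ⊓ gen m3 Al = zpowers (m3 9) := le_antisymm (fun a ha => by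
      obtain ⟨w, h1, h2⟩ := iso3.all ivm3 cA (f := fun w => imp2 (Nat.beq (run1 tabs3 w 0) 0)
        (or2 (eqW run3 w []) (or2 (eqW run3 w [9]) (eqW run3 w [10])))) (by decide +kernel) ha.2
      simp only [imp2_true, or2_true, iso3.eqW, H29.beq_true, run1_eq _ (show 0 < 1782 by norm_num), h1,
        ev_cons, ev_nil, mul_one, show m3 10 = _ from ivm3 9] at h2
      exact (mem_zp3 t3).2 (h2 ((stab Suz.ρ 0).inv_mem ha.1)))
    (zpowers_le.2 ⟨fix0 (l := [9]) (by decide +kernel) (mem_gen (by simp)), mem_gen (by decide)⟩)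
  rw [show stab Suz.ρ 0 ⊓ N[zpowers (m3 9)] ⊓ N[gen m3 Al] = stab Suz.ρ 0 ⊓ N[gen m3 Al] from
    le_antisymm (inf_le_inf_right _ inf_le_left) (le_inf (le_inf inf_le_left
      (b4 ▸ norm_inf (norm_of_le inf_le_left) inf_le_right)) inf_le_right)] at a2
  have a3 := card_inf_mul_relIndex (stab Suz.ρ 0) N[gen m3 Al]
  have a4 : (stab Suz.ρ 0).relIndex N[gen m3 Al] ≤ 1782 := by
    rw [← Suz.cm.toTrans.cosetModel.index_eq, ← relIndex_top_right]
    exact relIndex_le_of_le_right le_top (by rw [relIndex_top_right]; exact index_ne_zero_of_finite)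
  rw [show W1.length = 2080 by decide +kernel] at a1
  rw [show W2.length = 112 by decide +kernel] at a2
  rw [← a3]
  exact (Nat.mul_le_mul (show _ ≤ 1080 by omega) a4).trans (by norm_num)

theorem cfg : Cfg (m3 9) (gen m3 Al) (gen m3 ml) (gen m3 Al ⊔ gen m3 Rl) := by
  have a1 : Abl (gen m3 Al) := abl_iff.2 (iso3.cents (by decide +kernel))
  have a2 := iso3.card_enum ivm3 cA
  have a3 : gen m3 Rl ≤ N[gen m3 Al] := iso3.normW ivm3 (W := WA) (by decide +kernel)
  refine ⟨a1, fun a ha => ?_, a2, iso3.normW ivm3 (W := WA) (by decide +kernel), simpleM.1,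
    simpleM.2, fun a => iso3.ne (u := [0, 61]) (v := [61, 0]) (by decide +kernel) (by
      simpa using comm_of_cent a (mem_gen (c := 0) (by decide)) (mem_gen (c := 61) (by decide))),
    cardN, le_sup_left, sup_le (normT (by decide +kernel)) (normT (by decide +kernel)), ?_⟩
  · obtain ⟨w, rfl, h2⟩ := iso3.all ivm3 cA (f := fun w => eqW run3 (pw 3 w) [])
      (by decide +kernel) ha
    simpa using iso3.eqW.1 h2
  · rw [card_sup_of_inf a3, a2, iso3.card_enum ivm3 cR]
    · rfl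
    refine eq_bot_iff.2 fun a ha => ?_
    have : (frc (mapL run3 WA) fun V => allL WR fun w => imp2 (inV run3 V w) (eqW run3 w [])) = true := by
      decide +kernel
    rw [frc_eq] at this
    obtain ⟨w, rfl, h2⟩ := iso3.all ivm3 cR this ha.2
    exact iso3.eqW.1 (imp2_true.1 h2 (iso3.not_memV ivm3 cA ha.1))

end H15.Sz.U
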