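import Mathlib
import Cfsg.Agent.H15.SzU2

/-!
# The three-local structure of a group of Suzuki type
-/

set_option autoImplicit false
set_option maxRecDepth 100000
set_option Elab.async false
set_option linter.unusedSectionVars false

namespace H15.Sz.U

open H29 H24 Subgroup KM XP
open scoped commutatorElement

variable {G : Type*} [Group G] [Finite G]

theorem Cfg.syl {t : G} {A M R : Subgroup G} (h : Cfg t A M R) (hG : Nat.card G = 448345497600)
    {P : Subgroup G} (hP : Syl 3 N[zpowers t] P) : ¬ 3 ∣ P.index ∧ ∃ A : Subgroup G, A ≤ P ∧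
      Cfsg.IsElementaryAbelian 3 A ∧ Nat.card A = 3 ^ 5 ∧ C[A] = A ∧
      ∃ _ : (A.subgroupOf N[A]).Normal, Cfsg.Spor.IsoM11 (N[A] ⧸ A.subgroupOf N[A]) := by
  obtain ⟨g, -, a⟩ := Sylow_Jsub Nat.prime_three hP (isPi_of_card Nat.prime_three h.cR) h.RN
  have b := h.map (MulAut.conj g)
  refine ⟨fun c => ?_, _, b.AR.trans a, ⟨b.ab, b.ex⟩, b.cA, b.fin⟩
  have := Nat.mul_dvd_mul (H24.card_dvd a) c
  rw [P.card_mul_index, hG, card_cj, h.cR] at this
  omega

theorem cD : (allL WP fun w => or2 (eqL w []) (or2 (not1 (eqW run3 (pw 3 w) []))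
    (or2 (anyL [[], [55], [56]] fun g => or2 (eqW run3 (app g [9]) (app w g))
      (eqW run3 (app g [10]) (app w g))) (anyL DP fun p => and2 (eqL p.1 w) (and2 (Nat.ble 9 (lenL p.2))
        (incr (mapL (fun n => frc (mw Ql n) fun q =>
          run3 (app q (app w (app (invW iv3 q) (invW iv3 w))))) p.2) 0)))))) = true := by
  decide +kernel

theorem exists_cfg {z : G} (hz : orderOf z = 2) (Q : Subgroup C{z}) [Q.Normal]
    (hF : Cfsg.generalizedFittingSubgroup C{z} = Q)
    (hQ : Cfsg.IsExtraspecial 2 Q) (hcard : Nat.card Q = 2 ^ 7)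
    (f : C{z} ⧸ Q ≃* Cfsg.Omega (ZMod 2) (Cfsg.quadFormMinus 2 (ZMod 2) 1 1))
    (hn : ∃ g : G, (∃ hq : g * z * g⁻¹ ∈ C{z}, (⟨g * z * g⁻¹, hq⟩ : C{z}) ∈ Q) ∧ g * z * g⁻¹ ≠ z)
    (X : Subgroup C{z}) (hX : Nat.card X = 3) (hQX : Nat.card ↥⁅Q, X⁆ = 8) :
    Nat.card G = 448345497600 ∧
      ∃ (t : G) (A M R : Subgroup G), X.map C{z}.subtype = zpowers t ∧ Cfg t A M R := by
  obtain ⟨φ, rfl⟩ := recog' hz Q (hF ▸ H23.centralizer_fstar_le) hQ hcard f hn
  refine ⟨by rw [← Nat.card_congr φ.toEquiv, Suz.card.1], ?_⟩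
  have hC : Nat.card C{φ (m 0)} = 3317760 := by
    rw [card_eq_card_quotient_mul_card_subgroup Q, Nat.card_congr f.toEquiv, card_omega6m, hcard]
    rfl
  let e : ℕ → G := fun c => φ.toMonoidHom (m3 c)
  have iso : Iso run3 e := iso3.map _ φ.injective
  have hi : IvOK e iv3 := ivOK_map ivm3 _
  have e0 : e 0 = φ (m 0) := congrArg φ (m3_lt (by norm_num))
  have k : ∀ l, (∀ c ∈ l, c < 37) → gen e l = (gen mH l).map φ.toMonoidHom := fun l hl => by
    rw [map_gen]
    exact gen_congr fun c hc => congrArg φ ((m3_lt (by have := hl c hc; omega)).trans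
      (tr_lt m (hl c hc)).symm)
  have kc : ∀ {l}, chkC run3 l [0] = true → gen e l ≤ C{φ (m 0)} := fun a => by
    simpa [e0] using iso.cent a
  have a1 : gen e HL = C{φ (m 0)} := eq_of_card_eq (kc (by decide +kernel)) (by
    rw [hC, k _ (by decide), card_map_of_injective φ.injective, mz0.card])
  have a2 : gen e Ql ⊴ C{φ (m 0)} := ⟨kc (by decide +kernel), by
    rw [← a1, k _ (by decide), k _ (by decide), ← genQ0]; exact norm_map normQ0 _⟩
  have a3 : gen e Ql ≤ Q.map C{φ (m 0)}.subtype := by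
    have := Fact.mk Nat.prime_two
    have b : IsPGroup 2 ((gen e Ql).subgroupOf C{φ (m 0)}) := IsPGroup.of_card (n := 7) (by
      rw [card_subgroupOf_of_le a2.1, k _ (by decide), card_map_of_injective φ.injective, pcQ.card]
      rfl)
    have c := (H2.le_fitting a2.normal b.isNilpotent).trans (H23.fitting_le_fstar _)
    rw [hF] at c
    exact fun y hy => ⟨⟨y, a2.1 hy⟩, c hy, rfl⟩
  have a4 := iso.card_enum hi cP
  have a5 : gen e Pl ≤ C{φ (m 0)} := kc (by decide +kernel)
  have a6 : Syl 3 C{φ (m 0)} (gen e Pl) := Syl.mk' Nat.prime_three a5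
    (isPi_of_card Nat.prime_three (n := 4) a4) (by
      have := card_mul_relIndex a5
      rw [a4, hC, show WP.length = 81 from rfl] at this
      omega)
  have b1 : Nat.card (X.map C{φ (m 0)}.subtype) = 3 := by
    rw [card_map_of_injective (subtype_injective _), hX]
  obtain ⟨g, b2, b3⟩ := Sylow_Jsub Nat.prime_three a6 (isPi_of_card_prime Nat.prime_three b1)
    (map_subtype_le X)
  have b4 : Nat.card (cj g (X.map C{φ (m 0)}.subtype)) = 3 := by rw [card_cj, b1]
  obtain ⟨x, b5, b6⟩ := exists_orderOf_eq Nat.prime_three b4.symm.dvd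
  have b7 : x ≠ 1 := fun a => by simp [a] at b6
  have b8 := zpowers_eq_of_prime (b4 ▸ Nat.prime_three) b5 b7
  obtain ⟨w, rfl, b9⟩ := iso.all hi cP cD (b3 b5)
  have fin : ∀ y : G, zpowers (ev e w) = zpowers (y * e 9 * y⁻¹) →
      ∃ (t : G) (A M R : Subgroup G), X.map C{φ (m 0)}.subtype = zpowers t ∧ Cfg t A M R :=
    fun y a => ⟨_, _, _, _, by
      rw [← cj_eq_iff.1 b8.symm |>.symm, a, cj_zpowers]; simp [e, mul_assoc],
      (cfg.map φ).map (MulAut.conj (g⁻¹ * y))⟩
  simp only [or2_true, not1_true, anyL_true, and2_true, iso.eqW, app_eq, ev_append, ev_pw, ev_cons,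
    ev_nil, mul_one, ble_true, lenL_eq, frc_eq] at b9
  rcases b9 with a | a | ⟨y, -, a | a⟩ | ⟨p, -, -, c1, c2⟩
  · exact absurd (by rw [eqL_true a]; rfl) b7
  · exact absurd (b6 ▸ pow_orderOf_eq_one _) a
  · exact fin (ev e y) (by rw [a]; simp)
  · refine fin (ev e y) ?_
    rw [← zpowers_inv (g := _ * _ * _), conj_inv, ← show e 10 = _ from hi 9, a]; simp
  · have := iso.le_card (K := ⁅Q.map C{φ (m 0)}.subtype, cj g (X.map C{φ (m 0)}.subtype)⁆)
      (W := p.2.map fun n => mw Ql n ++ (w ++ (invW iv3 (mw Ql n) ++ invW iv3 w))) (fun u hu => by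
        obtain ⟨n, -, rfl⟩ := List.mem_map.1 hu
        simpa [ev_invW hi, commutatorElement_def, mul_assoc] using
          commutator_mem_commutator (a3 (ev_mem_gen (mem_mw Ql n))) b5)
      (by simpa [Function.comp_def] using c2)
    rw [← cj_of_mem_N ((nml_map_subtype Q).norm b2), ← cj_comm, card_cj, ← map_commutator,
      card_map_of_injective (subtype_injective _), hQX, List.length_map] at this
    omega

end H15.Sz.U
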