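import Mathlib
import Cfsg.Agent.H15.XAK

/-!
# Centralizer of order 192 as in `A₈`: the frame
-/

set_option autoImplicit false
set_option maxRecDepth 100000
set_option synthInstance.maxSize 4000
set_option linter.all false

namespace H15.XA

open H29 H7.Cay H7.X32 Subgroup H24 H6.XS

universe u

variable {G : Type u} [Group G] {e e' : ℕ → G} {g c : G} {m m' a : ℕ}

theorem cjc {a b x y w : G} (h1 : b * x * b⁻¹ = y) (h2 : a * y * a⁻¹ = w) :
    a * b * x * (a * b)⁻¹ = w := by rw [← h2, ← h1]; group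

theorem cjm {a x y x' y' : G} (h1 : a * x * a⁻¹ = x') (h2 : a * y * a⁻¹ = y') :
    a * (x * y) * a⁻¹ = x' * y' := by rw [← h2, ← h1]; group

theorem xlt {a b : ℕ} (ha : a < 16) (hb : b < 16) : a ^^^ b < 16 := Nat.xor_lt_two_pow (n := 4) ha hb

theorem actA (h : EV e) (ha : a < 16) (hg : Act e g m) : Act e (e a * g) m := fun x hx => by
  rw [show e a * g * e x * (e a * g)⁻¹ = e a * (g * e x * g⁻¹) * (e a)⁻¹ by group, hg x hx,
    h.comm ha (lin_lt _ _), mul_inv_cancel_right]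

theorem mulsq (h : EV e) (ha : a < 16) (hg : Act e g m) :
    e a * g * (e a * g) = e (a ^^^ lin m a) * (g * g) := by
  rw [h _ ha _ (lin_lt _ _), ← hg a ha]; group

theorem cube (h : EV e) (ha : a < 16) (hg : Act e g m) (h3 : g * g * g = 1)
    (h0 : a ^^^ lin m a ^^^ lin m (lin m a) = 0) : e a * g * (e a * g) * (e a * g) = 1 := by
  have := h.zero
  rw [← h0, h _ (xlt ha (lin_lt _ _)) _ (lin_lt _ _), h _ ha _ (lin_lt _ _), ← hg _ (lin_lt _ _),
    ← hg a ha] at this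
  calc _ = e a * (g * e a * g⁻¹) * (g * (g * e a * g⁻¹) * g⁻¹) * (g * g * g) := by group
    _ = 1 := by rw [this, h3, one_mul]

theorem conv {μ : ℕ} (hμ : ∀ x < 16, e' x = e (lin μ x)) (hg : Act e g m)
    (hm : ∀ x < 16, lin μ (lin m' x) = lin m (lin μ x)) : Act e' g m' := fun x hx => by
  rw [hμ x hx, hμ _ (lin_lt _ _), hm x hx, hg _ (lin_lt _ _)]

theorem act_eq (hg : Act e g m) (hm : ∀ x < 16, lin m x = lin m' x) : Act e g m' := fun x hx =>
  hm x hx ▸ hg x hx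

theorem act_inv (hg : Act e g m) (hm : ∀ x < 16, lin m (lin m' x) = x) : Act e g⁻¹ m' :=
  fun x hx => by
    conv_lhs => rw [← hm x hx, ← hg _ (lin_lt _ _)]
    group

/-- the images of the elements of `A` -/
noncomputable def ee (ι : KA →* G) (x : ℕ) : G := ι (ea x)

theorem ev_ee (ι : KA →* G) : EV (ee ι) := ev_ea.map ι

theorem act_ι (ι : KA →* G) {x : KA} (h : Act ea x m) : Act (ee ι) (ι x) m := h.map ι

theorem ax1 : Act ea x1 0xa521 := by unfold Act; decide +kernel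
theorem ax3 : Act ea x3 0x8c23 := by unfold Act; decide +kernel

theorem emul (ι : KA →* G) {a b c : ℕ} (h : ea a * ea b = ea c := by decide +kernel) :
    ee ι a * ee ι b = ee ι c := by rw [ee, ee, ← map_mul, h]; rfl

/-- an element of order three in the normalizer of `⟨z, v⟩` -/
structure Cc (ι : KA →* G) (c : G) (m : ℕ) : Prop where
  c3 : c * c * c = 1
  x1 : c * ι x1 * c⁻¹ = ι x1
  x3 : ι x3 * c * (ι x3 * c) = 1
  act : Act (ee ι) c m

variable [Finite G] {D : Set G} {Q : G → Subgroup G} {ι : KA →* G}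

/-- the frame -/
structure Em (D : Set G) (Q : G → Subgroup G) (ι : KA →* G) : Prop where
  sit : Sit D Q 2
  hz : ee ι 2 ∈ D
  inj : Function.Injective ι
  rng : ∀ g, g ∈ C{ee ι 2} ↔ ∃ x, ι x = g
  mq : ∀ x, ι x ∈ Q (ee ι 2) ↔ x.val < 32

namespace Em

variable (E : Em D Q ι)
include E

theorem comp {f : KA →* KA} (h1 : f (ea 2) = ea 2) (h2 : ∀ x, (f x).val < 32 ↔ x.val < 32) :
    Em D Q (ι.comp f) := by
  have e : ee (ι.comp f) 2 = ee ι 2 := congrArg ι h1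
  have i : Function.Injective f := KA.mono.inj f (by
    rw [show KA.z = ea 2 by decide +kernel, h1]; decide +kernel)
  refine ⟨E.sit, e ▸ E.hz, E.inj.comp i, fun g => ?_, fun x => ?_⟩ <;> rw [e]
  · rw [E.rng]
    exact ⟨fun ⟨x, h⟩ => by
      obtain ⟨y, rfl⟩ := Finite.injective_iff_surjective.1 i x
      exact ⟨y, h⟩, fun ⟨x, h⟩ => ⟨_, h⟩⟩
  · exact (E.mq _).trans (h2 x)

theorem cal : Em D Q (ι.comp al) := E.comp (by decide +kernel) (by decide +kernel)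
theorem csi : Em D Q (ι.comp si) := E.comp (by decide +kernel) (by decide +kernel)
theorem cga : Em D Q (ι.comp ga) := E.comp (by decide +kernel) (by decide +kernel)
theorem cde : Em D Q (ι.comp de) := E.comp (by decide +kernel) (by decide +kernel)

theorem einj {x y : ℕ} (hx : x < 16) (hy : y < 16) (h : ee ι x = ee ι y) : x = y :=
  ea_inj x hx y hy (E.inj h)

theorem code (h : g * ee ι 2 * g⁻¹ = ee ι 2) : ∃ x, ι x = g := (E.rng g).1 (mem_C1_iff_conj.2 h)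

theorem ιz (x : KA) : ι x * ee ι 2 * (ι x)⁻¹ = ee ι 2 := mem_C1_iff_conj.1 ((E.rng _).2 ⟨x, rfl⟩)

theorem cj {x y w : KA} (h : ι x * ι y * (ι x)⁻¹ = ι w) : x * y * x⁻¹ = w := E.inj (by simpa using h)

theorem uniq (h : Act (ee ι) g m) (h' : Act (ee ι) g m') : ∀ x < 16, lin m x = lin m' x :=
  fun x hx => E.einj (lin_lt _ _) (lin_lt _ _) ((h x hx).symm.trans (h' x hx))

theorem fixz (h : Act (ee ι) g m) (h2 : lin m 2 = 2) :
    mk4 (lin m 1) 2 (lin m 4) (lin m 8) ∈ [0x8421, 0xa521, 0x8c23, 0xaf23] := by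
  obtain ⟨x, rfl⟩ := E.code (g := g) (by rw [h 2 (by decide), h2])
  exact k_fix x _ (lin_lt _ _) (E.cj (h 1 (by decide))) _ (lin_lt _ _) (E.cj (h 4 (by decide))) _
    (lin_lt _ _) (E.cj (h 8 (by decide)))

theorem CA (h : Act (ee ι) g m) (h2 : ∀ x < 16, lin m x = x) : ∃ a < 16, g = ee ι a := by
  have k : ∀ x < 16, g * ee ι x * g⁻¹ = ee ι x := fun x hx => by rw [h x hx, h2 x hx]
  obtain ⟨x, rfl⟩ := E.code (k 2 (by decide))
  obtain ⟨a, ha, rfl⟩ := k_CA x (E.cj (k 1 (by decide))) (E.cj (k 4 (by decide)))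
    (E.cj (k 8 (by decide)))
  exact ⟨a, ha, rfl⟩

theorem fin_c (h3 : c * c * c = 1) (h : Act (ee ι) c m) (ha : a < 16)
    (hx : ee ι a * (c * ι x1 * c⁻¹) * (ee ι a)⁻¹ = ι x1)
    (k1 : ∀ a < 16, a ^^^ lin m a ^^^ lin m (lin m a) = 0)
    (k2 : ∀ x < 16, lin (cmp (cmp 0x8c23 m) (cmp 0x8c23 m)) x = x)
    (k3 : ∀ a < 16, lin 0xa521 a = a → lin (cmp 0x8c23 m) a = a → ∃ u < 16, lin 0xa521 u = u ∧
      lin 0x8c23 u ^^^ lin (cmp 0x8c23 m) (lin 0x8c23 u) ^^^ a = 0) : ∃ c, Cc ι c m := by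
  have V := ev_ee ι
  have h3 := cube V ha h h3 (k1 a ha)
  have h := actA V ha h
  have hx : ee ι a * c * ι x1 * (ee ι a * c)⁻¹ = ι x1 := cjc rfl hx
  generalize ee ι a * c = c at h3 h hx
  have a1 := act_ι ι ax1
  have a3 := act_ι ι ax3
  have b := a3.mul V h
  obtain ⟨a, ha, e⟩ := E.CA (b.mul V b) k2
  have c1 : ι x3 * c * ι x1 * (ι x3 * c)⁻¹ = ι x1 := by
    rw [show ι x3 * c * ι x1 * (ι x3 * c)⁻¹ = ι x3 * (c * ι x1 * c⁻¹) * (ι x3)⁻¹ by group, hx,
      ← map_inv, ← map_mul, ← map_mul]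
    exact congrArg ι (by decide +kernel)
  obtain ⟨u, hu, u1, u2⟩ := k3 a ha (E.einj (lin_lt _ _) ha (by
    rw [← a1 a ha, ← e, mul_inv_eq_iff_eq_mul] at *
    rw [← mul_assoc, ← c1, mul_assoc, ← c1]; group)) (E.einj (lin_lt _ _) ha (by
    rw [← b a ha, ← e]; group))
  refine ⟨_, cube V hu h h3 (k1 u hu), ?_, ?_, actA V hu h⟩
  · have := a1 u hu
    rw [u1, mul_inv_eq_iff_eq_mul] at this
    rw [show ee ι u * c * ι x1 * (ee ι u * c)⁻¹ = ee ι u * (c * ι x1 * c⁻¹) * (ee ι u)⁻¹ by group, hx,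
      ← this, mul_inv_cancel_right]
  · rw [show ι x3 * (ee ι u * c) = ι x3 * ee ι u * (ι x3)⁻¹ * (ι x3 * c) by group, a3 u hu,
      mulsq V (lin_lt _ _) b, e, ← V _ (xlt (lin_lt _ _) (lin_lt _ _)) _ ha, u2, V.zero]

omit E in
theorem cy3 (h2 : c * ee ι 2 * c⁻¹ = ee ι 1) (h1 : c * ee ι 1 * c⁻¹ = ee ι 3) :
    c * ee ι 3 * c⁻¹ = ee ι 2 := by
  rw [← emul ι (a := 1) (b := 2) (c := 3), cjm h1 h2, emul ι (c := 2)]

theorem exists_c (h1 : ee ι 1 ∈ D) : ∃ c, Cc ι c 0x4c13 ∨ Cc ι c 0x6f13 := by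
  have V := ev_ee ι
  obtain ⟨g, -, g1, g2⟩ := E.sit.swap E.hz h1 ((E.mq _).2 (by decide +kernel))
    fun e => absurd (E.einj (by decide) (by decide) e) (by decide)
  have a3 := act_ι ι ax3
  have c2 : g * ι x3 * ee ι 2 * (g * ι x3)⁻¹ = ee ι 1 := cjc (a3 2 (by decide)) g1
  have c1 : g * ι x3 * ee ι 1 * (g * ι x3)⁻¹ = ee ι 3 :=
    cjc ((a3 1 (by decide)).trans (emul ι (a := 1) (b := 2)).symm) ((cjm g2 g1).trans (emul ι))
  generalize g * ι x3 = c at c1 c2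
  have c3 := cy3 c2 c1
  have d2 : c * c * c * ee ι 2 * (c * c * c)⁻¹ = ee ι 2 := mul_assoc c c c ▸ cjc (cjc c2 c1) c3
  have d1 : c * c * c * ee ι 1 * (c * c * c)⁻¹ = ee ι 1 := mul_assoc c c c ▸ cjc (cjc c1 c3) c2
  obtain ⟨x, hx⟩ := E.code d2
  have h4 := congrArg ι (k_four x (E.cj (hx ▸ d1)))
  simp only [map_mul, map_one, hx] at h4
  have h3 : c * (c * c * c) * (c * (c * c * c)) * (c * (c * c * c)) = 1 := by rw [← h4]; group
  have c2 : c * (c * c * c) * ee ι 2 * (c * (c * c * c))⁻¹ = ee ι 1 := cjc d2 c2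
  have c1 : c * (c * c * c) * ee ι 1 * (c * (c * c * c))⁻¹ = ee ι 3 := cjc d1 c1
  generalize c * (c * c * c) = c at c1 c2 h3
  have c3 := cy3 c2 c1
  have key : ∀ r : KA, r * ea 1 * r⁻¹ = ea 1 → r * ea 3 * r⁻¹ = ea 3 →
      ∃ r', ι r' = c * ι r * c⁻¹ ∧ r' * ea 1 * r'⁻¹ = ea 1 := fun r r1 r3 => by
    obtain ⟨r', hr⟩ := E.code (g := c * ι r * c⁻¹) (by
      rw [← c3, ee]; nth_rw 2 [← r3]; simp only [map_mul, map_inv]; group)
    refine ⟨r', hr, E.cj ?_⟩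
    rw [hr]
    change _ * ee ι 1 * _ = ee ι 1
    rw [← c2]; nth_rw 2 [← E.ιz r]; group
  obtain ⟨p, p1, p2⟩ := key x1 (by decide +kernel) (by decide +kernel)
  obtain ⟨q, q1, q2⟩ := key (ea 4) (by decide +kernel) (by decide +kernel)
  obtain ⟨q', r1, r2⟩ := key (ea 8) (by decide +kernel) (by decide +kernel)
  have sq : ∀ {r r' : KA}, ι r' = c * ι r * c⁻¹ → r * r = 1 → r' * r' = 1 := fun {r r'} h h' =>
    E.inj (by rw [map_mul, h, conj_mul, ← map_mul, h']; simp)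
  obtain ⟨⟨a, ha, e⟩, ⟨u, hu, rfl⟩, u', hu', rfl⟩ := k_R p p2 (sq p1 (by decide +kernel)) q q2
    (sq q1 (by decide +kernel)) (E.inj (by
      have := congrArg ι (show x1 * ea 4 * x1⁻¹ = ea 4 * ea 1 by decide +kernel)
      simp only [map_mul, map_inv] at this ⊢
      rw [p1, q1, show ι (ea 3) = _ from c1.symm, ee, conj_mul (a := ι (ea 4)), ← this]; group)) q' r2
    (sq r1 (by decide +kernel)) (E.inj (by
      have := congrArg ι (show x1 * ea 8 * x1⁻¹ = ea 8 * ea 2 by decide +kernel)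
      simp only [map_mul, map_inv] at this ⊢
      rw [p1, r1, show ι (ea 1) = _ from c2.symm, ee, conj_mul (a := ι (ea 8)), ← this]; group)) (E.inj (by
      rw [map_mul, map_mul, q1, r1, conj_mul, conj_mul]
      exact congrArg (c * · * c⁻¹) (V.comm (by decide) (by decide))))
  have h := V.act_mk (by decide) (by decide) (by omega) (by omega) c1 c2 q1.symm r1.symm
  have hx : ee ι a * (c * ι x1 * c⁻¹) * (ee ι a)⁻¹ = ι x1 := by
    rw [← p1, ← e]; simp [ee]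
  have k : ∀ u < 4, ∀ u' < 4, lit (mk4 3 1 (12 + u) (4 + u')) fun m =>
      lit (cmp (cmp 0x8c23 m) (cmp 0x8c23 m)) fun M => lin M 2 = 2 ∧
      ((∀ x < 16, lin (cmp (cmp m m) m) x = lin idm x) →
      mk4 (lin M 1) 2 (lin M 4) (lin M 8) ∈ [0x8421, 0xa521, 0x8c23, 0xaf23] →
      m = 0x4c13 ∨ m = 0x6f13) := by simp only [lit_eq]; decide +kernel
  have k := k u hu u' hu'
  simp only [lit_eq] at k
  have b := a3.mul V h
  rcases k.2 (E.uniq ((h.mul V h).mul V h) (h3 ▸ act_one _)) (E.fixz (b.mul V b) k.1) with k | k <;>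
    rw [k] at h
  · exact (E.fin_c h3 h ha hx (by decide +kernel) (by decide +kernel) (by decide +kernel)).imp
      fun _ => Or.inl
  · exact (E.fin_c h3 h ha hx (by decide +kernel) (by decide +kernel) (by decide +kernel)).imp
      fun _ => Or.inr

end Em

end H15.XA
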