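import Mathlib
import Cfsg.Agent.H15.XA1
import Cfsg.Agent.H26.GMain

/-!
# Centralizer of order 192 as in `A₈`: the amalgam
-/

set_option autoImplicit false
set_option maxRecDepth 100000
set_option synthInstance.maxSize 4000
set_option linter.all false

namespace H15.XA

open H29 H7.Cay H7.X32 Subgroup H24 H6.XS

theorem k_cl : ∀ x : KA, x * x = 1 → (∃ a < 16, eb a = x) ∨ ∃ k : KA, k * x * k⁻¹ = ea 8 ∨
    k * x * k⁻¹ = ea 9 ∨ k * x * k⁻¹ = ea 4 ∨ k * x * k⁻¹ = ea 6 := by decide +kernel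
theorem k_cq : ∀ x : KA, x * x = 1 → x.val < 32 → x = 1 ∨ x = ea 2 ∨ ∃ k : KA, k * x * k⁻¹ = ea 1 ∨
    k * x * k⁻¹ = ea 8 ∨ k * x * k⁻¹ = ea 9 := by decide +kernel
theorem k_nE : ∀ x : KA, ∀ a < 16, ∃ b < 16, eb b = x * eb a * x⁻¹ := by decide +kernel
theorem k_E : ∀ a < 16, eb a = 1 ∨ ∃ k : KA, k * ea 1 * k⁻¹ = eb a ∨ ea 2 = eb a := by decide +kernel
theorem k_CE : ∀ x : KA, x * eb 1 * x⁻¹ = eb 1 → x * eb 4 * x⁻¹ = eb 4 → ∃ a < 16, x = eb a := by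
  decide +kernel

universe u

variable {G : Type u} [Group G] {e : ℕ → G} {g c r : G} {m m' a : ℕ}

/-- the subgroup of the values -/
def esub (h : EV e) : Subgroup G where
  carrier := {g | ∃ a < 16, e a = g}
  one_mem' := ⟨0, by decide, h.zero⟩
  mul_mem' := by
    rintro _ _ ⟨a, ha, rfl⟩ ⟨b, hb, rfl⟩
    exact ⟨_, xlt ha hb, h a ha b hb⟩
  inv_mem' := by
    rintro _ ⟨a, ha, rfl⟩
    exact ⟨a, ha, eq_inv_of_mul_eq_one_left (h.sq ha)⟩

theorem pi2 (h : g * g * g * g = 1) : PiElt {2} g :=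
  piElt_of_pow_eq_one (n := 2 * 2) ((piNat_self Nat.prime_two).mul (piNat_self Nat.prime_two))
    (by rw [← h]; simp [pow_succ])

theorem pi2' (h : g * g = 1) : PiElt {2} g := pi2 (by rw [mul_assoc (g * g), h, one_mul])

theorem esub_pi [Finite G] (h : EV e) : IsPi {2} (esub h) := isPi_iff_piElt.2 (by
  rintro _ ⟨a, ha, rfl⟩; exact pi2' (h.sq ha))

theorem Cc.cv {ι ι' : KA →* G} (C : Cc ι c m) (h1 : ι' XA.x1 = ι XA.x1) (h3 : ι' XA.x3 = ι XA.x3)
    {μ : ℕ} (hμ : ∀ x < 16, ee ι' x = ee ι (lin μ x))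
    (hm : ∀ x < 16, lin μ (lin m' x) = lin m (lin μ x)) : Cc ι' c m' :=
  ⟨C.c3, h1 ▸ C.x1, h3 ▸ C.x3, conv hμ C.act hm⟩

theorem actal {ι : KA →* G} (C : Act (ee (ι.comp al)) r m)
    (hm : ∀ x < 16, lin 0x1428 (lin m' x) = lin m (lin 0x1428 x)) : Act (ee ι) r m' :=
  conv (e := ee (ι.comp al)) (μ := 0x1428) (fun x hx => congrArg ι
    ((by decide +kernel : ∀ x < 16, ea x = al (ea (lin 0x1428 x))) x hx)) C hm

variable [Finite G] {D : Set G} {Q : G → Subgroup G} {ι : KA →* G}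

/-- the amalgam -/
structure St (D : Set G) (Q : G → Subgroup G) (ι : KA →* G) (r c : G) : Prop extends Em D Q ι where
  cc : Cc ι c 0x4c13
  cr : Cc (ι.comp al) r 0x4c13
  rc : r * c * r⁻¹ = c
  nb : ee ι 9 ∉ D

namespace Em

variable (E : Em D Q ι)
include E

theorem Dcj {x y : KA} (hx : ι x ∈ D) (h : ∃ k : KA, k * x * k⁻¹ = y := by decide +kernel) :
    ι y ∈ D := by
  obtain ⟨k, rfl⟩ := h
  simpa using E.sit.conj _ hx (ι k)

theorem Dcj' {x y k : KA} (hx : ι x ∈ D) (h : k * x * k⁻¹ = y) : ι y ∈ D := E.Dcj hx ⟨k, h⟩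

theorem Dof {x y : G} (h : g * x * g⁻¹ = y) (hy : y ∈ D) : x ∈ D := by
  have := E.sit.conj _ hy g⁻¹
  rwa [← h, show g⁻¹ * (g * x * g⁻¹) * g⁻¹⁻¹ = x by group] at this

theorem sq {x : KA} (hx : ι x ∈ D) : x * x = 1 := E.inj (by simpa using E.sit.sq hx)

theorem ene {x : ℕ} (hx : x < 16) (h0 : x ≠ 0) : ee ι x ≠ 1 := fun h =>
  h0 (E.einj hx (by decide) (h.trans (ev_ee ι).zero.symm))

theorem eord {x : ℕ} (hx : x < 16) (h0 : x ≠ 0) : orderOf (ee ι x) = 2 :=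
  orderOf_eq_prime (by rw [pow_two, (ev_ee ι).sq hx]) (E.ene hx h0)

theorem one [IsSimpleGroup G] (h1 : ee ι 1 ∈ D) : ee ι 8 ∈ D ∨ ee ι 9 ∈ D := by
  by_contra hn
  obtain ⟨h8, h9⟩ := not_or.1 hn
  have h11 : ee ι 11 ∉ D := fun h => h9 (E.Dcj h)
  have : ee ι 4 ∉ D ∧ ee ι 6 ∉ D := by
    obtain ⟨c, C | C⟩ := E.exists_c h1
    · exact ⟨fun h => h8 (E.Dof (C.act 8 (by decide)) h), fun h => h11 (E.Dof (C.act 11 (by decide)) h)⟩
    · exact ⟨fun h => h11 (E.Dof (C.act 11 (by decide)) h), fun h => h8 (E.Dof (C.act 8 (by decide)) h)⟩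
  have V := ev_eb.map ι
  obtain ⟨S, -, hS⟩ := E.sit.exists_sylow E.hz
  have hS : ∀ s ∈ S, ∃ x, ι x = s := fun s hs => (E.rng s).1 (mem_C1.2 (hS s hs).eq)
  have hS' := syl_top_of_sylow Nat.prime_two S
  have n : ∀ x, ι x ∈ N[esub V] := fun x => mem_N_of_finite (by
    rintro _ ⟨a, ha, rfl⟩
    obtain ⟨b, hb, e⟩ := k_nE x a ha
    exact ⟨b, hb, by simp [e]⟩)
  have l : ∀ {K : Subgroup G}, (∀ x, ι x ∈ N[K]) → IsPi {2} K → K ≤ S := fun h h' =>
    hS'.le_of_norm' h' le_top fun s hs => by obtain ⟨x, rfl⟩ := hS s hs; exact h x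
  rcases H26.Gold.goldschmidt hS' (A := esub V) (ne_bot_of_mem ⟨1, by decide, rfl⟩ (E.ene (x := 1)
    (by decide) (by decide))) (abl_iff.2 (le_C_iff.2 (by
      rintro _ ⟨a, ha, rfl⟩ _ ⟨b, hb, rfl⟩; exact V.comm ha hb))) ⟨l n (esub_pi V), by
      rintro _ ⟨a, ha, rfl⟩ g hg
      obtain ⟨x, hx⟩ := hS _ hg
      rcases k_E a ha with k | ⟨k, hk⟩
      · simp only [k, map_one, mul_one, mul_inv_cancel, one_mem]
      have d : ι x ∈ D := hx ▸ E.sit.conj _ (hk.elim (E.Dcj' h1) fun e => e ▸ E.hz) g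
      rcases k_cl x (E.sq d) with ⟨b, hb, rfl⟩ | ⟨k, e | e | e | e⟩
      exacts [⟨b, hb, hx⟩, absurd (E.Dcj' d e) h8, absurd (E.Dcj' d e) h9,
        absurd (E.Dcj' d e) this.1, absurd (E.Dcj' d e) this.2]⟩ with h | ⟨H, h⟩
  · have := l (fun x => E.sit.norm E.hz ((E.rng _).2 ⟨x, rfl⟩))
      (isPi_of_isPGroup Nat.prime_two (E.sit.two E.hz))
    obtain ⟨x, hx, y, hy, k⟩ := E.sit.not_abl E.hz
    exact k (h.comm (this hx) (this hy))
  · obtain ⟨g, e⟩ := isConj_iff.1 (H6.isConj_of_isStronglyEmbedded h (E.sit.ord E.hz)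
      (E.eord (x := 8) (by decide) (by decide)))
    exact h8 (e ▸ E.sit.conj _ E.hz g)

theorem no_word {gs : List G} {ms : List ℕ} (h : List.Forall₂ (Act (ee ι)) gs ms) (w : List ℕ)
    (k : lit (wd (nth idm ms) w) fun m => lin m 2 = 2 ∧
      mk4 (lin m 1) 2 (lin m 4) (lin m 8) ∉ [0x8421, 0xa521, 0x8c23, 0xaf23]) : False :=
  k.2 (E.fixz (Act.word (ev_ee ι) (act_nth h) w) k.1)

theorem three (C : Cc ι c 0x4c13) (R : Cc (ι.comp al) r 0x4c13) : ∃ c, St D Q ι r c := by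
  have V := ev_ee ι
  have ar : Act (ee ι) r 0xa584 := actal R.act (by decide +kernel)
  have a1 := act_ι ι ax1
  have a3 := act_ι ι ax3
  have nb : ee ι 9 ∉ D := fun h => by
    have k : ∀ {g m m'}, Act (ee (ι.comp de)) g m →
        (∀ x < 16, lin 0x8c29 (lin m' x) = lin m (lin 0x8c29 x)) → Act (ee ι) g m' := fun C hm =>
      conv (e := ee (ι.comp de)) (μ := 0x8c29) (fun x hx => congrArg ι
        ((by decide +kernel : ∀ x < 16, ea x = de (ea (lin 0x8c29 x))) x hx)) C hm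
    obtain ⟨d, F | F⟩ := E.cde.exists_c (E.Dcj h (y := de (ea 1)))
    · exact E.no_word (.cons C.act (.cons ar (.cons a1 (.cons a3 (.cons (k (m' := 0xc897) F.act
        (by decide +kernel)) .nil))))) [0, 1, 1, 4, 1] (by rw [lit_eq]; decide +kernel)
    · exact E.no_word (.cons C.act (.cons ar (.cons a1 (.cons a3 (.cons (k (m' := 0xe195) F.act
        (by decide +kernel)) .nil))))) [0, 0, 1, 4, 0] (by rw [lit_eq]; decide +kernel)
  obtain ⟨a, ha, e⟩ := E.CA ((((ar.mul V C.act).mul V (act_inv ar (m' := 0x21a5) (by decide +kernel))).mul V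
    (act_inv C.act (m' := 0xc832) (by decide +kernel)))) (by decide +kernel)
  have e : r * c * r⁻¹ = ee ι a * c := mul_inv_eq_iff_eq_mul.1 e
  have s1 : ι x1 * ι x1 = 1 := by rw [← map_mul, show x1 * x1 = 1 by decide +kernel, map_one]
  have s3 : ι x3 * ι x3 = 1 := by rw [← map_mul, show x3 * x3 = 1 by decide +kernel, map_one]
  have i : ∀ {x y : G}, x * x = 1 → x * y * (x * y) = 1 → x * y * x⁻¹ = y⁻¹ := fun {x y} h h' => by
    rw [inv_eq_of_mul_eq_one_right h, eq_inv_iff_mul_eq_one, mul_assoc, h']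
  have cm : ∀ {x y : G}, x * y * x⁻¹ = y → y * x * y⁻¹ = x := fun h =>
    mem_C1_iff_conj.1 (mem_C1_comm.1 (mem_C1_iff_conj.2 h))
  have r3 : ι x3 * r * (ι x3)⁻¹ = r :=
    cm ((congrArg ι (by decide +kernel) : ι (al x1) = ι x3) ▸ R.x1)
  have r1 : ι x1 * r * (ι x1)⁻¹ = r⁻¹ :=
    i s1 ((congrArg ι (by decide +kernel) : ι (al x3) = ι x1) ▸ R.x3)
  have k1 : lin 0x4c13 (lin 0x8c23 a) = a := E.einj (lin_lt _ _) ha (by
    have := cjm (a3 a ha) (i s3 C.x3)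
    rw [← e, show ι x3 * (r * c * r⁻¹) * (ι x3)⁻¹ = ι x3 * r * (ι x3)⁻¹ * (ι x3 * c * (ι x3)⁻¹) *
      (ι x3 * r * (ι x3)⁻¹)⁻¹ by group, r3, i s3 C.x3, conj_inv.symm, e] at this
    rw [← C.act _ (lin_lt _ _), mul_assoc, ← this, mul_inv_rev, inv_eq_of_mul_eq_one_right (V.sq ha),
      mul_inv_cancel_left])
  have k2 : lin 0xa584 (lin 0xa521 a) = a := E.einj (lin_lt _ _) ha (by
    have := cjm (a1 a ha) (cm C.x1)
    rw [← e, show ι x1 * (r * c * r⁻¹) * (ι x1)⁻¹ = ι x1 * r * (ι x1)⁻¹ * (ι x1 * c * (ι x1)⁻¹) *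
      (ι x1 * r * (ι x1)⁻¹)⁻¹ by group, r1, cm C.x1] at this
    have k := cjm (ar _ (lin_lt 0xa521 a)) e
    rw [← this, show r * (r⁻¹ * c * r⁻¹⁻¹) * r⁻¹ = c by group, ← mul_assoc, eq_comm,
      mul_eq_right] at k
    rw [eq_inv_of_mul_eq_one_left k, inv_eq_of_mul_eq_one_right (V.sq ha)])
  rcases (by decide +kernel : ∀ a < 16, lin 0x4c13 (lin 0x8c23 a) = a →
    lin 0xa584 (lin 0xa521 a) = a → a = 0 ∨ a = 15) a ha k1 k2 with rfl | rfl
  · exact ⟨c, E, C, R, by rw [e, V.zero, one_mul], nb⟩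
  · refine ⟨ee ι 3 * c, E, ⟨cube V (by decide) C.act C.c3 (by decide +kernel),
      cjc C.x1 (cm (a1 3 (by decide))), ?_, actA V (by decide) C.act⟩, R, ?_, nb⟩
    · rw [show ι x3 * (ee ι 3 * c) = ι x3 * ee ι 3 * (ι x3)⁻¹ * (ι x3 * c) by group, a3 3 (by decide),
        mulsq V (lin_lt _ _) (a3.mul V C.act), C.x3, mul_one, ← V.zero]
      exact congrArg _ (by decide +kernel)
    · rw [cjm (ar 3 (by decide)) e, ← mul_assoc, emul ι (c := 3)]

theorem two (h1 : ee ι 1 ∈ D) (h8 : ee ι 8 ∈ D) : ∃ (ι : KA →* G) (r c : G), St D Q ι r c := by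
  have a1 := act_ι ι ax1
  have a3 := act_ι ι ax3
  obtain ⟨c, C | C⟩ := E.exists_c h1 <;>
    obtain ⟨r, R | R⟩ := E.cal.exists_c (E.Dcj h8 (y := al (ea 1)))
  · exact ⟨ι, r, E.three C R⟩
  · exact (E.no_word (.cons C.act (.cons (actal (m' := 0xaf86) R.act (by decide +kernel)) .nil))
      [0, 1, 0, 1, 0] (by rw [lit_eq]; decide +kernel)).elim
  · exact (E.no_word (.cons C.act (.cons (actal (m' := 0xa584) R.act (by decide +kernel)) .nil))
      [0, 1, 0, 1, 0] (by rw [lit_eq]; decide +kernel)).elim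
  · exact ⟨_, r, E.csi.three (C.cv (μ := 0x8621) (congrArg ι (by decide +kernel))
      (congrArg ι (by decide +kernel)) (fun x hx => congrArg ι
        ((by decide +kernel : ∀ x < 16, si (ea x) = ea (lin 0x8621 x)) x hx)) (by decide +kernel))
      (R.cv (μ := 0x8621) (congrArg ι (by decide +kernel : si (al x1) = al x1))
      (congrArg ι (by decide +kernel : si (al x3) = al x3)) (fun x hx => congrArg ι
        ((by decide +kernel : ∀ x < 16, si (al (ea x)) = al (ea (lin 0x8621 x))) x hx))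
        (by decide +kernel))⟩

theorem st1 [IsSimpleGroup G] (h1 : ee ι 1 ∈ D) : ∃ (ι : KA →* G) (r c : G), St D Q ι r c :=
  (E.one h1).elim (E.two h1) fun h =>
    E.cga.two (E.Dcj h1 (y := ga (ea 1))) (E.Dcj h (y := ga (ea 8)))

theorem exists_st [IsSimpleGroup G] (h : ∃ v ∈ D, v ∈ Q (ee ι 2) ∧ v ≠ ee ι 2) :
    ∃ (ι : KA →* G) (r c : G), St D Q ι r c := by
  obtain ⟨v, h1, h2, h3⟩ := h
  obtain ⟨x, rfl⟩ := (E.rng v).1 (E.sit.le E.hz h2)
  rcases k_cq x (E.sq h1) ((E.mq x).1 h2) with rfl | rfl | ⟨k, e | e | e⟩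
  · exact absurd (map_one ι) (E.sit.ne_one h1)
  · exact absurd rfl h3
  · exact E.st1 (E.Dcj' h1 e)
  · exact E.cal.st1 (E.Dcj (E.Dcj' h1 e) (y := al (ea 1)))
  · exact E.cde.st1 (E.Dcj (E.Dcj' h1 e) (y := de (ea 1)))

theorem braid (C : Cc ι c 0x4c13) (h8 : ee ι 8 ∈ D) (nb : ee ι 9 ∉ D) :
    ι n2 * (c⁻¹ * ι x3 * c) * (ι n2 * (c⁻¹ * ι x3 * c)) * (ι n2 * (c⁻¹ * ι x3 * c)) = 1 := by
  have V := ev_eb.map ι
  have ac : Act (fun x => ι (eb x)) c (mk4 3 1 4 8) := V.act_mk (by decide) (by decide) (by decide)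
    (by decide) (C.act 1 (by decide)) (C.act 2 (by decide)) C.x1 (by
      change c * ι 1 * c⁻¹ = ι 1
      simp)
  have a3 : Act (fun x => ι (eb x)) (ι x3) 0x8423 := Act.map ι (by unfold Act; decide +kernel)
  have a2 : Act (fun x => ι (eb x)) (ι n2) 0x8124 := Act.map ι (by unfold Act; decide +kernel)
  have ag := a2.mul V (((act_inv ac (m' := 0x8432) (by decide +kernel)).mul V a3).mul V ac)
  have ag3 := act_eq ((ag.mul V ag).mul V ag) (m' := idm) (by decide +kernel)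
  have s2 : ι n2 * ι n2 = 1 := by rw [← map_mul, show n2 * n2 = 1 by decide +kernel, map_one]
  have s3 : ι x3 * ι x3 = 1 := by rw [← map_mul, show x3 * x3 = 1 by decide +kernel, map_one]
  obtain ⟨x, hx⟩ := E.code (ag3 2 (by decide))
  rw [← hx] at ag3
  obtain ⟨a, ha, rfl⟩ := k_CE x (E.cj (ag3 1 (by decide))) (E.cj (ag3 4 (by decide)))
  have k := ag a ha
  simp only at k
  rw [hx, show ∀ g : G, g * (g * g * g) * g⁻¹ = g * g * g from fun g => by group, ← hx] at k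
  rcases (by decide +kernel : ∀ a < 16, eb a = eb (lin (cmp 0x8124 (cmp (cmp 0x8432 0x8423)
      (mk4 3 1 4 8))) a) → eb a = 1 ∨ ∃ k : KA, k * (eb (lin (mk4 3 1 4 8) a) * x3) * k⁻¹ = ea 9)
    a ha (E.inj k) with h | h
  · rw [← hx, h, map_one]
  · refine absurd (E.Dcj ?_ h) nb
    have d : ι n2 ∈ D := E.Dcj (x := ea 4) ((show _ = ι (ea 4) from C.act 8 (by decide)) ▸ E.sit.conj _ h8 c)
    have := ac a ha
    simp only at this
    rw [map_mul, ← this, hx]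
    convert E.sit.conj _ d (c * (ι n2 * (c⁻¹ * ι x3 * c))) using 1
    rw [mul_inv_rev, mul_inv_rev, mul_inv_rev, mul_inv_rev, inv_eq_of_mul_eq_one_right s2,
      inv_eq_of_mul_eq_one_right s3]
    calc _ = c * (ι n2 * (c⁻¹ * ι x3 * c) * (ι n2 * (c⁻¹ * ι x3 * c)) * ι n2) * c⁻¹ *
        (ι x3 * ι x3) := by group
      _ = _ := by rw [s3]; group

end Em

end H15.XA
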