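import Mathlib
import Cfsg.Agent.H29.Ext

set_option autoImplicit false
set_option maxRecDepth 100000
set_option Elab.async false
set_option linter.all false

namespace H15.XAT1

open H29

noncomputable def n0 : Net := ben 7 [(nat_lit 0xb4d084513107410475411c001c),
 (nat_lit 0xf0000a0a500000020502),
 (nat_lit 0x1b08170344889d15cc00004400),
 (nat_lit 0x1000160648f8fe0f000000040),
 (nat_lit 0x1ef01ffe000efe000000000),
 (nat_lit 0x1ef00086000e0086000),
 (nat_lit 0x86000)]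
noncomputable def t0 : List ℕ := [(nat_lit 0xce82ec85dcf164b93b743ea548),
 (nat_lit 0xef01ed0c78a0eb2f34bf3e3f70),
 (nat_lit 0xdf86ef0cfcf3cf9f2fd8c1d080),
 (nat_lit 0x1207910b1030c0000c000000000),
 (nat_lit 0x3360000)]
noncomputable def d0 : ℕ := (nat_lit 0x40000010000000000004)
noncomputable def n1 : Net := ben 7 [(nat_lit 0xcccc00057333534c00c0300000),
 (nat_lit 0x727205200b1b31520520b00000),
 (nat_lit 0x150444008a0222040044080000),
 (nat_lit 0x1505080900008e1e106060000),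
 (nat_lit 0x8010c0100005002500001e00),
 (nat_lit 0x10800000008005e000),
 (nat_lit 0x80000000)]
noncomputable def t1 : List ℕ := [(nat_lit 0x1e600a40319f8673954150555aa),
 (nat_lit 0x19ffffc0fdf8168c01004000134),
 (nat_lit 0x1ffe0fc0f1ff96f380f83e000c0),
 (nat_lit 0x10340000090000000000000),
 (nat_lit 0x0)]
noncomputable def d1 : ℕ := (nat_lit 0x9000040004a048120000)
noncomputable def n2 : Net := ben 7 [(nat_lit 0xce2211ab7fff50c4c44d500330),
 (nat_lit 0xe150f06abea500252050000010),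
 (nat_lit 0xbe530442000400440037002208),
 (nat_lit 0xc88c6838fcfc004000380020),
 (nat_lit 0xfe000000000000000000),
 (nat_lit 0x1ff01fc000001fc0000),
 (nat_lit 0x1fc0000)]
noncomputable def t2 : List ℕ := [(nat_lit 0x16ff28b1fdd59c4f01c261cb48a),
 (nat_lit 0x13f69cb9f396ccb6070fd2e3e8c),
 (nat_lit 0x17ffecb1ffd7fcff26fdbf7c000),
 (nat_lit 0x800134e00280300d8cd8000000),
 (nat_lit 0x0)]
noncomputable def d2 : ℕ := (nat_lit 0x140)
noncomputable def n3 : Net := ben 7 [(nat_lit 0xc33000fc0c003000000c0000f0),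
 (nat_lit 0xaaa0f505000f7558502a005000),
 (nat_lit 0x980032bbefaa55ee4411110100),
 (nat_lit 0xacac2a2ae3e7434f404000ee),
 (nat_lit 0x18413d523002d70600c000d0),
 (nat_lit 0x80000000f900c01000a0e11040),
 (nat_lit 0x25ac81080)]
noncomputable def t3 : List ℕ := [(nat_lit 0x154792caab5930e6df2db494524),
 (nat_lit 0x1fe00d3577e6d0e01f218310020),
 (nat_lit 0xf1ffedf8061080),
 (nat_lit 0x1fe01fff33fe1fffffff8000000),
 (nat_lit 0x1fffffffffffe00000007fe0000)]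
noncomputable def d3 : ℕ := (nat_lit 0xaa00)
noncomputable def n4 : Net := ben 7 [(nat_lit 0xcc0333303474d41f4cc0d34c00),
 (nat_lit 0x720a1b10000527500720010200),
 (nat_lit 0x158802ce13460b2b45002a0000),
 (nat_lit 0x1088810d10444406020200000),
 (nat_lit 0x100018004000440000002000),
 (nat_lit 0x1000000050000000),
 (nat_lit 0x10000000)]
noncomputable def t4 : List ℕ := [(nat_lit 0x1febbf99760019800c60d4811aa),
 (nat_lit 0x1ff6078132dedfeb4018c481934),
 (nat_lit 0x181fe781761fe7e00de73b0c0c0),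
 (nat_lit 0x187e0000000000000000000),
 (nat_lit 0x0)]
noncomputable def d4 : ℕ := (nat_lit 0x8100001410000050400)
noncomputable def n5 : Net := ben 7 [(nat_lit 0x740c1f3f0334c073333000),
 (nat_lit 0x7272007252300a1520a1b0b000),
 (nat_lit 0x150413226e19884611082a0800),
 (nat_lit 0x1101120499090105020220000),
 (nat_lit 0x2c903c901000900000002000),
 (nat_lit 0x102c9000003c900000),
 (nat_lit 0x2c900000)]
noncomputable def t5 : List ℕ := [(nat_lit 0x1f5fecb23de1a5e1952182052a),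
 (nat_lit 0x1ffeacc1abdec6a0c1120620734),
 (nat_lit 0x1ffe0cc183989efff8ec79d80c0),
 (nat_lit 0x133e0000010000000000000),
 (nat_lit 0x0)]
noncomputable def d5 : ℕ := (nat_lit 0x5400000004010005000)
noncomputable def n6 : Net := ben 7 [(nat_lit 0x57ffd115c754c70741d00000),
 (nat_lit 0x37553ba41a0005200000000000),
 (nat_lit 0xa098d094b0144012344080000),
 (nat_lit 0x1848640df4042202000400000),
 (nat_lit 0x4400442000600000000000),
 (nat_lit 0x480402000a0402000),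
 (nat_lit 0x80402000)]
noncomputable def t6 : List ℕ := [(nat_lit 0x1d68450177e0001814c0b02b52a),
 (nat_lit 0xd37b541bbe0dc26c8008023f34),
 (nat_lit 0xaafc501b9a0dc38dfed7b5c0c0),
 (nat_lit 0x1aec000a000000000000000),
 (nat_lit 0x0)]
noncomputable def d6 : ℕ := (nat_lit 0x120001028100100400000)
noncomputable def n7 : Net := ben 7 [(nat_lit 0x7171739c4de80ad9457d1c0c61),
 (nat_lit 0xa0a0a0723a22a532a225205a1),
 (nat_lit 0x505050566068afbab04044508),
 (nat_lit 0x100f658dca5a5115b26260040),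
 (nat_lit 0x59f759ff8005a45e00201220),
 (nat_lit 0x1f7582000005825b520),
 (nat_lit 0x58200000)]
noncomputable def t7 : List ℕ := [(nat_lit 0x175c6cd385a03954c1552b0c21),
 (nat_lit 0x16f97e8533134b2008245ee622c),
 (nat_lit 0x8744d545102038008805ee2740),
 (nat_lit 0x2302a8c00000010002100000),
 (nat_lit 0x7fe0600)]
noncomputable def d7 : ℕ := (nat_lit 0xa0144aa14a0000092)
noncomputable def n8 : Net := n7.rev
noncomputable def t8 : List ℕ := mapPull n8 t7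
noncomputable def d8 : ℕ := (nat_lit 0x4c082000a00000000)
noncomputable def n9 : Net := ben 7 [(nat_lit 0x94c6bd1d4701e64f348cb0cc87),
 (nat_lit 0x6e57222488ae089fb027587536),
 (nat_lit 0x564b076e0a920d022a988e1107),
 (nat_lit 0x13405206901f6f7b70a8c0004),
 (nat_lit 0x400fa008008920800001a00),
 (nat_lit 0xff0000010005f65a0005f7da00),
 (nat_lit 0xff05f7fb00)]
noncomputable def t9 : List ℕ := [(nat_lit 0xaa228168429544230018542b94),
 (nat_lit 0x228881751cc000ab4000908106),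
 (nat_lit 0x2200817910c000801ffa0098c1),
 (nat_lit 0x2a80000014001ff8001800),
 (nat_lit 0x1ff8001800)]
noncomputable def d9 : ℕ := (nat_lit 0x155555402a12a00000005280028)
noncomputable def n10 : Net := n9.rev
noncomputable def t10 : List ℕ := mapPull n10 t9
noncomputable def d10 : ℕ := (nat_lit 0xaaaaaa00000000000002800000)
def ivl : List ℕ := [0, 1, 2, 3, 4, 5, 6, 8, 7, 10, 9, 11]
def cols : List ℕ := [0, 1, 2, 3, 4, 5, 6, 7, 8, 9, 10]
def hcols : List ℕ := [0, 1, 2, 3, 4, 5, 6]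
def G0 : List (List ℕ) := [[0, 2, 0, 2],
 [0, 3, 4, 3],
 [0, 4, 0, 4],
 [0, 6, 0, 6],
 [1, 4, 1, 4],
 [1, 5, 1, 5],
 [1, 6, 1, 6],
 [2, 3, 5, 3],
 [2, 5, 2, 5],
 [2, 6, 2, 6],
 [3, 6, 3, 6],
 [4, 5, 4, 5],
 [4, 6, 4, 6],
 [5, 6, 5, 6],
 [9, 9, 9],
 [9, 0, 10, 0],
 [2, 9, 2, 9],
 [9, 4, 10, 4, 6],
 [9, 6, 10, 4],
 [9, 1, 10, 1, 5],
 [9, 5, 10, 1],
 [7, 7, 7],
 [7, 2, 8, 2],
 [0, 7, 0, 7],
 [7, 5, 8, 5, 6],
 [7, 6, 8, 5],
 [7, 1, 8, 1, 4],
 [7, 4, 8, 1],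
 [7, 9, 8, 10],
 [3, 10, 2, 9, 3, 10, 2, 9, 3, 10, 2, 9],
 [3, 8, 0, 7, 3, 8, 0, 7, 3, 8, 0, 7]]
def R0 : List (List ℕ) := G0
def w0 : List ℕ := [8, 3, 8, 0, 7, 3, 8, 0, 7, 3, 0]
def R1 : List (List ℕ) := R0 ++ [w0]
def w1 : List ℕ := [10, 3, 10, 2, 9, 3, 10, 2, 9, 3, 2]
def R2 : List (List ℕ) := R1 ++ [w1]
theorem hii : ∀ c, ivOf ivl (ivOf ivl c) = c := ivOf_ivOf (by decide +kernel)
noncomputable def pr0 : List (ℕ × ℕ) := [(33, (nat_lit 0x700000400000100000700000200000700000000000100002200000700001800003800000000004000001800003800000000004000000100001800001a0000090000070000f50000070000020000070000ad0000070000000000020000070000bd))]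
theorem p0 : chkProg 4 (ivOf ivl) R0 pr0 [(0, w0)] = true := by decide +kernel
noncomputable def pr1 : List (ℕ × ℕ) := [(33, (nat_lit 0x700000400000100000700000200000700001000000100002200000700001800004800001000005000001800004800001000005000000100001800001a0000090000070000ed000007000002000007000075000007000010000002000007000085))]
theorem p1 : chkProg 4 (ivOf ivl) R1 pr1 [(0, w1)] = true := by decide +kernel
theorem der : Derives (ivOf ivl) R0 R2 := ((Derives.refl _ _).prog hii p0).prog hii p1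
noncomputable def nl : List Net := [n0, n1, n2, n3, n4, n5, n6, n7, n8, n9, n10]
noncomputable def T : TCData := ⟨105, 105, 7, 5, nth Net.nil nl, ivOf ivl, cols, hcols, R2,
  nth [] [t0, t1, t2, t3, t4, t5, t6, t7, t8, t9, t10], nth 0 [d0, d1, d2, d3, d4, d5, d6, d7, d8, d9, d10]⟩
theorem hn : NetsOK 105 (nth Net.nil nl) := netsOK_of_all (by decide +kernel)
theorem hiv : IvOK (sg (nth Net.nil nl)) (ivOf ivl) :=
  ivOK_of_chk (k := 7) hn (by decide) (n := 12) (by decide) (by decide) (allN_true.1 (by decide +kernel))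
theorem hb : T.Basic := TCData.basic_of_chk hn hiv (by decide +kernel)
theorem hG0 : ∀ r ∈ G0, ev (sg (nth Net.nil nl)) r = 1 :=
  rels_of_chk (k := 7) hn (by decide) hiv (allN_true.1 (by decide +kernel))
noncomputable def s0 : List TCData.Step := [.all 0 0 0,
 .all 1 0 0,
 .all 2 0 0,
 .all 3 0 0,
 .all 15 1 0,
 .all 15 3 0,
 .all 23 0 0]
noncomputable def s1 : List TCData.Step := [.pts 4 0 0 1 [10, 16],
 .pts 5 0 0 1 [12, 14],
 .pts 6 0 0 6 [95, 99],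
 .all 19 1 0,
 .pts 19 3 0 2 [91],
 .pts 19 3 0 7 [103],
 .all 20 3 0,
 .all 26 1 0,
 .pts 26 3 0 6 [75],
 .pts 26 3 0 7 [54, 63],
 .all 27 3 0]
noncomputable def s2 : List TCData.Step := [.all 0 1 0,
 .all 7 0 0,
 .all 8 0 0,
 .pts 9 0 0 6 [21, 51, 69],
 .pts 9 0 0 7 [59, 74],
 .all 16 0 0,
 .all 22 1 0,
 .all 22 3 0]
noncomputable def s3 : List TCData.Step := [.all 1 1 0,
 .all 7 1 0,
 .pts 31 1 0 11 [33, 36, 50, 51],
 .pts 31 1 0 15 [27, 28, 37, 38, 39, 40],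
 .pts 31 1 0 25 [63, 64, 77, 79, 83, 85],
 .pts 32 1 0 16 [23, 26, 90, 95],
 .pts 32 1 0 20 [17, 18]]
noncomputable def s4 : List TCData.Step := [.pts 1 2 0 2 [11],
 .pts 1 2 0 4 [14],
 .all 2 1 0,
 .pts 4 1 0 3 [27],
 .pts 4 1 0 4 [28],
 .pts 4 1 0 5 [38, 89],
 .pts 11 0 0 3 [12],
 .pts 11 0 0 5 [70, 92],
 .pts 11 0 0 7 [103],
 .pts 12 0 0 6 [96],
 .all 17 1 0,
 .pts 17 3 0 3 [97],
 .pts 17 3 0 7 [93],
 .pts 17 3 0 9 [80],
 .all 18 3 0,
 .pts 26 4 0 4 [30, 36],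
 .pts 26 4 0 6 [61, 62],
 .all 27 1 0]
noncomputable def s5 : List TCData.Step := [.pts 5 1 0 3 [17],
 .pts 5 1 0 4 [18],
 .pts 5 1 0 5 [39],
 .pts 7 2 0 2 [9],
 .pts 7 2 0 4 [15],
 .pts 8 1 0 3 [8],
 .pts 8 1 0 4 [6, 7],
 .pts 11 1 0 3 [10],
 .pts 11 1 0 5 [45],
 .pts 11 1 0 7 [53, 63],
 .pts 13 0 0 7 [98],
 .pts 13 0 0 9 [77],
 .all 19 4 0,
 .all 20 1 0,
 .all 24 1 0,
 .pts 24 3 0 7 [94],
 .all 25 3 0]
noncomputable def s6 : List TCData.Step := [.pts 3 1 0 2 [2],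
 .pts 3 1 0 8 [83],
 .all 6 1 0,
 .pts 9 1 0 3 [8],
 .pts 9 1 0 4 [6, 7],
 .pts 9 1 0 8 [81],
 .pts 10 1 0 2 [9, 11],
 .pts 10 1 0 3 [13],
 .pts 10 1 0 5 [15],
 .pts 12 1 0 3 [10],
 .pts 12 1 0 4 [16],
 .pts 13 1 0 1 [70],
 .pts 13 1 0 3 [12],
 .pts 13 1 0 4 [14],
 .all 17 4 0,
 .all 18 1 0,
 .pts 24 4 0 4 [36],
 .pts 24 4 0 6 [56],
 .all 25 1 0]
noncomputable def s7 : List TCData.Step := [.all 26 2 0,
 .all 28 2 0,
 .pts 31 0 0 21 [10]]
noncomputable def s8 : List TCData.Step := [.all 21 0 0,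
 .pts 22 0 0 4 [7],
 .pts 22 0 0 8 [81, 104],
 .pts 23 1 0 1 [2],
 .pts 23 1 0 7 [42, 69],
 .pts 24 0 0 4 [80],
 .pts 24 0 0 7 [71],
 .pts 24 0 0 8 [77],
 .all 25 0 0,
 .all 26 0 0,
 .all 27 0 0,
 .all 28 0 0]
noncomputable def s9 : List TCData.Step := [.pts 17 2 0 5 [75],
 .pts 17 2 0 7 [63],
 .pts 19 2 0 3 [20],
 .pts 19 2 0 6 [76],
 .pts 19 2 0 29 [28],
 .pts 28 3 0 29 [27],
 .pts 32 0 0 28 [12, 29, 30, 31, 32, 33, 34, 35, 36]]
noncomputable def s10 : List TCData.Step := [.all 14 0 0,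
 .pts 15 0 0 7 [52, 55],
 .pts 16 1 0 2 [8],
 .pts 16 1 0 3 [6],
 .pts 17 0 0 6 [47, 96],
 .pts 17 0 0 8 [77],
 .pts 18 0 0 1 [10, 16],
 .pts 18 0 0 6 [98],
 .pts 18 0 0 7 [49],
 .pts 19 0 0 1 [38],
 .pts 19 0 0 7 [72],
 .pts 19 0 0 8 [50],
 .all 20 0 0,
 .all 28 1 0]
theorem hR0 : ∀ r ∈ R0, ev (sg (nth Net.nil nl)) r = 1 := hG0
theorem col0 : T.ColOK 0 := TCData.colOK_of_chk (U := (T.stepsMask 0 s0 (T.mask0 0))) (V := (T.stepsMask 0 s0 (T.mask0 0))) hb (TCData.cov_stepsMask hb (by decide) s0 _ (T.cov_mask0 0)) (TCData.cov_stepsMask hb (by decide) s0 _ (T.cov_mask0 0)) (by decide +kernel)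
theorem col1 : T.ColOK 1 := TCData.colOK_of_chk (U := (T.stepsMask 1 s1 (T.mask0 1))) (V := (T.stepsMask 1 s1 (T.mask0 1))) hb (TCData.cov_stepsMask hb (by decide) s1 _ (T.cov_mask0 1)) (TCData.cov_stepsMask hb (by decide) s1 _ (T.cov_mask0 1)) (by decide +kernel)
theorem col2 : T.ColOK 2 := TCData.colOK_of_chk (U := (T.stepsMask 2 s2 (T.mask0 2))) (V := (T.stepsMask 2 s2 (T.mask0 2))) hb (TCData.cov_stepsMask hb (by decide) s2 _ (T.cov_mask0 2)) (TCData.cov_stepsMask hb (by decide) s2 _ (T.cov_mask0 2)) (by decide +kernel)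
theorem col3 : T.ColOK 3 := TCData.colOK_of_chk (U := (T.stepsMask 3 s3 (T.mask0 3))) (V := (T.stepsMask 3 s3 (T.mask0 3))) hb (TCData.cov_stepsMask hb (by decide) s3 _ (T.cov_mask0 3)) (TCData.cov_stepsMask hb (by decide) s3 _ (T.cov_mask0 3)) (by decide +kernel)
theorem col4 : T.ColOK 4 := TCData.colOK_of_chk (U := (T.stepsMask 4 s4 (T.mask0 4))) (V := (T.stepsMask 4 s4 (T.mask0 4))) hb (TCData.cov_stepsMask hb (by decide) s4 _ (T.cov_mask0 4)) (TCData.cov_stepsMask hb (by decide) s4 _ (T.cov_mask0 4)) (by decide +kernel)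
theorem col5 : T.ColOK 5 := TCData.colOK_of_chk (U := (T.stepsMask 5 s5 (T.mask0 5))) (V := (T.stepsMask 5 s5 (T.mask0 5))) hb (TCData.cov_stepsMask hb (by decide) s5 _ (T.cov_mask0 5)) (TCData.cov_stepsMask hb (by decide) s5 _ (T.cov_mask0 5)) (by decide +kernel)
theorem col6 : T.ColOK 6 := TCData.colOK_of_chk (U := (T.stepsMask 6 s6 (T.mask0 6))) (V := (T.stepsMask 6 s6 (T.mask0 6))) hb (TCData.cov_stepsMask hb (by decide) s6 _ (T.cov_mask0 6)) (TCData.cov_stepsMask hb (by decide) s6 _ (T.cov_mask0 6)) (by decide +kernel)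
theorem col7 : T.ColOK 7 := TCData.colOK_of_chk (U := (T.stepsMask 7 s7 (T.mask0 7))) (V := (T.stepsMask 8 s8 (T.mask0 8))) hb (TCData.cov_stepsMask hb (by decide) s7 _ (T.cov_mask0 7)) (TCData.cov_stepsMask hb (by decide) s8 _ (T.cov_mask0 8)) (by decide +kernel)
theorem col8 : T.ColOK 8 := TCData.colOK_of_chk (U := (T.stepsMask 8 s8 (T.mask0 8))) (V := (T.stepsMask 7 s7 (T.mask0 7))) hb (TCData.cov_stepsMask hb (by decide) s8 _ (T.cov_mask0 8)) (TCData.cov_stepsMask hb (by decide) s7 _ (T.cov_mask0 7)) (by decide +kernel)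
theorem col9 : T.ColOK 9 := TCData.colOK_of_chk (U := (T.stepsMask 9 s9 (T.mask0 9))) (V := (T.stepsMask 10 s10 (T.mask0 10))) hb (TCData.cov_stepsMask hb (by decide) s9 _ (T.cov_mask0 9)) (TCData.cov_stepsMask hb (by decide) s10 _ (T.cov_mask0 10)) (by decide +kernel)
theorem col10 : T.ColOK 10 := TCData.colOK_of_chk (U := (T.stepsMask 10 s10 (T.mask0 10))) (V := (T.stepsMask 9 s9 (T.mask0 9))) hb (TCData.cov_stepsMask hb (by decide) s10 _ (T.cov_mask0 10)) (TCData.cov_stepsMask hb (by decide) s9 _ (T.cov_mask0 9)) (by decide +kernel)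
theorem ok : T.OK := ⟨hb, TCData.treeOK_of_chk hn (by decide +kernel), (List.forall_mem_cons.2 ⟨col0, (List.forall_mem_cons.2 ⟨col1, (List.forall_mem_cons.2 ⟨col2, (List.forall_mem_cons.2 ⟨col3, (List.forall_mem_cons.2 ⟨col4, (List.forall_mem_cons.2 ⟨col5, (List.forall_mem_cons.2 ⟨col6, (List.forall_mem_cons.2 ⟨col7, (List.forall_mem_cons.2 ⟨col8, (List.forall_mem_cons.2 ⟨col9, (List.forall_mem_cons.2 ⟨col10, (fun _ h => absurd h List.not_mem_nil)⟩)⟩)⟩)⟩)⟩)⟩)⟩)⟩)⟩)⟩)⟩), der _ _ hiv hR0⟩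
theorem bd {G : Type} [Group G] {e : ℕ → G} (h1 : IvOK e (ivOf ivl)) (h2 : ∀ r ∈ R0, ev e r = 1)
    {m : ℕ} (h : Bd (gen e hcols) m) : Bd (gen e cols) (105 * m) := ok.bd h1 (der G e h1 h2) h
theorem cm {G : Type} [Group G] {e : ℕ → G} (h1 : IvOK e (ivOf ivl)) (h2 : ∀ r ∈ R0, ev e r = 1)
    (h3 : gen e cols = ⊤) {ρ : G →* Equiv.Perm ℕ} (h4 : ∀ c, ρ (e c) = sg (nth Net.nil nl) c) :
    CosetModel ρ (gen e hcols) 105 := ok.cosetModel h1 (der G e h1 h2) h3 fun c _ => h4 c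

end H15.XAT1
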