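import Mathlib
import Cfsg.Agent.H29.Ext

set_option autoImplicit false
set_option maxRecDepth 100000
set_option Elab.async false
set_option linter.all false

namespace H15.XAT2

open H29

noncomputable def n0 : Net := ben 4 [(nat_lit 0x0),
 (nat_lit 0x15),
 (nat_lit 0xa),
 (nat_lit 0x1)]
noncomputable def t0 : List ℕ := [(nat_lit 0x104),
 (nat_lit 0x1dc),
 (nat_lit 0x18c),
 (nat_lit 0x1dc),
 (nat_lit 0x0)]
noncomputable def d0 : ℕ := (nat_lit 0x20)
noncomputable def n1 : Net := ben 4 [(nat_lit 0xc0),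
 (nat_lit 0x72),
 (nat_lit 0x15),
 (nat_lit 0x1)]
noncomputable def t1 : List ℕ := [(nat_lit 0x194),
 (nat_lit 0x14),
 (nat_lit 0x0),
 (nat_lit 0x180),
 (nat_lit 0x0)]
noncomputable def d1 : ℕ := (nat_lit 0x48)
noncomputable def n2 : Net := ben 4 [(nat_lit 0xc),
 (nat_lit 0x15),
 (nat_lit 0xa),
 (nat_lit 0x1)]
noncomputable def t2 : List ℕ := [(nat_lit 0x12a),
 (nat_lit 0x22),
 (nat_lit 0x17a),
 (nat_lit 0x158),
 (nat_lit 0x0)]
noncomputable def d2 : ℕ := (nat_lit 0x80)
noncomputable def n3 : Net := ben 4 [(nat_lit 0xfc),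
 (nat_lit 0x50),
 (nat_lit 0x1f),
 (nat_lit 0x1)]
noncomputable def t3 : List ℕ := [(nat_lit 0x56),
 (nat_lit 0x192),
 (nat_lit 0x1ec),
 (nat_lit 0x3a),
 (nat_lit 0x0)]
noncomputable def d3 : ℕ := (nat_lit 0x0)
noncomputable def n4 : Net := ben 4 [(nat_lit 0x73),
 (nat_lit 0xa1),
 (nat_lit 0x19),
 (nat_lit 0x1)]
noncomputable def t4 : List ℕ := [(nat_lit 0x1fe),
 (nat_lit 0x1f8),
 (nat_lit 0x1e0),
 (nat_lit 0x1e0),
 (nat_lit 0x0)]
noncomputable def d4 : ℕ := (nat_lit 0x0)
noncomputable def n5 : Net := ben 4 [(nat_lit 0xc),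
 (nat_lit 0x72),
 (nat_lit 0x15),
 (nat_lit 0x1)]
noncomputable def t5 : List ℕ := [(nat_lit 0x18),
 (nat_lit 0x18),
 (nat_lit 0x0),
 (nat_lit 0xa0),
 (nat_lit 0x0)]
noncomputable def d5 : ℕ := (nat_lit 0x104)
noncomputable def n6 : Net := ben 4 [(nat_lit 0xc7),
 (nat_lit 0x75),
 (nat_lit 0x15),
 (nat_lit 0x1)]
noncomputable def t6 : List ℕ := [(nat_lit 0x60),
 (nat_lit 0x6c),
 (nat_lit 0x180),
 (nat_lit 0x1e0),
 (nat_lit 0x0)]
noncomputable def d6 : ℕ := (nat_lit 0x10)
noncomputable def n7 : Net := ben 4 [(nat_lit 0xb4),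
 (nat_lit 0xf0),
 (nat_lit 0x19),
 (nat_lit 0x1)]
noncomputable def t7 : List ℕ := [(nat_lit 0x46),
 (nat_lit 0x40),
 (nat_lit 0x1be),
 (nat_lit 0x0),
 (nat_lit 0x1fe)]
noncomputable def d7 : ℕ := (nat_lit 0x0)
noncomputable def n8 : Net := n7.rev
noncomputable def t8 : List ℕ := mapPull n8 t7
noncomputable def d8 : ℕ := (nat_lit 0x0)
noncomputable def n9 : Net := ben 4 [(nat_lit 0x74),
 (nat_lit 0xf0),
 (nat_lit 0x19),
 (nat_lit 0x1)]
noncomputable def t9 : List ℕ := [(nat_lit 0x3c),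
 (nat_lit 0x3e),
 (nat_lit 0x3e),
 (nat_lit 0x1c0),
 (nat_lit 0x1fe)]
noncomputable def d9 : ℕ := (nat_lit 0x0)
noncomputable def n10 : Net := n9.rev
noncomputable def t10 : List ℕ := mapPull n10 t9
noncomputable def d10 : ℕ := (nat_lit 0x0)
noncomputable def n11 : Net := ben 4 [(nat_lit 0x5),
 (nat_lit 0x0),
 (nat_lit 0x0),
 (nat_lit 0x0)]
noncomputable def t11 : List ℕ := [(nat_lit 0x180),
 (nat_lit 0x60),
 (nat_lit 0x10),
 (nat_lit 0x0),
 (nat_lit 0x1ec)]
noncomputable def d11 : ℕ := (nat_lit 0x2)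
def ivl : List ℕ := [0, 1, 2, 3, 4, 5, 6, 8, 7, 10, 9, 11]
def cols : List ℕ := [0, 1, 2, 3, 4, 5, 6, 7, 8, 9, 10, 11]
def hcols : List ℕ := [0, 1, 2, 3, 4, 5, 6, 7, 8, 9, 10]
def G0 : List (List ℕ) := [[0, 2, 0, 2],
 [0, 3, 4, 3],
 [0, 4, 0, 4],
 [0, 6, 0, 6],
 [1, 4, 1, 4],
 [1, 5, 1, 5],
 [1, 6, 1, 6],
 [2, 3, 5, 3],
 [2, 5, 2, 5],
 [2, 6, 2, 6],
 [3, 6, 3, 6],
 [4, 5, 4, 5],
 [4, 6, 4, 6],
 [5, 6, 5, 6],
 [9, 9, 9],
 [9, 0, 10, 0],
 [2, 9, 2, 9],
 [9, 4, 10, 4, 6],
 [9, 6, 10, 4],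
 [9, 1, 10, 1, 5],
 [9, 5, 10, 1],
 [7, 7, 7],
 [7, 2, 8, 2],
 [0, 7, 0, 7],
 [7, 5, 8, 5, 6],
 [7, 6, 8, 5],
 [7, 1, 8, 1, 4],
 [7, 4, 8, 1],
 [7, 9, 8, 10],
 [3, 10, 2, 9, 3, 10, 2, 9, 3, 10, 2, 9],
 [3, 8, 0, 7, 3, 8, 0, 7, 3, 8, 0, 7],
 [11, 4, 5, 11, 4, 5],
 [11, 4, 6, 1, 11, 4, 6, 1],
 [11, 7, 9, 11, 7, 9],
 [11, 4, 5, 6, 11, 4, 5, 6, 11, 4, 5, 6],
 [11, 0, 1, 3, 1, 6, 11, 0, 1, 3, 1, 6, 0, 2]]
def R0 : List (List ℕ) := G0
def w0 : List ℕ := [0, 5, 1, 11, 7, 9, 11, 1, 5, 4, 6, 1, 4, 6, 4, 11, 10, 8, 11, 0, 1]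
def R1 : List (List ℕ) := R0 ++ [w0]
def w1 : List ℕ := [0, 6, 4, 11, 10, 8, 11, 0, 1, 2, 5, 1, 11, 10, 8, 11, 4, 2]
def R2 : List (List ℕ) := R1 ++ [w1]
def w2 : List ℕ := [11, 4, 11, 7, 9, 11, 1, 5, 11, 5, 1, 11, 7, 9, 11, 1, 5, 4, 6, 1, 4]
def R3 : List (List ℕ) := R2 ++ [w2]
def w3 : List ℕ := [7, 0, 5, 1, 11, 10, 8, 11, 4, 0, 11, 0, 4, 11, 7, 9, 11, 1, 5, 0, 6, 0, 11, 7, 9, 11, 0, 5, 6, 4, 0, 11, 10, 8, 11, 0, 1, 0, 5, 1, 11, 10, 8, 11, 4, 0, 11, 0, 4, 11, 7, 9, 11, 1, 5, 0, 1, 0, 11, 7, 9, 11, 0, 1, 4, 6, 4, 0, 11, 10, 8, 11, 0, 1, 0, 5, 1, 11, 10, 8, 11, 4, 0, 11, 0, 4, 11, 7, 9, 11, 1, 5, 0, 6, 0, 11, 7, 9, 11, 0, 5]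
def R4 : List (List ℕ) := R3 ++ [w3]
theorem hii : ∀ c, ivOf ivl (ivOf ivl c) = c := ivOf_ivOf (by decide +kernel)
noncomputable def pr0 : List (ℕ × ℕ) := [(120, (nat_lit 0x70000040000010000070000020000070000020000070000010000e20000070000010000720000d90000ea0000d20000e900000700000200009a00000700000200001200000900001100001a0000280000070000080000200000210000070000a500000700003800000700000200007100000700000a00000200000900001200002a0000080000070000d500000700004800000700000100002000003000006900000700000a00004200000800002800000100000700009d0000070000020000190000010000200000070000400000070000020000120000190000520000490000510000070000080000010000070000dd00000700004100000000000700000200002000003000002100000700000100000a0000070000e500000700005800004000005000000100005800000700010d00000700008d0000070000150000070000480000070000bd00000700001800002000000a00000100000900000700000d000007000018))]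
theorem p0 : chkProg 4 (ivOf ivl) R0 pr0 [(0, w0)] = true := by decide +kernel
noncomputable def pr1 : List (ℕ × ℕ) := [(91, (nat_lit 0x70000040000010000070000020000070000020000070000020000620000c100001000000700000200000900002900003900005200004900005100000700000800007100000700000200007a0000000000110000070000010000000000070000bd00000700007d00000700000000002000000100000700001500000700003000000100000700001d00000700008d00000700000000000700000200001000005100000700002a00000200000700000200001a00000800002800003900000700000a0000010000090000200000070000dd00000700004000000700000100000a0000070000e500000700005800004000005000000100005800000700010d00000700009d0000070000b5000007000085))]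
theorem p1 : chkProg 4 (ivOf ivl) R1 pr1 [(0, w1)] = true := by decide +kernel
noncomputable def pr2 : List (ℕ × ℕ) := [(81, (nat_lit 0x700000400000100000700000200000700000200000700000200005800006a00000a00000700009200004a00000700000200001200000900001100001a0000280000070000080000200000210000070000a500000700003800000700000200006900000700000a00000200000900001200004a0000080000070000d500000700004800000700000100002000003000002900000700002a00000200000800002800001900000700003900000200000700005800004000005000000100005800000700010d00000700009d00000700008d00000700000a0000010000090000200000070000dd0000070000400000070000e5))]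
theorem p2 : chkProg 4 (ivOf ivl) R2 pr2 [(0, w2)] = true := by decide +kernel
noncomputable def pr3 : List (ℕ × ℕ) := [(171, (nat_lit 0x700000400000100000700000200000700000200000700009a0000010000ea00000700000a00000100000900002a0000a20000c90000ba0000290000f200001100002200002a0000a20000c90000ba0000070001150000070000380000070000e90000080000010000070000a50000070000c100002000008100000700011a0000fa00011900000200001200005800002200006200000700000200000700007500000700000a0000020000f90000010000070000400000070000020000320000d90000310000000000070000020000000000b20000070000da0000020000070000020000aa00000800002800001100000700000200008100000100002000000700004000000700009d0000070000500000070000020000070000ad00000700003200000100003100000a00003000000700009500000700004900002200008a00002100000700008a0000010000890000220000280000090000070000c500000700000a0000010000090000300000070000cd0000070000400000070000020000620000590000610000070000020000110000200000300000490000070000080000010000070000dd0000070000020000120000000000290000070000010000000000070000bd00000700002100000200000700005800004000005000000100005800000700010d00000700007d00000700008d0000070000e5000007000050))]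
theorem p3 : chkProg 4 (ivOf ivl) R3 pr3 [(0, w3)] = true := by decide +kernel
theorem der : Derives (ivOf ivl) R0 R4 := ((((Derives.refl _ _).prog hii p0).prog hii p1).prog hii p2).prog hii p3
noncomputable def nl : List Net := [n0, n1, n2, n3, n4, n5, n6, n7, n8, n9, n10, n11]
noncomputable def T : TCData := ⟨9, 9, 4, 5, nth Net.nil nl, ivOf ivl, cols, hcols, R4,
  nth [] [t0, t1, t2, t3, t4, t5, t6, t7, t8, t9, t10, t11], nth 0 [d0, d1, d2, d3, d4, d5, d6, d7, d8, d9, d10, d11]⟩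
theorem hn : NetsOK 9 (nth Net.nil nl) := netsOK_of_all (by decide +kernel)
theorem hiv : IvOK (sg (nth Net.nil nl)) (ivOf ivl) :=
  ivOK_of_chk (k := 4) hn (by decide) (n := 12) (by decide) (by decide) (allN_true.1 (by decide +kernel))
theorem hb : T.Basic := TCData.basic_of_chk hn hiv (by decide +kernel)
theorem hG0 : ∀ r ∈ G0, ev (sg (nth Net.nil nl)) r = 1 :=
  rels_of_chk (k := 4) hn (by decide) hiv (allN_true.1 (by decide +kernel))
noncomputable def s0 : List TCData.Step := [.pts 0 0 0 15 [2],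
 .pts 36 0 0 10 [6],
 .pts 37 0 0 14 [7]]
noncomputable def s1 : List TCData.Step := [.pts 5 0 0 9 [7],
 .pts 6 0 0 3 [2]]
noncomputable def s2 : List TCData.Step := [.pts 9 0 0 12 [4],
 .pts 9 0 0 13 [3],
 .pts 35 13 0 7 [5]]
noncomputable def s3 : List TCData.Step := [.pts 1 1 0 11 [4],
 .pts 7 1 0 6 [7],
 .pts 10 0 0 12 [3],
 .pts 35 3 0 5 [6]]
noncomputable def s4 : List TCData.Step := [.pts 1 2 0 15 [5],
 .pts 2 1 0 15 [6],
 .pts 12 0 0 3 [3],
 .pts 31 1 0 1 [1]]
noncomputable def s5 : List TCData.Step := [.pts 8 1 0 8 [5],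
 .pts 13 0 0 3 [3]]
noncomputable def s6 : List TCData.Step := [.pts 3 1 0 11 [5],
 .pts 13 1 0 12 [7],
 .pts 32 2 0 2 [2]]
noncomputable def s7 : List TCData.Step := []
noncomputable def s8 : List TCData.Step := [.pts 22 0 0 20 [2],
 .pts 22 0 0 21 [1, 3],
 .pts 23 1 0 20 [4],
 .pts 24 0 0 20 [6],
 .pts 26 0 0 20 [5],
 .pts 27 0 0 20 [8],
 .pts 39 0 0 19 [7]]
noncomputable def s9 : List TCData.Step := []
noncomputable def s10 : List TCData.Step := [.pts 15 0 0 23 [5],
 .pts 15 0 0 24 [6, 7],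
 .pts 16 1 0 24 [8],
 .pts 17 0 0 23 [3],
 .pts 18 0 0 23 [2],
 .pts 19 0 0 23 [4],
 .pts 33 2 0 22 [1]]
noncomputable def s11 : List TCData.Step := [.pts 32 0 0 18 [5, 6],
 .pts 34 0 0 4 [4],
 .pts 35 0 0 17 [7, 8],
 .pts 38 0 0 16 [3]]
theorem hR0 : ∀ r ∈ R0, ev (sg (nth Net.nil nl)) r = 1 := hG0
theorem col0 : T.ColOK 0 := TCData.colOK_of_chk (U := (T.stepsMask 0 s0 (T.mask0 0))) (V := (T.stepsMask 0 s0 (T.mask0 0))) hb (TCData.cov_stepsMask hb (by decide) s0 _ (T.cov_mask0 0)) (TCData.cov_stepsMask hb (by decide) s0 _ (T.cov_mask0 0)) (by decide +kernel)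
theorem col1 : T.ColOK 1 := TCData.colOK_of_chk (U := (T.stepsMask 1 s1 (T.mask0 1))) (V := (T.stepsMask 1 s1 (T.mask0 1))) hb (TCData.cov_stepsMask hb (by decide) s1 _ (T.cov_mask0 1)) (TCData.cov_stepsMask hb (by decide) s1 _ (T.cov_mask0 1)) (by decide +kernel)
theorem col2 : T.ColOK 2 := TCData.colOK_of_chk (U := (T.stepsMask 2 s2 (T.mask0 2))) (V := (T.stepsMask 2 s2 (T.mask0 2))) hb (TCData.cov_stepsMask hb (by decide) s2 _ (T.cov_mask0 2)) (TCData.cov_stepsMask hb (by decide) s2 _ (T.cov_mask0 2)) (by decide +kernel)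
theorem col3 : T.ColOK 3 := TCData.colOK_of_chk (U := (T.stepsMask 3 s3 (T.mask0 3))) (V := (T.stepsMask 3 s3 (T.mask0 3))) hb (TCData.cov_stepsMask hb (by decide) s3 _ (T.cov_mask0 3)) (TCData.cov_stepsMask hb (by decide) s3 _ (T.cov_mask0 3)) (by decide +kernel)
theorem col4 : T.ColOK 4 := TCData.colOK_of_chk (U := (T.stepsMask 4 s4 (T.mask0 4))) (V := (T.stepsMask 4 s4 (T.mask0 4))) hb (TCData.cov_stepsMask hb (by decide) s4 _ (T.cov_mask0 4)) (TCData.cov_stepsMask hb (by decide) s4 _ (T.cov_mask0 4)) (by decide +kernel)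
theorem col5 : T.ColOK 5 := TCData.colOK_of_chk (U := (T.stepsMask 5 s5 (T.mask0 5))) (V := (T.stepsMask 5 s5 (T.mask0 5))) hb (TCData.cov_stepsMask hb (by decide) s5 _ (T.cov_mask0 5)) (TCData.cov_stepsMask hb (by decide) s5 _ (T.cov_mask0 5)) (by decide +kernel)
theorem col6 : T.ColOK 6 := TCData.colOK_of_chk (U := (T.stepsMask 6 s6 (T.mask0 6))) (V := (T.stepsMask 6 s6 (T.mask0 6))) hb (TCData.cov_stepsMask hb (by decide) s6 _ (T.cov_mask0 6)) (TCData.cov_stepsMask hb (by decide) s6 _ (T.cov_mask0 6)) (by decide +kernel)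
theorem col7 : T.ColOK 7 := TCData.colOK_of_chk (U := (T.stepsMask 7 s7 (T.mask0 7))) (V := (T.stepsMask 8 s8 (T.mask0 8))) hb (TCData.cov_stepsMask hb (by decide) s7 _ (T.cov_mask0 7)) (TCData.cov_stepsMask hb (by decide) s8 _ (T.cov_mask0 8)) (by decide +kernel)
theorem col8 : T.ColOK 8 := TCData.colOK_of_chk (U := (T.stepsMask 8 s8 (T.mask0 8))) (V := (T.stepsMask 7 s7 (T.mask0 7))) hb (TCData.cov_stepsMask hb (by decide) s8 _ (T.cov_mask0 8)) (TCData.cov_stepsMask hb (by decide) s7 _ (T.cov_mask0 7)) (by decide +kernel)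
theorem col9 : T.ColOK 9 := TCData.colOK_of_chk (U := (T.stepsMask 9 s9 (T.mask0 9))) (V := (T.stepsMask 10 s10 (T.mask0 10))) hb (TCData.cov_stepsMask hb (by decide) s9 _ (T.cov_mask0 9)) (TCData.cov_stepsMask hb (by decide) s10 _ (T.cov_mask0 10)) (by decide +kernel)
theorem col10 : T.ColOK 10 := TCData.colOK_of_chk (U := (T.stepsMask 10 s10 (T.mask0 10))) (V := (T.stepsMask 9 s9 (T.mask0 9))) hb (TCData.cov_stepsMask hb (by decide) s10 _ (T.cov_mask0 10)) (TCData.cov_stepsMask hb (by decide) s9 _ (T.cov_mask0 9)) (by decide +kernel)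
theorem col11 : T.ColOK 11 := TCData.colOK_of_chk (U := (T.stepsMask 11 s11 (T.mask0 11))) (V := (T.stepsMask 11 s11 (T.mask0 11))) hb (TCData.cov_stepsMask hb (by decide) s11 _ (T.cov_mask0 11)) (TCData.cov_stepsMask hb (by decide) s11 _ (T.cov_mask0 11)) (by decide +kernel)
theorem ok : T.OK := ⟨hb, TCData.treeOK_of_chk hn (by decide +kernel), (List.forall_mem_cons.2 ⟨col0, (List.forall_mem_cons.2 ⟨col1, (List.forall_mem_cons.2 ⟨col2, (List.forall_mem_cons.2 ⟨col3, (List.forall_mem_cons.2 ⟨col4, (List.forall_mem_cons.2 ⟨col5, (List.forall_mem_cons.2 ⟨col6, (List.forall_mem_cons.2 ⟨col7, (List.forall_mem_cons.2 ⟨col8, (List.forall_mem_cons.2 ⟨col9, (List.forall_mem_cons.2 ⟨col10, (List.forall_mem_cons.2 ⟨col11, (fun _ h => absurd h List.not_mem_nil)⟩)⟩)⟩)⟩)⟩)⟩)⟩)⟩)⟩)⟩)⟩)⟩), der _ _ hiv hR0⟩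
theorem bd {G : Type} [Group G] {e : ℕ → G} (h1 : IvOK e (ivOf ivl)) (h2 : ∀ r ∈ R0, ev e r = 1)
    {m : ℕ} (h : Bd (gen e hcols) m) : Bd (gen e cols) (9 * m) := ok.bd h1 (der G e h1 h2) h
theorem cm {G : Type} [Group G] {e : ℕ → G} (h1 : IvOK e (ivOf ivl)) (h2 : ∀ r ∈ R0, ev e r = 1)
    (h3 : gen e cols = ⊤) {ρ : G →* Equiv.Perm ℕ} (h4 : ∀ c, ρ (e c) = sg (nth Net.nil nl) c) :
    CosetModel ρ (gen e hcols) 9 := ok.cosetModel h1 (der G e h1 h2) h3 fun c _ => h4 c

end H15.XAT2
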