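import Mathlib
import Cfsg.Agent.H15.XA2
import Cfsg.Agent.H15.XAT1
import Cfsg.Agent.H15.XAT2
import Cfsg.Agent.H15.KM3
import Cfsg.Agent.H24.AltMult

/-!
# Centralizer of order 192 as in `A₈`: recognition
-/

set_option autoImplicit false
set_option maxRecDepth 100000
set_option synthInstance.maxSize 4000
set_option linter.all false

namespace H15.XA

open H29 H7.Cay H7.X32 Subgroup H24 H6.XS Equiv H15.KM

universe u

variable {G : Type u} [Group G] {g c r β : G} {ι : KA →* G}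

theorem alt_of [Finite G] [Nontrivial G] {n : ℕ} (h5 : 5 ≤ n) {m : ℕ → Perm (Fin n)} {e : ℕ → G}
    {l : List ℕ} (hb : 2 * Nat.card (gen (pr m e) l) ≤ n.factorial) {a b : Fin n} (hab : a ≠ b)
    (hm : ∀ i, i ≠ a → i ≠ b → AltMult.c a b i ∈ gen m l) (he : gen e l = ⊤) :
    Nonempty (G ≃* alternatingGroup (Fin n)) := by
  have h1 : alternatingGroup (Fin n) ≤ (gen (pr m e) l).map (MonoidHom.fst _ _) := fun σ hσ => by
    rw [KM.map_fst]
    refine (closure_le _).2 ?_ (AltMult.closure_c hab σ hσ)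
    rintro _ ⟨i, hi, rfl⟩
    simp only [Finset.coe_filter, Finset.mem_univ, true_and, Set.mem_ofPred_eq] at hi
    exact hm i hi.1 hi.2
  have : Nontrivial (Fin n) := ⟨a, b, hab⟩
  have h2 := two_mul_nat_card_alternatingGroup (α := Fin n)
  rw [Nat.card_perm, Nat.card_eq_fintype_card (α := Fin n), Fintype.card_fin] at h2
  have h3 := card_le_of_le h1
  have h4 := Nat.le_of_dvd Nat.card_pos (card_map_dvd (gen (pr m e) l) (MonoidHom.fst _ _))
  have h6 := eq_of_le_of_card_ge h1 (by omega)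
  have h7 := gr_of_card (D := gen (pr m e) l) (by omega)
  have h8 := (KM.map_snd m e l).trans he
  generalize gen (pr m e) l = H at *
  have := alternatingGroup.isSimpleGroup (α := Fin n) (by simpa using h5)
  let N : Subgroup (alternatingGroup (Fin n)) :=
    H.comap ((MonoidHom.inl _ G).comp (alternatingGroup (Fin n)).subtype)
  have hN : N.Normal := ⟨fun x hx y => by
    obtain ⟨d, hd, e⟩ := h6.le y.2
    have := mul_mem (mul_mem hd hx) (inv_mem hd)
    change ((y : Perm (Fin n)) * x * (y : Perm (Fin n))⁻¹, (1 : G)) ∈ H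
    convert this using 1
    exact Prod.ext (by rw [← e]; rfl) (by simp)⟩
  have h9 : CoGr H := fun d hd h0 => by
    have k : d.1 ∈ alternatingGroup (Fin n) := h6.ge ⟨d, hd, rfl⟩
    rcases hN.eq_bot_or_eq_top with e | e
    · have : (⟨d.1, k⟩ : alternatingGroup (Fin n)) ∈ N := by
        change (d.1, (1 : G)) ∈ H
        rwa [← h0]
      rw [e, mem_bot] at this
      exact congrArg Subtype.val this
    · obtain ⟨g, hg⟩ := exists_ne (1 : G)
      obtain ⟨d', hd', rfl⟩ := h8.ge (mem_top g)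
      have k' : (d'.1, (1 : G)) ∈ H := e.ge (mem_top ⟨d'.1, h6.ge ⟨d', hd', rfl⟩⟩)
      exact absurd (congrArg Prod.snd (h7.eq hd' k' rfl)) hg
  obtain ⟨φ, -⟩ := exists_equiv h7 h9
  exact ⟨(topEquiv.symm.trans (MulEquiv.subgroupCongr h8.symm)).trans
    (φ.symm.trans (MulEquiv.subgroupCongr h6.symm))⟩

/-- the letters of the model -/
noncomputable def kl (n : ℕ) : KA := [x1, ea 4, x3, n2, ea 1, ea 8, ea 2].getD n 1

/-- the letters -/
noncomputable def lt (ι : KA →* G) (r c β : G) (n : ℕ) : G :=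
  [ι x1, ι (ea 4), ι x3, ι n2, ι (ea 1), ι (ea 8), ι (ea 2), r, r⁻¹, c, c⁻¹, β].getD n 1

theorem lt_kl {n : ℕ} (h : n < 7) : lt ι r c β n = ι (kl n) := by interval_cases n <;> rfl

theorem lt_iv (h : β * β = 1) : IvOK (lt ι r c β) (ivOf XAT1.ivl) := fun n => by
  by_cases h7 : n < 7
  · rw [(by decide : ∀ n < 7, ivOf XAT1.ivl n = n) n h7, lt_kl h7, ← map_inv]
    exact congrArg ι ((by decide +kernel : ∀ n < 7, kl n = (kl n)⁻¹) n h7)
  by_cases h12 : n < 12
  · have : 7 ≤ n := by omega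
    interval_cases n
    exacts [rfl, (inv_inv _).symm, rfl, (inv_inv _).symm, eq_inv_of_mul_eq_one_left h]
  · rw [ivOf, nth_default _ (by simpa [XAT1.ivl] using h12), lt,
      List.getD_eq_default _ _ (by simpa using h12), inv_one]

theorem lt_rels {R : List (List ℕ)} (h : ∀ w ∈ R, (∀ n ∈ w, n < 7) ∧ ev kl w = 1) :
    ∀ w ∈ R, ev (lt ι r c β) w = 1 := fun w hw => by
  rw [ev_congr fun n hn => lt_kl ((h w hw).1 n hn), ← map_ev, (h w hw).2, map_one]

theorem bd1 [Finite G] {S : Type} [Group S] [Finite S] {f : KA →* S} {r' c' β' : S}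
    (h : β * β = 1) (h' : β' * β' = 1) (k : ∀ w ∈ XAT1.R0, ev (lt ι r c β) w = 1)
    (k' : ∀ w ∈ XAT1.R0, ev (lt f r' c' β') w = 1) :
    Bd (gen (pr (lt f r' c' β') (lt ι r c β)) XAT1.cols) (105 * 192) := by
  have hi := ivOK_pr (lt_iv (ι := f) (r := r') (c := c') h') (lt_iv (ι := ι) (r := r) (c := c) h)
  refine XAT1.ok.bd hi (derives_fin XAT1.der hi fun w hw => by rw [ev_pr, k w hw, k' w hw]; rfl)
    (Bd.of_le (K := (f.prod ι).range) ⟨inferInstance, ?_⟩ (gen_le.2 fun n hn => ?_))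
  · exact Nat.le_of_dvd (by decide) (KA.card ▸ card_range_dvd _)
  · have := (by decide : ∀ n ∈ XAT1.hcols, n < 7) n hn
    exact ⟨kl n, Prod.ext (lt_kl this).symm (lt_kl this).symm⟩

theorem bd2 [Finite G] {S : Type} [Group S] [Finite S] {f : KA →* S} {r' c' β' : S}
    (h : β * β = 1) (h' : β' * β' = 1) (k : ∀ w ∈ XAT2.R0, ev (lt ι r c β) w = 1)
    (k' : ∀ w ∈ XAT2.R0, ev (lt f r' c' β') w = 1) :
    Bd (gen (pr (lt f r' c' β') (lt ι r c β)) XAT2.cols) (9 * (105 * 192)) := by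
  have hi := ivOK_pr (lt_iv (ι := f) (r := r') (c := c') h') (lt_iv (ι := ι) (r := r) (c := c) h)
  exact XAT2.ok.bd hi (derives_fin XAT2.der hi fun w hw => by rw [ev_pr, k w hw, k' w hw]; rfl)
    (bd1 h h' (rels_sub k (by decide +kernel)) (rels_sub k' (by decide +kernel)))

section model

variable (n : ℕ) [NeZero n]

/-- permutations for the letters of the model -/
def pL : List (Perm (Fin n)) := [swap 0 5 * swap 0 1 * swap 0 4 * swap 2 7 * swap 2 3 * swap 2 6,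
  swap 0 3 * swap 0 1 * swap 0 2 * swap 4 6 * swap 4 5 * swap 4 7,
  swap 0 7 * swap 0 1 * swap 0 6 * swap 2 5 * swap 2 3 * swap 2 4,
  swap 0 3 * swap 0 1 * swap 0 2 * swap 4 7 * swap 4 5 * swap 4 6,
  swap 2 4 * swap 2 6 * swap 3 5 * swap 3 7, swap 0 1 * swap 2 3 * swap 4 7 * swap 5 6]
def pr' : Perm (Fin n) := swap 0 1 * swap 0 3 * swap 4 5 * swap 4 6
def pc : Perm (Fin n) := swap 0 3 * swap 0 1 * swap 4 5 * swap 4 6

/-- permutations for the letters -/
def pl (β : Perm (Fin n)) (c : ℕ) : Perm (Fin n) := [ev (pe (pL n)) [0, 2, 6], ev (pe (pL n)) [10],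
  ev (pe (pL n)) [2, 4], ev (pe (pL n)) [4, 9, 1, 10], ev (pe (pL n)) [0, 5],
  ev (pe (pL n)) [0, 2, 4, 7], ev (pe (pL n)) [0, 0], pr' n, (pr' n)⁻¹, pc n, (pc n)⁻¹, β].getD c 1

theorem exists_f (h : ∀ w ∈ H7.XA0.R, ev (pe (pL n)) w = 1) (β : Perm (Fin n)) :
    ∃ f : KA →* Perm (Fin n), lt f (pr' n) (pc n) β = pl n β := by
  have iv : IvOK (pe (pL n)) (ivOf H7.XA0.ivl) := ivOK_pe _ rfl (by decide)
  have k : ∀ (x : KA) (w : List ℕ), Nat.beq (H7.XA0.C.run w 0) x.val = true →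
      KK.hom (H7.XA0.sound iv h) x = ev (pe (pL n)) w := fun x w e =>
    (H7.XA0.ok iv h).word x.lt (nbeq.1 e)
  refine ⟨KK.hom (H7.XA0.sound iv h), funext fun c => ?_⟩
  rw [lt, pl, k x1 [0, 2, 6] (by decide +kernel), k (ea 4) [10] (by decide +kernel),
    k x3 [2, 4] (by decide +kernel), k n2 [4, 9, 1, 10] (by decide +kernel),
    k (ea 1) [0, 5] (by decide +kernel), k (ea 8) [0, 2, 4, 7] (by decide +kernel),
    k (ea 2) [0, 0] (by decide +kernel)]

end model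

variable [Finite G]

theorem iso8 [Nontrivial G] (k : ∀ w ∈ XAT1.R0, ev (lt ι r c 1) w = 1)
    (he : gen (lt ι r c 1) XAT1.cols = ⊤) : Nonempty (G ≃* alternatingGroup (Fin 8)) := by
  obtain ⟨f, hf⟩ := exists_f 8 (by decide +kernel) 1
  have := (bd1 (f := f) (r' := pr' 8) (c' := pc 8) (mul_one 1) (mul_one 1) k
    (by rw [hf]; decide +kernel)).2
  rw [hf] at this
  refine alt_of (by decide) ((Nat.mul_le_mul_left 2 this).trans (by decide)) (a := 6) (b := 7)
    (by decide) (fun i h1 h2 => ?_) he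
  obtain ⟨w, hw, e⟩ := (by decide +kernel : ∀ i : Fin 8, i ≠ 6 → i ≠ 7 →
    ∃ w ∈ [[1, 0, 2, 3, 8, 9, 3, 1], [0, 1, 3, 8, 10, 3, 1, 0], [0, 3, 7, 9, 3, 0], [3, 1, 6, 8, 10, 3],
      [1, 8, 10, 6], [1, 7, 9, 1]], (∀ c ∈ w, c ∈ XAT1.cols) ∧ AltMult.c 6 7 i = ev (pl 8 1) w) i h1 h2
  exact e.2 ▸ ev_mem_gen e.1

theorem iso9 [Nontrivial G] (h : β * β = 1) (k : ∀ w ∈ XAT2.R0, ev (lt ι r c β) w = 1)
    (he : gen (lt ι r c β) XAT2.cols = ⊤) : Nonempty (G ≃* alternatingGroup (Fin 9)) := by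
  obtain ⟨f, hf⟩ := exists_f 9 (by decide +kernel) (swap 4 5 * swap 7 8)
  have := (bd2 (f := f) (r' := pr' 9) (c' := pc 9) (β' := swap 4 5 * swap 7 8) h (by decide +kernel) k
    (by rw [hf]; decide +kernel)).2
  rw [hf] at this
  refine alt_of (by decide) ((Nat.mul_le_mul_left 2 this).trans (by decide)) (a := 6) (b := 7)
    (by decide) (fun i h1 h2 => ?_) he
  obtain ⟨w, hw, e⟩ := (by decide +kernel : ∀ i : Fin 9, i ≠ 6 → i ≠ 7 →
    ∃ w ∈ [[1, 0, 2, 3, 8, 9, 3, 1], [0, 1, 3, 8, 10, 3, 1, 0], [0, 3, 7, 9, 3, 0], [3, 1, 6, 8, 10, 3],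
      [1, 8, 10, 6], [1, 7, 9, 1], [4, 5, 11, 6]], (∀ c ∈ w, c ∈ XAT2.cols) ∧
      AltMult.c 6 7 i = ev (pl 9 (swap 4 5 * swap 7 8)) w) i h1 h2
  exact e.2 ▸ ev_mem_gen e.1

/-- the relations of the new involution -/
structure Bt (ι : KA →* G) (r c β : G) : Prop where
  bb : β * β = 1
  b9 : β * ee ι 9 * β⁻¹ = ee ι 9
  b7 : β * ee ι 7 * β⁻¹ = ee ι 7
  rho : β * (r * c) * β⁻¹ = (r * c)⁻¹
  w : β * ee ι 11 * (β * ee ι 11) * (β * ee ι 11) = 1
  y : β * ι (n2 * ea 7 * n2⁻¹) * β⁻¹ = ι (n2 * ea 14 * n2⁻¹)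

variable {D : Set G} {Q : G → Subgroup G}

namespace St

variable (S : St D Q ι r c)
include S

theorem ar : Act (ee ι) r 0xa584 := actal S.cr.act (by decide +kernel)

theorem d1 : ee ι 1 ∈ D := (show _ = ee ι 1 from S.cc.act 2 (by decide)) ▸ S.sit.conj _ S.hz c
theorem d8 : ee ι 8 ∈ D := (show _ = ee ι 8 from S.ar 2 (by decide)) ▸ S.sit.conj _ S.hz r

theorem rels1 : ∀ w ∈ XAT1.R0, ev (lt ι r c β) w = 1 := by
  have k : ∀ {g : G} {x y v : KA}, g * ι x * g⁻¹ = ι y → y * v = 1 →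
      g * (ι x * (g⁻¹ * (ι v * 1))) = 1 := fun {g x y v} h e => by
    rw [← mul_assoc, ← mul_assoc, h, mul_one, ← map_mul, e, map_one]
  have k' : ∀ {g : G} {x y v w : KA}, g * ι x * g⁻¹ = ι y → y * (v * w) = 1 →
      g * (ι x * (g⁻¹ * (ι v * (ι w * 1)))) = 1 := fun {g x y v w} h e => by
    simpa only [map_mul, mul_one] using k h e
  have e1 : ι (al x1) = ι x3 := congrArg ι (by decide +kernel)
  have e3 : ι (al x3) = ι x1 := congrArg ι (by decide +kernel)
  have e2 : ι (al n2) = ι n2 := congrArg ι (by decide +kernel)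
  have b1 := S.toEm.cal.braid S.cr (S.Dcj S.d1 (y := al (ea 8))) fun h =>
    S.nb (S.Dcj (x := al (ea 9)) h)
  simp only [MonoidHom.comp_apply, e2, e3] at b1
  refine rels_sub (rels_append (R := XAT1.R0.take 14) (R' := XAT1.R0.drop 14)
    (lt_rels (by decide +kernel)) ?_) (by decide +kernel)
  simp only [XAT1.R0, XAT1.G0, List.drop, List.forall_mem_cons, List.not_mem_nil, false_imp_iff,
    implies_true, and_true]
  refine ⟨?_, k S.cc.x1 (by decide +kernel), ?_, k' (S.cc.act 1 (by decide)) (by decide +kernel),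
    k (S.cc.act 2 (by decide)) (by decide +kernel), k' (S.cc.act 4 (by decide)) (by decide +kernel),
    k (S.cc.act 8 (by decide)) (by decide +kernel), ?_, k (e1 ▸ S.cr.x1) (by decide +kernel), ?_,
    k' (S.ar 8 (by decide)) (by decide +kernel), k (S.ar 2 (by decide)) (by decide +kernel),
    k' (S.ar 4 (by decide)) (by decide +kernel), k (S.ar 1 (by decide)) (by decide +kernel),
    ?_, ?_, ?_⟩
  · change c * (c * (c * 1)) = 1
    simpa only [mul_assoc, mul_one] using S.cc.c3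
  · change ι x3 * (c * (ι x3 * (c * 1))) = 1
    simpa only [mul_assoc, mul_one] using S.cc.x3
  · change r * (r * (r * 1)) = 1
    simpa only [mul_assoc, mul_one] using S.cr.c3
  · change ι x1 * (r * (ι x1 * (r * 1))) = 1
    simpa only [mul_assoc, mul_one, MonoidHom.comp_apply, e3] using S.cr.x3
  · change r * (c * (r⁻¹ * (c⁻¹ * 1))) = 1
    rw [← mul_assoc, ← mul_assoc, S.rc]; simp
  · change ι n2 * (c⁻¹ * (ι x3 * (c * (ι n2 * (c⁻¹ * (ι x3 * (c * (ι n2 * (c⁻¹ * (ι x3 *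
      (c * 1))))))))))) = 1
    simpa only [mul_assoc, mul_one] using S.braid S.cc S.d8 S.nb
  · change ι n2 * (r⁻¹ * (ι x1 * (r * (ι n2 * (r⁻¹ * (ι x1 * (r * (ι n2 * (r⁻¹ * (ι x1 *
      (r * 1))))))))))) = 1
    simpa only [mul_assoc, mul_one] using b1

theorem rels2 (B : Bt ι r c β) : ∀ w ∈ XAT2.R0, ev (lt ι r c β) w = 1 := by
  have i := inv_eq_of_mul_eq_one_right B.bb
  have k : ∀ {x y x' v : KA}, β * ι x * β⁻¹ = ι y → x' = x → y * v = 1 →
      β * ι x' * β * ι v = 1 := fun {x y x' v} h e' e => by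
    rw [i] at h
    rw [e', h, ← map_mul, e, map_one]
  refine rels_sub (rels_append (R' := XAT2.R0.drop 31) S.rels1 ?_) (by decide +kernel)
  simp only [XAT2.R0, XAT2.G0, List.drop, List.forall_mem_cons, List.not_mem_nil, false_imp_iff,
    implies_true, and_true]
  refine ⟨?_, ?_, ?_, ?_, ?_⟩
  · change β * (ι (ea 1) * (ι (ea 8) * (β * (ι (ea 1) * (ι (ea 8) * 1))))) = 1
    simpa only [mul_assoc, mul_one, map_mul] using
      k (x' := ea 1 * ea 8) (v := ea 1 * ea 8) B.b9 (by decide +kernel) (by decide +kernel)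
  · change β * (ι (ea 1) * (ι (ea 2) * (ι (ea 4) * (β * (ι (ea 1) * (ι (ea 2) * (ι (ea 4) *
      1))))))) = 1
    simpa only [mul_assoc, mul_one, map_mul] using k (x' := ea 1 * ea 2 * ea 4)
      (v := ea 1 * ea 2 * ea 4) B.b7 (by decide +kernel) (by decide +kernel)
  · change β * (r * (c * (β * (r * (c * 1))))) = 1
    have := B.rho
    rw [i, eq_inv_iff_mul_eq_one] at this
    simpa only [mul_assoc, mul_one] using this
  · change β * (ι (ea 1) * (ι (ea 8) * (ι (ea 2) * (β * (ι (ea 1) * (ι (ea 8) * (ι (ea 2) * (β *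
      (ι (ea 1) * (ι (ea 8) * (ι (ea 2) * 1))))))))))) = 1
    have := B.w
    rw [show ee ι 11 = ι (ea 1 * ea 8 * ea 2) from congrArg ι (by decide +kernel)] at this
    simpa only [mul_assoc, mul_one, map_mul] using this
  · change β * (ι x1 * (ι (ea 4) * (ι n2 * (ι (ea 4) * (ι (ea 2) * (β * (ι x1 * (ι (ea 4) * (ι n2 *
      (ι (ea 4) * (ι (ea 2) * (ι x1 * (ι x3 * 1))))))))))))) = 1
    simpa only [mul_assoc, mul_one, map_mul] using k (x' := x1 * ea 4 * n2 * ea 4 * ea 2)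
      (v := x1 * ea 4 * n2 * ea 4 * ea 2 * x1 * x3) B.y (by decide +kernel) (by decide +kernel)

end St

end H15.XA
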