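import Mathlib
import Cfsg.Agent.H15.XA3
import Cfsg.Agent.H15.Fin
import Cfsg.Agent.H6.CentEA

/-!
# Centralizer of order 192 as in `A₈`: the second class of involutions
-/

set_option autoImplicit false
set_option maxRecDepth 100000
set_option synthInstance.maxSize 4000
set_option linter.all false

namespace H15.XA

open H29 H7.Cay H7.X32 Subgroup H24 H6.XS H15.KM

/-- words for the elements of the model -/
def WL : List (List ℕ) := [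
  [], [0, 4, 5], [2, 5, 0], [4, 2], [0, 5], [4, 6], [2], [0, 4, 2, 5], [0, 2, 4], [2, 5], [4, 5],
  [0], [4, 2, 5], [0, 2], [0, 4], [5, 6], [6], [4, 5, 0], [0, 2, 5], [2, 4], [5, 0], [4], [2, 6],
  [0, 2, 4, 5], [0, 4, 2], [2, 5, 6], [4, 5, 6], [0, 6], [2, 4, 5], [0, 2, 6], [0, 4, 6], [5],
  [0, 2, 1, 3, 6], [1, 3, 0, 5], [1, 3, 2, 6], [1, 0, 3, 6], [1, 2, 3], [0, 4, 2, 1, 3],
  [0, 1, 3, 6], [1, 3, 0, 2], [1, 3, 0], [0, 1, 3, 2], [1, 0, 2, 3], [2, 1, 3, 6], [1, 0, 3, 2],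
  [1, 3, 6], [2, 1, 3, 0], [0, 1, 2, 3, 6], [0, 2, 1, 3], [1, 2, 3, 0], [1, 3, 2], [1, 0, 3],
  [1, 2, 3, 6], [2, 1, 0, 3], [0, 1, 3], [0, 1, 3, 2, 4], [1, 3, 0, 6], [5, 0, 1, 3],
  [0, 1, 2, 3, 0], [2, 1, 3], [1, 3, 2, 4], [1, 3], [4, 2, 1, 3], [0, 1, 2, 3], [3, 0, 1, 2, 4],
  [2, 3, 1], [3, 0, 1], [0, 3, 2, 1], [3, 0, 1, 5], [0, 3, 1, 2], [0, 3, 0, 2, 1], [3, 1, 6],
  [3, 2, 1, 6], [3, 1, 0, 6], [0, 2, 3, 1], [2, 3, 0, 2, 1], [0, 3, 1, 6], [3, 0, 2, 1],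
  [3, 1, 2, 6], [2, 3, 1, 0], [3, 1, 0, 2], [2, 3, 1, 6], [3, 0, 1, 6], [3, 2, 1, 4],
  [2, 3, 0, 1], [3, 1, 2, 4], [3, 2, 1, 0], [3, 1], [3, 2, 1], [3, 1, 0], [0, 2, 3, 1, 6],
  [3, 0, 1, 2], [0, 3, 1], [0, 3, 2, 1, 0], [3, 1, 2], [3, 1, 0, 5], [1], [1, 0, 5],
  [0, 1, 2, 6], [4, 2, 1], [0, 1, 5], [1, 4, 6], [2, 1], [1, 0, 2], [2, 1, 0], [1, 2], [1, 4, 5],
  [0, 1], [1, 4, 2], [0, 2, 1], [1, 0], [1, 5, 6], [1, 6], [1, 5, 0], [0, 1, 2], [2, 1, 4],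
  [5, 0, 1], [1, 4], [2, 1, 6], [0, 1, 2, 4], [0, 4, 2, 1], [1, 2, 6], [0, 1, 5, 0], [0, 1, 6],
  [1, 2, 4], [0, 2, 1, 6], [1, 0, 6], [1, 5], [0, 1, 3, 1, 2, 6], [1, 3, 0, 1, 5],
  [1, 3, 2, 1, 6], [1, 0, 3, 1, 6], [1, 2, 3, 1], [1, 0, 3, 1, 2], [0, 1, 3, 1, 6],
  [1, 3, 0, 2, 1], [1, 3, 0, 1], [0, 1, 3, 2, 1], [1, 0, 2, 3, 1], [1, 3, 1, 2, 6],
  [1, 0, 3, 2, 1], [1, 3, 1, 6], [2, 1, 3, 0, 1], [1, 2, 3, 1, 0], [0, 1, 3, 1, 2],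
  [1, 2, 3, 0, 1], [1, 3, 2, 1], [1, 0, 3, 1], [1, 2, 3, 1, 6], [1, 3, 1, 2, 4], [0, 1, 3, 1],
  [0, 1, 3, 2, 1, 4], [1, 3, 0, 1, 6], [1, 3, 2, 1, 0], [0, 1, 2, 3, 0, 1], [1, 3, 1, 2],
  [1, 3, 2, 1, 4], [1, 3, 1], [1, 3, 0, 1, 2], [0, 1, 2, 3, 1], [0, 2, 3, 0, 2], [2, 3], [3, 0],
  [0, 3, 2], [3, 0, 5], [0, 2, 3, 2], [0, 3, 0, 2], [3, 6], [3, 2, 6], [0, 3, 0, 6], [0, 2, 3],
  [2, 3, 0, 2], [0, 3, 6], [3, 0, 2], [2, 3, 2, 6], [0, 2, 3, 0], [0, 3, 0, 2, 5], [2, 3, 6],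
  [3, 0, 6], [3, 2, 4], [2, 3, 0], [2, 3, 2, 4], [3, 0, 2, 4], [3], [3, 2], [0, 3, 0],
  [0, 2, 3, 6], [3, 0, 2, 5], [0, 3], [3, 0, 2, 6], [2, 3, 2], [0, 3, 0, 5]]

theorem k_gen : ∀ x : KA, (∀ n ∈ nth [] WL x.val, n < 7) ∧ ev kl (nth [] WL x.val) = x := by
  decide +kernel
theorem k_inA : ∀ x : KA, x * x = 1 → ∃ k : KA, ∃ a < 16, k * x * k⁻¹ = ea a := by decide +kernel
theorem k_CV : ∀ x : KA, x * ea 9 * x⁻¹ = ea 9 → x * ea 7 * x⁻¹ = ea 7 → ∃ a < 16, ea a = x := by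
  decide +kernel
theorem k_P4 : ∀ x : KA, x * ea 9 * x⁻¹ = ea 9 → x * x * x * x = 1 := by decide +kernel
theorem k_P : ∀ x : KA, x * ea 9 * x⁻¹ = ea 9 → x * x = 1 → (∃ a < 16, ea a = x) ∨
    (∃ k : KA, k * ea 1 * k⁻¹ = x ∨ k * ea 8 * k⁻¹ = x) ∨ ∀ y : KA, y * ea 9 * y⁻¹ = ea 9 →
      y * x * y⁻¹ = x → y * y = 1 → y = ea 2 ∨ y = 1 ∨ ∃ k : KA, k * y * k⁻¹ = ea 9 := by
  decide +kernel

universe u

variable {G : Type u} [Group G] {g c r β σ k x y : G} {ι : KA →* G} {e : ℕ → G} {m a v w : ℕ}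

theorem cj0 {n a : G} (h : n * x * n⁻¹ = y) (h' : a * y * a⁻¹ = y) :
    n⁻¹ * a * n * x * (n⁻¹ * a * n)⁻¹ = x := by
  calc _ = n⁻¹ * (a * (n * x * n⁻¹) * a⁻¹) * n := by group
    _ = x := by rw [h, h', ← h]; group

theorem cc' {n a : G} (h : n * x * n⁻¹ = y) (h' : a * x * a⁻¹ = x) :
    n * a * n⁻¹ * y * (n * a * n⁻¹)⁻¹ = y := by
  calc _ = n * (a * x * a⁻¹) * n⁻¹ := by rw [← h]; group
    _ = y := by rw [h', h]

theorem cm (h : x * y * x⁻¹ = y) : y * x * y⁻¹ = x :=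
  mem_C1_iff_conj.1 (mem_C1_comm.1 (mem_C1_iff_conj.2 h))

theorem ci {w : G} (h : x * y * x⁻¹ = w) : x⁻¹ * w * x⁻¹⁻¹ = y := by rw [← h]; group

theorem eq1 (h : PiElt {2} g) (h3 : g * g * g = 1) : g = 1 :=
  h.eq_one (piElt_of_pow_eq_one (n := 3) ((piNat_compl_singleton Nat.prime_two).2 (by decide))
    (by rw [← h3]; simp [pow_succ]))

variable [Finite G]

theorem act_N (V : EV e) (h : Act e g m) : g ∈ N[esub V] := mem_N_of_finite (by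
  rintro _ ⟨a, ha, rfl⟩; exact ⟨_, lin_lt _ _, (h a ha).symm⟩)

theorem reg0 (T : Sylow 2 G) (h4 : ∃ a ∈ T, ∃ b ∈ T, a ≠ 1 ∧ b ≠ 1 ∧ a * b ≠ 1)
    (hE : ∀ a ∈ T, a * a = 1) (hC : ∀ a ∈ T, a ≠ 1 → ∀ g, g * a * g⁻¹ = a → g ∈ T)
    (hx : x ∉ N[(T : Subgroup G)]) (hy : y ∉ N[(T : Subgroup G)]) :
    ∃ a ∈ T, y⁻¹ * a * x ∈ N[(T : Subgroup G)] := by
  obtain ⟨t, ⟨h1, h2⟩, -⟩ := H6.cea_regular T (fun h => by
    obtain ⟨a, ha, b, hb, a1, b1, ab⟩ := h4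
    obtain ⟨g, hg⟩ := h.exists_generator
    have g2 : g * g = 1 := Subtype.ext (hE g g.2)
    have k : ∀ a : G, a ∈ T → a ≠ 1 → a = g := fun a ha a1 =>
      ((mem_zp2 g2).1 (hg ⟨a, ha⟩)).elim (fun e => absurd (congrArg Subtype.val e) a1)
        (congrArg Subtype.val)
    exact ab (by rw [k a ha a1, k b hb b1]; exact hE g g.2)) (fun t ht => by
    have t2 := H6.mul_self_of_orderOf_two ht
    obtain ⟨g, -, e⟩ := Sylow_Jsub Nat.prime_two (syl_top_of_sylow Nat.prime_two T)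
      (pi2' t2).isPi le_top
    have : EA C{t} := fun c hc => by
      have := hE _ (hC _ (e (conj_mem_cj g (mem_zpowers t))) (fun e => H6.ne_one_of_orderOf_two ht
        (conj_eq_one_iff'.1 e)) _ (cc' rfl (mem_C1_iff_conj.1 hc)))
      rwa [conj_mul, conj_eq_one_iff'] at this
    exact ⟨abl_iff.2 this.le_C, fun c hc => by rw [pow_two, this c hc]⟩)
    (fun h => hx (normalizer_eq_top_iff.2 h ▸ mem_top x)) (QuotientGroup.mk x) (QuotientGroup.mk y)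
    (fun e => hx (by simpa using QuotientGroup.eq.1 e)) fun e => hy (by simpa using QuotientGroup.eq.1 e)
  rw [MulAction.Quotient.smul_coe, eq_comm, QuotientGroup.eq] at h2
  exact ⟨t, h1, by simpa [mul_assoc] using h2⟩

theorem reg_mod {K A V : Subgroup G} (hS : Syl 2 K A) (hVA : V ≤ A) (hV : K ≤ N[V])
    (h4 : ∃ a ∈ A, ∃ b ∈ A, a ∉ V ∧ b ∉ V ∧ a * b ∉ V) (hE : ∀ a ∈ A, a * a = 1)
    (hC : ∀ a ∈ A, a ∉ V → ∀ g ∈ K, g * a * g⁻¹ * a⁻¹ ∈ V → g ∈ A) (kx : x ∈ K) (ky : y ∈ K)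
    (hx : x ∉ N[A]) (hy : y ∉ N[A]) : ∃ a ∈ A, y⁻¹ * a * x ∈ N[A] := by
  have := Fact.mk Nat.prime_two
  have : (V.subgroupOf K).Normal := ⟨fun n hn g => conj_mem (H := V) (hV g.2) hn⟩
  obtain ⟨S, hS'⟩ := hS.exists_sylow Nat.prime_two
  have mS : ∀ k : K, k ∈ S ↔ (k : G) ∈ A := fun k => by
    rw [← hS']; exact ⟨fun h => ⟨k, h, rfl⟩, fun ⟨s, h, e⟩ => Subtype.ext e ▸ h⟩
  let π := QuotientGroup.mk' (V.subgroupOf K)
  have hπ : Function.Surjective π := QuotientGroup.mk'_surjective _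
  have p1 : ∀ k : K, π k = 1 ↔ (k : G) ∈ V := fun k => QuotientGroup.eq_one_iff k
  let T := S.mapSurjective hπ
  have mT : ∀ k : K, π k ∈ T ↔ (k : G) ∈ A := fun k => ⟨fun ⟨s, h, e⟩ => by
    have := hVA ((p1 (s⁻¹ * k)).1 (by rw [map_mul, map_inv, e, inv_mul_cancel]))
    simpa using mul_mem ((mS s).1 h) this, fun h => ⟨k, (mS k).2 h, rfl⟩⟩
  have mN : ∀ k : K, π k ∈ N[(T : Subgroup (K ⧸ V.subgroupOf K))] ↔ (k : G) ∈ N[A] := fun k =>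
    ⟨fun h => mem_N_of_finite fun a ha => (mT (k * ⟨a, hS.le ha⟩ * k⁻¹)).1 (by
      rw [map_mul, map_mul, map_inv]; exact conj_mem h ((mT ⟨a, hS.le ha⟩).2 ha)),
    fun h => mem_N_of_finite fun t ht => by
      obtain ⟨s, rfl⟩ := hπ t
      rw [← map_inv, ← map_mul, ← map_mul]
      exact (mT _).2 (conj_mem h ((mT s).1 ht))⟩
  obtain ⟨t, ht, h⟩ := reg0 T (x := π ⟨x, kx⟩) (y := π ⟨y, ky⟩) (by
    obtain ⟨a, ha, b, hb, a1, b1, ab⟩ := h4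
    exact ⟨π ⟨a, hS.le ha⟩, (mT _).2 ha, π ⟨b, hS.le hb⟩, (mT _).2 hb, mt (p1 _).1 a1, mt (p1 _).1 b1,
      by rw [← map_mul]; exact mt (p1 _).1 ab⟩) (fun t ht => by
    obtain ⟨s, rfl⟩ := hπ t
    rw [← map_mul, show s * s = 1 from Subtype.ext (hE _ ((mT s).1 ht)), map_one]) (fun t ht t1 g hg => by
    obtain ⟨s, rfl⟩ := hπ t
    obtain ⟨g, rfl⟩ := hπ g
    exact (mT g).2 (hC s ((mT s).1 ht) (mt (p1 s).2 t1) g g.2 ((p1 (g * s * g⁻¹ * s⁻¹)).1 (by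
      simp only [map_mul, map_inv, hg, mul_inv_cancel])))) (mt (mN _).1 hx) (mt (mN _).1 hy)
  obtain ⟨s, rfl⟩ := hπ t
  rw [← map_inv, ← map_mul, ← map_mul, mN] at h
  exact ⟨s, (mT s).1 ht, h⟩

/-- the group of order 16 -/
noncomputable abbrev AA (ι : KA →* G) : Subgroup G := esub (ev_ee ι)
/-- the centralizer of the four-group -/
noncomputable abbrev KV (ι : KA →* G) : Subgroup G := C{ee ι 9} ⊓ C{ee ι 7}
/-- the elements of `⟨ρ⟩` -/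
def Rh (ρ σ : G) : Prop := σ = 1 ∨ σ = ρ ∨ σ = ρ⁻¹
/-- a subgroup that contains the amalgam -/
structure Big (ι : KA →* G) (r c : G) (Y : Subgroup G) : Prop where
  i : ∀ x, ι x ∈ Y
  r : r ∈ Y
  c : c ∈ Y

theorem eA (ha : a < 16) : ee ι a ∈ AA ι := ⟨a, ha, rfl⟩
theorem eN (ha : a < 16) : ee ι a ∈ N[AA ι] := norm_self _ (eA ha)
theorem einv (ha : a < 16) : (ee ι a)⁻¹ = ee ι a := inv_eq_of_mul_eq_one_right ((ev_ee ι).sq ha)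
theorem ecj {b : ℕ} (ha : a < 16) (hb : b < 16) : ee ι a * ee ι b * (ee ι a)⁻¹ = ee ι b := by
  rw [(ev_ee ι).comm ha hb, mul_inv_cancel_right]
theorem eK (ha : a < 16) : ee ι a ∈ KV ι :=
  ⟨mem_C1_iff_conj.2 (ecj ha (by decide)), mem_C1_iff_conj.2 (ecj ha (by decide))⟩
theorem AK : AA ι ≤ KV ι := by rintro _ ⟨a, ha, rfl⟩; exact eK ha
theorem Kv (hg : g ∈ KV ι) (hv : v ∈ [0, 7, 9, 14]) : g * ee ι v * g⁻¹ = ee ι v := by
  simp only [List.mem_cons, List.not_mem_nil, or_false] at hv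
  rcases hv with rfl | rfl | rfl | rfl
  · rw [(ev_ee ι).zero]; simp
  · exact mem_C1_iff_conj.1 hg.2
  · exact mem_C1_iff_conj.1 hg.1
  · rw [← emul ι (a := 9) (b := 7) (c := 14)]
    exact cjm (mem_C1_iff_conj.1 hg.1) (mem_C1_iff_conj.1 hg.2)
theorem Rh.inv {ρ : G} (h : Rh ρ σ) : Rh ρ σ⁻¹ := by rcases h with rfl | rfl | rfl <;> simp [Rh]
theorem Rh.mem {ρ : G} (h : Rh ρ σ) {H : Subgroup G} (k : ρ ∈ H) : σ ∈ H := by
  rcases h with rfl | rfl | rfl <;> simp [k]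

theorem big_gen {l : List ℕ} (h : ∀ n < 11, n ∈ l) : Big ι r c (gen (lt ι r c β) l) :=
  ⟨fun x => by
    rw [← (k_gen x).2, map_ev, ← ev_congr fun n hn => lt_kl (r := r) (c := c) (β := β)
      ((k_gen x).1 n hn)]
    exact ev_mem_gen fun n hn => h n (((k_gen x).1 n hn).trans (by decide)),
  mem_gen (e := lt ι r c β) (h 7 (by decide)), mem_gen (e := lt ι r c β) (h 9 (by decide))⟩

variable {D : Set G} {Q : G → Subgroup G} {Y : Subgroup G}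

namespace St

variable (S : St D Q ι r c)
include S

theorem orb (ha : a < 16) (h0 : a ≠ 0) : ∃ g, (∀ Y, Big ι r c Y → g ∈ Y) ∧
    g * ee ι a * g⁻¹ = ee ι (if a ∈ [1, 2, 3, 4, 5, 8, 10, 12, 15] then 2 else 9) := by
  obtain ⟨w, -, e⟩ := (by decide +kernel : ∀ a < 16, a ≠ 0 → ∃ w ∈ [[0, 0], [], [0], [0, 0, 1, 1],
    [0, 0, 1], [1, 2], [1], [1, 1], [2], [0, 1, 1], [0, 2], [0, 1]],
    lin (wd (nth idm [0x4c13, 0xa584, 0xa521]) w) a =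
      if a ∈ [1, 2, 3, 4, 5, 8, 10, 12, 15] then 2 else 9) a ha h0
  refine ⟨_, fun Y hY => ev_mem fun n _ => ?_, e ▸ Act.word (ev_ee ι)
    (act_nth (.cons S.cc.act (.cons S.ar (.cons (act_ι ι ax1) .nil)))) w a ha⟩
  rcases n with _ | _ | _ | n
  exacts [hY.c, hY.r, hY.i _, one_mem _]

theorem mD (ha : a < 16) : ee ι a ∈ D ↔ a ∈ [1, 2, 3, 4, 5, 8, 10, 12, 15] := by
  by_cases h0 : a = 0
  · subst h0
    exact iff_of_false (fun h => S.sit.ne_one h (ev_ee ι).zero) (by decide)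
  obtain ⟨g, -, e⟩ := S.orb ha h0
  split_ifs at e with h
  · exact iff_of_true (S.Dof e S.hz) h
  · exact iff_of_false (fun k => S.nb (e ▸ S.sit.conj _ k g)) h

theorem fus (hY : Big ι r c Y) (hx : x ∈ Y) (h2 : x * x = 1) (h1 : x ≠ 1) :
    ∃ y ∈ Y, y * x * y⁻¹ = ee ι 2 ∨ y * x * y⁻¹ = ee ι 9 := by
  obtain ⟨T, -, hT⟩ := S.sit.exists_sylow S.hz
  have hT : ∀ s ∈ T, ∃ x, ι x = s := fun s hs => (S.rng s).1 (mem_C1.2 (hT s hs).eq)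
  obtain ⟨g, hg, e⟩ := Sylow_Jsub Nat.prime_two ((syl_top_of_sylow Nat.prime_two T).of_le
    (L := Y) (fun s hs => by obtain ⟨x, rfl⟩ := hT s hs; exact hY.i x) le_top) (pi2' h2).isPi
    (zpowers_le.2 hx)
  obtain ⟨u, hu⟩ := hT _ (e (conj_mem_cj g (mem_zpowers x)))
  obtain ⟨k, a, ha, e⟩ := k_inA u (S.inj (by rw [map_mul, hu, conj_mul, h2]; simp))
  have e : ι k * g * x * (ι k * g)⁻¹ = ee ι a := cjc hu.symm (by rw [ee, ← e]; simp)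
  obtain ⟨g', h, e'⟩ := S.orb ha (by
    rintro rfl
    exact h1 (conj_eq_one_iff'.1 (e.trans (ev_ee ι).zero)))
  refine ⟨_, mul_mem (h Y hY) (mul_mem (hY.i k) hg), ?_⟩
  rw [cjc e e']
  split_ifs <;> simp

theorem Cz (hY : Big ι r c Y) (h : g * ee ι 2 * g⁻¹ = ee ι 2) : g ∈ Y := by
  obtain ⟨x, rfl⟩ := S.code h; exact hY.i x

theorem back (hY : Big ι r c Y) (h : g * ee ι 2 * g⁻¹ ∈ Y) : g ∈ Y := by
  have d := S.sit.conj _ S.hz g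
  obtain ⟨y, hy, e | e⟩ := S.fus hY h (S.sit.sq d) (S.sit.ne_one d)
  · exact (mul_mem_cancel_left hy).1 (S.Cz hY (cjc rfl e))
  · exact absurd (e ▸ S.sit.conj _ d y) S.nb

theorem top [IsSimpleGroup G] (hY : Big ι r c Y) (hb : C{ee ι 9} ≤ Y) : Y = ⊤ := by
  refine S.sit.eq_top S.hz (hY.i _) (fun g => S.back hY) (fun d hd h1 h2 g hg => ?_)
    ((ev_ee ι).sq (x := 9) (by decide)) (S.ene (by decide) (by decide)) S.nb
  obtain ⟨y, hy, e⟩ := S.fus hY (mul_mem (hY.i _) (S.Cz hY (mul_inv_eq_iff_eq_mul.2 h2.symm)))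
    (x := ee ι 2 * d) (by
      rw [mul_assoc, ← mul_assoc d, ← h2, mul_assoc, S.sit.sq hd, mul_one, S.sit.sq S.hz])
    fun e => h1 (by rw [eq_inv_of_mul_eq_one_right e, einv (by decide)])
  have : y * g * y⁻¹ ∈ Y := e.elim (fun e => S.Cz hY (cc' e (mem_C1_iff_conj.1 hg)))
    fun e => hb (mem_C1_iff_conj.2 (cc' e (mem_C1_iff_conj.1 hg)))
  exact (mul_mem_cancel_left hy).1 ((mul_mem_cancel_right (inv_mem hy)).1 this)

theorem NA_le (hY : Big ι r c Y) : N[AA ι] ≤ Y := fun g hg => S.back hY (by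
  obtain ⟨a, -, e⟩ := conj_mem hg (eA (a := 2) (by decide))
  exact e ▸ hY.i _)

theorem aρ : Act (ee ι) (r * c) 0x5f4c :=
  act_eq (S.ar.mul (ev_ee ι) S.cc.act) (by decide +kernel)
theorem ρN : r * c ∈ N[AA ι] := act_N _ S.aρ
theorem ρK : r * c ∈ KV ι :=
  ⟨mem_C1_iff_conj.2 (S.aρ 9 (by decide)), mem_C1_iff_conj.2 (S.aρ 7 (by decide))⟩
theorem ρ3 : r * c * (r * c) * (r * c) = 1 := by
  have h : Commute r c := mul_inv_eq_iff_eq_mul.1 S.rc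
  rw [← pow_three', h.mul_pow, pow_three', pow_three', S.cc.c3, S.cr.c3, mul_one]
theorem ρ1 : r * c ≠ 1 := fun e => by
  have := S.aρ 11 (by decide)
  rw [e, one_mul, inv_one, mul_one] at this
  exact absurd (S.einj (by decide) (lin_lt _ _) this) (by decide +kernel)
theorem σ3 (h : Rh (r * c) σ) : σ * σ * σ = 1 := by
  rcases h with rfl | rfl | rfl
  · simp
  · exact S.ρ3
  · rw [← mul_inv_rev, ← mul_inv_rev, ← mul_assoc, S.ρ3, inv_one]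

theorem toW (hw : w ∈ [6, 11, 13]) : ∃ σ, Rh (r * c) σ ∧ σ * ee ι w * σ⁻¹ = ee ι 11 := by
  simp only [List.mem_cons, List.not_mem_nil, or_false] at hw
  rcases hw with rfl | rfl | rfl
  · exact ⟨_, .inr (.inl rfl), S.aρ 6 (by decide)⟩
  · exact ⟨1, .inl rfl, by simp⟩
  · exact ⟨_, .inr (.inr rfl), ci (S.aρ 11 (by decide))⟩

omit S in
theorem c2 (h9 : g * ee ι 9 * g⁻¹ = ee ι 9) (h : g * ee ι 11 * g⁻¹ = ee ι 11) :
    g * ee ι 2 * g⁻¹ = ee ι 2 := by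
  rw [← emul ι (a := 9) (b := 11) (c := 2)]; exact cjm h9 h

theorem CW0 (hg : g ∈ KV ι) (h : g * ee ι 11 * g⁻¹ = ee ι 11) : g ∈ AA ι := by
  obtain ⟨x, rfl⟩ := S.code (c2 (mem_C1_iff_conj.1 hg.1) h)
  obtain ⟨a, ha, rfl⟩ := k_CV x (S.cj (mem_C1_iff_conj.1 hg.1)) (S.cj (mem_C1_iff_conj.1 hg.2))
  exact eA ha

theorem CW (hw : w ∈ [6, 11, 13]) (hg : g ∈ KV ι) (h : g * ee ι w * g⁻¹ = ee ι w) : g ∈ AA ι := by
  obtain ⟨σ, h1, h2⟩ := S.toW hw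
  exact (mem_N.1 (h1.mem S.ρN) g).2 (S.CW0 (mul_mem (mul_mem (h1.mem S.ρK) hg)
    (inv_mem (h1.mem S.ρK))) (cc' h2 h))

theorem isW (hw : w ∈ [6, 11, 13]) (hg : g ∈ KV ι) (ha : a < 16)
    (h : ee ι a = g * ee ι w * g⁻¹) : a ∈ [6, 11, 13] := by
  have k := (by decide : ∀ w ∈ [6, 11, 13], w < 16 ∧ w ∉ [1, 2, 3, 4, 5, 8, 10, 12, 15] ∧
    9 ^^^ w ∈ [1, 2, 3, 4, 5, 8, 10, 12, 15]) w hw
  refine (by decide : ∀ a < 16, a ∉ [1, 2, 3, 4, 5, 8, 10, 12, 15] →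
    9 ^^^ a ∈ [1, 2, 3, 4, 5, 8, 10, 12, 15] → a ∈ [6, 11, 13]) a ha
    (fun d => k.2.1 ((S.mD k.1).1 (S.Dof h.symm ((S.mD ha).2 d)))) ((S.mD (xlt (by decide) ha)).1 ?_)
  rw [ev_ee ι 9 (by decide) a ha, h, ← cjm (mem_C1_iff_conj.1 hg.1) rfl, ← ev_ee ι 9 (by decide) w k.1]
  exact S.sit.conj _ ((S.mD (xlt (by decide) k.1)).2 k.2.2) g

theorem NK (hg : g ∈ KV ι) (hn : g ∈ N[AA ι]) : ∃ σ, Rh (r * c) σ ∧ ∃ a < 16, g = σ * ee ι a := by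
  obtain ⟨u, hu, e⟩ := conj_mem hn (eA (a := 11) (by decide))
  obtain ⟨σ, h1, h2⟩ := S.toW (S.isW (by decide) hg hu e)
  obtain ⟨a, ha, e'⟩ := S.CW0 (mul_mem (h1.mem S.ρK) hg) (cjc e.symm h2)
  exact ⟨σ⁻¹, h1.inv, a, ha, by rw [e', inv_mul_cancel_left]⟩

theorem sylA : Syl 2 (KV ι) (AA ι) := by
  refine Sylow_subnorm Nat.prime_two AK (syl_of_max Nat.prime_two (esub_pi _)
    (le_inf AK (norm_self _)) fun P h1 h2 h3 g hg => ?_)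
  obtain ⟨σ, s, a, ha, rfl⟩ := S.NK (h3 hg).1 (h3 hg).2
  rw [eq1 (h1.piElt ((mul_mem_cancel_right (h2 (eA ha))).1 hg)) (S.σ3 s), one_mul]
  exact eA ha

theorem inA (hg : g ∈ KV ι) (hn : g ∈ N[AA ι]) (h : g * g = 1) : g ∈ AA ι :=
  S.sylA.le_of_norm (pi2' h).isPi (zpowers_le.2 hg) (zpowers_le.2 hn) (mem_zpowers g)

theorem inW (hw : w ∈ [6, 11, 13]) (hk : k ∈ KV ι) (h : k * ee ι w * k⁻¹ ∈ N[AA ι]) :
    ∃ a ∈ [6, 11, 13], ee ι a = k * ee ι w * k⁻¹ := by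
  have l := (by decide : ∀ w ∈ [6, 11, 13], w < 16) w hw
  obtain ⟨a, ha, e⟩ := S.inA (mul_mem (mul_mem hk (eK l)) (inv_mem hk)) h (by
    rw [conj_mul, (ev_ee ι).sq l]; simp)
  exact ⟨a, S.isW hw hk ha e, e⟩

theorem SE (hw : w ∈ [6, 11, 13]) (hk : k ∈ KV ι) (h : k * ee ι w * k⁻¹ ∈ N[AA ι]) :
    k ∈ N[AA ι] := by
  obtain ⟨a, ha, e⟩ := S.inW hw hk h
  refine mem_N_of_finite ?_
  rintro _ ⟨b, hb, rfl⟩
  exact S.CW ha (mul_mem (mul_mem hk (eK hb)) (inv_mem hk))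
    (cc' e.symm (ecj hb ((by decide : ∀ w ∈ [6, 11, 13], w < 16) w hw)))

omit S in
theorem split (ha : a < 16) : a ∈ [0, 7, 9, 14] ∨ ∃ w ∈ [6, 11, 13], ∃ v ∈ [0, 7, 9, 14],
    v < 16 ∧ ee ι a = ee ι w * ee ι v := by
  refine ((by decide : ∀ a < 16, a ∈ [0, 7, 9, 14] ∨ ∃ w ∈ [6, 11, 13], ∃ v ∈ [0, 7, 9, 14],
    v < 16 ∧ w < 16 ∧ a = w ^^^ v) a ha).imp id fun ⟨w, hw, v, hv, h1, h2, e⟩ =>
    ⟨w, hw, v, hv, h1, e ▸ ev_ee ι w h2 v h1⟩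

theorem Uq (hx : x ∈ KV ι) (hn : x ∉ N[AA ι]) (ha : a < 16) (h : x * ee ι a * x⁻¹ ∈ N[AA ι]) :
    a ∈ [0, 7, 9, 14] := by
  refine (split (ι := ι) ha).elim id fun ⟨w, hw, v, hv, h1, e⟩ => absurd (S.SE hw hx ?_) hn
  rw [e, cjm rfl (Kv hx hv)] at h
  exact (mul_mem_cancel_right (eN h1)).1 h

theorem reg (kx : x ∈ KV ι) (ky : y ∈ KV ι) (hx : x ∉ N[AA ι]) (hy : y ∉ N[AA ι]) :
    ∃ a < 16, y⁻¹ * ee ι a * x ∈ N[AA ι] := by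
  have V := ev_ee ι
  have l : ∀ v ∈ [0, 7, 9, 14], v < 16 := by decide
  let W : Subgroup G :=
    { carrier := {g | ∃ v ∈ [0, 7, 9, 14], ee ι v = g}
      one_mem' := ⟨0, by decide, V.zero⟩
      mul_mem' := by
        rintro _ _ ⟨a, ha, rfl⟩ ⟨b, hb, rfl⟩
        exact ⟨_, (by decide : ∀ a ∈ [0, 7, 9, 14], ∀ b ∈ [0, 7, 9, 14], a ^^^ b ∈ [0, 7, 9, 14])
          a ha b hb, V a (l a ha) b (l b hb)⟩
      inv_mem' := by
        rintro _ ⟨a, ha, rfl⟩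
        exact ⟨a, ha, (einv (l a ha)).symm⟩ }
  have mW : ∀ a < 16, ee ι a ∈ W → a ∈ [0, 7, 9, 14] := fun a ha ⟨v, hv, e⟩ =>
    S.einj (l v hv) ha e ▸ hv
  obtain ⟨_, ⟨a, ha, rfl⟩, h⟩ := reg_mod (V := W) S.sylA (by
    rintro _ ⟨v, hv, rfl⟩; exact eA (l v hv)) (fun g hg => mem_N_of_finite (by
    rintro _ ⟨v, hv, rfl⟩; exact ⟨v, hv, (Kv hg hv).symm⟩)) ⟨_, eA (a := 11) (by decide), _,
    eA (a := 6) (by decide), fun h => absurd (mW _ (by decide) h) (by decide),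
    fun h => absurd (mW _ (by decide) h) (by decide), fun h => absurd
      (mW 13 (by decide) (emul ι (a := 11) (b := 6) (c := 13) ▸ h)) (by decide)⟩ (by
    rintro _ ⟨a, ha, rfl⟩; exact V.sq ha) (by
    rintro _ ⟨a, ha, rfl⟩ h1 g hg ⟨u, hu, e⟩
    rcases split (ι := ι) ha with h | ⟨w, hw, v, hv, h2, e'⟩
    · exact absurd ⟨a, h, rfl⟩ h1
    have l' := (by decide : ∀ w ∈ [6, 11, 13], w < 16) w hw
    have e : ee ι (u ^^^ w) = g * ee ι w * g⁻¹ := by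
      rw [V u (l u hu) w l', e, e', cjm rfl (Kv hg hv)]; group
    have := (by decide : ∀ u ∈ [0, 7, 9, 14], ∀ w ∈ [6, 11, 13], u ^^^ w ∈ [6, 11, 13] →
      u ^^^ w = w) u hu w hw (S.isW hw hg (xlt (l u hu) l') e)
    exact S.CW hw hg (by rw [← e, this])) kx ky hx hy
  exact ⟨a, ha, h⟩

theorem piP (h9 : g * ee ι 9 * g⁻¹ = ee ι 9) (h2 : g * ee ι 2 * g⁻¹ = ee ι 2) : PiElt {2} g := by
  obtain ⟨x, rfl⟩ := S.code h2
  exact (pi2 (k_P4 x (S.cj h9))).map ι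

theorem sylP : Syl 2 C{ee ι 9} (C{ee ι 9} ⊓ C{ee ι 2}) := by
  refine Syl.of_norm_le Nat.prime_two (hall_self (isPi_iff_piElt.2 fun g hg =>
    S.piP (mem_C1_iff_conj.1 hg.1) (mem_C1_iff_conj.1 hg.2))) inf_le_left fun g hg =>
    ⟨hg.1, mem_C1_iff_conj.2 ?_⟩
  have m : ∀ a < 16, ee ι a ∈ C{ee ι 9} ⊓ C{ee ι 2} := fun a ha =>
    ⟨mem_C1_iff_conj.2 (ecj ha (by decide)), mem_C1_iff_conj.2 (ecj ha (by decide))⟩
  have k : ∀ p ∈ C{ee ι 9} ⊓ C{ee ι 2}, g * ee ι 2 * g⁻¹ * p * (g * ee ι 2 * g⁻¹)⁻¹ = p :=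
    fun p hp => cc' (by group) (cm (mem_C1_iff_conj.1 (conj_mem' hg.2 hp).2))
  obtain ⟨a, ha, e⟩ := S.CA (g := g * ee ι 2 * g⁻¹) (m := idm) (fun a ha => by
    rw [k _ (m a ha), (by decide +kernel : ∀ x < 16, lin idm x = x) a ha]) (by decide +kernel)
  have at' := (act_ι ι ax1).mul (ev_ee ι) (act_ι ι ax3)
  have := cm (k _ ⟨mem_C1_iff_conj.2 (at' 9 (by decide)), mem_C1_iff_conj.2 (at' 2 (by decide))⟩)
  rw [e, at' a ha] at this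
  rw [e, (by decide +kernel : ∀ a < 16, lin (cmp 0xa521 0x8c23) a = a →
    a ∈ [1, 2, 3, 4, 5, 8, 10, 12, 15] → a = 2) a ha (S.einj (lin_lt _ _) ha this)
    ((S.mD ha).1 (e ▸ S.sit.conj _ S.hz g))]

theorem nV (hg : g ∈ C{ee ι 9}) : g * ee ι 7 * g⁻¹ = ee ι 7 ∨ g * ee ι 7 * g⁻¹ = ee ι 14 := by
  have V := ev_ee ι
  have z : ∀ {x}, x ∈ zpowers (ee ι 9) ↔ x = 1 ∨ x = ee ι 9 := mem_zp2 (V.sq (by decide))
  have n : ∀ a < 16, a ∉ [1, 2, 3, 4, 5, 8, 10, 12, 15] → ∀ g, g * ee ι a * g⁻¹ ∉ D :=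
    fun a ha h g k => h ((S.mD ha).1 (S.Dof rfl k))
  have := z.1 (XP.norm_of_isolated S.sylP (u := ee ι 7) (a := ee ι 11) (b := ee ι 6)
    ⟨mem_C1_iff_conj.2 (ecj (by decide) (by decide)), mem_C1_iff_conj.2 (ecj (by decide) (by decide))⟩
    (fun h => (z.1 h).elim (S.ene (by decide) (by decide)) fun e =>
      absurd (S.einj (by decide) (by decide) e) (by decide)) (V.sq (by decide)) (fun g hg hP => ?_)
    (V.sq (by decide)) (V.sq (by decide)) (V.sq (by decide)) (eK (by decide)).1 (eK (by decide)).1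
    (fun v hv g hg h => ?_) hg)
  · refine this.imp (fun e => (inv_mul_eq_one.1 e).symm) fun e => ?_
    rw [inv_mul_eq_iff_eq_mul.1 e, emul ι (c := 14)]
  · have g9 := mem_C1_iff_conj.1 hg
    obtain ⟨x, hx⟩ := (S.rng _).1 hP.2
    have x9 : x * ea 9 * x⁻¹ = ea 9 := S.cj (hx ▸ mem_C1_iff_conj.1 hP.1)
    rcases k_P x x9 (S.inj (by rw [map_mul, hx, conj_mul, V.sq (by decide)]; simp)) with
      ⟨a, ha, rfl⟩ | ⟨k, e⟩ | h
    · change ee ι a = _ at hx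
      have h14 : ee ι (a ^^^ 9) = g * ee ι 14 * g⁻¹ := by
        rw [V a ha 9 (by decide), ← emul ι (a := 7) (b := 9) (c := 14), cjm hx.symm g9]
      rcases (by decide : ∀ a < 16, a ∉ [1, 2, 3, 4, 5, 8, 10, 12, 15] →
        a ^^^ 9 ∉ [1, 2, 3, 4, 5, 8, 10, 12, 15] → a ≠ 0 → a ^^^ 9 ≠ 0 → a = 7 ∨ a = 14) a ha
        (fun d => n 7 (by decide) (by decide) g (hx ▸ (S.mD ha).2 d))
        (fun d => n 14 (by decide) (by decide) g (h14 ▸ (S.mD (xlt ha (by decide))).2 d))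
        (fun e => S.ene (x := 7) (by decide) (by decide)
          (conj_eq_one_iff'.1 (hx.symm.trans (e ▸ V.zero))))
        (fun e => S.ene (x := 14) (by decide) (by decide)
          (conj_eq_one_iff'.1 (h14.symm.trans (e ▸ V.zero)))) with rfl | rfl
      · rw [← hx]; simp
      · rw [← hx, ← emul ι (a := 7) (b := 9) (c := 14)]; simp
    · exact absurd (hx ▸ e.elim (S.Dcj' S.d1) (S.Dcj' S.d8)) (n 7 (by decide) (by decide) g)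
    · exfalso
      have z9 : ee ι 2 * ee ι 9 * (ee ι 2)⁻¹ = ee ι 9 := ecj (by decide) (by decide)
      obtain ⟨k, hk, e⟩ := Sylow_Jsub Nat.prime_two S.sylA (pi2' (g := g⁻¹ * ee ι 2 * g) (by
        rw [show g⁻¹ * ee ι 2 * g * (g⁻¹ * ee ι 2 * g) = g⁻¹ * (ee ι 2 * ee ι 2) * g by group,
          V.sq (by decide)]; simp)).isPi (zpowers_le.2 ⟨mem_C1_iff_conj.2 (cj0 g9 z9),
          mem_C1_iff_conj.2 (cj0 rfl (cm (mem_C1_iff_conj.1 hP.2)))⟩)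
      obtain ⟨a, ha, e⟩ := e (conj_mem_cj k (mem_zpowers _))
      have key : ∀ b < 16, ee ι b ∈ D → (k * g⁻¹)⁻¹ * ee ι b * (k * g⁻¹) = ee ι 2 := fun b hb d => by
        obtain ⟨y, hy⟩ := S.code (cj0 (n := k * g⁻¹) (by rw [e]; group) (ecj hb ha))
        have d' : ι y ∈ D := by simpa [hy] using S.sit.conj _ d (k * g⁻¹)⁻¹
        rcases h y (S.cj (hy ▸ cj0 (cjc (ci g9) (mem_C1_iff_conj.1 hk.1))
          (ecj hb (by decide)))) (S.cj (by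
            rw [hy, hx]
            exact cj0 (cjc (ci rfl) (mem_C1_iff_conj.1 hk.2)) (ecj hb (by decide)))) (S.sq d') with
          rfl | rfl | h
        · exact hy.symm
        · exact absurd (map_one ι) (S.sit.ne_one d')
        · exact absurd (S.Dcj d' h) S.nb
      have := (key 1 (by decide) S.d1).trans (key 2 (by decide) S.hz).symm
      exact absurd (S.einj (x := 1) (y := 2) (by decide) (by decide) (by simpa using this)) (by decide)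
  · obtain ⟨w, hw, rfl⟩ : ∃ w ∈ [6, 11, 13], ee ι w = v := by
      rw [emul ι (c := 13)] at hv
      simp only [List.mem_cons, List.not_mem_nil, or_false] at hv
      rcases hv with rfl | rfl | rfl <;> exact ⟨_, by decide, rfl⟩
    have k := (by decide : ∀ w ∈ [6, 11, 13], w < 16 ∧ w ∉ [1, 2, 3, 4, 5, 8, 10, 12, 15] ∧
      w ^^^ 9 ∈ [1, 2, 3, 4, 5, 8, 10, 12, 15]) w hw
    rcases z.1 h with e | e
    · obtain ⟨σ, h1, h2⟩ := S.toW hw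
      have s9 := cc' (mem_C1_iff_conj.1 (h1.mem S.ρK).1) (mem_C1_iff_conj.1 hg)
      simpa [mul_assoc] using (S.piP s9 (c2 s9 (cc' h2 (inv_mul_eq_one.1 e).symm))).conj σ⁻¹
    · refine absurd ?_ (n w k.1 k.2.1 g)
      rw [inv_mul_eq_iff_eq_mul.1 e, ← V w k.1 9 (by decide)]
      exact (S.mD (xlt k.1 (by decide))).2 k.2.2

end St

end H15.XA
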