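import Mathlib
import Cfsg.Agent.H15.XA4

/-!
# Centralizer of order 192 as in `A₈`: the ninth point
-/

set_option autoImplicit false
set_option maxRecDepth 100000
set_option synthInstance.maxSize 4000
set_option linter.all false

namespace H15.XA

open H29 H7.Cay H7.X32 Subgroup H24 H6.XS H15.KM

universe u

variable {G : Type u} [Group G] [Finite G] {g c r β β' σ k x y : G} {ι : KA →* G} {a v w : ℕ}
  {D : Set G} {Q : G → Subgroup G} {Y : Subgroup G}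

/-- a conjugate of `w₀` in `K` outside `N(A)` -/
structure Be0 (ι : KA →* G) (β : G) : Prop where
  k : ∃ k ∈ KV ι, k * ee ι 11 * k⁻¹ = β
  nN : β ∉ N[AA ι]

theorem Be0.K (B : Be0 ι β) : β ∈ KV ι := by
  obtain ⟨k, hk, rfl⟩ := B.k
  exact mul_mem (mul_mem hk (eK (by decide))) (inv_mem hk)

theorem Be0.sq (B : Be0 ι β) : β * β = 1 := by
  obtain ⟨k, hk, rfl⟩ := B.k
  rw [conj_mul, (ev_ee ι).sq (by decide)]; simp

theorem Be0.i (B : Be0 ι β) : β⁻¹ = β := inv_eq_of_mul_eq_one_right B.sq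

theorem Be0.cj (B : Be0 ι β) (h1 : g ∈ KV ι) (h2 : g ∈ N[AA ι]) : Be0 ι (g * β * g⁻¹) :=
  ⟨by
    obtain ⟨k, hk, rfl⟩ := B.k
    exact ⟨g * k, mul_mem h1 hk, by group⟩,
  fun h => B.nN ((mul_mem_cancel_left h2).1 ((mul_mem_cancel_right (inv_mem h2)).1 h))⟩

/-- the new involution -/
structure Be (ι : KA →* G) (ρ β : G) : Prop extends Be0 ι β where
  rho : β * ρ * β⁻¹ ∈ N[AA ι]
  w : β * ee ι 11 * β * (β * ee ι 11)⁻¹ ∈ N[AA ι]

namespace St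

variable (S : St D Q ι r c)
include S

theorem be1 (h : ¬ KV ι ≤ N[AA ι]) : ∃ β, Be0 ι β ∧ β * (r * c) * β⁻¹ ∈ N[AA ι] := by
  have V := ev_ee ι
  obtain ⟨k, hk, hn⟩ := SetLike.not_le_iff_exists.1 h
  have B : Be0 ι (k * ee ι 11 * k⁻¹) := ⟨⟨k, hk, rfl⟩, fun h => hn (S.SE (by decide) hk h)⟩
  generalize k * ee ι 11 * k⁻¹ = β at B
  obtain ⟨a, ha, h⟩ := S.reg B.K (mul_mem S.ρK B.K) B.nN fun h =>
    B.nN ((mul_mem_cancel_left S.ρN).1 h)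
  obtain ⟨b, hb, v, hv, l, e⟩ := (by decide +kernel : ∀ a < 16, ∃ b < 16, ∃ v ∈ [0, 7, 9, 14],
    v < 16 ∧ b ^^^ lin 0x5f4c b = v ^^^ a) a ha
  refine ⟨_, B.cj (eK hb) (eN hb), ?_⟩
  have e1 : (ee ι b)⁻¹ * (r * c) * ee ι b = ee ι v * (ee ι a)⁻¹ * (r * c) := by
    rw [einv hb, einv ha, ← V v l a ha, ← e, V b hb _ (lin_lt _ _), ← S.aρ b hb]; group
  have e2 : ee ι b * β * (ee ι b)⁻¹ * (r * c) * (ee ι b * β * (ee ι b)⁻¹)⁻¹ =
      ee ι b * (β * ee ι v * β⁻¹ * (β * β) * ((r * c * β)⁻¹ * ee ι a * β)⁻¹ * (β * β)⁻¹) *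
        (ee ι b)⁻¹ := by
    calc _ = ee ι b * (β * ((ee ι b)⁻¹ * (r * c) * ee ι b) * β⁻¹) * (ee ι b)⁻¹ := by group
      _ = _ := by rw [e1]; group
  rw [e2, B.sq, Kv B.K hv]
  exact mul_mem (mul_mem (eN hb) (by simpa using mul_mem (eN l) (inv_mem h))) (inv_mem (eN hb))

theorem σρ (h : Rh (r * c) σ) : σ * (r * c) * σ⁻¹ = r * c := by
  rcases h with rfl | rfl | rfl <;> group

theorem be (h : ¬ KV ι ≤ N[AA ι]) : ∃ β, Be ι (r * c) β := by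
  obtain ⟨β, B, h⟩ := S.be1 h
  obtain ⟨k, hk, e⟩ := B.k
  have n11 : ee ι 11 ∈ N[AA ι] := eN (by decide)
  have hn : k ∉ N[AA ι] := fun h => B.nN (e ▸ mul_mem (mul_mem h n11) (inv_mem h))
  obtain ⟨a, ha, h1⟩ := S.reg B.K hk B.nN hn
  have h2 := mul_mem (mul_mem (inv_mem h1) n11) h1
  rw [show (k⁻¹ * ee ι a * β)⁻¹ * ee ι 11 * (k⁻¹ * ee ι a * β) =
    β⁻¹ * (ee ι a)⁻¹ * (k * ee ι 11 * k⁻¹) * (β⁻¹ * (ee ι a)⁻¹)⁻¹ by group, e, B.i, einv ha] at h2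
  rcases split (ι := ι) ha with hv | ⟨w, hw, v, hv, l, e'⟩
  · refine absurd ?_ B.nN
    rwa [show β * ee ι a * β * (β * ee ι a)⁻¹ = β * (ee ι a * β * (ee ι a)⁻¹) * β⁻¹ by group,
      cm (Kv B.K hv), mul_inv_cancel_right] at h2
  rw [e', show β * (ee ι w * ee ι v) * β * (β * (ee ι w * ee ι v))⁻¹ =
    β * ee ι w * (ee ι v * β * (ee ι v)⁻¹) * (β * ee ι w)⁻¹ by group, cm (Kv B.K hv)] at h2
  obtain ⟨σ, s, e1⟩ := S.toW hw
  have sN := s.mem S.ρN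
  refine ⟨_, B.cj (s.mem S.ρK) sN, ?_, ?_⟩
  · convert mul_mem (mul_mem sN h) (inv_mem sN) using 1
    nth_rw 1 [← S.σρ s]; group
  · convert mul_mem (mul_mem sN h2) (inv_mem sN) using 1
    rw [← e1]; group

theorem v0 (B : Be0 ι β) (hk : k ∈ KV ι) (hv : v ∈ [0, 7, 9, 14])
    (h : β = k * ee ι 11 * k⁻¹ * ee ι v) : v = 0 := by
  obtain ⟨k', hk', e⟩ := B.k
  have l := (by decide : ∀ v ∈ [0, 7, 9, 14], v < 16 ∧ (11 ^^^ v ∈ [6, 11, 13] → v = 0)) v hv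
  refine l.2 (S.isW (w := 11) (by decide) (mul_mem (inv_mem hk) hk') (xlt (by decide) l.1) ?_)
  rw [ev_ee ι 11 (by decide) v l.1, cjc e (a := k⁻¹) rfl, h]
  nth_rw 1 [← Kv (inv_mem hk) hv]; group

theorem stab (B : Be ι (r * c) β) (hg : g ∈ KV ι) (h1 : g ∈ N[AA ι]) (h2 : β * g * β⁻¹ ∈ N[AA ι]) :
    ∃ σ, Rh (r * c) σ ∧ ∃ v ∈ [0, 7, 9, 14], g = σ * ee ι v := by
  obtain ⟨σ, s, a, ha, rfl⟩ := S.NK hg h1
  refine ⟨σ, s, a, S.Uq B.K B.nN ha ?_, rfl⟩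
  rw [← conj_mul] at h2
  refine (mul_mem_cancel_left ?_).1 h2
  rcases s with rfl | rfl | rfl
  · simp
  · exact B.rho
  · rw [← conj_inv]; exact inv_mem B.rho

theorem inv (B : Be ι (r * c) β) : β * (r * c) * β⁻¹ = (r * c)⁻¹ := by
  obtain ⟨σ, s, v, hv, e⟩ := S.stab B (mul_mem (mul_mem B.K S.ρK) (inv_mem B.K)) B.rho (by
    rw [cjc rfl rfl |>.symm, B.sq]; simpa using S.ρN)
  have l := (by decide : ∀ v ∈ [0, 7, 9, 14], v < 16) v hv
  have h3 : σ * ee ι v * (σ * ee ι v) * (σ * ee ι v) = 1 := by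
    rw [← e, conj_mul, conj_mul, S.ρ3]; simp
  have cv : Commute σ (ee ι v) := mul_inv_eq_iff_eq_mul.1 (Kv (s.mem S.ρK) hv)
  rw [← pow_three', cv.mul_pow, pow_three', pow_three', S.σ3 s, (ev_ee ι).sq l, one_mul,
    one_mul] at h3
  rw [h3, mul_one] at e
  rcases s with rfl | s | rfl
  · exact absurd (conj_eq_one_iff'.1 e) S.ρ1
  · obtain ⟨k, hk, e'⟩ := B.k
    have := (esub_pi _).piElt (S.CW0 (mul_mem (mul_mem (inv_mem hk) S.ρK) hk)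
      (cj0 e' (cm (e.trans s))))
    exact absurd (eq1 (by simpa [mul_assoc] using this.conj k) S.ρ3) S.ρ1
  · exact e

theorem w3 (B : Be ι (r * c) β) : β * ee ι 11 * β * (β * ee ι 11)⁻¹ = ee ι 11 := by
  obtain ⟨k, hk, e⟩ := B.k
  have i : (ee ι 11)⁻¹ = ee ι 11 := einv (by decide)
  have e1 : β * ee ι 11 * k * ee ι 11 * (β * ee ι 11 * k)⁻¹ = _ := cjc e rfl
  obtain ⟨a, ha, e2⟩ := S.inW (w := 11) (by decide) (mul_mem (mul_mem B.K (eK (by decide))) hk)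
    (e1 ▸ B.w)
  rw [e1] at e2
  have l := (by decide : ∀ a ∈ [6, 11, 13], a < 16 ∧ (a ^^^ 11 ∈ [0, 7, 9, 14] → a = 11)) a ha
  rw [← e2, l.2 (S.Uq B.K B.nN (xlt l.1 (by decide)) ?_)]
  rw [ev_ee ι a l.1 11 (by decide), e2]
  convert mul_mem (eN (a := 11) (by decide)) B.w using 1
  rw [mul_inv_rev, i, B.i]
  calc _ = β * β * (ee ι 11 * β * ee ι 11 * β * ee ι 11 * β) := by group
    _ = _ := by rw [B.sq]; group

theorem uniqB (B : Be ι (r * c) β) (B' : Be ι (r * c) β') : β' = β := by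
  have V := ev_ee ι
  obtain ⟨a, ha, h⟩ := S.reg B.K B'.K B.nN B'.nN
  have hv : a ∈ [0, 7, 9, 14] := by
    refine (by decide +kernel : ∀ a < 16, a ^^^ lin 0x5f4c a ∈ [0, 7, 9, 14] → a ∈ [0, 7, 9, 14]) a ha
      (S.Uq B.K B.nN (xlt ha (lin_lt _ _)) ?_)
    rw [V a ha _ (lin_lt _ _), ← S.aρ a ha]
    convert mul_mem (mul_mem (mul_mem (inv_mem h) B'.rho) h) (inv_mem B.rho) using 1
    calc _ = β * β * (β⁻¹ * ee ι a * (r * c) * ee ι a * β * (β * (r * c) * β⁻¹)⁻¹) * (β * (r * c) * (β * β)⁻¹ * (r * c)⁻¹ * β⁻¹) := by group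
      _ = β⁻¹ * (ee ι a)⁻¹ * (β' * β') * (r * c) * (β' * β')⁻¹ * ee ι a * β * (β * (r * c) * β⁻¹)⁻¹ := by
        rw [B.sq, B'.sq, einv ha]; group
      _ = _ := by group
  have h1 : β'⁻¹ * β ∈ N[AA ι] := by
    rw [← Kv B.K hv, show β'⁻¹ * (β * ee ι a * β⁻¹) * β = β'⁻¹ * β * ee ι a by group] at h
    exact (mul_mem_cancel_right (eN ha)).1 h
  obtain ⟨σ, s, v, hv, e⟩ := S.stab B (mul_mem (inv_mem B.K) B'.K) (by simpa using inv_mem h1) (by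
    rw [B'.i] at h1
    rw [← mul_assoc, mul_inv_cancel, one_mul, B.i]; exact h1)
  have e1 : β * σ * β⁻¹ = σ⁻¹ := by
    rcases s with rfl | rfl | rfl
    · simp
    · exact S.inv B
    · rw [← conj_inv, S.inv B]
  have e2 : β' = σ * β * σ⁻¹ * ee ι v := by
    calc β' = β * σ * β⁻¹ * β * ee ι v := by rw [inv_mul_eq_iff_eq_mul.1 e]; group
      _ = (σ * σ * σ)⁻¹ * σ * (σ * β * σ) * σ⁻¹ * ee ι v := by rw [e1]; group
      _ = _ := by
        rw [S.σ3 s, show σ * β * σ = σ * (β * σ * β⁻¹) * β by group, e1]; group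
  obtain ⟨k, hk, e3⟩ := B.k
  obtain rfl := S.v0 B'.toBe0 (mul_mem (s.mem S.ρK) hk) hv (by rw [cjc e3 rfl]; exact e2)
  rw [V.zero, mul_one] at e2
  have key : ∀ w ∈ [6, 13], σ * ee ι w * σ⁻¹ ≠ ee ι 11 := fun w hw e4 => by
    have l := (by decide : ∀ w ∈ [6, 13], w < 16 ∧ w ^^^ 11 ∉ [0, 7, 9, 14]) w hw
    have e5 : β * ee ι w * β * (β * ee ι w)⁻¹ = ee ι w := by
      have := S.w3 B'
      rw [e2, ← e4] at this
      calc _ = σ⁻¹ * (σ * β * σ⁻¹ * (σ * ee ι w * σ⁻¹) * (σ * β * σ⁻¹) *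
        (σ * β * σ⁻¹ * (σ * ee ι w * σ⁻¹))⁻¹) * σ := by group
        _ = _ := by rw [this]; group
    have := S.SE (w := 11) (by decide) (k := β * ee ι w * (β * ee ι 11)⁻¹)
      (mul_mem (mul_mem B.K (eK l.1)) (inv_mem (mul_mem B.K (eK (by decide)))))
      (by rw [cjc (ci (S.w3 B)) e5]; exact eN l.1)
    refine l.2 (S.Uq B.K B.nN (xlt l.1 (by decide)) ?_)
    rwa [mul_inv_rev, einv (by decide), ← mul_assoc, mul_assoc β, ← V w l.1 11 (by decide)] at this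
  rcases s with rfl | rfl | rfl
  · simpa using e2
  · exact absurd (S.aρ 6 (by decide)) (key 6 (by decide))
  · exact absurd (ci (S.aρ 11 (by decide))) (key 13 (by decide))

omit S in
theorem at' : Act (ee ι) (ι (x1 * x3)) 0xaf23 := act_ι ι (by unfold Act; decide +kernel)

omit S in
theorem tK (h9 : g * ee ι 9 * g⁻¹ = ee ι 9) (h : g * ee ι 14 * g⁻¹ = ee ι 14) :
    ι (x1 * x3) * g * (ι (x1 * x3))⁻¹ ∈ KV ι :=
  ⟨mem_C1_iff_conj.2 (cc' (at' 9 (by decide)) h9), mem_C1_iff_conj.2 (cc' (at' 14 (by decide)) h)⟩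

theorem tρ : ι (x1 * x3) * (r * c) * (ι (x1 * x3))⁻¹ = (r * c)⁻¹ := by
  have s1 : ι x1 * ι x1 = 1 := by rw [← map_mul, show x1 * x1 = 1 by decide +kernel, map_one]
  have s3 : ι x3 * ι x3 = 1 := by rw [← map_mul, show x3 * x3 = 1 by decide +kernel, map_one]
  have i : ∀ {x y : G}, x * x = 1 → x * y * (x * y) = 1 → x * y * x⁻¹ = y⁻¹ := fun {x y} h h' => by
    rw [inv_eq_of_mul_eq_one_right h, eq_inv_iff_mul_eq_one, mul_assoc, h']
  have r3 : ι x3 * r * (ι x3)⁻¹ = r :=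
    cm ((congrArg ι (by decide +kernel) : ι (al x1) = ι x3) ▸ S.cr.x1)
  have r1 : ι x1 * r * (ι x1)⁻¹ = r⁻¹ :=
    i s1 ((congrArg ι (by decide +kernel) : ι (al x3) = ι x1) ▸ S.cr.x3)
  rw [map_mul, cjm (cjc r3 r1) (cjc (i s3 S.cc.x3) (by rw [← conj_inv, cm S.cc.x1])), ← mul_inv_rev,
    mul_inv_eq_iff_eq_mul.1 S.rc]

theorem bt (B : Be ι (r * c) β) : Bt ι r c β := by
  have tN : ι (x1 * x3) ∈ N[AA ι] := act_N _ at'
  have t11 : ι (x1 * x3) * ee ι 11 * (ι (x1 * x3))⁻¹ = ee ι 11 := at' 11 (by decide)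
  have i : (ee ι 11)⁻¹ = ee ι 11 := einv (by decide)
  have ht : ι (x1 * x3) * β * (ι (x1 * x3))⁻¹ = β := S.uniqB B ⟨⟨by
      obtain ⟨k, hk, e⟩ := B.k
      refine ⟨_, tK (Kv hk (by decide)) (Kv hk (by decide)), ?_⟩
      rw [← e]; nth_rw 1 [← t11]; group,
    fun h => B.nN ((mul_mem_cancel_left tN).1 ((mul_mem_cancel_right (inv_mem tN)).1 h))⟩, by
      convert mul_mem (mul_mem tN (inv_mem B.rho)) (inv_mem tN) using 1
      nth_rw 1 [inv_eq_iff_eq_inv.1 S.tρ.symm]; group, by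
      convert mul_mem (mul_mem tN B.w) (inv_mem tN) using 1
      nth_rw 1 2 [← t11]; group⟩
  have h3 : β * ee ι 11 * (β * ee ι 11) * (β * ee ι 11) = 1 := by
    have := S.w3 B
    rw [mul_inv_rev, i, B.i] at this
    calc _ = β * ee ι 11 * β * (ee ι 11 * β) * ee ι 11 := by group
      _ = 1 := by rw [this, (ev_ee ι).sq (by decide)]
  refine ⟨B.sq, Kv B.K (by decide), Kv B.K (by decide), S.inv B, h3, ?_⟩
  have c : ∀ x y : KA, ι (x * y * x⁻¹) = ι x * ι y * (ι x)⁻¹ := fun x y => by simp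
  have n9 : ι n2 * ee ι 9 * (ι n2)⁻¹ = ι (x1 * x3) := (c _ _).symm.trans (congrArg ι (by decide +kernel))
  have k : ∀ {a b : ℕ}, (ι n2)⁻¹ * β * ι n2 * ee ι a * ((ι n2)⁻¹ * β * ι n2)⁻¹ = ee ι b →
      β * ι (n2 * ea a * n2⁻¹) * β⁻¹ = ι (n2 * ea b * n2⁻¹) := fun {a b} h => by
    rw [c, c, show ι (ea b) = _ from h.symm, ee]; group
  refine (S.nV (mem_C1_iff_conj.2 (cj0 n9 (cm ht)))).elim (fun h => ?_) k
  have h7 := k h
  have h14 : β * ι (n2 * ea 14 * n2⁻¹) * β⁻¹ = ι (n2 * ea 14 * n2⁻¹) := by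
    rw [show n2 * ea 14 * n2⁻¹ = n2 * ea 7 * n2⁻¹ * (x1 * x3) by decide +kernel, map_mul]
    exact cjm h7 (cm ht)
  have g7 := cjc (show ee ι 11 * ι (n2 * ea 7 * n2⁻¹) * (ee ι 11)⁻¹ = ι (n2 * ea 14 * n2⁻¹) from
    (c _ _).symm.trans (congrArg ι (by decide +kernel))) h14
  have g14 := cjc (show ee ι 11 * ι (n2 * ea 14 * n2⁻¹) * (ee ι 11)⁻¹ = ι (n2 * ea 7 * n2⁻¹) from
    (c _ _).symm.trans (congrArg ι (by decide +kernel))) h7
  have := cjc g7 (cjc g14 g7)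
  rw [h3, one_mul, inv_one, mul_one] at this
  exact absurd (S.inj this) (by decide +kernel)

theorem Cb (hY : Big ι r c Y) (h : KV ι ≤ Y) : C{ee ι 9} ≤ Y := fun g hg => by
  rcases S.nV hg with e | e
  · exact h ⟨hg, mem_C1_iff_conj.2 e⟩
  · exact (mul_mem_cancel_left (hY.i (x1 * x3))).1 (h ⟨mem_C1_iff_conj.2
      (cjc (mem_C1_iff_conj.1 hg) (at' 9 (by decide))), mem_C1_iff_conj.2 (cjc e (at' 14 (by decide)))⟩)

theorem alt [IsSimpleGroup G] :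
    Nonempty (G ≃* alternatingGroup (Fin 8)) ∨ Nonempty (G ≃* alternatingGroup (Fin 9)) := by
  by_cases h : KV ι ≤ N[AA ι]
  · have hY : Big ι r c (gen (lt ι r c 1) XAT1.cols) := big_gen (by decide)
    exact .inl (iso8 S.rels1 (S.top hY (S.Cb hY (h.trans (S.NA_le hY)))))
  · obtain ⟨β, B⟩ := S.be h
    have hY : Big ι r c (gen (lt ι r c β) XAT2.cols) := big_gen (by decide)
    have hβ : β ∈ gen (lt ι r c β) XAT2.cols := mem_gen (e := lt ι r c β) (c := 11) (by decide)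
    refine .inr (iso9 B.sq (S.rels2 (S.bt B)) (S.top hY (S.Cb hY fun g hg => ?_)))
    by_cases hn : g ∈ N[AA ι]
    · exact S.NA_le hY hn
    obtain ⟨a, -, e⟩ := S.reg B.K hg B.nN hn
    exact inv_mem_iff.1 ((mul_mem_cancel_right (hY.i _)).1
      ((mul_mem_cancel_right hβ).1 (S.NA_le hY e)))

end St

theorem alt [IsSimpleGroup G] {z i j k l d s : G} (h : Fu D Q z) (L : LA (Q z) z i j k l d s) :
    Nonempty (G ≃* alternatingGroup (Fin 8)) ∨ Nonempty (G ≃* alternatingGroup (Fin 9)) := by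
  have e : ee L.ι 2 = z := (congrArg L.ι (by decide +kernel)).trans L.ι_z
  have E : Em D Q L.ι := ⟨h.sit, by rw [e]; exact h.hz, L.ι_inj, fun g => by
    rw [e]; exact ⟨L.exists_code, fun ⟨x, h⟩ => h ▸ L.ι_mem x⟩, fun x => by rw [e]; exact L.ι_mem_P⟩
  obtain ⟨ι, r, c, S⟩ := E.exists_st (by rw [e]; exact h.fus)
  exact S.alt

end H15.XA
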