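import Mathlib
import Cfsg.Agent.H9.CG

/-!
# Additive actions on bit-coded vectors
-/

set_option autoImplicit false

namespace H15.ZB

open H29

/-- the sum of the entries selected by the bits of `a` -/
noncomputable def ap (M : List ℕ) : ℕ → ℕ :=
  List.rec (motive := fun _ => ℕ → ℕ) (fun _ => 0)
    (fun m _ ih a => Nat.xor (Nat.mul (Nat.mod a 2) m) (ih (Nat.div a 2))) M

/-- the identity -/
noncomputable def idM (n : ℕ) : List ℕ := (List.range n).map (2 ^ ·)

/-- a word applied to a code -/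
noncomputable def evA (n : ℕ) (T : List (List ℕ)) (w : List ℕ) (a : ℕ) : ℕ :=
  List.rec (motive := fun _ => ℕ) a (fun c _ ih => seqN ih (ap (nth (idM n) T c))) w

/-- the words `W` in the letters `T` have the tables `T'` -/
noncomputable def chkW (n : ℕ) (T W T' : List (List ℕ)) : Bool :=
  and2 (Nat.beq W.length T'.length) (allN T'.length fun c =>
    and2 (Nat.beq (nth [] T' c).length n) (allN n fun j =>
      Nat.beq (evA n T (nth [] W c) (Nat.pow 2 j)) (nth 0 (nth [] T' c) j)))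

/-- two words agree on the codes of `B` -/
noncomputable def chkE (n : ℕ) (B : List ℕ) (T T' : List (List ℕ)) (u v : List ℕ) : Bool :=
  allL B fun a => Nat.beq (evA n T u a) (evA n T' v a)

variable {V : Type*} [AddCommGroup V] {d : ℕ → V} {n : ℕ}

/-- a coding of vectors by `n` bits -/
structure Dc (d : ℕ → V) (n : ℕ) : Prop where
  add : ∀ a b, d (a ^^^ b) = d a + d b
  top : ∀ a, d (2 ^ n * a) = 0

theorem split (k a : ℕ) : 2 ^ k * a = (a % 2 * 2 ^ k) ^^^ (2 ^ (k + 1) * (a / 2)) := by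
  apply Nat.eq_of_testBit_eq
  intro i
  rw [mul_comm (a % 2), Nat.testBit_xor, Nat.testBit_two_pow_mul, Nat.testBit_two_pow_mul,
    Nat.testBit_two_pow_mul]
  rcases lt_trichotomy i k with h | rfl | h
  · simp [not_le.2 h, show ¬ (k + 1 ≤ i) by omega]
  · simp [Nat.testBit_zero]
  · obtain ⟨j, rfl⟩ : ∃ j, i = k + 1 + j := ⟨i - (k + 1), by omega⟩
    have h1 : (a % 2).testBit (j + 1) = false :=
      Nat.testBit_lt_two_pow (lt_of_lt_of_le (Nat.mod_lt _ two_pos)
        (Nat.le_self_pow (by omega) 2))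
    simp [show k + 1 + j - k = j + 1 by omega, h1, Nat.testBit_add_one, show k ≤ k + 1 + j by omega]

theorem Dc.aux (h : Dc d n) (f : V →+ V) : ∀ (M : List ℕ) (k : ℕ), k + M.length = n →
    (∀ j < M.length, f (d (2 ^ (k + j))) = d (nth 0 M j)) → ∀ a, f (d (2 ^ k * a)) = d (ap M a)
  | [], k, h1, _, a => by
    obtain rfl : k = n := h1
    rw [h.top, map_zero]
    exact (by simpa using h.top 0 : d 0 = 0).symm
  | m :: M, k, h1, h2, a => by
    have h3 := h.aux f M (k + 1) (by rw [← h1, List.length_cons]; omega)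
      (fun j hj => by
        rw [show k + 1 + j = k + (j + 1) by omega]
        exact h2 (j + 1) (by rw [List.length_cons]; omega)) (a / 2)
    have h0 : d 0 = 0 := by simpa using h.top 0
    rw [split, h.add, map_add, h3]
    refine Eq.trans ?_ (h.add (a % 2 * m) (ap M (a / 2))).symm
    congr 1
    rcases Nat.mod_two_eq_zero_or_one a with e | e <;> rw [e]
    · rw [zero_mul, zero_mul, h0, map_zero]
    · rw [one_mul, one_mul]; exact h2 0 (Nat.succ_pos _)

theorem Dc.rp (h : Dc d n) (f : V →+ V) {M : List ℕ} (h1 : M.length = n)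
    (h2 : ∀ j < n, f (d (2 ^ j)) = d (nth 0 M j)) (a : ℕ) : f (d a) = d (ap M a) := by
  simpa using h.aux f M 0 (by simpa using h1) (by simpa [h1] using h2) a

theorem nth_map (f : ℕ → ℕ) : ∀ (l : List ℕ) (j : ℕ) (h : j < l.length), nth 0 (l.map f) j = f l[j]
  | _ :: _, 0, _ => rfl
  | _ :: l, j + 1, h => nth_map f l j (Nat.lt_of_succ_lt_succ h)

theorem Dc.id (h : Dc d n) (a : ℕ) : d (ap (idM n) a) = d a :=
  (h.rp (AddMonoidHom.id V) (by simp [idM]) (fun j hj => by
    rw [idM, nth_map _ _ _ (by simpa using hj)]; simp) a).symm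

theorem nth_irrel {α : Type} (x y : α) : ∀ (l : List α) (j : ℕ), j < l.length → nth x l j = nth y l j
  | _ :: _, 0, _ => rfl
  | _ :: l, j + 1, h => nth_irrel x y l j (Nat.lt_of_succ_lt_succ h)

variable {Γ : Type*} [Group Γ] {ρ : Γ →* AddMonoid.End V} {e e' : ℕ → Γ} {T T' W : List (List ℕ)}

/-- the letters act as the tables say -/
def Md (d : ℕ → V) (n : ℕ) (ρ : Γ →* AddMonoid.End V) (e : ℕ → Γ) (T : List (List ℕ)) : Prop :=
  ∀ c a, ρ (e c) (d a) = d (ap (nth (idM n) T c) a)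

theorem Md.ev (h : Md d n ρ e T) (a : ℕ) : ∀ w, ρ (ev e w) (d a) = d (evA n T w a)
  | [] => by simp [evA]
  | c :: w => by
    rw [ev_cons, map_mul]
    change ρ (e c) (ρ (H29.ev e w) (d a)) = _
    rw [h.ev a w, h]
    exact congrArg d (seqN_eq _ _).symm

theorem Dc.md (h : Dc d n) (h0 : ∀ c, T.length ≤ c → e c = 1)
    (h1 : ∀ c < T.length, (nth [] T c).length = n ∧
      ∀ j < n, ρ (e c) (d (2 ^ j)) = d (nth 0 (nth [] T c) j)) : Md d n ρ e T := fun c a => by
  by_cases hc : c < T.length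
  · rw [nth_irrel _ [] _ _ hc]; exact h.rp _ (h1 c hc).1 (h1 c hc).2 a
  · rw [h0 c (not_lt.1 hc), nth_default _ (not_lt.1 hc), h.id, map_one]; rfl

theorem Md.words (h : Md d n ρ e T) (hd : Dc d n) (hc : chkW n T W T' = true) :
    Md d n ρ (wE e W) T' := by
  simp only [chkW, and2_true, allN_true, Nat.beq_eq] at hc
  refine hd.md (fun c h1 => ?_) fun c h1 => ⟨(hc.2 c h1).1, fun j hj => ?_⟩
  · rw [wE, nth_default _ (hc.1 ▸ h1)]; rfl
  · rw [wE, h.ev, ← (hc.2 c h1).2 j hj]; rfl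

theorem Md.eq (h : Md d n ρ e T) (h' : Md d n ρ e' T') {B u v : List ℕ}
    (hc : chkE n B T T' u v = true) : ∀ a ∈ B, ρ (H29.ev e u) (d a) = ρ (H29.ev e' v) (d a) := by
  simp only [chkE, allL_true, Nat.beq_eq] at hc
  intro a ha
  rw [h.ev, h'.ev, hc a ha]

/-- the action of a matrix group on vectors -/
def rho {I K : Type*} [Fintype I] [DecidableEq I] [CommRing K] (ψ : Γ →* GL I K) :
    Γ →* AddMonoid.End (I → K) where
  toFun g := (Matrix.mulVecLin (ψ g : Matrix I I K)).toAddMonoidHom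
  map_one' := by ext v; simp; rfl
  map_mul' a b := by ext v; simp; rfl

theorem rho_apply {I K : Type*} [Fintype I] [DecidableEq I] [CommRing K] (ψ : Γ →* GL I K) (g : Γ)
    (v : I → K) : rho ψ g v = (ψ g : Matrix I I K).mulVec v := rfl

theorem eq_of_rho {I K : Type*} [Fintype I] [DecidableEq I] [CommRing K] {ψ : Γ →* GL I K}
    {d : ℕ → I → K} {B : List ℕ} (hB : ∀ j, ∃ a ∈ B, d a = Pi.single j 1) {g k : Γ}
    (h : ∀ a ∈ B, rho ψ g (d a) = rho ψ k (d a)) : ψ g = ψ k := by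
  ext i j
  obtain ⟨a, ha, e⟩ := hB j
  have := congrFun (h a ha) i
  simpa [rho_apply, e] using this

/-- identification of a group with a simple model of the full order. -/
theorem iso_of_bd {G : Type*} [Group G] [Finite G] [Nontrivial G] {X : Type} [Group X]
    [IsSimpleGroup X] {iv : ℕ → ℕ} {R : List (List ℕ)} {L : List ℕ} {n : ℕ}
    (hU : H9.MX.UBd iv R L n) (hL : ∀ c ∈ L, iv c ∈ L) {σ : ℕ → X} {e : ℕ → G}
    (i1 : IvOK σ iv) (i2 : IvOK e iv) (r1 : ∀ r ∈ R, H29.ev σ r = 1)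
    (r2 : ∀ r ∈ R, H29.ev e r = 1) (top : gen e L = ⊤) (hK : gen σ L = ⊤)
    (hn : n ≤ Nat.card X) : Nonempty (G ≃* X) := by
  let ρ := (Finite.equivFin G).permCongrHom.toMonoidHom.comp (MulAction.toPermHom G G)
  have hρ : Function.Injective ρ :=
    (Finite.equivFin G).permCongrHom.injective.comp MulAction.toPerm_injective
  have hn' : n ≤ Nat.card (gen σ L) := by rwa [hK, Subgroup.card_top]
  have t := ((H9.MX.tr_of_bd hU hL i1 (H9.MX.ivOK_map ρ i2) r1
    (fun r hr => by rw [← map_ev, r2 r hr, map_one]) hn').trans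
    (Tr.of_injective ρ hρ fun _ _ => rfl))
  obtain ⟨f, h1, -⟩ := H9.MX.exists_hom_of_tr t i1 i2 hL hK
  rw [top, MonoidHom.range_eq_top] at h1
  refine ⟨(MulEquiv.ofBijective f ⟨(MonoidHom.ker_eq_bot_iff f).1
      ((IsSimpleGroup.eq_bot_or_eq_top_of_normal f.ker inferInstance).resolve_right fun h5 => ?_),
      h1⟩).symm⟩
  obtain ⟨a, ha⟩ := exists_ne (1 : G)
  obtain ⟨b, hb⟩ := h1 a
  exact ha (hb.symm.trans (show b ∈ f.ker from h5.ge trivial))

end H15.ZB
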