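import Mathlib
import Cfsg.Agent.H29.Ext

set_option autoImplicit false
set_option maxRecDepth 100000
set_option Elab.async false
set_option linter.all false

namespace H15.ZT9a

open H29

noncomputable def n0 : Net := ben 5 [(nat_lit 0x55555555),
 (nat_lit 0x33333330),
 (nat_lit 0xf0f0f00),
 (nat_lit 0xff0000),
 (nat_lit 0x0)]
noncomputable def t0 : List ℕ := [(nat_lit 0x40020000),
 (nat_lit 0x518a5a60),
 (nat_lit 0x4200000)]
noncomputable def d0 : ℕ := (nat_lit 0xaa00a08a)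
noncomputable def n1 : Net := ben 5 [(nat_lit 0x55555550),
 (nat_lit 0x33333303),
 (nat_lit 0xf0f0000),
 (nat_lit 0x0),
 (nat_lit 0x0)]
noncomputable def t1 : List ℕ := [(nat_lit 0x1800600a),
 (nat_lit 0x995af6c0),
 (nat_lit 0x24000000)]
noncomputable def d1 : ℕ := (nat_lit 0x40a00824)
noncomputable def n2 : Net := ben 5 [(nat_lit 0x5555550c),
 (nat_lit 0x33330022),
 (nat_lit 0xf),
 (nat_lit 0x0),
 (nat_lit 0x0)]
noncomputable def t2 : List ℕ := [(nat_lit 0x96030a6),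
 (nat_lit 0x99f6fc00),
 (nat_lit 0x66000000)]
noncomputable def d2 : ℕ := (nat_lit 0x80250)
noncomputable def n3 : Net := ben 5 [(nat_lit 0x555500fc),
 (nat_lit 0xf050),
 (nat_lit 0x606),
 (nat_lit 0xff),
 (nat_lit 0x0)]
noncomputable def t3 : List ℕ := [(nat_lit 0x3330aa56),
 (nat_lit 0x33fc2040),
 (nat_lit 0xcc000000)]
noncomputable def d3 : ℕ := (nat_lit 0x25500)
noncomputable def n8 : Net := ben 5 [(nat_lit 0xfffc),
 (nat_lit 0x2dd22d72),
 (nat_lit 0xa0a990a),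
 (nat_lit 0x960096),
 (nat_lit 0xffff)]
noncomputable def t8 : List ℕ := [(nat_lit 0xaaaa5556),
 (nat_lit 0x2a205440),
 (nat_lit 0x40008000)]
noncomputable def d8 : ℕ := (nat_lit 0x15550000)
def ivl : List ℕ := [0, 1, 2, 3, 4, 5, 6, 7, 8, 13, 14, 15, 12, 9, 10, 11, 17, 16, 19, 18]
def cols : List ℕ := [0, 1, 2, 3, 8]
def hcols : List ℕ := []
def G0 : List (List ℕ) := [[1, 0, 1, 0],
 [2, 0, 2, 0],
 [2, 1, 2, 1],
 [3, 0, 3, 0],
 [3, 1, 3, 1],
 [3, 2, 3, 2],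
 [8, 0, 8, 0],
 [8, 1, 8, 1],
 [8, 2, 8, 2],
 [8, 3, 8, 3]]
def R0 : List (List ℕ) := G0
theorem hii : ∀ c, ivOf ivl (ivOf ivl c) = c := ivOf_ivOf (by decide +kernel)
theorem der : Derives (ivOf ivl) R0 R0 := Derives.refl _ _
noncomputable def nl : List Net := [n0, n1, n2, n3, Net.nil, Net.nil, Net.nil, Net.nil, n8]
noncomputable def T : TCData := ⟨32, 32, 5, 3, nth Net.nil nl, ivOf ivl, cols, hcols, R0,
  nth [] [t0, t1, t2, t3, [], [], [], [], t8], nth 0 [d0, d1, d2, d3, 0, 0, 0, 0, d8]⟩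
theorem hn : NetsOK 32 (nth Net.nil nl) := netsOK_of_all (by decide +kernel)
theorem hiv : IvOK (sg (nth Net.nil nl)) (ivOf ivl) :=
  ivOK_of_chk (k := 5) hn (by decide) (n := 20) (by decide) (by decide) (allN_true.1 (by decide +kernel))
theorem hb : T.Basic := TCData.basic_of_chk hn hiv (by decide +kernel)
theorem hG0 : ∀ r ∈ G0, ev (sg (nth Net.nil nl)) r = 1 :=
  rels_of_chk (k := 5) hn (by decide) hiv (allN_true.1 (by decide +kernel))
noncomputable def s0 : List TCData.Step := [.pts 0 1 0 3 [17],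
 .pts 1 1 0 2 [5],
 .pts 3 1 0 2 [9, 11],
 .pts 6 1 0 2 [19, 23],
 .pts 6 1 0 4 [21]]
noncomputable def s1 : List TCData.Step := [.pts 0 0 0 1 [1],
 .pts 0 0 0 3 [13, 27],
 .pts 2 1 0 2 [6],
 .pts 4 1 0 2 [9, 12],
 .pts 7 1 0 2 [17, 19, 24],
 .pts 7 1 0 4 [26]]
noncomputable def s2 : List TCData.Step := [.all 1 0 0,
 .pts 2 0 0 1 [2],
 .pts 2 0 0 3 [21],
 .pts 5 1 0 2 [10, 14],
 .pts 8 1 0 2 [17, 20, 28],
 .pts 8 1 0 4 [25]]
noncomputable def s3 : List TCData.Step := [.pts 3 0 0 1 [1],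
 .pts 3 0 0 3 [6, 24, 28],
 .all 4 0 0,
 .pts 5 0 0 1 [4],
 .pts 9 1 0 2 [18, 22],
 .pts 9 1 0 4 [26]]
noncomputable def s8 : List TCData.Step := [.pts 6 0 0 1 [1],
 .pts 6 0 0 3 [6, 12, 14],
 .all 7 0 0,
 .pts 8 0 0 1 [4],
 .pts 9 0 0 1 [8]]
theorem hR0 : ∀ r ∈ R0, ev (sg (nth Net.nil nl)) r = 1 := hG0
theorem col0 : T.ColOK 0 := TCData.colOK_of_chk (U := (T.stepsMask 0 s0 (T.mask0 0))) (V := (T.stepsMask 0 s0 (T.mask0 0))) hb (TCData.cov_stepsMask hb (by decide) s0 _ (T.cov_mask0 0)) (TCData.cov_stepsMask hb (by decide) s0 _ (T.cov_mask0 0)) (by decide +kernel)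
theorem col1 : T.ColOK 1 := TCData.colOK_of_chk (U := (T.stepsMask 1 s1 (T.mask0 1))) (V := (T.stepsMask 1 s1 (T.mask0 1))) hb (TCData.cov_stepsMask hb (by decide) s1 _ (T.cov_mask0 1)) (TCData.cov_stepsMask hb (by decide) s1 _ (T.cov_mask0 1)) (by decide +kernel)
theorem col2 : T.ColOK 2 := TCData.colOK_of_chk (U := (T.stepsMask 2 s2 (T.mask0 2))) (V := (T.stepsMask 2 s2 (T.mask0 2))) hb (TCData.cov_stepsMask hb (by decide) s2 _ (T.cov_mask0 2)) (TCData.cov_stepsMask hb (by decide) s2 _ (T.cov_mask0 2)) (by decide +kernel)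
theorem col3 : T.ColOK 3 := TCData.colOK_of_chk (U := (T.stepsMask 3 s3 (T.mask0 3))) (V := (T.stepsMask 3 s3 (T.mask0 3))) hb (TCData.cov_stepsMask hb (by decide) s3 _ (T.cov_mask0 3)) (TCData.cov_stepsMask hb (by decide) s3 _ (T.cov_mask0 3)) (by decide +kernel)
theorem col8 : T.ColOK 8 := TCData.colOK_of_chk (U := (T.stepsMask 8 s8 (T.mask0 8))) (V := (T.stepsMask 8 s8 (T.mask0 8))) hb (TCData.cov_stepsMask hb (by decide) s8 _ (T.cov_mask0 8)) (TCData.cov_stepsMask hb (by decide) s8 _ (T.cov_mask0 8)) (by decide +kernel)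
theorem ok : T.OK := ⟨hb, TCData.treeOK_of_chk hn (by decide +kernel), (List.forall_mem_cons.2 ⟨col0, (List.forall_mem_cons.2 ⟨col1, (List.forall_mem_cons.2 ⟨col2, (List.forall_mem_cons.2 ⟨col3, (List.forall_mem_cons.2 ⟨col8, (fun _ h => absurd h List.not_mem_nil)⟩)⟩)⟩)⟩)⟩), der _ _ hiv hR0⟩
theorem bd {G : Type} [Group G] {e : ℕ → G} (h1 : IvOK e (ivOf ivl)) (h2 : ∀ r ∈ R0, ev e r = 1)
    {m : ℕ} (h : Bd (gen e hcols) m) : Bd (gen e cols) (32 * m) := ok.bd h1 (der G e h1 h2) h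
theorem cm {G : Type} [Group G] {e : ℕ → G} (h1 : IvOK e (ivOf ivl)) (h2 : ∀ r ∈ R0, ev e r = 1)
    (h3 : gen e cols = ⊤) {ρ : G →* Equiv.Perm ℕ} (h4 : ∀ c, ρ (e c) = sg (nth Net.nil nl) c) :
    CosetModel ρ (gen e hcols) 32 := ok.cosetModel h1 (der G e h1 h2) h3 fun c _ => h4 c

end H15.ZT9a
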