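import Mathlib
import Cfsg.Agent.H29.Ext

set_option autoImplicit false
set_option maxRecDepth 100000
set_option Elab.async false
set_option linter.all false

namespace H15.ZT9c

open H29

noncomputable def n0 : Net := ben 6 [(nat_lit 0x0),
 (nat_lit 0x0),
 (nat_lit 0x0),
 (nat_lit 0x0),
 (nat_lit 0x0),
 (nat_lit 0x0)]
noncomputable def t0 : List ℕ := [(nat_lit 0x5555aaaa5555aa),
 (nat_lit 0x21218b8bdede74),
 (nat_lit 0xfefe7474202000),
 (nat_lit 0x0)]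
noncomputable def d0 : ℕ := (nat_lit 0x0)
noncomputable def n1 : Net := ben 6 [(nat_lit 0x0),
 (nat_lit 0x0),
 (nat_lit 0x0),
 (nat_lit 0x0),
 (nat_lit 0x0),
 (nat_lit 0x0)]
noncomputable def t1 : List ℕ := [(nat_lit 0xa0575fa8a05fa),
 (nat_lit 0xf471fe8b8b8e74),
 (nat_lit 0x5ffeff748b7000),
 (nat_lit 0xa0000000740000)]
noncomputable def d1 : ℕ := (nat_lit 0x0)
noncomputable def n2 : Net := ben 6 [(nat_lit 0x0),
 (nat_lit 0x0),
 (nat_lit 0x0),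
 (nat_lit 0x0),
 (nat_lit 0x0),
 (nat_lit 0x0)]
noncomputable def t2 : List ℕ := [(nat_lit 0xa71558eaa718e),
 (nat_lit 0xf425deab8bda54),
 (nat_lit 0x5ffedf748b2420),
 (nat_lit 0xa0002000740000)]
noncomputable def d2 : ℕ := (nat_lit 0x0)
noncomputable def n3 : Net := ben 6 [(nat_lit 0x0),
 (nat_lit 0x0),
 (nat_lit 0x0),
 (nat_lit 0x0),
 (nat_lit 0x0),
 (nat_lit 0x0)]
noncomputable def t3 : List ℕ := [(nat_lit 0xa3355ccaa33cc),
 (nat_lit 0xf465dea98b9a56),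
 (nat_lit 0x5ffedf768b6420),
 (nat_lit 0xa0002000740000)]
noncomputable def d3 : ℕ := (nat_lit 0x0)
noncomputable def n4 : Net := ben 6 [(nat_lit 0x0),
 (nat_lit 0x0),
 (nat_lit 0x0),
 (nat_lit 0x0),
 (nat_lit 0x0),
 (nat_lit 0x0)]
noncomputable def t4 : List ℕ := [(nat_lit 0xa2355dcaa23dc),
 (nat_lit 0xf475dea98b8a56),
 (nat_lit 0x5ffedf768b7420),
 (nat_lit 0xa0002000740000)]
noncomputable def d4 : ℕ := (nat_lit 0x0)
noncomputable def n5 : Net := ben 6 [(nat_lit 0x0),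
 (nat_lit 0x0),
 (nat_lit 0x0),
 (nat_lit 0x0),
 (nat_lit 0x0),
 (nat_lit 0x0)]
noncomputable def t5 : List ℕ := [(nat_lit 0xa2355dcaa23dc),
 (nat_lit 0xf475dea98b8a56),
 (nat_lit 0x5ffedf768b7420),
 (nat_lit 0xa0002000740000)]
noncomputable def d5 : ℕ := (nat_lit 0x0)
noncomputable def n6 : Net := ben 6 [(nat_lit 0x0),
 (nat_lit 0x0),
 (nat_lit 0x0),
 (nat_lit 0x0),
 (nat_lit 0x0),
 (nat_lit 0x0)]
noncomputable def t6 : List ℕ := [(nat_lit 0xa2355dcaa23dc),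
 (nat_lit 0xf475dea98b8a56),
 (nat_lit 0x5ffedf768b7420),
 (nat_lit 0xa0002000740000)]
noncomputable def d6 : ℕ := (nat_lit 0x0)
noncomputable def n7 : Net := ben 6 [(nat_lit 0x0),
 (nat_lit 0x0),
 (nat_lit 0x0),
 (nat_lit 0x0),
 (nat_lit 0x0),
 (nat_lit 0x0)]
noncomputable def t7 : List ℕ := [(nat_lit 0xa2355dcaa23dc),
 (nat_lit 0xf475dea98b8a56),
 (nat_lit 0x5ffedf768b7420),
 (nat_lit 0xa0002000740000)]
noncomputable def d7 : ℕ := (nat_lit 0x0)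
noncomputable def n8 : Net := ben 6 [(nat_lit 0x0),
 (nat_lit 0x0),
 (nat_lit 0x0),
 (nat_lit 0x0),
 (nat_lit 0x0),
 (nat_lit 0x0)]
noncomputable def t8 : List ℕ := [(nat_lit 0x5555aaaa5555aa),
 (nat_lit 0x21218b8bdede74),
 (nat_lit 0xfefe7474202000),
 (nat_lit 0x0)]
noncomputable def d8 : ℕ := (nat_lit 0x0)
noncomputable def n9 : Net := ben 6 [(nat_lit 0x55555555555555),
 (nat_lit 0x21333333333333),
 (nat_lit 0xf0f0f0f0f0f0f),
 (nat_lit 0x0),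
 (nat_lit 0x0),
 (nat_lit 0x0)]
noncomputable def t9 : List ℕ := [(nat_lit 0x50500505505005),
 (nat_lit 0xa5040101515154),
 (nat_lit 0x50555454040400),
 (nat_lit 0xa5000000000000)]
noncomputable def d9 : ℕ := (nat_lit 0xa0a0a0a0a0a0)
noncomputable def n13 : Net := n9.rev
noncomputable def t13 : List ℕ := mapPull n13 t9
noncomputable def d13 : ℕ := (nat_lit 0x50505050505050)
noncomputable def n10 : Net := ben 6 [(nat_lit 0x55555555555555),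
 (nat_lit 0x3333333333333),
 (nat_lit 0x0),
 (nat_lit 0x0),
 (nat_lit 0x0),
 (nat_lit 0x0)]
noncomputable def t10 : List ℕ := [(nat_lit 0xa414e1e11414e1),
 (nat_lit 0x50e001011515f4),
 (nat_lit 0x5f5f4f4e0e000),
 (nat_lit 0xf0000000000000)]
noncomputable def d10 : ℕ := (nat_lit 0x8080808080808)
noncomputable def n14 : Net := n10.rev
noncomputable def t14 : List ℕ := mapPull n14 t10
noncomputable def d14 : ℕ := (nat_lit 0x4040404040404)
noncomputable def n11 : Net := ben 6 [(nat_lit 0x55555555555555),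
 (nat_lit 0x30000000000000),
 (nat_lit 0x0),
 (nat_lit 0x0),
 (nat_lit 0x0),
 (nat_lit 0x0)]
noncomputable def t11 : List ℕ := [(nat_lit 0xa454aaaa5454aa),
 (nat_lit 0x58b812124646ec),
 (nat_lit 0xefefcfcb8b810),
 (nat_lit 0xf0000000000000)]
noncomputable def d11 : ℕ := (nat_lit 0x0)
noncomputable def n15 : Net := n11.rev
noncomputable def t15 : List ℕ := mapPull n15 t11
noncomputable def d15 : ℕ := (nat_lit 0x2020202020202)
noncomputable def n16 : Net := ben 6 [(nat_lit 0xf0e46ce4e4e4e4),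
 (nat_lit 0x20203030303030),
 (nat_lit 0x60a0a0a0a0a0a),
 (nat_lit 0xffff0000ff),
 (nat_lit 0xffff00ffff),
 (nat_lit 0xff00)]
noncomputable def t16 : List ℕ := [(nat_lit 0x6ca2835c14a2ea),
 (nat_lit 0xce7c82209e828a),
 (nat_lit 0x4efe82fe9e7c8a),
 (nat_lit 0xb0005400600074)]
noncomputable def d16 : ℕ := (nat_lit 0x1010001000100)
noncomputable def n17 : Net := n16.rev
noncomputable def t17 : List ℕ := mapPull n17 t16
noncomputable def d17 : ℕ := (nat_lit 0xa0000100010000)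
def ivl : List ℕ := [0, 1, 2, 3, 4, 5, 6, 7, 8, 13, 14, 15, 12, 9, 10, 11, 17, 16, 19, 18]
def cols : List ℕ := [0, 1, 2, 3, 4, 5, 6, 7, 8, 9, 10, 11, 13, 14, 15, 16, 17]
def hcols : List ℕ := [0, 1, 2, 3, 4, 5, 6, 7, 8]
def G0 : List (List ℕ) := [[1, 0, 1, 0],
 [2, 0, 2, 0],
 [2, 1, 2, 1],
 [3, 0, 3, 0],
 [3, 1, 3, 1],
 [3, 2, 3, 2],
 [4, 0, 4, 0],
 [4, 1, 4, 8, 1],
 [4, 2, 4, 2],
 [4, 3, 4, 3],
 [5, 0, 5, 0],
 [5, 1, 5, 1],
 [5, 2, 5, 8, 2],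
 [5, 3, 5, 3],
 [5, 4, 5, 4],
 [6, 0, 6, 0],
 [6, 1, 6, 1],
 [6, 2, 6, 2],
 [6, 3, 6, 8, 3],
 [6, 4, 6, 4],
 [6, 5, 6, 5],
 [7, 0, 7, 8, 0],
 [7, 1, 7, 1],
 [7, 2, 7, 2],
 [7, 3, 7, 3],
 [7, 4, 7, 4],
 [7, 5, 7, 5],
 [7, 6, 7, 6],
 [8, 0, 8, 0],
 [8, 1, 8, 1],
 [8, 2, 8, 2],
 [8, 3, 8, 3],
 [8, 4, 8, 4],
 [8, 5, 8, 5],
 [8, 6, 8, 6],
 [8, 7, 8, 7],
 [9, 9, 0],
 [9, 0, 13, 0],
 [9, 1, 13, 1, 0],
 [9, 2, 13, 2],
 [9, 3, 13, 3],
 [9, 4, 13, 4, 0],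
 [9, 5, 13, 5, 3],
 [9, 6, 13, 6, 2],
 [9, 7, 13, 7, 4, 1, 0],
 [9, 8, 13, 8],
 [10, 10, 0],
 [10, 0, 14, 0],
 [10, 1, 14, 1],
 [10, 2, 14, 2, 0],
 [10, 3, 14, 3],
 [10, 4, 14, 4, 3, 0],
 [10, 5, 14, 5, 0],
 [10, 6, 14, 6, 1],
 [10, 7, 14, 7, 5, 2, 1, 0],
 [10, 8, 14, 8],
 [10, 9, 14, 13, 0],
 [11, 11, 0],
 [11, 0, 15, 0],
 [11, 1, 15, 1],
 [11, 2, 15, 2],
 [11, 3, 15, 3, 0],
 [11, 4, 15, 4, 2, 0],
 [11, 5, 15, 5, 1, 0],
 [11, 6, 15, 6, 0],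
 [11, 7, 15, 7, 6, 3, 2, 1, 0],
 [11, 8, 15, 8],
 [11, 9, 15, 13, 0],
 [11, 10, 15, 14, 0],
 [16, 16, 16, 16, 16, 16, 16],
 [16, 0, 17, 0],
 [16, 1, 17, 3, 1, 0],
 [16, 2, 17, 3, 2, 1, 0],
 [16, 3, 17, 2, 1],
 [16, 4, 17, 5, 4],
 [16, 5, 17, 6, 5, 4, 2, 1, 0],
 [16, 6, 17, 6, 4, 3, 2, 1, 0],
 [16, 7, 17, 7, 6, 3, 2, 1, 0],
 [16, 8, 17, 8],
 [16, 9, 17, 14, 13, 8, 2, 1, 0],
 [16, 10, 17, 15, 14, 13, 1, 0],
 [16, 11, 17, 15, 13, 8, 3, 1]]
def R0 : List (List ℕ) := G0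
theorem hii : ∀ c, ivOf ivl (ivOf ivl c) = c := ivOf_ivOf (by decide +kernel)
theorem der : Derives (ivOf ivl) R0 R0 := Derives.refl _ _
noncomputable def nl : List Net := [n0, n1, n2, n3, n4, n5, n6, n7, n8, n9, n10, n11, Net.nil, n13, n14, n15, n16, n17]
noncomputable def T : TCData := ⟨56, 56, 6, 4, nth Net.nil nl, ivOf ivl, cols, hcols, R0,
  nth [] [t0, t1, t2, t3, t4, t5, t6, t7, t8, t9, t10, t11, [], t13, t14, t15, t16, t17], nth 0 [d0, d1, d2, d3, d4, d5, d6, d7, d8, d9, d10, d11, 0, d13, d14, d15, d16, d17]⟩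
theorem hn : NetsOK 56 (nth Net.nil nl) := netsOK_of_all (by decide +kernel)
theorem hiv : IvOK (sg (nth Net.nil nl)) (ivOf ivl) :=
  ivOK_of_chk (k := 6) hn (by decide) (n := 20) (by decide) (by decide) (allN_true.1 (by decide +kernel))
theorem hb : T.Basic := TCData.basic_of_chk hn hiv (by decide +kernel)
theorem hG0 : ∀ r ∈ G0, ev (sg (nth Net.nil nl)) r = 1 :=
  rels_of_chk (k := 6) hn (by decide) hiv (allN_true.1 (by decide +kernel))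
noncomputable def s0 : List TCData.Step := [.all 37 1 0,
 .all 37 3 0,
 .all 47 1 0,
 .all 47 3 0,
 .all 58 3 0,
 .all 70 1 0,
 .all 70 3 0]
noncomputable def s1 : List TCData.Step := [.all 38 1 0,
 .all 38 3 0,
 .all 48 1 0,
 .all 48 3 0,
 .all 59 1 0,
 .all 59 3 0,
 .all 71 1 0,
 .pts 80 6 0 7 [37],
 .pts 80 6 0 8 [21]]
noncomputable def s2 : List TCData.Step := [.all 39 1 0,
 .all 39 3 0,
 .all 49 1 0,
 .all 49 3 0,
 .all 60 1 0,
 .all 60 3 0,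
 .all 72 1 0]
noncomputable def s3 : List TCData.Step := [.all 40 1 0,
 .all 40 3 0,
 .all 50 1 0,
 .all 50 3 0,
 .all 61 1 0,
 .all 61 3 0,
 .all 73 1 0,
 .pts 81 6 0 8 [37]]
noncomputable def s4 : List TCData.Step := [.all 41 1 0,
 .all 41 3 0,
 .all 51 1 0,
 .all 62 1 0,
 .pts 62 3 0 3 [9],
 .pts 62 3 0 4 [25],
 .pts 62 3 0 5 [41],
 .all 74 1 0]
noncomputable def s5 : List TCData.Step := [.all 42 1 0,
 .pts 42 3 0 6 [44],
 .all 52 1 0,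
 .all 52 3 0,
 .all 63 1 0,
 .pts 63 3 0 3 [9],
 .pts 63 3 0 4 [25],
 .pts 63 3 0 5 [41],
 .all 75 1 0]
noncomputable def s6 : List TCData.Step := [.all 43 1 0,
 .pts 43 3 0 4 [12, 14],
 .pts 43 3 0 5 [28, 30],
 .pts 43 3 0 6 [44, 46],
 .all 53 1 0,
 .pts 53 3 0 4 [10],
 .pts 53 3 0 5 [26],
 .pts 53 3 0 6 [42],
 .all 64 1 0,
 .pts 64 3 0 3 [9],
 .pts 64 3 0 4 [25],
 .pts 64 3 0 5 [41, 49],
 .all 76 1 0]
noncomputable def s7 : List TCData.Step := [.all 44 1 0,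
 .all 54 1 0,
 .all 65 1 0,
 .all 77 1 0]
noncomputable def s8 : List TCData.Step := [.all 45 1 0,
 .all 45 3 0,
 .all 55 1 0,
 .all 55 3 0,
 .all 66 3 0,
 .all 78 1 0,
 .all 78 3 0]
noncomputable def s9 : List TCData.Step := []
noncomputable def s10 : List TCData.Step := [.all 56 2 0,
 .pts 79 3 0 9 [53, 55]]
noncomputable def s11 : List TCData.Step := [.all 67 2 0,
 .pts 68 2 0 4 [4],
 .pts 81 3 0 9 [53, 55]]
noncomputable def s13 : List TCData.Step := [.all 36 0 0,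
 .all 36 1 0,
 .pts 67 1 0 10 [50, 55],
 .pts 79 1 0 10 [48, 53]]
noncomputable def s14 : List TCData.Step := [.all 46 0 0,
 .all 46 1 0,
 .all 56 0 0,
 .pts 80 1 0 10 [53]]
noncomputable def s15 : List TCData.Step := [.all 57 0 0,
 .pts 57 1 0 3 [2, 6],
 .all 67 0 0,
 .all 68 0 0,
 .pts 81 1 0 10 [53]]
noncomputable def s16 : List TCData.Step := [.all 79 2 0,
 .all 80 2 0,
 .all 81 2 0]
noncomputable def s17 : List TCData.Step := [.pts 69 0 0 1 [48],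
 .pts 69 0 0 9 [44],
 .pts 69 0 0 10 [47],
 .all 79 0 0,
 .all 80 0 0,
 .pts 81 0 0 7 [54]]
theorem hR0 : ∀ r ∈ R0, ev (sg (nth Net.nil nl)) r = 1 := hG0
theorem col0 : T.ColOK 0 := TCData.colOK_of_chk (U := (T.stepsMask 0 s0 (T.mask0 0))) (V := (T.stepsMask 0 s0 (T.mask0 0))) hb (TCData.cov_stepsMask hb (by decide) s0 _ (T.cov_mask0 0)) (TCData.cov_stepsMask hb (by decide) s0 _ (T.cov_mask0 0)) (by decide +kernel)
theorem col1 : T.ColOK 1 := TCData.colOK_of_chk (U := (T.stepsMask 1 s1 (T.mask0 1))) (V := (T.stepsMask 1 s1 (T.mask0 1))) hb (TCData.cov_stepsMask hb (by decide) s1 _ (T.cov_mask0 1)) (TCData.cov_stepsMask hb (by decide) s1 _ (T.cov_mask0 1)) (by decide +kernel)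
theorem col2 : T.ColOK 2 := TCData.colOK_of_chk (U := (T.stepsMask 2 s2 (T.mask0 2))) (V := (T.stepsMask 2 s2 (T.mask0 2))) hb (TCData.cov_stepsMask hb (by decide) s2 _ (T.cov_mask0 2)) (TCData.cov_stepsMask hb (by decide) s2 _ (T.cov_mask0 2)) (by decide +kernel)
theorem col3 : T.ColOK 3 := TCData.colOK_of_chk (U := (T.stepsMask 3 s3 (T.mask0 3))) (V := (T.stepsMask 3 s3 (T.mask0 3))) hb (TCData.cov_stepsMask hb (by decide) s3 _ (T.cov_mask0 3)) (TCData.cov_stepsMask hb (by decide) s3 _ (T.cov_mask0 3)) (by decide +kernel)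
theorem col4 : T.ColOK 4 := TCData.colOK_of_chk (U := (T.stepsMask 4 s4 (T.mask0 4))) (V := (T.stepsMask 4 s4 (T.mask0 4))) hb (TCData.cov_stepsMask hb (by decide) s4 _ (T.cov_mask0 4)) (TCData.cov_stepsMask hb (by decide) s4 _ (T.cov_mask0 4)) (by decide +kernel)
theorem col5 : T.ColOK 5 := TCData.colOK_of_chk (U := (T.stepsMask 5 s5 (T.mask0 5))) (V := (T.stepsMask 5 s5 (T.mask0 5))) hb (TCData.cov_stepsMask hb (by decide) s5 _ (T.cov_mask0 5)) (TCData.cov_stepsMask hb (by decide) s5 _ (T.cov_mask0 5)) (by decide +kernel)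
theorem col6 : T.ColOK 6 := TCData.colOK_of_chk (U := (T.stepsMask 6 s6 (T.mask0 6))) (V := (T.stepsMask 6 s6 (T.mask0 6))) hb (TCData.cov_stepsMask hb (by decide) s6 _ (T.cov_mask0 6)) (TCData.cov_stepsMask hb (by decide) s6 _ (T.cov_mask0 6)) (by decide +kernel)
theorem col7 : T.ColOK 7 := TCData.colOK_of_chk (U := (T.stepsMask 7 s7 (T.mask0 7))) (V := (T.stepsMask 7 s7 (T.mask0 7))) hb (TCData.cov_stepsMask hb (by decide) s7 _ (T.cov_mask0 7)) (TCData.cov_stepsMask hb (by decide) s7 _ (T.cov_mask0 7)) (by decide +kernel)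
theorem col8 : T.ColOK 8 := TCData.colOK_of_chk (U := (T.stepsMask 8 s8 (T.mask0 8))) (V := (T.stepsMask 8 s8 (T.mask0 8))) hb (TCData.cov_stepsMask hb (by decide) s8 _ (T.cov_mask0 8)) (TCData.cov_stepsMask hb (by decide) s8 _ (T.cov_mask0 8)) (by decide +kernel)
theorem col9 : T.ColOK 9 := TCData.colOK_of_chk (U := (T.stepsMask 9 s9 (T.mask0 9))) (V := (T.stepsMask 13 s13 (T.mask0 13))) hb (TCData.cov_stepsMask hb (by decide) s9 _ (T.cov_mask0 9)) (TCData.cov_stepsMask hb (by decide) s13 _ (T.cov_mask0 13)) (by decide +kernel)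
theorem col10 : T.ColOK 10 := TCData.colOK_of_chk (U := (T.stepsMask 10 s10 (T.mask0 10))) (V := (T.stepsMask 14 s14 (T.mask0 14))) hb (TCData.cov_stepsMask hb (by decide) s10 _ (T.cov_mask0 10)) (TCData.cov_stepsMask hb (by decide) s14 _ (T.cov_mask0 14)) (by decide +kernel)
theorem col11 : T.ColOK 11 := TCData.colOK_of_chk (U := (T.stepsMask 11 s11 (T.mask0 11))) (V := (T.stepsMask 15 s15 (T.mask0 15))) hb (TCData.cov_stepsMask hb (by decide) s11 _ (T.cov_mask0 11)) (TCData.cov_stepsMask hb (by decide) s15 _ (T.cov_mask0 15)) (by decide +kernel)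
theorem col13 : T.ColOK 13 := TCData.colOK_of_chk (U := (T.stepsMask 13 s13 (T.mask0 13))) (V := (T.stepsMask 9 s9 (T.mask0 9))) hb (TCData.cov_stepsMask hb (by decide) s13 _ (T.cov_mask0 13)) (TCData.cov_stepsMask hb (by decide) s9 _ (T.cov_mask0 9)) (by decide +kernel)
theorem col14 : T.ColOK 14 := TCData.colOK_of_chk (U := (T.stepsMask 14 s14 (T.mask0 14))) (V := (T.stepsMask 10 s10 (T.mask0 10))) hb (TCData.cov_stepsMask hb (by decide) s14 _ (T.cov_mask0 14)) (TCData.cov_stepsMask hb (by decide) s10 _ (T.cov_mask0 10)) (by decide +kernel)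
theorem col15 : T.ColOK 15 := TCData.colOK_of_chk (U := (T.stepsMask 15 s15 (T.mask0 15))) (V := (T.stepsMask 11 s11 (T.mask0 11))) hb (TCData.cov_stepsMask hb (by decide) s15 _ (T.cov_mask0 15)) (TCData.cov_stepsMask hb (by decide) s11 _ (T.cov_mask0 11)) (by decide +kernel)
theorem col16 : T.ColOK 16 := TCData.colOK_of_chk (U := (T.stepsMask 16 s16 (T.mask0 16))) (V := (T.stepsMask 17 s17 (T.mask0 17))) hb (TCData.cov_stepsMask hb (by decide) s16 _ (T.cov_mask0 16)) (TCData.cov_stepsMask hb (by decide) s17 _ (T.cov_mask0 17)) (by decide +kernel)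
theorem col17 : T.ColOK 17 := TCData.colOK_of_chk (U := (T.stepsMask 17 s17 (T.mask0 17))) (V := (T.stepsMask 16 s16 (T.mask0 16))) hb (TCData.cov_stepsMask hb (by decide) s17 _ (T.cov_mask0 17)) (TCData.cov_stepsMask hb (by decide) s16 _ (T.cov_mask0 16)) (by decide +kernel)
theorem ok : T.OK := ⟨hb, TCData.treeOK_of_chk hn (by decide +kernel), (List.forall_mem_cons.2 ⟨col0, (List.forall_mem_cons.2 ⟨col1, (List.forall_mem_cons.2 ⟨col2, (List.forall_mem_cons.2 ⟨col3, (List.forall_mem_cons.2 ⟨col4, (List.forall_mem_cons.2 ⟨col5, (List.forall_mem_cons.2 ⟨col6, (List.forall_mem_cons.2 ⟨col7, (List.forall_mem_cons.2 ⟨col8, (List.forall_mem_cons.2 ⟨col9, (List.forall_mem_cons.2 ⟨col10, (List.forall_mem_cons.2 ⟨col11, (List.forall_mem_cons.2 ⟨col13, (List.forall_mem_cons.2 ⟨col14, (List.forall_mem_cons.2 ⟨col15, (List.forall_mem_cons.2 ⟨col16, (List.forall_mem_cons.2 ⟨col17, (fun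 _ h => absurd h List.not_mem_nil)⟩)⟩)⟩)⟩)⟩)⟩)⟩)⟩)⟩)⟩)⟩)⟩)⟩)⟩)⟩)⟩)⟩), der _ _ hiv hR0⟩
theorem bd {G : Type} [Group G] {e : ℕ → G} (h1 : IvOK e (ivOf ivl)) (h2 : ∀ r ∈ R0, ev e r = 1)
    {m : ℕ} (h : Bd (gen e hcols) m) : Bd (gen e cols) (56 * m) := ok.bd h1 (der G e h1 h2) h
theorem cm {G : Type} [Group G] {e : ℕ → G} (h1 : IvOK e (ivOf ivl)) (h2 : ∀ r ∈ R0, ev e r = 1)
    (h3 : gen e cols = ⊤) {ρ : G →* Equiv.Perm ℕ} (h4 : ∀ c, ρ (e c) = sg (nth Net.nil nl) c) :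
    CosetModel ρ (gen e hcols) 56 := ok.cosetModel h1 (der G e h1 h2) h3 fun c _ => h4 c

end H15.ZT9c
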