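import Mathlib
import Cfsg.Agent.H29.Ext

set_option autoImplicit false
set_option maxRecDepth 100000
set_option Elab.async false
set_option linter.all false

namespace H15.ZT9d

open H29

noncomputable def n0 : Net := ben 4 [(nat_lit 0x0),
 (nat_lit 0x0),
 (nat_lit 0x0),
 (nat_lit 0x0)]
noncomputable def t0 : List ℕ := [(nat_lit 0x132),
 (nat_lit 0x17c),
 (nat_lit 0x80),
 (nat_lit 0x0)]
noncomputable def d0 : ℕ := (nat_lit 0x0)
noncomputable def n1 : Net := ben 4 [(nat_lit 0x0),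
 (nat_lit 0x0),
 (nat_lit 0x0),
 (nat_lit 0x0)]
noncomputable def t1 : List ℕ := [(nat_lit 0x132),
 (nat_lit 0x17c),
 (nat_lit 0x80),
 (nat_lit 0x0)]
noncomputable def d1 : ℕ := (nat_lit 0x0)
noncomputable def n2 : Net := ben 4 [(nat_lit 0x0),
 (nat_lit 0x0),
 (nat_lit 0x0),
 (nat_lit 0x0)]
noncomputable def t2 : List ℕ := [(nat_lit 0x1a2),
 (nat_lit 0x16c),
 (nat_lit 0x90),
 (nat_lit 0x0)]
noncomputable def d2 : ℕ := (nat_lit 0x0)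
noncomputable def n3 : Net := ben 4 [(nat_lit 0x0),
 (nat_lit 0x0),
 (nat_lit 0x0),
 (nat_lit 0x0)]
noncomputable def t3 : List ℕ := [(nat_lit 0x72),
 (nat_lit 0x7c),
 (nat_lit 0x180),
 (nat_lit 0x0)]
noncomputable def d3 : ℕ := (nat_lit 0x0)
noncomputable def n4 : Net := ben 4 [(nat_lit 0x0),
 (nat_lit 0x0),
 (nat_lit 0x0),
 (nat_lit 0x0)]
noncomputable def t4 : List ℕ := [(nat_lit 0xe2),
 (nat_lit 0x6c),
 (nat_lit 0x190),
 (nat_lit 0x0)]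
noncomputable def d4 : ℕ := (nat_lit 0x0)
noncomputable def n5 : Net := ben 4 [(nat_lit 0x0),
 (nat_lit 0x0),
 (nat_lit 0x0),
 (nat_lit 0x0)]
noncomputable def t5 : List ℕ := [(nat_lit 0xe2),
 (nat_lit 0x6c),
 (nat_lit 0x190),
 (nat_lit 0x0)]
noncomputable def d5 : ℕ := (nat_lit 0x0)
noncomputable def n6 : Net := ben 4 [(nat_lit 0x0),
 (nat_lit 0x0),
 (nat_lit 0x0),
 (nat_lit 0x0)]
noncomputable def t6 : List ℕ := [(nat_lit 0xe2),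
 (nat_lit 0x6c),
 (nat_lit 0x190),
 (nat_lit 0x0)]
noncomputable def d6 : ℕ := (nat_lit 0x0)
noncomputable def n7 : Net := ben 4 [(nat_lit 0x0),
 (nat_lit 0x0),
 (nat_lit 0x0),
 (nat_lit 0x0)]
noncomputable def t7 : List ℕ := [(nat_lit 0xe2),
 (nat_lit 0x6c),
 (nat_lit 0x190),
 (nat_lit 0x0)]
noncomputable def d7 : ℕ := (nat_lit 0x0)
noncomputable def n8 : Net := ben 4 [(nat_lit 0x0),
 (nat_lit 0x0),
 (nat_lit 0x0),
 (nat_lit 0x0)]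
noncomputable def t8 : List ℕ := [(nat_lit 0xa6),
 (nat_lit 0x1f8),
 (nat_lit 0x0),
 (nat_lit 0x0)]
noncomputable def d8 : ℕ := (nat_lit 0x0)
noncomputable def n9 : Net := ben 4 [(nat_lit 0xc),
 (nat_lit 0x72),
 (nat_lit 0x15),
 (nat_lit 0x1)]
noncomputable def t9 : List ℕ := [(nat_lit 0xa4),
 (nat_lit 0x6),
 (nat_lit 0x1f8),
 (nat_lit 0x0)]
noncomputable def d9 : ℕ := (nat_lit 0x0)
noncomputable def n13 : Net := n9.rev
noncomputable def t13 : List ℕ := mapPull n13 t9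
noncomputable def d13 : ℕ := (nat_lit 0x0)
noncomputable def n10 : Net := ben 4 [(nat_lit 0xc0),
 (nat_lit 0x72),
 (nat_lit 0x15),
 (nat_lit 0x1)]
noncomputable def t10 : List ℕ := [(nat_lit 0x70),
 (nat_lit 0x72),
 (nat_lit 0x180),
 (nat_lit 0x0)]
noncomputable def d10 : ℕ := (nat_lit 0x8)
noncomputable def n14 : Net := n10.rev
noncomputable def t14 : List ℕ := mapPull n14 t10
noncomputable def d14 : ℕ := (nat_lit 0x10)
noncomputable def n11 : Net := ben 4 [(nat_lit 0xc0),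
 (nat_lit 0x37),
 (nat_lit 0xa),
 (nat_lit 0x1)]
noncomputable def t11 : List ℕ := [(nat_lit 0x108),
 (nat_lit 0x148),
 (nat_lit 0x10),
 (nat_lit 0x0)]
noncomputable def d11 : ℕ := (nat_lit 0xa0)
noncomputable def n15 : Net := n11.rev
noncomputable def t15 : List ℕ := mapPull n15 t11
noncomputable def d15 : ℕ := (nat_lit 0x140)
noncomputable def n16 : Net := ben 4 [(nat_lit 0xaf),
 (nat_lit 0x14),
 (nat_lit 0x1),
 (nat_lit 0x1)]
noncomputable def t16 : List ℕ := [(nat_lit 0x132),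
 (nat_lit 0x116),
 (nat_lit 0x116),
 (nat_lit 0xe8)]
noncomputable def d16 : ℕ := (nat_lit 0x0)
noncomputable def n17 : Net := n16.rev
noncomputable def t17 : List ℕ := mapPull n17 t16
noncomputable def d17 : ℕ := (nat_lit 0x0)
noncomputable def n18 : Net := ben 4 [(nat_lit 0xde),
 (nat_lit 0x77),
 (nat_lit 0x1),
 (nat_lit 0x1)]
noncomputable def t18 : List ℕ := [(nat_lit 0xac),
 (nat_lit 0x190),
 (nat_lit 0x168),
 (nat_lit 0x1f8)]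
noncomputable def d18 : ℕ := (nat_lit 0x2)
noncomputable def n19 : Net := n18.rev
noncomputable def t19 : List ℕ := mapPull n19 t18
noncomputable def d19 : ℕ := (nat_lit 0x4)
def ivl : List ℕ := [0, 1, 2, 3, 4, 5, 6, 7, 8, 13, 14, 15, 12, 9, 10, 11, 17, 16, 19, 18]
def cols : List ℕ := [0, 1, 2, 3, 4, 5, 6, 7, 8, 9, 10, 11, 13, 14, 15, 16, 17, 18, 19]
def hcols : List ℕ := [0, 1, 2, 3, 4, 5, 6, 7, 8, 9, 10, 11, 13, 14, 15, 16, 17]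
def G0 : List (List ℕ) := [[1, 0, 1, 0],
 [2, 0, 2, 0],
 [2, 1, 2, 1],
 [3, 0, 3, 0],
 [3, 1, 3, 1],
 [3, 2, 3, 2],
 [4, 0, 4, 0],
 [4, 1, 4, 8, 1],
 [4, 2, 4, 2],
 [4, 3, 4, 3],
 [5, 0, 5, 0],
 [5, 1, 5, 1],
 [5, 2, 5, 8, 2],
 [5, 3, 5, 3],
 [5, 4, 5, 4],
 [6, 0, 6, 0],
 [6, 1, 6, 1],
 [6, 2, 6, 2],
 [6, 3, 6, 8, 3],
 [6, 4, 6, 4],
 [6, 5, 6, 5],
 [7, 0, 7, 8, 0],
 [7, 1, 7, 1],
 [7, 2, 7, 2],
 [7, 3, 7, 3],
 [7, 4, 7, 4],
 [7, 5, 7, 5],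
 [7, 6, 7, 6],
 [8, 0, 8, 0],
 [8, 1, 8, 1],
 [8, 2, 8, 2],
 [8, 3, 8, 3],
 [8, 4, 8, 4],
 [8, 5, 8, 5],
 [8, 6, 8, 6],
 [8, 7, 8, 7],
 [9, 9, 0],
 [9, 0, 13, 0],
 [9, 1, 13, 1, 0],
 [9, 2, 13, 2],
 [9, 3, 13, 3],
 [9, 4, 13, 4, 0],
 [9, 5, 13, 5, 3],
 [9, 6, 13, 6, 2],
 [9, 7, 13, 7, 4, 1, 0],
 [9, 8, 13, 8],
 [10, 10, 0],
 [10, 0, 14, 0],
 [10, 1, 14, 1],
 [10, 2, 14, 2, 0],
 [10, 3, 14, 3],
 [10, 4, 14, 4, 3, 0],
 [10, 5, 14, 5, 0],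
 [10, 6, 14, 6, 1],
 [10, 7, 14, 7, 5, 2, 1, 0],
 [10, 8, 14, 8],
 [10, 9, 14, 13, 0],
 [11, 11, 0],
 [11, 0, 15, 0],
 [11, 1, 15, 1],
 [11, 2, 15, 2],
 [11, 3, 15, 3, 0],
 [11, 4, 15, 4, 2, 0],
 [11, 5, 15, 5, 1, 0],
 [11, 6, 15, 6, 0],
 [11, 7, 15, 7, 6, 3, 2, 1, 0],
 [11, 8, 15, 8],
 [11, 9, 15, 13, 0],
 [11, 10, 15, 14, 0],
 [16, 16, 16, 16, 16, 16, 16],
 [16, 0, 17, 0],
 [16, 1, 17, 3, 1, 0],
 [16, 2, 17, 3, 2, 1, 0],
 [16, 3, 17, 2, 1],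
 [16, 4, 17, 5, 4],
 [16, 5, 17, 6, 5, 4, 2, 1, 0],
 [16, 6, 17, 6, 4, 3, 2, 1, 0],
 [16, 7, 17, 7, 6, 3, 2, 1, 0],
 [16, 8, 17, 8],
 [16, 9, 17, 14, 13, 8, 2, 1, 0],
 [16, 10, 17, 15, 14, 13, 1, 0],
 [16, 11, 17, 15, 13, 8, 3, 1],
 [18, 18, 18],
 [18, 0, 19, 8, 7, 6, 5, 3, 1, 0],
 [18, 1, 19, 7, 6, 4, 2],
 [18, 2, 19, 7, 5, 4, 3, 1, 0],
 [18, 3, 19, 8, 7, 6],
 [18, 4, 19, 8, 6, 4, 3, 1, 0],
 [18, 5, 19, 7, 6, 4, 3, 2, 0],
 [18, 6, 19, 3, 2, 1],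
 [18, 7, 19, 7, 6, 4, 3, 0],
 [18, 8, 19, 8],
 [13, 18, 9, 1, 18, 1],
 [18, 13, 16, 9, 19, 1, 2, 4, 6, 16, 6, 4, 2, 1]]
def R0 : List (List ℕ) := G0
theorem hii : ∀ c, ivOf ivl (ivOf ivl c) = c := ivOf_ivOf (by decide +kernel)
theorem der : Derives (ivOf ivl) R0 R0 := Derives.refl _ _
noncomputable def nl : List Net := [n0, n1, n2, n3, n4, n5, n6, n7, n8, n9, n10, n11, Net.nil, n13, n14, n15, n16, n17, n18, n19]
noncomputable def T : TCData := ⟨9, 9, 4, 4, nth Net.nil nl, ivOf ivl, cols, hcols, R0,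
  nth [] [t0, t1, t2, t3, t4, t5, t6, t7, t8, t9, t10, t11, [], t13, t14, t15, t16, t17, t18, t19], nth 0 [d0, d1, d2, d3, d4, d5, d6, d7, d8, d9, d10, d11, 0, d13, d14, d15, d16, d17, d18, d19]⟩
theorem hn : NetsOK 9 (nth Net.nil nl) := netsOK_of_all (by decide +kernel)
theorem hiv : IvOK (sg (nth Net.nil nl)) (ivOf ivl) :=
  ivOK_of_chk (k := 4) hn (by decide) (n := 20) (by decide) (by decide) (allN_true.1 (by decide +kernel))
theorem hb : T.Basic := TCData.basic_of_chk hn hiv (by decide +kernel)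
theorem hG0 : ∀ r ∈ G0, ev (sg (nth Net.nil nl)) r = 1 :=
  rels_of_chk (k := 4) hn (by decide) hiv (allN_true.1 (by decide +kernel))
noncomputable def s0 : List TCData.Step := [.pts 47 1 0 2 [3],
 .pts 47 3 0 3 [4],
 .pts 58 1 0 3 [5],
 .pts 58 1 0 4 [7],
 .pts 58 3 0 2 [6],
 .pts 58 3 0 3 [8],
 .pts 83 1 0 1 [1],
 .pts 83 1 0 2 [2]]
noncomputable def s1 : List TCData.Step := [.pts 48 1 0 2 [3],
 .pts 48 3 0 3 [4],
 .pts 59 1 0 3 [5],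
 .pts 59 1 0 4 [7],
 .pts 59 3 0 2 [6],
 .pts 59 3 0 3 [8],
 .pts 84 1 0 1 [1],
 .pts 84 1 0 2 [2]]
noncomputable def s2 : List TCData.Step := [.pts 49 1 0 2 [3],
 .pts 49 1 0 5 [7],
 .pts 49 3 0 4 [4],
 .pts 60 1 0 3 [5],
 .pts 60 3 0 2 [6],
 .pts 60 3 0 3 [8],
 .pts 85 1 0 1 [1],
 .pts 85 1 0 2 [2]]
noncomputable def s3 : List TCData.Step := [.pts 50 1 0 2 [3],
 .pts 50 3 0 3 [4],
 .pts 61 1 0 3 [5],
 .pts 61 1 0 4 [7],
 .pts 61 3 0 3 [6],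
 .pts 61 3 0 4 [8],
 .pts 86 1 0 1 [1],
 .pts 86 1 0 2 [2]]
noncomputable def s4 : List TCData.Step := [.pts 51 1 0 2 [3],
 .pts 51 1 0 5 [7],
 .pts 51 3 0 4 [4],
 .pts 62 1 0 3 [5],
 .pts 62 3 0 3 [6],
 .pts 62 3 0 4 [8],
 .pts 87 1 0 1 [1],
 .pts 87 1 0 2 [2]]
noncomputable def s5 : List TCData.Step := [.pts 52 1 0 2 [3],
 .pts 52 1 0 5 [7],
 .pts 52 3 0 4 [4],
 .pts 63 1 0 3 [5],
 .pts 63 3 0 3 [6],
 .pts 63 3 0 4 [8],
 .pts 88 1 0 1 [1],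
 .pts 88 1 0 2 [2]]
noncomputable def s6 : List TCData.Step := [.pts 53 1 0 2 [3],
 .pts 53 3 0 4 [4],
 .pts 64 1 0 3 [5],
 .pts 64 1 0 5 [7],
 .pts 64 3 0 3 [6],
 .pts 64 3 0 4 [8],
 .pts 89 1 0 1 [1],
 .pts 89 1 0 2 [2]]
noncomputable def s7 : List TCData.Step := [.pts 54 1 0 2 [3],
 .pts 54 1 0 4 [4],
 .pts 54 1 0 5 [7],
 .pts 65 1 0 3 [5, 6],
 .pts 65 1 0 4 [8],
 .pts 90 1 0 1 [1],
 .pts 90 1 0 2 [2]]
noncomputable def s8 : List TCData.Step := [.pts 55 1 0 2 [3],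
 .pts 55 3 0 2 [4],
 .pts 66 1 0 3 [5, 7],
 .pts 66 3 0 2 [6, 8],
 .pts 91 1 0 1 [1],
 .pts 91 3 0 1 [2]]
noncomputable def s9 : List TCData.Step := [.pts 56 3 0 4 [3],
 .pts 56 3 0 5 [5],
 .pts 67 3 0 4 [6],
 .pts 92 0 0 2 [1]]
noncomputable def s10 : List TCData.Step := []
noncomputable def s11 : List TCData.Step := []
noncomputable def s13 : List TCData.Step := [.pts 56 1 0 4 [3],
 .pts 56 1 0 5 [5],
 .pts 67 1 0 4 [6],
 .pts 92 2 0 3 [1]]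
noncomputable def s14 : List TCData.Step := [.pts 46 0 0 3 [2],
 .pts 46 1 0 2 [3],
 .pts 68 1 0 3 [5, 6],
 .pts 68 1 0 4 [7, 8]]
noncomputable def s15 : List TCData.Step := [.pts 57 0 0 2 [1],
 .pts 57 0 0 3 [2],
 .pts 57 1 0 3 [5],
 .pts 57 1 0 4 [7]]
noncomputable def s16 : List TCData.Step := []
noncomputable def s17 : List TCData.Step := [.pts 79 0 0 7 [3],
 .pts 79 0 0 8 [8],
 .pts 79 0 0 9 [1],
 .pts 80 0 0 7 [5],
 .pts 81 0 0 7 [6],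
 .pts 81 0 0 8 [4, 7],
 .pts 93 2 0 6 [2]]
noncomputable def s18 : List TCData.Step := []
noncomputable def s19 : List TCData.Step := [.all 82 0 0,
 .pts 92 1 0 13 [8],
 .pts 92 4 0 11 [3],
 .pts 93 0 0 10 [5],
 .pts 93 0 0 12 [4]]
theorem hR0 : ∀ r ∈ R0, ev (sg (nth Net.nil nl)) r = 1 := hG0
theorem col0 : T.ColOK 0 := TCData.colOK_of_chk (U := (T.stepsMask 0 s0 (T.mask0 0))) (V := (T.stepsMask 0 s0 (T.mask0 0))) hb (TCData.cov_stepsMask hb (by decide) s0 _ (T.cov_mask0 0)) (TCData.cov_stepsMask hb (by decide) s0 _ (T.cov_mask0 0)) (by decide +kernel)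
theorem col1 : T.ColOK 1 := TCData.colOK_of_chk (U := (T.stepsMask 1 s1 (T.mask0 1))) (V := (T.stepsMask 1 s1 (T.mask0 1))) hb (TCData.cov_stepsMask hb (by decide) s1 _ (T.cov_mask0 1)) (TCData.cov_stepsMask hb (by decide) s1 _ (T.cov_mask0 1)) (by decide +kernel)
theorem col2 : T.ColOK 2 := TCData.colOK_of_chk (U := (T.stepsMask 2 s2 (T.mask0 2))) (V := (T.stepsMask 2 s2 (T.mask0 2))) hb (TCData.cov_stepsMask hb (by decide) s2 _ (T.cov_mask0 2)) (TCData.cov_stepsMask hb (by decide) s2 _ (T.cov_mask0 2)) (by decide +kernel)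
theorem col3 : T.ColOK 3 := TCData.colOK_of_chk (U := (T.stepsMask 3 s3 (T.mask0 3))) (V := (T.stepsMask 3 s3 (T.mask0 3))) hb (TCData.cov_stepsMask hb (by decide) s3 _ (T.cov_mask0 3)) (TCData.cov_stepsMask hb (by decide) s3 _ (T.cov_mask0 3)) (by decide +kernel)
theorem col4 : T.ColOK 4 := TCData.colOK_of_chk (U := (T.stepsMask 4 s4 (T.mask0 4))) (V := (T.stepsMask 4 s4 (T.mask0 4))) hb (TCData.cov_stepsMask hb (by decide) s4 _ (T.cov_mask0 4)) (TCData.cov_stepsMask hb (by decide) s4 _ (T.cov_mask0 4)) (by decide +kernel)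
theorem col5 : T.ColOK 5 := TCData.colOK_of_chk (U := (T.stepsMask 5 s5 (T.mask0 5))) (V := (T.stepsMask 5 s5 (T.mask0 5))) hb (TCData.cov_stepsMask hb (by decide) s5 _ (T.cov_mask0 5)) (TCData.cov_stepsMask hb (by decide) s5 _ (T.cov_mask0 5)) (by decide +kernel)
theorem col6 : T.ColOK 6 := TCData.colOK_of_chk (U := (T.stepsMask 6 s6 (T.mask0 6))) (V := (T.stepsMask 6 s6 (T.mask0 6))) hb (TCData.cov_stepsMask hb (by decide) s6 _ (T.cov_mask0 6)) (TCData.cov_stepsMask hb (by decide) s6 _ (T.cov_mask0 6)) (by decide +kernel)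
theorem col7 : T.ColOK 7 := TCData.colOK_of_chk (U := (T.stepsMask 7 s7 (T.mask0 7))) (V := (T.stepsMask 7 s7 (T.mask0 7))) hb (TCData.cov_stepsMask hb (by decide) s7 _ (T.cov_mask0 7)) (TCData.cov_stepsMask hb (by decide) s7 _ (T.cov_mask0 7)) (by decide +kernel)
theorem col8 : T.ColOK 8 := TCData.colOK_of_chk (U := (T.stepsMask 8 s8 (T.mask0 8))) (V := (T.stepsMask 8 s8 (T.mask0 8))) hb (TCData.cov_stepsMask hb (by decide) s8 _ (T.cov_mask0 8)) (TCData.cov_stepsMask hb (by decide) s8 _ (T.cov_mask0 8)) (by decide +kernel)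
theorem col9 : T.ColOK 9 := TCData.colOK_of_chk (U := (T.stepsMask 9 s9 (T.mask0 9))) (V := (T.stepsMask 13 s13 (T.mask0 13))) hb (TCData.cov_stepsMask hb (by decide) s9 _ (T.cov_mask0 9)) (TCData.cov_stepsMask hb (by decide) s13 _ (T.cov_mask0 13)) (by decide +kernel)
theorem col10 : T.ColOK 10 := TCData.colOK_of_chk (U := (T.stepsMask 10 s10 (T.mask0 10))) (V := (T.stepsMask 14 s14 (T.mask0 14))) hb (TCData.cov_stepsMask hb (by decide) s10 _ (T.cov_mask0 10)) (TCData.cov_stepsMask hb (by decide) s14 _ (T.cov_mask0 14)) (by decide +kernel)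
theorem col11 : T.ColOK 11 := TCData.colOK_of_chk (U := (T.stepsMask 11 s11 (T.mask0 11))) (V := (T.stepsMask 15 s15 (T.mask0 15))) hb (TCData.cov_stepsMask hb (by decide) s11 _ (T.cov_mask0 11)) (TCData.cov_stepsMask hb (by decide) s15 _ (T.cov_mask0 15)) (by decide +kernel)
theorem col13 : T.ColOK 13 := TCData.colOK_of_chk (U := (T.stepsMask 13 s13 (T.mask0 13))) (V := (T.stepsMask 9 s9 (T.mask0 9))) hb (TCData.cov_stepsMask hb (by decide) s13 _ (T.cov_mask0 13)) (TCData.cov_stepsMask hb (by decide) s9 _ (T.cov_mask0 9)) (by decide +kernel)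
theorem col14 : T.ColOK 14 := TCData.colOK_of_chk (U := (T.stepsMask 14 s14 (T.mask0 14))) (V := (T.stepsMask 10 s10 (T.mask0 10))) hb (TCData.cov_stepsMask hb (by decide) s14 _ (T.cov_mask0 14)) (TCData.cov_stepsMask hb (by decide) s10 _ (T.cov_mask0 10)) (by decide +kernel)
theorem col15 : T.ColOK 15 := TCData.colOK_of_chk (U := (T.stepsMask 15 s15 (T.mask0 15))) (V := (T.stepsMask 11 s11 (T.mask0 11))) hb (TCData.cov_stepsMask hb (by decide) s15 _ (T.cov_mask0 15)) (TCData.cov_stepsMask hb (by decide) s11 _ (T.cov_mask0 11)) (by decide +kernel)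
theorem col16 : T.ColOK 16 := TCData.colOK_of_chk (U := (T.stepsMask 16 s16 (T.mask0 16))) (V := (T.stepsMask 17 s17 (T.mask0 17))) hb (TCData.cov_stepsMask hb (by decide) s16 _ (T.cov_mask0 16)) (TCData.cov_stepsMask hb (by decide) s17 _ (T.cov_mask0 17)) (by decide +kernel)
theorem col17 : T.ColOK 17 := TCData.colOK_of_chk (U := (T.stepsMask 17 s17 (T.mask0 17))) (V := (T.stepsMask 16 s16 (T.mask0 16))) hb (TCData.cov_stepsMask hb (by decide) s17 _ (T.cov_mask0 17)) (TCData.cov_stepsMask hb (by decide) s16 _ (T.cov_mask0 16)) (by decide +kernel)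
theorem col18 : T.ColOK 18 := TCData.colOK_of_chk (U := (T.stepsMask 18 s18 (T.mask0 18))) (V := (T.stepsMask 19 s19 (T.mask0 19))) hb (TCData.cov_stepsMask hb (by decide) s18 _ (T.cov_mask0 18)) (TCData.cov_stepsMask hb (by decide) s19 _ (T.cov_mask0 19)) (by decide +kernel)
theorem col19 : T.ColOK 19 := TCData.colOK_of_chk (U := (T.stepsMask 19 s19 (T.mask0 19))) (V := (T.stepsMask 18 s18 (T.mask0 18))) hb (TCData.cov_stepsMask hb (by decide) s19 _ (T.cov_mask0 19)) (TCData.cov_stepsMask hb (by decide) s18 _ (T.cov_mask0 18)) (by decide +kernel)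
theorem ok : T.OK := ⟨hb, TCData.treeOK_of_chk hn (by decide +kernel), (List.forall_mem_cons.2 ⟨col0, (List.forall_mem_cons.2 ⟨col1, (List.forall_mem_cons.2 ⟨col2, (List.forall_mem_cons.2 ⟨col3, (List.forall_mem_cons.2 ⟨col4, (List.forall_mem_cons.2 ⟨col5, (List.forall_mem_cons.2 ⟨col6, (List.forall_mem_cons.2 ⟨col7, (List.forall_mem_cons.2 ⟨col8, (List.forall_mem_cons.2 ⟨col9, (List.forall_mem_cons.2 ⟨col10, (List.forall_mem_cons.2 ⟨col11, (List.forall_mem_cons.2 ⟨col13, (List.forall_mem_cons.2 ⟨col14, (List.forall_mem_cons.2 ⟨col15, (List.forall_mem_cons.2 ⟨col16, (List.forall_mem_cons.2 ⟨col17, (List.forall_mem_cons.2 ⟨col18, (List.forall_mem_cons.2 ⟨col19, (fun _ h => absurd h List.not_mem_nil)⟩)⟩)⟩)⟩)⟩)⟩)⟩)⟩)⟩)⟩)⟩)⟩)⟩)⟩)⟩)⟩)⟩)⟩)⟩), der _ _ hiv hR0⟩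
theorem bd {G : Type} [Group G] {e : ℕ → G} (h1 : IvOK e (ivOf ivl)) (h2 : ∀ r ∈ R0, ev e r = 1)
    {m : ℕ} (h : Bd (gen e hcols) m) : Bd (gen e cols) (9 * m) := ok.bd h1 (der G e h1 h2) h
theorem cm {G : Type} [Group G] {e : ℕ → G} (h1 : IvOK e (ivOf ivl)) (h2 : ∀ r ∈ R0, ev e r = 1)
    (h3 : gen e cols = ⊤) {ρ : G →* Equiv.Perm ℕ} (h4 : ∀ c, ρ (e c) = sg (nth Net.nil nl) c) :
    CosetModel ρ (gen e hcols) 9 := ok.cosetModel h1 (der G e h1 h2) h3 fun c _ => h4 c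

end H15.ZT9d
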